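import Mathlib

/-!
# Finite free resolutions: an ideal with a finite free resolution contains a nonzerodivisor

`HasFFR R e M χ`: `M` has a finite free resolution of length `≤ e` with Euler characteristic `χ`.
Over a local ring of depth zero such a module is free of rank `χ`; combined with flat base change to
localizations at associated primes this gives the Auslander–Buchsbaum/Vasconcelos statement that a
nonzero ideal with a finite free resolution over a Noetherian ring contains a nonzerodivisor.
-/

set_option linter.style.haveILetI false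

namespace Groth.Agent.H15.FFR

universe u

open TensorProduct

/-- `M` has a finite free resolution of length at most `e`, with Euler characteristic `χ`. -/
def HasFFR (R : Type u) [CommRing R] :
    ℕ → ∀ (M : Type u) [AddCommGroup M] [Module R M], ℤ → Prop
  | 0, M, _, _, χ => Module.Free R M ∧ Module.Finite R M ∧ (Module.finrank R M : ℤ) = χ
  | e + 1, M, _, _, χ => ∃ (F : Type u) (_ : AddCommGroup F) (_ : Module R F)
      (_ : Module.Free R F) (_ : Module.Finite R F) (g : F →ₗ[R] M), Function.Surjective g ∧
      HasFFR R e (LinearMap.ker g) ((Module.finrank R F : ℤ) - χ)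

variable {R : Type u} [CommRing R]

theorem HasFFR.of_equiv : ∀ (e : ℕ) {M N : Type u} [AddCommGroup M] [Module R M] [AddCommGroup N]
    [Module R N] {χ : ℤ} (_ : M ≃ₗ[R] N), HasFFR R e M χ → HasFFR R e N χ
  | 0, M, N, _, _, _, _, χ, f, h => by
    obtain ⟨h1, h2, h3⟩ := h
    exact ⟨Module.Free.of_equiv f, Module.Finite.equiv f, by rw [← f.finrank_eq]; exact h3⟩
  | e + 1, M, N, _, _, _, _, χ, f, h => by
    obtain ⟨F, i1, i2, i3, i4, g, hg, hK⟩ := h
    refine ⟨F, i1, i2, i3, i4, f.toLinearMap ∘ₗ g, f.surjective.comp hg, ?_⟩
    have hker : LinearMap.ker (f.toLinearMap ∘ₗ g) = LinearMap.ker g := by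
      rw [LinearMap.ker_comp, LinearEquiv.ker, Submodule.comap_bot]
    exact HasFFR.of_equiv e (LinearEquiv.ofEq _ _ hker.symm) hK

/-- Flat base change of a finite free resolution. -/
theorem HasFFR.baseChange (S : Type u) [CommRing S] [Algebra R S] [Module.Flat R S] [Nontrivial S] :
    ∀ (e : ℕ) {M : Type u} [AddCommGroup M] [Module R M] {χ : ℤ},
      HasFFR R e M χ → HasFFR S e (S ⊗[R] M) χ
  | 0, M, _, _, χ, h => by
    obtain ⟨h1, h2, h3⟩ := h
    have : Nontrivial R := (algebraMap R S).domain_nontrivial
    refine ⟨inferInstance, inferInstance, ?_⟩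
    rw [Module.finrank_baseChange]
    exact h3
  | e + 1, M, _, _, χ, h => by
    obtain ⟨F, i1, i2, i3, i4, g, hg, hK⟩ := h
    have : Nontrivial R := (algebraMap R S).domain_nontrivial
    have hrank : Module.finrank S (S ⊗[R] F) = Module.finrank R F := Module.finrank_baseChange
    refine ⟨S ⊗[R] F, inferInstance, inferInstance, inferInstance, inferInstance,
      g.baseChange S, ?_, ?_⟩
    · rw [LinearMap.baseChange_eq_ltensor]
      exact LinearMap.lTensor_surjective S hg
    · rw [hrank]
      have ih := HasFFR.baseChange S e hK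
      refine HasFFR.of_equiv e ?_ ih
      let j : S ⊗[R] (LinearMap.ker g) →ₗ[S] S ⊗[R] F := (LinearMap.ker g).subtype.baseChange S
      have hj : Function.Injective j := by
        have := Module.Flat.lTensor_preserves_injective_linearMap (M := S)
          (LinearMap.ker g).subtype Subtype.val_injective
        intro x y hxy
        apply this
        simpa [j, LinearMap.baseChange_eq_ltensor] using hxy
      have hex : Function.Exact ((LinearMap.ker g).subtype.lTensor S) (g.lTensor S) :=
        lTensor_exact S (LinearMap.exact_subtype_ker_map g) hg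
      have hrange : LinearMap.range j = LinearMap.ker (g.baseChange S) := by
        ext x
        have := hex x
        simp only [LinearMap.mem_range, LinearMap.mem_ker]
        have h1 : (g.baseChange S) x = (g.lTensor S) x := by
          rw [LinearMap.baseChange_eq_ltensor]
        rw [h1, this]
        rfl
      exact (LinearEquiv.ofInjective j hj).trans (LinearEquiv.ofEq _ _ hrange)

section Depth0

open IsLocalRing

variable {S : Type u} [CommRing S] [IsLocalRing S]

/-- Over a local ring of depth zero, an injective map out of a free module stays injective modulo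
the maximal ideal. -/
theorem lTensor_injective_of_depth_zero {s : S} (hs : s ≠ 0)
    (hm : ∀ a ∈ maximalIdeal S, a * s = 0)
    {K F : Type u} [AddCommGroup K] [Module S K] [AddCommGroup F] [Module S F] [Module.Free S K]
    (ι : K →ₗ[S] F) (hι : Function.Injective ι) :
    Function.Injective (ι.lTensor (ResidueField S)) := by
  rw [injective_iff_map_eq_zero]
  intro z hz
  obtain ⟨y, rfl⟩ := TensorProduct.mk_surjective S K (ResidueField S)
    Ideal.Quotient.mk_surjective z
  have hz0 : (1 : ResidueField S) ⊗ₜ[S] ι y = 0 := by simpa using hz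
  have hz' : TensorProduct.mk S (S ⧸ maximalIdeal S) F 1 (ι y) = 0 := hz0
  have h1 : ι y ∈ (maximalIdeal S) • (⊤ : Submodule S F) := by
    rw [← LinearMap.ker_tensorProductMk]
    exact hz'
  have hkill : ∀ w ∈ (maximalIdeal S) • (⊤ : Submodule S F), s • w = 0 := by
    intro w hw
    refine Submodule.smul_induction_on hw (fun a ha v _ => ?_) (fun a b ha hb => ?_)
    · rw [smul_smul, mul_comm, hm a ha, zero_smul]
    · rw [smul_add, ha, hb, add_zero]
  have h2 : s • y = 0 := by
    apply hι
    rw [map_smul, hkill _ h1, map_zero]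
  let b := Module.Free.chooseBasis S K
  have h3 : ∀ i, b.repr y i ∈ maximalIdeal S := by
    intro i
    by_contra hni
    have hu : IsUnit (b.repr y i) := by
      by_contra hnu
      exact hni ((mem_maximalIdeal _).2 hnu)
    have : s * b.repr y i = 0 := by
      have := congrArg (fun w => b.repr w i) h2
      simpa using this
    exact hs (hu.mul_left_eq_zero.mp this)
  have h4 : y ∈ (maximalIdeal S) • (⊤ : Submodule S K) := by
    rw [← b.linearCombination_repr y, Finsupp.linearCombination_apply]
    exact Submodule.sum_mem _ fun i _ => Submodule.smul_mem_smul (h3 i) Submodule.mem_top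
  rw [← LinearMap.ker_tensorProductMk] at h4
  exact h4

/-- Over a local ring of depth zero, a module with a finite free resolution is free, of rank the
Euler characteristic. -/
theorem HasFFR.free_of_depth_zero {s : S} (hs : s ≠ 0) (hm : ∀ a ∈ maximalIdeal S, a * s = 0) :
    ∀ (e : ℕ) {M : Type u} [AddCommGroup M] [Module S M] {χ : ℤ}, HasFFR S e M χ →
      Module.Free S M ∧ Module.Finite S M ∧ (Module.finrank S M : ℤ) = χ
  | 0, M, _, _, χ, h => h
  | e + 1, M, _, _, χ, h => by
    obtain ⟨F, i1, i2, i3, i4, g, hg, hK⟩ := h
    obtain ⟨k1, k2, k3⟩ := HasFFR.free_of_depth_zero hs hm e hK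
    have hinj := lTensor_injective_of_depth_zero hs hm (LinearMap.ker g).subtype
      Subtype.val_injective
    have hfree : Module.Free S M :=
      Module.free_of_lTensor_residueField_injective (LinearMap.ker g).subtype g hg
        (LinearMap.exact_subtype_ker_map g) hinj
    have hfin : Module.Finite S M := Module.Finite.of_surjective g hg
    refine ⟨hfree, hfin, ?_⟩
    -- a section of `g`
    obtain ⟨σ, hσ⟩ := Module.projective_lifting_property g LinearMap.id hg
    have hσ' : ∀ m, g (σ m) = m := fun m => LinearMap.congr_fun hσ m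
    let φ : (LinearMap.ker g × M) →ₗ[S] F := (LinearMap.ker g).subtype.coprod σ
    have hφ : Function.Bijective φ := by
      constructor
      · rw [injective_iff_map_eq_zero]
        rintro ⟨k, m⟩ hkm
        have h1 : (k : F) + σ m = 0 := by simpa [φ] using hkm
        have h2 : m = 0 := by
          have := congrArg g h1
          rw [map_add, hσ', map_zero] at this
          have hk : g (k : F) = 0 := k.2
          rw [hk, zero_add] at this
          exact this
        subst h2
        have h3 : (k : F) = 0 := by simpa using h1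
        ext
        · exact h3
        · rfl
      · intro f
        have hk : f - σ (g f) ∈ LinearMap.ker g := by
          rw [LinearMap.mem_ker, map_sub, hσ', sub_self]
        refine ⟨(⟨f - σ (g f), hk⟩, g f), ?_⟩
        simp [φ]
    have e1 := (LinearEquiv.ofBijective φ hφ).finrank_eq
    rw [Module.finrank_prod] at e1
    have : (Module.finrank S F : ℤ) = Module.finrank S (LinearMap.ker g) + Module.finrank S M := by
      exact_mod_cast e1.symm
    linarith

end Depth0

section Main

open IsLocalRing

variable {R : Type u} [CommRing R]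

/-- Localizing at an associated prime `p = ann x` gives a local ring of depth zero. -/
theorem depth_zero_of_colon {p : Ideal R} [p.IsPrime] {x : R}
    (hp : ∀ r, r ∈ p ↔ r * x = 0) :
    algebraMap R (Localization.AtPrime p) x ≠ 0 ∧
      ∀ a ∈ maximalIdeal (Localization.AtPrime p),
        a * algebraMap R (Localization.AtPrime p) x = 0 := by
  constructor
  · rw [Ne, IsLocalization.map_eq_zero_iff p.primeCompl]
    rintro ⟨m, hm⟩
    exact m.2 ((hp _).2 hm)
  · intro a ha
    rw [← IsLocalization.AtPrime.map_eq_maximalIdeal p (Localization.AtPrime p)] at ha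
    refine Submodule.span_induction (p := fun a _ =>
      a * algebraMap R (Localization.AtPrime p) x = 0) ?_ ?_ ?_ ?_ ha
    · rintro _ ⟨r, hr, rfl⟩
      rw [← map_mul, (hp r).1 hr, map_zero]
    · rw [zero_mul]
    · intro a b _ _ ha hb
      rw [add_mul, ha, hb, add_zero]
    · intro c a _ ha
      rw [smul_eq_mul, mul_assoc, ha, mul_zero]

variable [IsNoetherianRing R]

/-- A nonzero ideal with a finite free resolution over a Noetherian ring contains a
nonzerodivisor. -/
theorem exists_mem_nonZeroDivisors {I : Ideal R} (hI : I ≠ ⊥) {e : ℕ} {χ : ℤ}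
    (h : HasFFR R e I χ) : ∃ x ∈ I, x ∈ nonZeroDivisors R := by
  by_contra hcon
  push Not at hcon
  have hdisj : Disjoint (I : Set R) (nonZeroDivisors R) := by
    rw [Set.disjoint_left]
    exact fun a ha => hcon a ha
  obtain ⟨P, hP, hIP⟩ : ∃ P ∈ associatedPrimes R R, I ≤ P :=
    (I.subset_union_prime_finite (associatedPrimes.finite ..) (f := id) 0 0
      fun _ h _ _ ↦ h.1).1 <|
    biUnion_associatedPrimes_eq_compl_nonZeroDivisors R ▸ hdisj.subset_compl_right
  rw [AssociatedPrimes.mem_iff, isAssociatedPrime_iff] at hP
  obtain ⟨hPprime, x, hPx⟩ := hP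
  have hPmem : ∀ r, r ∈ P ↔ r * x = 0 := by
    intro r
    rw [hPx, Submodule.mem_colon_singleton]
    simp
  -- the Euler characteristic vanishes
  have hχ : χ = 0 := by
    obtain ⟨hs, hm⟩ := depth_zero_of_colon hPmem
    obtain ⟨f1, f2, f3⟩ := (h.baseChange (Localization.AtPrime P) e).free_of_depth_zero hs hm e
    have hkill : ∀ w : Localization.AtPrime P ⊗[R] I,
        algebraMap R (Localization.AtPrime P) x • w = 0 := by
      intro w
      induction w using TensorProduct.induction_on with
      | zero => rw [smul_zero]
      | tmul t y =>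
        rw [TensorProduct.smul_tmul', smul_eq_mul, ← Algebra.smul_def,
          TensorProduct.smul_tmul]
        have : x • y = 0 := by
          ext
          have := (hPmem y.1).1 (hIP y.2)
          simpa [mul_comm] using this
        rw [this, TensorProduct.tmul_zero]
      | add a b ha hb => rw [smul_add, ha, hb, add_zero]
    by_contra hne
    have hpos : 0 < Module.finrank (Localization.AtPrime P) (Localization.AtPrime P ⊗[R] I) := by
      rcases Nat.eq_zero_or_pos
        (Module.finrank (Localization.AtPrime P) (Localization.AtPrime P ⊗[R] I)) with h0 | h0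
      · exact absurd (by rw [← f3, h0]; rfl) hne
      · exact h0
    let b := Module.Free.chooseBasis (Localization.AtPrime P) (Localization.AtPrime P ⊗[R] I)
    have hne' : Nonempty (Module.Free.ChooseBasisIndex (Localization.AtPrime P)
        (Localization.AtPrime P ⊗[R] I)) := by
      by_contra hemp
      rw [not_nonempty_iff] at hemp
      rw [Module.finrank_eq_card_chooseBasisIndex] at hpos
      simp at hpos
    obtain ⟨i⟩ := hne'
    have := congrArg (fun w => b.repr w i) (hkill (b i))
    simp only [map_smul, Module.Basis.repr_self, Finsupp.smul_apply, Finsupp.single_eq_same,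
      smul_eq_mul, mul_one, map_zero, Finsupp.coe_zero, Pi.zero_apply] at this
    exact hs this
  subst hχ
  -- an associated prime of `I`
  have : Nontrivial I := Submodule.nontrivial_iff_ne_bot.mpr hI
  obtain ⟨Q, hQ⟩ := associatedPrimes.nonempty R I
  rw [AssociatedPrimes.mem_iff, isAssociatedPrime_iff] at hQ
  obtain ⟨hQprime, y, hQy⟩ := hQ
  have hQmem : ∀ r, r ∈ Q ↔ r * (y : R) = 0 := by
    intro r
    rw [hQy, Submodule.mem_colon_singleton]
    simp only [Submodule.mem_bot]
    constructor
    · intro h0
      have := congrArg Subtype.val h0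
      simpa using this
    · intro h0
      ext
      simpa using h0
  obtain ⟨hs, hm⟩ := depth_zero_of_colon hQmem
  obtain ⟨f1, f2, f3⟩ := (h.baseChange (Localization.AtPrime Q) e).free_of_depth_zero hs hm e
  have hsub : Subsingleton (Localization.AtPrime Q ⊗[R] I) := by
    rw [← Module.finrank_eq_zero_iff_of_free (Localization.AtPrime Q)]
    exact_mod_cast f3
  let ψ : Localization.AtPrime Q ⊗[R] I →ₗ[R] Localization.AtPrime Q :=
    (TensorProduct.rid R (Localization.AtPrime Q)).toLinearMap ∘ₗ
      (LinearMap.lTensor (Localization.AtPrime Q) I.subtype)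
  have hψ : ψ (1 ⊗ₜ[R] y) = algebraMap R (Localization.AtPrime Q) (y : R) := by
    simp [ψ, Algebra.smul_def]
  apply hs
  rw [← hψ, Subsingleton.elim (1 ⊗ₜ[R] y) 0, map_zero]

end Main

section Matrices

variable {R : Type u} [CommRing R]

theorem hasFFR_range_of_matrices (e : ℕ) (n : ℕ → ℕ)
    (A : (i : ℕ) → Matrix (Fin (n i)) (Fin (n (i + 1))) R)
    (hA : ∀ i, i + 2 ≤ e →
      LinearMap.ker (A i).mulVecLin = LinearMap.range (A (i + 1)).mulVecLin)
    (hlast : LinearMap.ker (A (e - 1)).mulVecLin = ⊥) :
    ∀ j i, i + j + 1 = e → ∃ χ : ℤ, HasFFR R j (LinearMap.range (A i).mulVecLin) χ := by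
  intro j
  induction j with
  | zero =>
    intro i hi
    obtain rfl : i = e - 1 := by omega
    have hinj : Function.Injective (A (e - 1)).mulVecLin := LinearMap.ker_eq_bot.mp hlast
    refine ⟨(Module.finrank R (Fin (n (e - 1 + 1)) → R) : ℤ), ?_⟩
    exact HasFFR.of_equiv 0 (LinearEquiv.ofInjective _ hinj) ⟨inferInstance, inferInstance, rfl⟩
  | succ j ih =>
    intro i hi
    obtain ⟨χ', hχ'⟩ := ih (i + 1) (by omega)
    refine ⟨(Module.finrank R (Fin (n (i + 1)) → R) : ℤ) - χ', ?_⟩
    refine ⟨Fin (n (i + 1)) → R, inferInstance, inferInstance, inferInstance, inferInstance,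
      (A i).mulVecLin.rangeRestrict, LinearMap.surjective_rangeRestrict _, ?_⟩
    rw [sub_sub_cancel]
    have hker : LinearMap.ker (A i).mulVecLin.rangeRestrict =
        LinearMap.range (A (i + 1)).mulVecLin := by
      rw [LinearMap.ker_rangeRestrict]
      exact hA i (by omega)
    exact HasFFR.of_equiv j (LinearEquiv.ofEq _ _ hker.symm) hχ'

/-- The statement in matrix form. -/
theorem exists_mem_nonZeroDivisors_of_matrices [IsNoetherianRing R]
    (e : ℕ) (he : 1 ≤ e) (n : ℕ → ℕ) (A : (i : ℕ) → Matrix (Fin (n i)) (Fin (n (i + 1))) R)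
    (π : (Fin (n 0) → R) →ₗ[R] R) (hI : LinearMap.range π ≠ ⊥)
    (h0 : LinearMap.ker π = LinearMap.range (A 0).mulVecLin)
    (hA : ∀ i, i + 2 ≤ e →
      LinearMap.ker (A i).mulVecLin = LinearMap.range (A (i + 1)).mulVecLin)
    (hlast : LinearMap.ker (A (e - 1)).mulVecLin = ⊥) :
    ∃ x : R, x ∈ LinearMap.range π ∧ x ∈ nonZeroDivisors R := by
  obtain ⟨χ', hχ'⟩ := hasFFR_range_of_matrices e n A hA hlast (e - 1) 0 (by omega)
  have hffr : HasFFR R (e - 1 + 1) (LinearMap.range π)
      ((Module.finrank R (Fin (n 0) → R) : ℤ) - χ') := by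
    refine ⟨Fin (n 0) → R, inferInstance, inferInstance, inferInstance, inferInstance,
      π.rangeRestrict, LinearMap.surjective_rangeRestrict _, ?_⟩
    rw [sub_sub_cancel]
    have hker : LinearMap.ker π.rangeRestrict = LinearMap.range (A 0).mulVecLin := by
      rw [LinearMap.ker_rangeRestrict]
      exact h0
    exact HasFFR.of_equiv _ (LinearEquiv.ofEq _ _ hker.symm) hχ'
  obtain ⟨x, hx, hx'⟩ := exists_mem_nonZeroDivisors (I := LinearMap.range π) hI hffr
  exact ⟨x, hx, hx'⟩

end Matrices

end Groth.Agent.H15.FFR
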