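import Mathlib.AlgebraicGeometry.AffineScheme
import Mathlib.AlgebraicGeometry.Noetherian
import Mathlib.RingTheory.Localization.LocalizationLocalization

set_option autoImplicit false
set_option linter.style.haveILetI false
universe u
open CategoryTheory CategoryTheory.Limits AlgebraicGeometry TopologicalSpace

namespace Groth.Agent.H15.StalkLoc

variable {X : Scheme.{u}}

/-- The prime of `O_{X,x}` corresponding to a generization `x'` of `x`. -/
noncomputable def genPrime {x x' : X} (h : x' ⤳ x) : Ideal (X.presheaf.stalk x) :=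
  (IsLocalRing.maximalIdeal (X.presheaf.stalk x')).comap (X.presheaf.stalkSpecializes h).hom

instance {x x' : X} (h : x' ⤳ x) : (genPrime h).IsPrime := by
  unfold genPrime
  infer_instance

theorem mem_genPrime_iff {x x' : X} (h : x' ⤳ x) (a : X.presheaf.stalk x) :
    a ∈ genPrime h ↔ ¬ IsUnit ((X.presheaf.stalkSpecializes h).hom a) := by
  unfold genPrime
  rw [Ideal.mem_comap, IsLocalRing.mem_maximalIdeal, mem_nonunits_iff]

/-- **Generization = localization**: for `x' ⤳ x`, the local ring `O_{X,x'}` is the localization of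
`O_{X,x}` at the prime `genPrime h`, via the cospecialization map. -/
theorem isLocalization_stalkSpecializes {x x' : X} (h : x' ⤳ x) :
    letI := (X.presheaf.stalkSpecializes h).hom.toAlgebra
    IsLocalization.AtPrime (X.presheaf.stalk x') (genPrime h) := by
  letI := (X.presheaf.stalkSpecializes h).hom.toAlgebra
  obtain ⟨_, ⟨U, hU : IsAffineOpen U, rfl⟩, hxU, -⟩ :=
    X.isBasis_affineOpens.exists_subset_of_mem_open (Set.mem_univ x) isOpen_univ
  have hx'U : x' ∈ U := h.mem_open U.isOpen hxU
  letI a1 := TopCat.Presheaf.algebra_section_stalk X.presheaf (⟨x, hxU⟩ : U)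
  letI a2 := TopCat.Presheaf.algebra_section_stalk X.presheaf (⟨x', hx'U⟩ : U)
  haveI l1 := hU.isLocalization_stalk ⟨x, hxU⟩
  haveI l2 := hU.isLocalization_stalk ⟨x', hx'U⟩
  haveI : IsScalarTower Γ(X, U) (X.presheaf.stalk x) (X.presheaf.stalk x') := by
    refine IsScalarTower.of_algebraMap_eq' ?_
    ext a
    change (X.presheaf.germ U x' hx'U).hom a =
      (X.presheaf.stalkSpecializes h).hom ((X.presheaf.germ U x hxU).hom a)
    rw [← CommRingCat.comp_apply, X.presheaf.germ_stalkSpecializes]
  have hle : (hU.primeIdealOf ⟨x', hx'U⟩).asIdeal ≤ (hU.primeIdealOf ⟨x, hxU⟩).asIdeal := by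
    have h1 : (⟨x', hx'U⟩ : U) ⤳ ⟨x, hxU⟩ := (subtype_specializes_iff _ _).mpr h
    exact (PrimeSpectrum.le_iff_specializes _ _).mpr (h1.map hU.isoSpec.hom.continuous)
  have key := IsLocalization.isLocalization_of_submonoid_le (X.presheaf.stalk x)
    (X.presheaf.stalk x') (hU.primeIdealOf ⟨x, hxU⟩).asIdeal.primeCompl
    (hU.primeIdealOf ⟨x', hx'U⟩).asIdeal.primeCompl
    (fun a ha hn => ha (hle hn))
  change IsLocalization (genPrime h).primeCompl _
  refine @IsLocalization.of_le _ _ _ _ _ _ key (genPrime h).primeCompl ?_ ?_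
  · rintro _ ⟨a, ha, rfl⟩
    change _ ∉ genPrime h
    rw [mem_genPrime_iff, not_not]
    change IsUnit (algebraMap (X.presheaf.stalk x) (X.presheaf.stalk x')
      (algebraMap Γ(X, U) (X.presheaf.stalk x) a))
    rw [← IsScalarTower.algebraMap_apply]
    exact IsLocalization.map_units (X.presheaf.stalk x')
      (⟨a, ha⟩ : (hU.primeIdealOf ⟨x', hx'U⟩).asIdeal.primeCompl)
  · intro r hr
    change r ∉ genPrime h at hr
    rw [mem_genPrime_iff, not_not] at hr
    exact hr

end Groth.Agent.H15.StalkLoc
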