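import Groth.Agent.H15.LenSnake
import Mathlib.RingTheory.Regular.RegularSequence
import Mathlib.RingTheory.OrderOfVanishing.Basic
import Mathlib.RingTheory.Nakayama
import Mathlib.Algebra.Module.Torsion.Basic

/-!
# The length defect `ℓ(M/tM) - ℓ(M[t])` over one-dimensional Noetherian local rings
-/

set_option autoImplicit false
set_option linter.style.haveILetI false
set_option linter.unusedSectionVars false

open Function
open scoped Pointwise

namespace Groth.Agent.H15.Len

variable {A : Type*} [CommRing A]

section general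

variable (t : A) {M' M M'' : Type*} [AddCommGroup M'] [Module A M'] [AddCommGroup M] [Module A M]
  [AddCommGroup M''] [Module A M'']

theorem range_smul_id (M : Type*) [AddCommGroup M] [Module A M] :
    LinearMap.range (t • (LinearMap.id : M →ₗ[A] M)) = (t • ⊤ : Submodule A M) := by
  ext x
  rw [Submodule.mem_smul_pointwise_iff_exists]
  constructor
  · rintro ⟨y, rfl⟩
    exact ⟨y, Submodule.mem_top, rfl⟩
  · rintro ⟨y, -, rfl⟩
    exact ⟨y, rfl⟩

theorem length_quotSMulTop (M : Type*) [AddCommGroup M] [Module A M] :
    Module.length A (QuotSMulTop t M) =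
      Module.length A (M ⧸ LinearMap.range (t • (LinearMap.id : M →ₗ[A] M))) :=
  (Submodule.quotEquivOfEq _ _ (range_smul_id t M).symm).length_eq

/-- Additivity of kernel/cokernel lengths of multiplication by `t` along a short exact sequence
(in `ℕ∞`, no finiteness needed). -/
theorem defect_additive (i : M' →ₗ[A] M) (p : M →ₗ[A] M'') (hi : Injective i) (hp : Surjective p)
    (hex : Exact i p) :
    Module.length A (LinearMap.ker (t • (LinearMap.id : M' →ₗ[A] M'))) +
        Module.length A (LinearMap.ker (t • (LinearMap.id : M'' →ₗ[A] M''))) +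
        Module.length A (QuotSMulTop t M) =
      Module.length A (LinearMap.ker (t • (LinearMap.id : M →ₗ[A] M))) +
        Module.length A (QuotSMulTop t M') + Module.length A (QuotSMulTop t M'') := by
  rw [length_quotSMulTop, length_quotSMulTop, length_quotSMulTop]
  exact snake_length (t • LinearMap.id) (t • LinearMap.id) (t • LinearMap.id) i p hex i p hex
    (by ext x; simp) (by ext x; simp) hi hp hi hp

/-- For an endomorphism of a module of finite length, kernel and cokernel have the same length. -/
theorem length_ker_eq_length_coker {N : Type*} [AddCommGroup N] [Module A N]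
    (hN : IsFiniteLength A N) (φ : N →ₗ[A] N) :
    Module.length A (LinearMap.ker φ) = Module.length A (N ⧸ LinearMap.range φ) := by
  have h1 := length_eq_ker_add_range φ
  have h2 := Module.length_eq_add_of_exact (LinearMap.range φ).subtype (LinearMap.range φ).mkQ
    (Submodule.subtype_injective _) (Submodule.mkQ_surjective _)
    (LinearMap.exact_subtype_mkQ _)
  have hfin : Module.length A (LinearMap.range φ) ≠ ⊤ := by
    rw [Module.length_ne_top_iff]
    exact hN.of_injective (Submodule.subtype_injective _)
  rw [h2, add_comm] at h1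
  exact (ENat.add_left_injective_of_ne_top hfin h1).symm

end general


section finiteness

variable [IsNoetherianRing A] [Ring.KrullDimLE 1 A]

theorem isArtinianRing_quotient {s : A} (hs : s ∈ nonZeroDivisors A) :
    IsArtinianRing (A ⧸ Ideal.span {s}) := by
  rw [isArtinianRing_iff_krullDimLE_zero, Ring.KrullDimLE, Order.krullDimLE_iff,
    ← ENat.WithBot.add_le_add_one_right_iff, Nat.cast_zero, zero_add]
  exact (ringKrullDim_quotient_succ_le_of_nonZeroDivisor hs).trans (Order.KrullDimLE.krullDim_le)

/-- A finite module killed by a non-zero-divisor has finite length. -/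
theorem isFiniteLength_of_smul_eq_zero {s : A} (hs : s ∈ nonZeroDivisors A)
    (N : Type*) [AddCommGroup N] [Module A N] [Module.Finite A N] (h : ∀ x : N, s • x = 0) :
    IsFiniteLength A N := by
  rw [isFiniteLength_iff_isNoetherian_isArtinian]
  refine ⟨inferInstance, ?_⟩
  have hT : Module.IsTorsionBy A N s := fun x => h x
  letI := hT.module
  haveI : IsArtinianRing (A ⧸ Ideal.span {s}) := isArtinianRing_quotient hs
  haveI : IsScalarTower A (A ⧸ Ideal.span {s}) N :=
    ⟨fun b d x => Quotient.inductionOn' d fun c => (smul_assoc b c x :)⟩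
  haveI : Module.Finite (A ⧸ Ideal.span {s}) N := Module.Finite.of_restrictScalars_finite A _ _
  haveI : IsArtinian (A ⧸ Ideal.span {s}) N := inferInstance
  exact isArtinian_of_surjective_algebraMap (S := A) (R := A ⧸ Ideal.span {s})
    Ideal.Quotient.mk_surjective

variable (t : A) (ht : t ∈ nonZeroDivisors A) (M : Type*) [AddCommGroup M] [Module A M]
  [Module.Finite A M]

include ht in
theorem isFiniteLength_ker : IsFiniteLength A (LinearMap.ker (t • (LinearMap.id : M →ₗ[A] M))) :=
  isFiniteLength_of_smul_eq_zero ht _ (fun x => Subtype.ext (by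
    have h := x.2
    rw [LinearMap.mem_ker, LinearMap.smul_apply, LinearMap.id_apply] at h
    exact h))

include ht in
theorem isFiniteLength_quotSMulTop : IsFiniteLength A (QuotSMulTop t M) :=
  isFiniteLength_of_smul_eq_zero ht _ (fun x => by
    obtain ⟨m, rfl⟩ := Submodule.mkQ_surjective _ x
    rw [← map_smul, Submodule.mkQ_apply, Submodule.Quotient.mk_eq_zero]
    exact Submodule.smul_mem_pointwise_smul m t ⊤ Submodule.mem_top)

end finiteness


section main

variable [IsNoetherianRing A] [IsLocalRing A] [Ring.KrullDimLE 1 A]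
variable (t : A) (ht : t ∈ nonZeroDivisors A) (htm : t ∈ IsLocalRing.maximalIdeal A)
  (M : Type*) [AddCommGroup M] [Module A M] [Module.Finite A M]

include ht htm in
/-- The key formula: there is a finite module `Q` (the quotient of `M` by its `t`-power torsion) with
`ℓ(M/tM) = ℓ(M[t]) + ℓ(Q/tQ)`, and `Q/tQ = 0` iff `M` has finite length. -/
theorem length_quot_eq_add :
    ∃ c : ℕ∞, Module.length A (QuotSMulTop t M) =
        Module.length A (LinearMap.ker (t • (LinearMap.id : M →ₗ[A] M))) + c ∧
      (c = 0 → IsFiniteLength A M) := by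
  -- the ascending chain of kernels of `t ^ n`
  let K : ℕ →o Submodule A M :=
    ⟨fun n => LinearMap.ker ((t ^ n) • (LinearMap.id : M →ₗ[A] M)), by
      intro a b hab x hx
      rw [LinearMap.mem_ker, LinearMap.smul_apply, LinearMap.id_apply] at hx ⊢
      obtain ⟨c, rfl⟩ := Nat.exists_eq_add_of_le hab
      rw [pow_add, mul_comm, mul_smul, hx, smul_zero]⟩
  obtain ⟨n, hn⟩ := monotone_stabilizes_iff_noetherian.mpr (inferInstance : IsNoetherian A M) K
  let T : Submodule A M := K n
  have hTmem : ∀ x : M, x ∈ T ↔ t ^ n • x = 0 := fun x => by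
    change x ∈ LinearMap.ker ((t ^ n) • (LinearMap.id : M →ₗ[A] M)) ↔ _
    rw [LinearMap.mem_ker, LinearMap.smul_apply, LinearMap.id_apply]
  have hTfin : IsFiniteLength A T :=
    isFiniteLength_of_smul_eq_zero (pow_mem ht n) T (fun x => Subtype.ext ((hTmem x.1).mp x.2))
  -- `M ⧸ T` has no `t`-torsion
  have hker : LinearMap.ker (t • (LinearMap.id : (M ⧸ T) →ₗ[A] (M ⧸ T))) = ⊥ := by
    rw [eq_bot_iff]
    intro x hx
    obtain ⟨m, rfl⟩ := Submodule.mkQ_surjective _ x
    rw [LinearMap.mem_ker, LinearMap.smul_apply, LinearMap.id_apply, ← map_smul,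
      Submodule.mkQ_apply, Submodule.Quotient.mk_eq_zero, hTmem] at hx
    rw [Submodule.mem_bot, Submodule.mkQ_apply, Submodule.Quotient.mk_eq_zero]
    have h1 : m ∈ K (n + 1) := by
      change m ∈ LinearMap.ker ((t ^ (n + 1)) • (LinearMap.id : M →ₗ[A] M))
      rw [LinearMap.mem_ker, LinearMap.smul_apply, LinearMap.id_apply, pow_succ, mul_smul]
      exact hx
    rw [← hn (n + 1) (Nat.le_succ n)] at h1
    exact h1
  have hadd := defect_additive t T.subtype T.mkQ (Submodule.subtype_injective _)
    (Submodule.mkQ_surjective _) (LinearMap.exact_subtype_mkQ T)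
  rw [hker] at hadd
  have h0 : Module.length A (⊥ : Submodule A (M ⧸ T)) = 0 := Module.length_bot
  rw [h0, add_zero] at hadd
  have hT1 : Module.length A (LinearMap.ker (t • (LinearMap.id : T →ₗ[A] T))) =
      Module.length A (QuotSMulTop t T) := by
    rw [length_quotSMulTop]
    exact length_ker_eq_length_coker hTfin _
  have hTfin' : Module.length A (QuotSMulTop t T) ≠ ⊤ := by
    rw [Module.length_ne_top_iff]
    exact isFiniteLength_quotSMulTop t ht T
  rw [hT1] at hadd
  -- cancel
  have hcancel : Module.length A (QuotSMulTop t M) =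
      Module.length A (LinearMap.ker (t • (LinearMap.id : M →ₗ[A] M))) +
        Module.length A (QuotSMulTop t (M ⧸ T)) := by
    apply ENat.add_left_injective_of_ne_top hTfin'
    change Module.length A (QuotSMulTop t M) + Module.length A (QuotSMulTop t T) =
      Module.length A (LinearMap.ker (t • (LinearMap.id : M →ₗ[A] M))) +
        Module.length A (QuotSMulTop t (M ⧸ T)) + Module.length A (QuotSMulTop t T)
    rw [add_comm, hadd]
    ring
  refine ⟨_, hcancel, fun hc => ?_⟩
  -- Nakayama
  rw [Module.length_eq_zero_iff] at hc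
  have htop : (⊤ : Submodule A (M ⧸ T)) ≤ Ideal.span {t} • (⊤ : Submodule A (M ⧸ T)) := by
    rw [Submodule.ideal_span_singleton_smul]
    intro x _
    have : (Submodule.mkQ (t • (⊤ : Submodule A (M ⧸ T)))) x = 0 := Subsingleton.elim _ _
    rwa [Submodule.mkQ_apply, Submodule.Quotient.mk_eq_zero] at this
  have hjac : Ideal.span {t} ≤ Ideal.jacobson (⊥ : Ideal A) := by
    rw [IsLocalRing.jacobson_eq_maximalIdeal ⊥ bot_ne_top, Ideal.span_singleton_le_iff_mem]
    exact htm
  have hbot := Submodule.eq_bot_of_le_smul_of_le_jacobson_bot (Ideal.span {t})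
    (⊤ : Submodule A (M ⧸ T)) (Module.Finite.fg_top) htop hjac
  have hTtop : ∀ x : M, t ^ n • x = 0 := by
    intro x
    rw [← hTmem, ← Submodule.Quotient.mk_eq_zero]
    have : (Submodule.Quotient.mk x : M ⧸ T) ∈ (⊤ : Submodule A (M ⧸ T)) := Submodule.mem_top
    rw [hbot] at this
    exact this
  exact isFiniteLength_of_smul_eq_zero (pow_mem ht n) M hTtop

end main

end Groth.Agent.H15.Len
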