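import Groth.Agent.H15.CDivAlg
import Groth.Agent.H15.DepthFlat
import Mathlib.RingTheory.DiscreteValuationRing.TFAE
import Mathlib.RingTheory.IntegralClosure.IntegrallyClosed

/-!
# A normal Noetherian local domain of depth one is a discrete valuation ring
-/

set_option autoImplicit false
universe u

open RingTheory.Sequence IsLocalRing

namespace Groth.Agent.H15.CDivAlg

open Groth.Agent.H15

/-- Converse of `depth_eq_one_of_mem`: in depth one, `m` is associated to `R/aR` for a regular
`a ∈ m`. -/
theorem exists_of_depth_eq_one {R : Type u} [CommRing R] [IsLocalRing R] [IsNoetherianRing R]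
    (h : LocCoh.depth R R = 1) :
    ∃ a b : R, a ∈ maximalIdeal R ∧ IsSMulRegular R a ∧ b ∉ Ideal.span {a} ∧
      ∀ t ∈ maximalIdeal R, t * b ∈ Ideal.span {a} := by
  have hne : maximalIdeal R • (⊤ : Submodule R R) ≠ ⊤ := by
    rw [Ideal.smul_top_eq_map, Algebra.algebraMap_self, Ideal.map_id]
    intro h
    have := congrArg (Submodule.restrictScalars R) h
    simp only [Submodule.restrictScalars_self] at this
    exact (maximalIdeal.isMaximal R).ne_top this
  have h1 : ((1 : ℕ) : ℕ∞) ≤ LocCoh.idealDepth (maximalIdeal R) R := by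
    have : LocCoh.idealDepth (maximalIdeal R) R = 1 := h
    rw [this]; rfl
  obtain ⟨rs, hlen, hmem, hrs⟩ := exists_isRegular_of_le_idealDepth (maximalIdeal R) R hne 1 h1
  match rs, hlen with
  | [a], _ =>
    have ha : a ∈ maximalIdeal R := hmem a (by simp)
    have hareg : IsSMulRegular R a := by
      have := hrs.toIsWeaklyRegular
      rw [isWeaklyRegular_cons_iff] at this
      exact this.1
    have hnot : ∀ t ∈ maximalIdeal R, ¬ IsSMulRegular (QuotSMulTop a R) t := by
      intro t ht htreg
      have hw : IsWeaklyRegular R [a, t] := by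
        rw [isWeaklyRegular_cons_iff]
        refine ⟨hareg, ?_⟩
        rw [isWeaklyRegular_cons_iff]
        exact ⟨htreg, IsWeaklyRegular.nil _ _⟩
      have := le_idealDepth (maximalIdeal R) R hw (by
        intro r hr
        simp only [List.mem_cons, List.not_mem_nil, or_false] at hr
        rcases hr with rfl | rfl
        · exact ha
        · exact ht)
      have h2 : LocCoh.idealDepth (maximalIdeal R) R = 1 := h
      rw [h2] at this
      norm_num at this
    obtain ⟨m₀, hm₀, hkill⟩ :=
      exists_ne_zero_smul_eq_zero_of_forall_not_isSMulRegular (maximalIdeal R) (QuotSMulTop a R) hnot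
    obtain ⟨b, rfl⟩ := Submodule.Quotient.mk_surjective _ m₀
    refine ⟨a, b, ha, hareg, ?_, ?_⟩
    · intro hb
      apply hm₀
      rw [Submodule.Quotient.mk_eq_zero, Submodule.mem_smul_pointwise_iff_exists]
      rw [Ideal.mem_span_singleton'] at hb
      obtain ⟨c, hc⟩ := hb
      exact ⟨c, Submodule.mem_top, by rw [smul_eq_mul, mul_comm, hc]⟩
    · intro t ht
      have := hkill t ht
      rw [← Submodule.Quotient.mk_smul, Submodule.Quotient.mk_eq_zero,
        Submodule.mem_smul_pointwise_iff_exists] at this
      obtain ⟨c, -, hc⟩ := this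
      rw [Ideal.mem_span_singleton']
      exact ⟨c, by rw [mul_comm, ← smul_eq_mul a c, hc, smul_eq_mul]⟩

end Groth.Agent.H15.CDivAlg

namespace Groth.Agent.H15.CDivAlg

/-- A Noetherian integrally closed local domain of depth one is a discrete valuation ring. -/
theorem isDiscreteValuationRing_of_depth_eq_one {R : Type u} [CommRing R] [IsLocalRing R]
    [IsNoetherianRing R] [IsDomain R] [IsIntegrallyClosed R] (h : LocCoh.depth R R = 1) :
    IsDiscreteValuationRing R := by
  obtain ⟨a, b, ha, hareg, hb, hmb⟩ := exists_of_depth_eq_one h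
  have ha0 : a ≠ 0 := by
    rintro rfl
    have := hareg (show (0 : R) • (1 : R) = (0 : R) • (0 : R) by simp)
    exact one_ne_zero this
  have hb0 : b ≠ 0 := by
    rintro rfl
    exact hb (Ideal.zero_mem _)
  have hmne : maximalIdeal R ≠ ⊥ := by
    intro h0
    rw [h0] at ha
    exact ha0 ha
  have hnf : ¬ IsField R := fun hf => hmne (isField_iff_maximalIdeal_eq.mp hf)
  -- for `t ∈ m` choose `c t` with `t * b = c t * a`
  have hc : ∀ t : R, t ∈ maximalIdeal R → ∃ c : R, c * a = t * b := fun t ht =>
    Ideal.mem_span_singleton'.mp (hmb t ht)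
  suffices hprin : (maximalIdeal R).IsPrincipal from
    ((IsDiscreteValuationRing.TFAE R hnf).out 4 0).mp hprin
  by_cases hcase : ∃ t ∈ maximalIdeal R, ∃ c : R, c * a = t * b ∧ IsUnit c
  · obtain ⟨t, ht, c, hct, hcu⟩ := hcase
    refine ⟨⟨t, ?_⟩⟩
    apply le_antisymm
    · intro y hy
      obtain ⟨cy, hcy⟩ := hc y hy
      obtain ⟨c', hc'⟩ := hcu.exists_left_inv
      change y ∈ Ideal.span {t}
      rw [Ideal.mem_span_singleton']
      refine ⟨cy * c', ?_⟩
      apply mul_right_cancel₀ hb0
      calc cy * c' * t * b = cy * c' * (t * b) := by ring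
        _ = cy * c' * (c * a) := by rw [hct]
        _ = cy * (c' * c) * a := by ring
        _ = cy * a := by rw [hc', mul_one]
        _ = y * b := hcy
    · change Ideal.span {t} ≤ maximalIdeal R
      rw [Ideal.span_singleton_le_iff_mem]
      exact ht
  · exfalso
    push Not at hcase
    let K := FractionRing R
    let x : K := algebraMap R K b / algebraMap R K a
    have haK : algebraMap R K a ≠ 0 := by
      rw [Ne, map_eq_zero_iff _ (IsFractionRing.injective R K)]; exact ha0
    let N : Submodule R K := Submodule.map (Algebra.linearMap R K) (maximalIdeal R)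
    have hN : N ≠ ⊥ := by
      intro hN0
      have : Algebra.linearMap R K a ∈ N := Submodule.mem_map_of_mem ha
      rw [hN0, Submodule.mem_bot] at this
      exact haK this
    have hNfg : N.FG :=
      Submodule.FG.map (Algebra.linearMap R K) ((isNoetherianRing_iff_ideal_fg R).mp inferInstance _)
    have hxN : ∀ n ∈ N, x • n ∈ N := by
      rintro _ ⟨t, ht, rfl⟩
      obtain ⟨c, hct⟩ := hc t ht
      have hcm : c ∈ maximalIdeal R := by
        by_contra hcm
        exact hcase t ht c hct (by simpa using hcm)
      refine ⟨c, hcm, ?_⟩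
      change algebraMap R K c = x * algebraMap R K t
      have : algebraMap R K c * algebraMap R K a = algebraMap R K t * algebraMap R K b := by
        rw [← map_mul, ← map_mul, hct]
      change algebraMap R K c = algebraMap R K b / algebraMap R K a * algebraMap R K t
      rw [div_mul_eq_mul_div, eq_div_iff haK, this, mul_comm]
    have hint : IsIntegral R x := isIntegral_of_smul_mem_submodule N hN hNfg x hxN
    obtain ⟨r, hr⟩ := IsIntegrallyClosed.isIntegral_iff.mp hint
    apply hb
    rw [Ideal.mem_span_singleton']
    refine ⟨r, ?_⟩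
    apply IsFractionRing.injective R K
    rw [map_mul, hr]
    change algebraMap R K b / algebraMap R K a * algebraMap R K a = algebraMap R K b
    rw [div_mul_cancel₀ _ haK]

end Groth.Agent.H15.CDivAlg
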