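import Mathlib

/-!
# Associated primes of `N ⊗[R] M` for `N` flat over a Noetherian ring `R`

`Ass_S (N ⊗[R] M) = ⋃_{p ∈ Ass_R M} Ass_S (N / pN)` (Stacks 0312 / Matsumura 23.2), with Mathlib's
(radical) definition of associated primes and no finiteness assumptions on `S`, `N`, `M`.
-/

set_option linter.style.haveILetI false

namespace Groth.Agent.H15.AssFlat

universe u

open TensorProduct

section

variable {R S N : Type*} [CommRing R] [CommRing S] [Algebra R S]
  [AddCommGroup N] [Module S N] [Module R N] [IsScalarTower R S N]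

/-- `(pS) • ⊤` and `p • ⊤` have the same elements. -/
lemma mem_map_smul_top_iff (p : Ideal R) (n : N) :
    n ∈ p.map (algebraMap R S) • (⊤ : Submodule S N) ↔ n ∈ p • (⊤ : Submodule R N) := by
  constructor
  · intro hn
    have key : ∀ s ∈ p.map (algebraMap R S), ∀ n : N, s • n ∈ p • (⊤ : Submodule R N) := by
      intro s hs
      refine Submodule.span_induction (p := fun s _ => ∀ n : N, s • n ∈ p • (⊤ : Submodule R N))
        ?_ ?_ ?_ ?_ hs
      · rintro _ ⟨a, ha, rfl⟩ n
        rw [algebraMap_smul]
        exact Submodule.smul_mem_smul ha trivial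
      · intro n; simp
      · intro x y _ _ hx hy n
        rw [add_smul]; exact add_mem (hx n) (hy n)
      · intro a x _ hx n
        rw [smul_eq_mul, mul_comm, mul_smul]
        exact hx _
    refine Submodule.smul_induction_on hn (fun s hs n _ => key s hs n) (fun x y hx hy => add_mem hx hy)
  · intro hn
    refine Submodule.smul_induction_on hn (fun a ha n _ => ?_) (fun x y hx hy => add_mem hx hy)
    rw [← algebraMap_smul S a n]
    exact Submodule.smul_mem_smul (Ideal.mem_map_of_mem _ ha) trivial

variable (S N) in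
/-- The `S`-linear map `n ↦ n ⊗ 1 : N → N ⊗[R] (R ⧸ p)`. -/
noncomputable def tmulOne (p : Ideal R) : N →ₗ[S] N ⊗[R] (R ⧸ p) where
  toFun n := n ⊗ₜ 1
  map_add' x y := add_tmul x y 1
  map_smul' s n := by rw [RingHom.id_apply, smul_tmul']

@[simp] lemma tmulOne_apply (p : Ideal R) (n : N) : tmulOne S N p n = n ⊗ₜ[R] (1 : R ⧸ p) := rfl

lemma tmulOne_surjective (p : Ideal R) : Function.Surjective (tmulOne S N p) := by
  intro z
  induction z using TensorProduct.induction_on with
  | zero => exact ⟨0, map_zero _⟩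
  | tmul n a =>
    obtain ⟨a, rfl⟩ := Ideal.Quotient.mk_surjective a
    refine ⟨a • n, ?_⟩
    rw [tmulOne_apply, smul_tmul]
    congr 1
    rw [← Ideal.Quotient.algebraMap_eq, Algebra.algebraMap_eq_smul_one]
  | add x y hx hy =>
    obtain ⟨x', rfl⟩ := hx
    obtain ⟨y', rfl⟩ := hy
    exact ⟨x' + y', map_add _ _ _⟩

lemma ker_tmulOne (p : Ideal R) :
    LinearMap.ker (tmulOne S N p) = p.map (algebraMap R S) • (⊤ : Submodule S N) := by
  ext n
  rw [mem_map_smul_top_iff, LinearMap.mem_ker, tmulOne_apply,
    ← (tensorQuotEquivQuotSMul N p).map_eq_zero_iff,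
    show (1 : R ⧸ p) = Ideal.Quotient.mk p 1 from rfl, tensorQuotEquivQuotSMul_tmul_mk, one_smul,
    Submodule.Quotient.mk_eq_zero]

variable (S N) in
/-- The `S`-linear isomorphism `N ⧸ (pS)N ≃ N ⊗[R] (R ⧸ p)`. -/
noncomputable def quotEquivTensor (p : Ideal R) :
    (N ⧸ p.map (algebraMap R S) • (⊤ : Submodule S N)) ≃ₗ[S] N ⊗[R] (R ⧸ p) :=
  (Submodule.quotEquivOfEq _ _ (ker_tmulOne p).symm) ≪≫ₗ
    (tmulOne S N p).quotKerEquivOfSurjective (tmulOne_surjective p)

end

section

variable {R S N : Type u} [CommRing R] [CommRing S] [Algebra R S]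
  [AddCommGroup N] [Module S N] [Module R N] [IsScalarTower R S N]

lemma lTensor_injective [Module.Flat R N] {M₁ M₂ : Type*} [AddCommGroup M₁] [Module R M₁]
    [AddCommGroup M₂] [Module R M₂] (f : M₁ →ₗ[R] M₂) (hf : Function.Injective f) :
    Function.Injective (AlgebraTensorModule.lTensor S N f) := by
  have : ⇑(AlgebraTensorModule.lTensor S N f) = ⇑(f.lTensor N) := rfl
  rw [this]
  exact Module.Flat.lTensor_preserves_injective_linearMap f hf

lemma lTensor_exact' {M₁ M₂ M₃ : Type*} [AddCommGroup M₁] [Module R M₁]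
    [AddCommGroup M₂] [Module R M₂] [AddCommGroup M₃] [Module R M₃]
    (f : M₁ →ₗ[R] M₂) (g : M₂ →ₗ[R] M₃) (hfg : Function.Exact f g) (hg : Function.Surjective g) :
    Function.Exact (AlgebraTensorModule.lTensor S N f) (AlgebraTensorModule.lTensor S N g) := by
  have h1 : ⇑(AlgebraTensorModule.lTensor S N f) = ⇑(f.lTensor N) := rfl
  have h2 : ⇑(AlgebraTensorModule.lTensor S N g) = ⇑(g.lTensor N) := rfl
  rw [h1, h2]
  exact _root_.lTensor_exact N hfg hg

variable [IsNoetherianRing R] [Module.Flat R N]

/-- Prime filtration argument: the associated primes of `N ⊗ Q` for finite `Q` are among those of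
`N / p'N` for `p'` in the support of `Q`. -/
lemma ass_tensor_subset_of_finite (Q : Type u) [AddCommGroup Q] [Module R Q] [Module.Finite R Q] :
    associatedPrimes S (N ⊗[R] Q) ⊆ ⋃ p' : PrimeSpectrum R,
      ⋃ (_ : Module.annihilator R Q ≤ p'.asIdeal),
        associatedPrimes S (N ⧸ p'.asIdeal.map (algebraMap R S) • (⊤ : Submodule S N)) := by
  induction ‹Module.Finite R Q› using
    IsNoetherianRing.induction_on_isQuotientEquivQuotientPrime R with
  | subsingleton Q =>
    rw [associatedPrimes.eq_empty_of_subsingleton]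
    exact Set.empty_subset _
  | quotient Q p e =>
    intro q hq
    refine Set.mem_iUnion.mpr ⟨p, Set.mem_iUnion.mpr ⟨?_, ?_⟩⟩
    · intro r hr
      have h1 : r • e.symm 1 = 0 := Module.mem_annihilator.mp hr _
      rw [← map_smul, e.symm.map_eq_zero_iff] at h1
      rw [← Ideal.Quotient.eq_zero_iff_mem, ← Ideal.Quotient.algebraMap_eq,
        Algebra.algebraMap_eq_smul_one]
      exact h1
    · have e' : (N ⊗[R] Q) ≃ₗ[S] (N ⧸ p.asIdeal.map (algebraMap R S) • (⊤ : Submodule S N)) :=
        (AlgebraTensorModule.congr (LinearEquiv.refl S N) e) ≪≫ₗ (quotEquivTensor S N p.asIdeal).symm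
      rw [← LinearEquiv.AssociatedPrimes.eq e']
      exact hq
  | exact Q₁ Q₂ Q₃ f g hf hg hfg h₁ h₃ =>
    intro q hq
    have hsub := associatedPrimes.subset_union_of_exact
      (lTensor_injective (S := S) (N := N) f hf) (lTensor_exact' (S := S) (N := N) f g hfg hg) hq
    have ann1 : Module.annihilator R Q₂ ≤ Module.annihilator R Q₁ := by
      intro r hr
      rw [Module.mem_annihilator] at hr ⊢
      intro m
      apply hf
      rw [map_smul, hr, map_zero]
    have ann3 : Module.annihilator R Q₂ ≤ Module.annihilator R Q₃ := by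
      intro r hr
      rw [Module.mem_annihilator] at hr ⊢
      intro m
      obtain ⟨m, rfl⟩ := hg m
      rw [← map_smul, hr, map_zero]
    rcases hsub with h | h
    · obtain ⟨p', hp'⟩ := Set.mem_iUnion.mp (h₁ h)
      obtain ⟨hle, hp'⟩ := Set.mem_iUnion.mp hp'
      exact Set.mem_iUnion.mpr ⟨p', Set.mem_iUnion.mpr ⟨ann1.trans hle, hp'⟩⟩
    · obtain ⟨p', hp'⟩ := Set.mem_iUnion.mp (h₃ h)
      obtain ⟨hle, hp'⟩ := Set.mem_iUnion.mp hp'
      exact Set.mem_iUnion.mpr ⟨p', Set.mem_iUnion.mpr ⟨ann3.trans hle, hp'⟩⟩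

omit [IsNoetherianRing R] in
/-- Flatness: an element of `N ⊗ M` killed by a finitely generated ideal `I` comes from
`N ⊗ M[I]`. -/
lemma exists_of_smul_eq_zero {M : Type u} [AddCommGroup M] [Module R M] (I : Ideal R) (hI : I.FG)
    (z : N ⊗[R] M) (hz : ∀ a ∈ I, a • z = 0) :
    ∃ z' : N ⊗[R] (Submodule.torsionBySet R M (I : Set R)),
      (Submodule.torsionBySet R M (I : Set R)).subtype.lTensor N z' = z := by
  classical
  obtain ⟨t, ht⟩ := hI
  let θ : M →ₗ[R] (t → M) := LinearMap.pi (fun a => LinearMap.lsmul R M (a : R))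
  have hex : Function.Exact (Submodule.torsionBySet R M (I : Set R)).subtype θ := by
    rw [LinearMap.exact_iff, Submodule.range_subtype]
    ext m
    rw [LinearMap.mem_ker, ← ht, ← Submodule.torsionBySet_eq_torsionBySet_span,
      Submodule.mem_torsionBySet_iff]
    constructor
    · intro h a
      exact congrFun h a
    · intro h
      funext a
      exact h a
  have key : ∀ z : N ⊗[R] M, ∀ a : t,
      piRight R R N (fun _ : t => M) (θ.lTensor N z) a = (a : R) • z := by
    intro z a
    induction z using TensorProduct.induction_on with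
    | zero => simp
    | tmul n m => simp [θ]
    | add x y hx hy => simp only [map_add, Pi.add_apply, hx, hy, smul_add]
  have hz0 : θ.lTensor N z = 0 := by
    rw [← (piRight R R N (fun _ : t => M)).map_eq_zero_iff]
    funext a
    rw [key]
    exact hz _ (ht ▸ Ideal.subset_span a.2)
  exact ((Module.Flat.lTensor_exact N hex) z).mp hz0

omit [IsNoetherianRing R] in
lemma colon_lTensor_eq {A B : Type*} [AddCommGroup A] [Module R A] [AddCommGroup B] [Module R B]
    (f : A →ₗ[R] B) (hf : Function.Injective f) (x : N ⊗[R] A) :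
    (⊥ : Submodule S (N ⊗[R] B)).colon {f.lTensor N x} =
      (⊥ : Submodule S (N ⊗[R] A)).colon {x} := by
  ext s
  rw [Submodule.mem_colon_singleton, Submodule.mem_colon_singleton, Submodule.mem_bot,
    Submodule.mem_bot]
  have : s • (f.lTensor N x) = AlgebraTensorModule.lTensor S N f (s • x) := by
    rw [map_smul]; rfl
  rw [this, (AlgebraTensorModule.lTensor S N f).map_eq_zero_iff (lTensor_injective f hf)]

omit [IsNoetherianRing R] [Module.Flat R N] [Module S N] [IsScalarTower R S N] in
lemma smul_eq_zero_of_mem_annihilator {A : Type*} [AddCommGroup A] [Module R A] (r : R)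
    (hr : r ∈ Module.annihilator R A) (x : N ⊗[R] A) : r • x = 0 := by
  induction x using TensorProduct.induction_on with
  | zero => simp
  | tmul n m => rw [← tmul_smul, Module.mem_annihilator.mp hr, tmul_zero]
  | add x y hx hy => rw [smul_add, hx, hy, add_zero]

/-- **Associated primes of a flat tensor product** (Stacks 0312). -/
theorem ass_tensor_eq {M : Type u} [AddCommGroup M] [Module R M] :
    associatedPrimes S (N ⊗[R] M) =
      ⋃ p ∈ associatedPrimes R M,
        associatedPrimes S (N ⧸ p.map (algebraMap R S) • (⊤ : Submodule S N)) := by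
  apply Set.Subset.antisymm
  · intro q hq
    obtain ⟨hqp, z, hz⟩ := hq
    obtain ⟨M₀, hM₀fin, hM₀⟩ := TensorProduct.exists_finite_submodule_right_of_setFinite
      ({z} : Set (N ⊗[R] M)) (Set.finite_singleton z)
    obtain ⟨z₀, hz₀⟩ := hM₀ (Set.mem_singleton z)
    have hz' : q = ((⊥ : Submodule S (N ⊗[R] M₀)).colon {z₀}).radical := by
      rw [← colon_lTensor_eq M₀.subtype M₀.injective_subtype z₀, hz₀]; exact hz
    set p := q.comap (algebraMap R S) with hpdef
    have hp : p.IsPrime := Ideal.comap_isPrime _ _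
    obtain ⟨n, hn⟩ : ∃ n, p ^ n ≤
        ((⊥ : Submodule S (N ⊗[R] M₀)).colon {z₀}).comap (algebraMap R S) := by
      apply Ideal.exists_pow_le_of_le_radical_of_fg _ (IsNoetherian.noetherian p)
      rw [← Ideal.comap_radical, ← hz']
    have hkill : ∀ a ∈ p ^ n, a • z₀ = 0 := by
      intro a ha
      have := hn ha
      rw [Ideal.mem_comap, Submodule.mem_colon_singleton, Submodule.mem_bot, algebraMap_smul]
        at this
      exact this
    set M₁ := Submodule.torsionBySet R M₀ ((p ^ n : Ideal R) : Set R) with hM₁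
    obtain ⟨z₁, hz₁⟩ : ∃ z₁ : N ⊗[R] M₁, M₁.subtype.lTensor N z₁ = z₀ :=
      exists_of_smul_eq_zero (p ^ n) (IsNoetherian.noetherian _) z₀ hkill
    have hz'' : q = ((⊥ : Submodule S (N ⊗[R] M₁)).colon {z₁}).radical := by
      rw [← colon_lTensor_eq M₁.subtype M₁.injective_subtype z₁, hz₁]; exact hz'
    have hqM₁ : q ∈ associatedPrimes S (N ⊗[R] M₁) := ⟨hqp, z₁, hz''⟩
    have : IsNoetherian R M₀ := isNoetherian_of_isNoetherianRing_of_finite R M₀
    have : Module.Finite R M₁ := inferInstance
    obtain ⟨p', hp'⟩ := Set.mem_iUnion.mp (ass_tensor_subset_of_finite (S := S) (N := N) M₁ hqM₁)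
    obtain ⟨hle, hp'q⟩ := Set.mem_iUnion.mp hp'
    have hpn : p ^ n ≤ Module.annihilator R M₁ := by
      intro a ha
      rw [Module.mem_annihilator]
      rintro ⟨m, hm⟩
      apply Subtype.ext
      rw [Submodule.mem_torsionBySet_iff] at hm
      exact hm ⟨a, ha⟩
    have h1 : p ≤ p'.asIdeal := p'.isPrime.le_of_pow_le (hpn.trans hle)
    have h2 : p'.asIdeal ≤ p := by
      rw [hpdef, ← Ideal.map_le_iff_le_comap]
      refine le_trans ?_ (IsAssociatedPrime.annihilator_le hp'q)
      intro s hs
      rw [Submodule.mem_annihilator]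
      intro x _
      obtain ⟨x, rfl⟩ := Submodule.Quotient.mk_surjective _ x
      rw [← Submodule.Quotient.mk_smul, Submodule.Quotient.mk_eq_zero]
      exact Submodule.smul_mem_smul hs trivial
    have h3 : p'.asIdeal = p := le_antisymm h2 h1
    have hpAss : p ∈ associatedPrimes R M := by
      have hmin : p ∈ (Module.annihilator R M₁).minimalPrimes := by
        refine ⟨⟨hp, ?_⟩, ?_⟩
        · intro r hr
          have hrz : r • z₁ = 0 := smul_eq_zero_of_mem_annihilator r hr z₁
          rw [hpdef, Ideal.mem_comap, hz'']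
          apply Ideal.le_radical
          rw [Submodule.mem_colon_singleton, Submodule.mem_bot, algebraMap_smul]
          exact hrz
        · rintro P ⟨hP, hPle⟩ _
          exact hP.le_of_pow_le (hpn.trans hPle)
      have := Module.associatedPrimes.minimalPrimes_annihilator_subset_associatedPrimes R M₁ hmin
      exact associatedPrimes.subset_of_injective M₀.injective_subtype
        (associatedPrimes.subset_of_injective M₁.injective_subtype this)
    rw [h3] at hp'q
    exact Set.mem_biUnion hpAss hp'q
  · intro q hq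
    obtain ⟨p, hp, hq⟩ := Set.mem_iUnion₂.mp hq
    obtain ⟨hpp, f, hf⟩ := (isAssociatedPrime_iff_exists_injective_linearMap p M).mp hp
    let e := quotEquivTensor S N p
    let g : (N ⧸ p.map (algebraMap R S) • (⊤ : Submodule S N)) →ₗ[S] N ⊗[R] M :=
      (AlgebraTensorModule.lTensor S N f) ∘ₗ e.toLinearMap
    exact associatedPrimes.subset_of_injective (f := g)
      ((lTensor_injective f hf).comp e.injective) hq

end

end Groth.Agent.H15.AssFlat
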