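import Groth.Agent.H15.MTAlg6

/-!
# Tools for SGA3 IX 7.1: completeness of finite algebras, homomorphisms into a group with an atlas,
descent of homomorphisms into an isotrivial group
-/

set_option autoImplicit false
set_option linter.style.haveILetI false
universe u
open TensorProduct Coalgebra

namespace Groth.Agent.H15.MTA
open Groth.Agent.H26 Groth.Agent.H15.GLD Groth.Agent.H15.MTC Groth.Agent.H15.MTF

section complete
variable {R : Type u} [CommRing R] [IsNoetherianRing R] (I : Ideal R) [IsAdicComplete I R]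
  (M : Type u) [AddCommGroup M] [Module R M] [Module.Finite R M]

/-- finite modules over a complete Noetherian ring are complete -/
theorem isAdicComplete_of_finite : IsAdicComplete I M := by
  haveI : IsHausdorff I M := IsHausdorff.of_le_jacobson I M (IsAdicComplete.le_jacobson_bot I)
  haveI : IsPrecomplete I M := by
    rw [← AdicCompletion.of_surjective_iff]
    intro y
    obtain ⟨x, rfl⟩ := (AdicCompletion.ofTensorProductEquivOfFiniteNoetherian I M).surjective y
    induction x using TensorProduct.induction_on with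
    | zero => exact ⟨0, by simp⟩
    | add a b ha hb =>
      obtain ⟨m, hm⟩ := ha
      obtain ⟨m', hm'⟩ := hb
      exact ⟨m + m', by rw [map_add, map_add, hm, hm']⟩
    | tmul r m =>
      obtain ⟨r₀, rfl⟩ := AdicCompletion.of_surjective I R r
      refine ⟨r₀ • m, ?_⟩
      rw [AdicCompletion.ofTensorProductEquivOfFiniteNoetherian_apply,
        AdicCompletion.ofTensorProduct_tmul, map_smul]
      have h1 : AdicCompletion.of I R r₀ = algebraMap R (AdicCompletion I R) r₀ := by
        rw [AdicCompletion.algebraMap_apply]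
        rfl
      rw [h1, algebraMap_smul]
  exact {}

end complete

section completealg
variable {A : Type u} [CommRing A] [IsNoetherianRing A] (I : Ideal A) [IsAdicComplete I A]
  (A' : Type u) [CommRing A'] [Algebra A A'] [Module.Finite A A']

theorem isAdicComplete_map_of_finite : IsAdicComplete (I.map (algebraMap A A')) A' := by
  haveI := isAdicComplete_of_finite I A'
  exact (IsAdicComplete.map_algebraMap_iff _ _).mpr inferInstance

end completealg


section target
variable {A : Type u} [CommRing A] {C : Type u} [CommRing C] [Bialgebra A C]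
  {B : Type u} [CommRing B] [HopfAlgebra A B]
  {ι : Type u} [Fintype ι] {c : ι → Chart A B}

/-- A function into a group of multiplicative type which is a homomorphism in every chart is a
homomorphism. -/
theorem exists_bialgHom_of_atlas_target
    (hc : ∀ (K : Ideal A) (x : A),
      (∀ i, algebraMap A (c i).R' x ∈ K.map (algebraMap A (c i).R')) → x ∈ K)
    (φ : C → B) (Φ : ∀ i, C →ₐ[A] MonoidAlgebra (c i).R' (c i).N)
    (hΦ : ∀ i, IsCoalgMapOver (c i).R' (Φ i).toLinearMap)
    (hφ : ∀ i x, (c i).L (φ x) = Φ i x) :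
    ∃ ψ : C →ₐc[A] B, ∀ x, ψ x = φ x := by
  have hz := eq_zero_of_forall_chart_eq_zero hc
  have hinj : ∀ r : A, (∀ i, algebraMap A (c i).R' r = 0) → r = 0 := by
    intro r hr
    have h1 : r ∈ (⊥ : Ideal A) := by
      apply hc
      intro i
      rw [hr i]
      exact Ideal.zero_mem _
    exact h1
  have hadd : ∀ x y, φ (x + y) = φ x + φ y := by
    intro x y
    rw [← sub_eq_zero]
    apply hz
    intro i
    rw [map_sub, map_add, hφ, hφ, hφ, map_add, sub_self]
  have hmul : ∀ x y, φ (x * y) = φ x * φ y := by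
    intro x y
    rw [← sub_eq_zero]
    apply hz
    intro i
    rw [map_sub, map_mul, hφ, hφ, hφ, map_mul, sub_self]
  have hone : φ 1 = 1 := by
    rw [← sub_eq_zero]
    apply hz
    intro i
    rw [map_sub, hφ, map_one, map_one, sub_self]
  have hzero : φ 0 = 0 := by
    have := hadd 0 0
    rw [add_zero] at this
    exact left_eq_add.mp this
  have hcomm : ∀ r : A, φ (algebraMap A C r) = algebraMap A _ r := by
    intro r
    rw [← sub_eq_zero]
    apply hz
    intro i
    rw [map_sub, hφ, AlgHom.commutes, AlgHom.commutes, sub_self]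
  let ψ₀ : C →ₐ[A] B :=
    { toFun := φ
      map_one' := hone
      map_mul' := hmul
      map_zero' := hzero
      map_add' := hadd
      commutes' := hcomm }
  have hcomp : ∀ i, (c i).L.toLinearMap ∘ₗ ψ₀.toLinearMap = (Φ i).toLinearMap := by
    intro i
    apply LinearMap.ext
    intro x
    exact hφ i x
  refine ⟨BialgHom.ofAlgHom ψ₀ ?_ ?_, fun x => rfl⟩
  · ext x
    change Coalgebra.counit (R := A) (φ x) = Coalgebra.counit (R := A) x
    rw [← sub_eq_zero]
    apply hinj
    intro i
    rw [map_sub, sub_eq_zero]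
    have h1 := (c i).isChart.coalg.counit (φ x)
    have h2 := (hΦ i).counit x
    rw [← h1, ← h2]
    change Coalgebra.counit (R := (c i).R') ((c i).L (φ x)) = _
    rw [hφ i x]
    rfl
  · ext x
    change TensorProduct.map ψ₀.toLinearMap ψ₀.toLinearMap (Coalgebra.comul (R := A) x) =
      Coalgebra.comul (R := A) (φ x)
    rw [← sub_eq_zero]
    apply eq_zero_of_forall_tmul₂_eq_zero hc
    intro i
    rw [map_sub, ← Groth.Agent.H15.MTQ.tmul₂_comp_map, hcomp, ← (hΦ i).comul,
      ← (c i).isChart.coalg.comul]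
    change Coalgebra.comul (R := (c i).R') (Φ i x) - Coalgebra.comul (R := (c i).R')
      ((c i).L (φ x)) = 0
    rw [hφ, sub_self]

/-- membership in `I • ⊤` can be tested in the charts -/
theorem mem_smul_top_of_forall_chart_mem
    (hc : ∀ (K : Ideal A) (x : A),
      (∀ i, algebraMap A (c i).R' x ∈ K.map (algebraMap A (c i).R')) → x ∈ K)
    (I : Ideal A) (b : B)
    (h : ∀ i, (c i).L b ∈ (I • ⊤ : Submodule A (MonoidAlgebra (c i).R' (c i).N))) :
    b ∈ (I • ⊤ : Submodule A B) := by
  apply mem_smul_top_of_one_tmul_eq_zero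
  apply eq_zero_of_forall_tmul_eq_zero hc
  intro i
  have hv : ∀ r ∈ I, ∀ v : (A ⧸ I) ⊗[A] B, r • v = 0 := by
    intro r hr v
    induction v using TensorProduct.induction_on with
    | zero => simp
    | add x y hx hy => rw [smul_add, hx, hy, add_zero]
    | tmul a b' =>
      rw [TensorProduct.smul_tmul']
      have : r • a = 0 := by
        rw [Algebra.smul_def, Ideal.Quotient.algebraMap_eq,
          Ideal.Quotient.eq_zero_iff_mem.mpr hr, zero_mul]
      rw [this, zero_tmul]
  have hw : ∀ r ∈ I, ∀ w : (c i).R' ⊗[A] ((A ⧸ I) ⊗[A] B), r • w = 0 := by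
    intro r hr w
    induction w using TensorProduct.induction_on with
    | zero => simp
    | add x y hx hy => rw [smul_add, hx, hy, add_zero]
    | tmul s v =>
      rw [TensorProduct.smul_tmul', TensorProduct.smul_tmul, hv r hr, tmul_zero]
  have hkill : ∀ z ∈ (I • ⊤ : Submodule A ((c i).R' ⊗[A] ((A ⧸ I) ⊗[A] B))), z = 0 := by
    intro z hz
    refine Submodule.smul_induction_on hz ?_ ?_
    · intro r hr w _
      exact hw r hr w
    · intro x y hx hy
      rw [hx, hy, add_zero]
  let g : MonoidAlgebra (c i).R' (c i).N →ₗ[A] (c i).R' ⊗[A] ((A ⧸ I) ⊗[A] B) :=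
    (LinearMap.lTensor (c i).R' (TensorProduct.mk A (A ⧸ I) B 1)) ∘ₗ
      ((c i).isChart.bc.equiv.symm.toLinearMap.restrictScalars A)
  have h1 : g ((c i).L b) = (1 : (c i).R') ⊗ₜ[A] ((1 : A ⧸ I) ⊗ₜ[A] b) := by
    change LinearMap.lTensor (c i).R' (TensorProduct.mk A (A ⧸ I) B 1)
      ((c i).isChart.bc.equiv.symm ((c i).L b)) = _
    rw [equiv_symm_apply_chart (c i).L (c i).isChart.bc, LinearMap.lTensor_tmul]
    rfl
  rw [← h1]
  exact hkill _ (map_mem_smul_top_of_mem I g (h i))

end target

section descent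
variable (A : Type*) [CommRing A] (A' : Type*) [CommRing A'] [Algebra A A']
  (B : Type*) [AddCommGroup B] [Module A B]

/-- faithfully flat descent of elements, in terms of `(A' ⊗ A') ⊗ B` -/
theorem exists_of_map_include_eq [Module.FaithfullyFlat A A'] (x : A' ⊗[A] B)
    (h : TensorProduct.map
        (Algebra.TensorProduct.includeLeft : A' →ₐ[A] A' ⊗[A] A').toLinearMap LinearMap.id x =
      TensorProduct.map
        (Algebra.TensorProduct.includeRight : A' →ₐ[A] A' ⊗[A] A').toLinearMap LinearMap.id x) :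
    ∃ b : B, (1 : A') ⊗ₜ[A] b = x := by
  apply Groth.Agent.H15.FFD.exists_of_eq
  have h1 : ∀ x : A' ⊗[A] B, TensorProduct.assoc A A' A' B (TensorProduct.map
      (Algebra.TensorProduct.includeLeft : A' →ₐ[A] A' ⊗[A] A').toLinearMap LinearMap.id x) =
      Groth.Agent.H15.FFD.d₂ A A' B x := by
    intro x
    induction x using TensorProduct.induction_on with
    | zero => simp
    | add x y hx hy => rw [map_add, map_add, map_add, hx, hy]
    | tmul s b => simp
  have h2 : ∀ x : A' ⊗[A] B, TensorProduct.assoc A A' A' B (TensorProduct.map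
      (Algebra.TensorProduct.includeRight : A' →ₐ[A] A' ⊗[A] A').toLinearMap LinearMap.id x) =
      (1 : A') ⊗ₜ[A] x := by
    intro x
    induction x using TensorProduct.induction_on with
    | zero => simp
    | add x y hx hy => rw [map_add, map_add, tmul_add, hx, hy]
    | tmul s b => simp
  rw [← h1, ← h2, h]

end descent


section stepZ
variable {A : Type u} [CommRing A] {C : Type u} [CommRing C] [HopfAlgebra A C]
  {A' : Type u} [CommRing A'] [Algebra A A'] {B : Type u} [CommRing B] [HopfAlgebra A B]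
  {M : Type u} [CommGroup M] (e : A' ⊗[A] B ≃ₐc[A'] MonoidAlgebra A' M)
  {T : Type u} [CommRing T] [Algebra A T]

/-- the chart attached to a trivialisation -/
noncomputable def LB : B →ₐ[A] MonoidAlgebra A' M :=
  ((e : A' ⊗[A] B →ₐ[A'] MonoidAlgebra A' M).restrictScalars A).comp
    Algebra.TensorProduct.includeRight

lemma LB_apply (b : B) : LB e b = e ((1 : A') ⊗ₜ[A] b) := rfl

lemma LB_coalg : IsCoalgMapOver A' (LB e).toLinearMap :=
  IsCoalgMapOver.comp (S₂ := A')
    (isCoalgMapOver_of_coalgHom (e : A' ⊗[A] B →ₗc[A'] MonoidAlgebra A' M))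
    (isCoalgMapOver_inc (R := A) A' B)

lemma LB_bc : IsBaseChange A' (LB e).toLinearMap :=
  (TensorProduct.isBaseChange A B A').comp (IsBaseChange.ofEquiv e.toLinearEquiv)

variable (g : A' →ₐ[A] T)

/-- the chart over `T` induced along `g : A' → T` -/
noncomputable def LT : B →ₐ[A] MonoidAlgebra T M := (MonoidAlgebra.mapAlgHom M g).comp (LB e)

lemma LT_coalg_bc : IsCoalgMapOver T (LT e g).toLinearMap ∧ IsBaseChange T (LT e g).toLinearMap := by
  letI : Algebra A' T := g.toRingHom.toAlgebra
  haveI : IsScalarTower A A' T := IsScalarTower.of_algebraMap_eq fun a => (g.commutes a).symm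
  have hl : (LT e g).toLinearMap =
      (((mapCoeff (S := A') (S' := T) M).restrictScalars A).comp (LB e)).toLinearMap :=
    LinearMap.ext fun b => rfl
  rw [hl]
  refine ⟨IsCoalgMapOver.comp (isCoalgMapOver_mapCoeff M) (LB_coalg e), ?_⟩
  have h0 := (LB_bc e).comp (isBaseChange_mapCoeff (S := A') (S' := T) M)
  exact h0

variable (LT' : B →ₐ[A] MonoidAlgebra T M)

/-- `s ⊗ b ↦ g s • LT' b` -/
noncomputable def Lam : A' ⊗[A] B →ₐ[A] MonoidAlgebra T M :=
  Algebra.TensorProduct.lift
    (((Algebra.ofId T (MonoidAlgebra T M)).restrictScalars A).comp g) LT'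
    (fun _ _ => Commute.all _ _)

lemma Lam_tmul (s : A') (b : B) : Lam g LT' (s ⊗ₜ[A] b) = g s • LT' b := by
  simp [Lam, Algebra.ofId_apply, Algebra.smul_def]

/-- the composite `C → A'[M] ≅ A' ⊗ B → T[M]` is a coalgebra map over `T` -/
theorem isCoalgMapOver_Lam_comp (hLT' : IsCoalgMapOver T LT'.toLinearMap)
    (Φ : C →ₐ[A] MonoidAlgebra A' M) (hΦ : IsCoalgMapOver A' Φ.toLinearMap) :
    IsCoalgMapOver T ((Lam g LT').comp
      (((e.symm : MonoidAlgebra A' M →ₐ[A'] A' ⊗[A] B).restrictScalars A).comp Φ)).toLinearMap := by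
  letI : Algebra A' T := g.toRingHom.toAlgebra
  haveI : IsScalarTower A A' T := IsScalarTower.of_algebraMap_eq fun a => (g.commutes a).symm
  have h1 := isCoalgMapOver_liftAlg (K := T) (B := MonoidAlgebra T M) A' hLT'
  have h2 : IsCoalgMapOver A'
      ((e.symm : MonoidAlgebra A' M →ₗc[A'] A' ⊗[A] B) : MonoidAlgebra A' M →ₗ[A'] A' ⊗[A] B) :=
    isCoalgMapOver_of_coalgHom (e.symm : MonoidAlgebra A' M →ₗc[A'] A' ⊗[A] B)
  have h3 := IsCoalgMapOver.comp (S₂ := T) h1 (IsCoalgMapOver.comp (S₂ := A') h2 hΦ)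
  have hfun : ∀ x : A' ⊗[A] B, Lam g LT' x = liftAlg A' LT' x := by
    intro x
    induction x using TensorProduct.induction_on with
    | zero => simp
    | add x y hx hy => rw [map_add, map_add, hx, hy]
    | tmul s b =>
      rw [Lam_tmul, liftAlg_tmul]
      rfl
  have hl : ((Lam g LT').comp
      (((e.symm : MonoidAlgebra A' M →ₐ[A'] A' ⊗[A] B).restrictScalars A).comp Φ)).toLinearMap =
      ((liftAlg A' LT').toLinearMap.restrictScalars A) ∘ₗ
        ((((e.symm : MonoidAlgebra A' M →ₗc[A'] A' ⊗[A] B) :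
          MonoidAlgebra A' M →ₗ[A'] A' ⊗[A] B).restrictScalars A) ∘ₗ Φ.toLinearMap) :=
    LinearMap.ext fun c => hfun _
  rw [hl]
  exact h3

end stepZ

section selfbc
variable {S : Type*} [CommRing S] {N N' : Type*} [AddCommGroup N] [Module S N] [AddCommGroup N']
  [Module S N']

lemma injective_of_isBaseChange_self {f : N →ₗ[S] N'} (hbc : IsBaseChange S f) :
    Function.Injective f := by
  have h1 : ∀ b, f b = hbc.equiv ((TensorProduct.lid S N).symm b) := by
    intro b
    rw [TensorProduct.lid_symm_apply, IsBaseChange.equiv_tmul, one_smul]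
  have h2 : (f : N → N') = hbc.equiv ∘ (TensorProduct.lid S N).symm := funext h1
  rw [h2]
  exact hbc.equiv.injective.comp (TensorProduct.lid S N).symm.injective

end selfbc

section stepZ2
variable {A : Type u} [CommRing A] [IsNoetherianRing A] {C : Type u} [CommRing C] [HopfAlgebra A C]
  {A' : Type u} [CommRing A'] [Algebra A A'] {B : Type u} [CommRing B] [HopfAlgebra A B]
  {M : Type u} [CommGroup M] (e : A' ⊗[A] B ≃ₐc[A'] MonoidAlgebra A' M)
  {T : Type u} [CommRing T] [Algebra A T] [Module.Finite A T]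
  (I : Ideal A)

/-- rigidity for homomorphisms into an isotrivial group, in the form needed for descent -/
theorem map_eq_map_of_mod (hI : I ≤ Ideal.jacobson ⊥)
    (hcocomm : ∀ n, Coalgebra.IsCocomm (A ⧸ I ^ (n + 1)) ((A ⧸ I ^ (n + 1)) ⊗[A] C))
    (g₁ g₂ : A' →ₐ[A] T)
    (Φ : C →ₐ[A] MonoidAlgebra A' M) (hΦ : IsCoalgMapOver A' Φ.toLinearMap)
    (hmod : ∀ c, ∃ b : B, ∀ m, (Φ c).coeff m - (LB e b).coeff m ∈ I.map (algebraMap A A'))
    (c : C) :
    TensorProduct.map g₁.toLinearMap (LinearMap.id : B →ₗ[A] B) (e.symm (Φ c)) =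
      TensorProduct.map g₂.toLinearMap (LinearMap.id : B →ₗ[A] B) (e.symm (Φ c)) := by
  obtain ⟨hLTco, hLTbc⟩ := LT_coalg_bc e g₂
  have hεbc := isBaseChange_liftAlg (K := T) (B := MonoidAlgebra T M) T hLTbc
  have hinj : Function.Injective (liftAlg T (LT e g₂)) := injective_of_isBaseChange_self hεbc
  have key : ∀ (g : A' →ₐ[A] T) (x : A' ⊗[A] B),
      liftAlg T (LT e g₂) (TensorProduct.map g.toLinearMap (LinearMap.id : B →ₗ[A] B) x) =
        Lam g (LT e g₂) x := by
    intro g x
    induction x using TensorProduct.induction_on with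
    | zero => simp
    | add x y hx hy => rw [map_add, map_add, map_add, hx, hy]
    | tmul s b =>
      rw [TensorProduct.map_tmul, LinearMap.id_apply, AlgHom.toLinearMap_apply, liftAlg_tmul,
        Lam_tmul]
  apply hinj
  rw [key, key]
  have hψ₁ := isCoalgMapOver_Lam_comp e g₁ (LT e g₂) hLTco Φ hΦ
  have hψ₂ := isCoalgMapOver_Lam_comp e g₂ (LT e g₂) hLTco Φ hΦ
  have hbase : ∀ c m,
      (((Lam g₁ (LT e g₂)).comp
        (((e.symm : MonoidAlgebra A' M →ₐ[A'] A' ⊗[A] B).restrictScalars A).comp Φ)) c).coeff m -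
      (((Lam g₂ (LT e g₂)).comp
        (((e.symm : MonoidAlgebra A' M →ₐ[A'] A' ⊗[A] B).restrictScalars A).comp Φ)) c).coeff m ∈
        I.map (algebraMap A T) := by
    intro c m
    obtain ⟨b, hb⟩ := hmod c
    have hr : Φ c - LB e b ∈ (I • ⊤ : Submodule A (MonoidAlgebra A' M)) := by
      apply mem_smul_top_of_coeff_mem
      intro ν
      rw [MonoidAlgebra.coeff_sub, Finsupp.sub_apply]
      exact hb ν
    have hx : e.symm (Φ c) = (1 : A') ⊗ₜ[A] b + e.symm (Φ c - LB e b) := by
      rw [map_sub, LB_apply, BialgEquiv.symm_apply_apply]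
      abel
    change (Lam g₁ (LT e g₂) (e.symm (Φ c))).coeff m - (Lam g₂ (LT e g₂) (e.symm (Φ c))).coeff m ∈ _
    rw [hx, map_add, map_add, Lam_tmul, Lam_tmul, map_one, map_one, one_smul,
      MonoidAlgebra.coeff_add, MonoidAlgebra.coeff_add, Finsupp.add_apply, Finsupp.add_apply,
      add_sub_add_left_eq_sub]
    let f₁ : MonoidAlgebra A' M →ₗ[A] MonoidAlgebra T M :=
      (Lam g₁ (LT e g₂)).toLinearMap ∘ₗ (e.symm.toLinearEquiv.toLinearMap.restrictScalars A)
    let f₂ : MonoidAlgebra A' M →ₗ[A] MonoidAlgebra T M :=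
      (Lam g₂ (LT e g₂)).toLinearMap ∘ₗ (e.symm.toLinearEquiv.toLinearMap.restrictScalars A)
    have h1 : f₁ (Φ c - LB e b) - f₂ (Φ c - LB e b) ∈
        (I • ⊤ : Submodule A (MonoidAlgebra T M)) :=
      Submodule.sub_mem _ (map_mem_smul_top_of_mem I f₁ hr) (map_mem_smul_top_of_mem I f₂ hr)
    have h2 := mem_map_of_mem_smul_top I ((coeffL m : MonoidAlgebra T M →ₗ[T] T).restrictScalars A) h1
    exact h2
  apply eq_of_forall_coeff_sub_mem_pow I hI
  intro n m
  cases n with
  | zero =>
    rw [pow_zero, Ideal.one_eq_top, Ideal.map_top]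
    trivial
  | succ n =>
    haveI := hcocomm n
    exact coeff_sub_mem_pow_of_isCocomm I (n + 1) _ _ hψ₁ hψ₂ hbase c m

end stepZ2

end Groth.Agent.H15.MTA
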