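import Groth.Agent.H15.Depth

/-!
# Commutative algebra for Cartier divisors on Noetherian integral schemes

* `depth_eq_one_of_mem`: a Noetherian local ring with a regular element `b ∈ m` such that `m` is
  associated to `R/bR` has depth one.
* `exists_prime_colon`: a Noetherian "maximal annihilator is prime" argument below a given prime.
-/

set_option autoImplicit false
universe u

open RingTheory.Sequence IsLocalRing

namespace Groth.Agent.H15.CDivAlg

open Groth.Agent.H15

theorem depth_eq_one_of_mem {R : Type u} [CommRing R] [IsLocalRing R] [IsNoetherianRing R]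
    (b c : R) (hb : b ∈ maximalIdeal R) (hreg : IsSMulRegular R b) (hc : c ∉ Ideal.span {b})
    (hm : ∀ t ∈ maximalIdeal R, t * c ∈ Ideal.span {b}) : LocCoh.depth R R = 1 := by
  have hne : maximalIdeal R • (⊤ : Submodule R R) ≠ ⊤ := by
    rw [Ideal.smul_top_eq_map, Algebra.algebraMap_self, Ideal.map_id]
    intro h
    have := congrArg (Submodule.restrictScalars R) h
    simp only [Submodule.restrictScalars_self] at this
    exact (maximalIdeal.isMaximal R).ne_top this
  apply le_antisymm
  · -- depth ≤ 1
    by_contra hcon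
    push Not at hcon
    have h2 : ((1 + 1 : ℕ) : ℕ∞) ≤ LocCoh.depth R R := by
      have : (1 : ℕ∞) + 1 ≤ LocCoh.depth R R := Order.add_one_le_of_lt hcon
      exact_mod_cast this
    have h1 := le_idealDepth_quotSMulTop (maximalIdeal R) R b hb hreg 1 h2
    have hne' := smul_top_quotSMulTop_ne_top (M := R) hb hne
    obtain ⟨rs, hlen, hmem, hrs⟩ :=
      exists_isRegular_of_le_idealDepth (maximalIdeal R) (QuotSMulTop b R) hne' 1 h1
    match rs, hlen with
    | [r], _ =>
      have hr : r ∈ maximalIdeal R := hmem r (by simp)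
      have hrreg : IsSMulRegular (QuotSMulTop b R) r := by
        have := hrs.toIsWeaklyRegular
        rw [isWeaklyRegular_cons_iff] at this
        exact this.1
      have hzero : r • (Submodule.Quotient.mk c : QuotSMulTop b R) = 0 := by
        rw [← Submodule.Quotient.mk_smul, Submodule.Quotient.mk_eq_zero]
        have := hm r hr
        rw [Ideal.mem_span_singleton'] at this
        obtain ⟨a, ha⟩ := this
        rw [Submodule.mem_smul_pointwise_iff_exists]
        exact ⟨a, Submodule.mem_top, by rw [smul_eq_mul, smul_eq_mul, mul_comm, ha]⟩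
      have hc0 : (Submodule.Quotient.mk c : QuotSMulTop b R) = 0 := by
        apply hrreg
        change r • (Submodule.Quotient.mk c : QuotSMulTop b R) = r • (0 : QuotSMulTop b R)
        rw [hzero, smul_zero]
      rw [Submodule.Quotient.mk_eq_zero, Submodule.mem_smul_pointwise_iff_exists] at hc0
      obtain ⟨a, -, ha⟩ := hc0
      apply hc
      rw [Ideal.mem_span_singleton']
      exact ⟨a, by rw [← ha, smul_eq_mul, mul_comm]⟩
  · have : IsWeaklyRegular R [b] := by
      rw [isWeaklyRegular_cons_iff]
      exact ⟨hreg, IsWeaklyRegular.nil _ _⟩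
    have := le_idealDepth (maximalIdeal R) R this (by simpa using hb)
    simpa [LocCoh.depth] using this

end Groth.Agent.H15.CDivAlg

namespace Groth.Agent.H15.CDivAlg

variable {A : Type*} [CommRing A]

/-- The ideal `{t | t * m ∈ I}`. -/
def colon (I : Ideal A) (m : A) : Ideal A where
  carrier := {t | t * m ∈ I}
  zero_mem' := by change (0 : A) * m ∈ I; rw [zero_mul]; exact I.zero_mem
  add_mem' := by
    intro x y hx hy
    change (x + y) * m ∈ I
    rw [add_mul]; exact I.add_mem hx hy
  smul_mem' := by
    intro r x hx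
    change (r * x) * m ∈ I
    rw [mul_assoc]; exact I.mul_mem_left r hx

theorem mem_colon {I : Ideal A} {m t : A} : t ∈ colon I m ↔ t * m ∈ I := Iff.rfl

theorem colon_le_colon_mul (I : Ideal A) (m s : A) : colon I m ≤ colon I (s * m) := by
  intro t ht
  rw [mem_colon] at ht ⊢
  rw [mul_left_comm]
  exact I.mul_mem_left s ht

/-- Below a prime `p` containing `colon I m`, some `colon I (c * m)` is prime. -/
theorem exists_prime_colon [IsNoetherianRing A] (I : Ideal A) (m : A) (p : Ideal A) [hp : p.IsPrime]
    (h : colon I m ≤ p) : ∃ c : A, (colon I (c * m)).IsPrime ∧ colon I (c * m) ≤ p := by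
  let S : Set (Ideal A) := {K | ∃ c : A, K = colon I (c * m) ∧ K ≤ p}
  have hS : S.Nonempty := ⟨colon I m, 1, by rw [one_mul], h⟩
  obtain ⟨K, ⟨c₀, rfl, hKp⟩, hmax⟩ := set_has_maximal_iff_noetherian.mpr
    (inferInstance : IsNoetherian A A) S hS
  refine ⟨c₀, ?_, hKp⟩
  have hmax' : ∀ c : A, colon I (c * m) ≤ p → colon I (c₀ * m) ≤ colon I (c * m) →
      colon I (c * m) = colon I (c₀ * m) := by
    intro c hcp hle
    by_contra hne
    exact hmax _ ⟨c, rfl, hcp⟩ (lt_of_le_of_ne hle (Ne.symm hne))
  constructor
  · intro htop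
    exact hp.ne_top (top_le_iff.mp (htop ▸ hKp))
  · intro x y hxy
    by_contra hcon
    push Not at hcon
    obtain ⟨hx, hy⟩ := hcon
    by_cases hcase : colon I (y * c₀ * m) ≤ p
    · have heq := hmax' (y * c₀) hcase (by rw [mul_assoc]; exact colon_le_colon_mul I _ y)
      apply hx
      rw [← heq, mem_colon]
      rw [mem_colon] at hxy
      convert hxy using 1
      ring
    · obtain ⟨s, hs, hsp⟩ := Set.not_subset.mp hcase
      have hcp : colon I (s * c₀ * m) ≤ p := by
        intro t ht
        rw [mem_colon] at ht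
        have : t * s ∈ colon I (c₀ * m) := by
          rw [mem_colon]; convert ht using 1; ring
        rcases hp.mem_or_mem (hKp this) with h1 | h1
        · exact h1
        · exact absurd h1 hsp
      have heq := hmax' (s * c₀) hcp (by rw [mul_assoc]; exact colon_le_colon_mul I _ s)
      apply hy
      rw [← heq, mem_colon]
      have : s * (y * c₀ * m) ∈ I := hs
      convert this using 1
      ring

end Groth.Agent.H15.CDivAlg

namespace Groth.Agent.H15.CDivAlg

/-- In a Noetherian domain `A` with fraction field `K`: if `f ∈ K` is not in `A_p`, then there is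
a prime `q ≤ p`, associated to `A/bA` for some `b ≠ 0`, such that `f` is not in `A_q`. -/
theorem exists_prime_not_mem {A K : Type*} [CommRing A] [IsDomain A] [IsNoetherianRing A] [Field K]
    [Algebra A K] [IsFractionRing A K] (p : Ideal A) [p.IsPrime] (f : K)
    (hf : ¬ ∃ a s : A, s ∉ p ∧ f * algebraMap A K s = algebraMap A K a) :
    ∃ (q : Ideal A) (b c : A), q.IsPrime ∧ q ≤ p ∧ b ≠ 0 ∧ q = colon (Ideal.span {b}) c ∧
      ¬ ∃ a s : A, s ∉ q ∧ f * algebraMap A K s = algebraMap A K a := by
  obtain ⟨a, b, hb, rfl⟩ := IsFractionRing.div_surjective (A := A) f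
  have hb0 : b ≠ 0 := nonZeroDivisors.ne_zero hb
  have hbK : algebraMap A K b ≠ 0 := by
    rw [Ne, map_eq_zero_iff _ (IsFractionRing.injective A K)]
    exact hb0
  have key : ∀ (s a' : A),
      algebraMap A K a / algebraMap A K b * algebraMap A K s = algebraMap A K a' →
      s ∈ colon (Ideal.span {b}) a := by
    intro s a' h
    rw [mem_colon, Ideal.mem_span_singleton']
    refine ⟨a', ?_⟩
    apply IsFractionRing.injective A K
    rw [map_mul, map_mul, ← h, div_mul_eq_mul_div, div_mul_cancel₀ _ hbK, mul_comm]
  have hJ : colon (Ideal.span {b}) a ≤ p := by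
    intro t ht
    by_contra htp
    rw [mem_colon, Ideal.mem_span_singleton'] at ht
    obtain ⟨a', ha'⟩ := ht
    apply hf
    refine ⟨a', t, htp, ?_⟩
    have : algebraMap A K a' * algebraMap A K b = algebraMap A K t * algebraMap A K a := by
      rw [← map_mul, ← map_mul, ha']
    rw [div_mul_eq_mul_div, div_eq_iff hbK, this, mul_comm]
  obtain ⟨c₀, hprime, hle⟩ := exists_prime_colon (Ideal.span {b}) a p hJ
  refine ⟨colon (Ideal.span {b}) (c₀ * a), b, c₀ * a, hprime, hle, hb0, rfl, ?_⟩
  rintro ⟨a', s, hs, h⟩
  exact hs (colon_le_colon_mul _ a c₀ (key s a' h))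

end Groth.Agent.H15.CDivAlg

namespace Groth.Agent.H15.CDivAlg

/-- The localization of a Noetherian domain at a prime associated to `A/bA` (`b ≠ 0`) has depth one. -/
theorem depth_eq_one_of_colon {A : Type*} [CommRing A] [IsDomain A] (q : Ideal A) [q.IsPrime]
    (S : Type u) [CommRing S] [Algebra A S] [IsLocalization.AtPrime S q] [hS : IsLocalRing S]
    [IsNoetherianRing S] [IsDomain S] (b c : A) (hb : b ≠ 0)
    (hq : q = colon (Ideal.span {b}) c) : LocCoh.depth S S = 1 := by
  have hinj : Function.Injective (algebraMap A S) :=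
    IsLocalization.injective S (q.primeCompl_le_nonZeroDivisors)
  have hbq : b ∈ q := by
    rw [hq, mem_colon]
    exact Ideal.mul_mem_right _ _ (Ideal.mem_span_singleton_self b)
  apply depth_eq_one_of_mem (algebraMap A S b) (algebraMap A S c)
  · exact (IsLocalization.AtPrime.to_map_mem_maximal_iff S q b hS).mpr hbq
  · have hne : algebraMap A S b ≠ 0 := by
      rw [Ne, map_eq_zero_iff _ hinj]; exact hb
    exact (IsRegular.of_ne_zero hne).left.isSMulRegular
  · intro hmem
    rw [Ideal.mem_span_singleton'] at hmem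
    obtain ⟨o, ho⟩ := hmem
    obtain ⟨a', s, rfl⟩ := IsLocalization.exists_mk'_eq q.primeCompl o
    have h1 : algebraMap A S (a' * b) = algebraMap A S (c * s) := by
      rw [map_mul, map_mul, ← ho, mul_right_comm, IsLocalization.mk'_spec]
    have h2 := hinj h1
    apply s.2
    change (s : A) ∈ q
    have : (s : A) ∈ colon (Ideal.span {b}) c := by
      rw [mem_colon, Ideal.mem_span_singleton']
      exact ⟨a', by rw [h2, mul_comm]⟩
    exact (Ideal.ext_iff.mp hq _).mpr this
  · intro t ht
    obtain ⟨a', s, rfl⟩ := IsLocalization.exists_mk'_eq q.primeCompl t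
    rw [IsLocalization.AtPrime.mk'_mem_maximal_iff S q a' s hS] at ht
    have ht' : a' ∈ colon (Ideal.span {b}) c := (Ideal.ext_iff.mp hq _).mp ht
    rw [mem_colon, Ideal.mem_span_singleton'] at ht'
    obtain ⟨d, hd⟩ := ht'
    rw [Ideal.mem_span_singleton']
    refine ⟨IsLocalization.mk' S d s, ?_⟩
    apply (IsLocalization.map_units S s).mul_left_inj.mp
    rw [mul_right_comm, IsLocalization.mk'_spec, mul_right_comm (IsLocalization.mk' S a' s),
      IsLocalization.mk'_spec, ← map_mul, ← map_mul, hd]

end Groth.Agent.H15.CDivAlg
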