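import Groth.Prelude.Def_CDiv
import Groth.Agent.H15.CDivAlg
import Mathlib.AlgebraicGeometry.Noetherian

/-!
# Cartier divisors on integral schemes: basic translation layer
-/

set_option autoImplicit false
set_option linter.style.haveILetI false
universe u

open CategoryTheory AlgebraicGeometry TopologicalSpace

namespace Groth.Agent.H15.CDivB

variable {X : Scheme.{u}} [IsIntegral X]

/-- The subring of the function field of functions regular at `x`. -/
noncomputable def R (X : Scheme.{u}) [IsIntegral X] (x : X) : Subring X.functionField :=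
  (algebraMap (X.presheaf.stalk x) X.functionField).range

theorem algebraMap_injective (x : X) :
    Function.Injective (algebraMap (X.presheaf.stalk x) X.functionField) :=
  IsFractionRing.injective _ _

theorem algebraMap_stalkSpecializes {x z : X} (h : z ⤳ x) (o : X.presheaf.stalk x) :
    algebraMap (X.presheaf.stalk z) X.functionField ((X.presheaf.stalkSpecializes h).hom o) =
      algebraMap (X.presheaf.stalk x) X.functionField o := by
  simp only [RingHom.algebraMap_toAlgebra]
  rw [← CommRingCat.comp_apply, TopCat.Presheaf.stalkSpecializes_comp]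

theorem R_mono {x z : X} (h : z ⤳ x) : R X x ≤ R X z := by
  rintro _ ⟨o, rfl⟩
  exact ⟨(X.presheaf.stalkSpecializes h).hom o, algebraMap_stalkSpecializes h o⟩

theorem mem_stalkUnits_iff (x : X) (u : CDiv.KUnits X) :
    u ∈ CDiv.stalkUnits X x ↔ (u : X.functionField) ∈ R X x ∧ ((u⁻¹ : CDiv.KUnits X) : X.functionField) ∈ R X x := by
  constructor
  · rintro ⟨v, rfl⟩
    exact ⟨⟨v, rfl⟩, ⟨((v⁻¹ : (X.presheaf.stalk x)ˣ) : X.presheaf.stalk x), by
      rw [← map_inv]; rfl⟩⟩
  · rintro ⟨⟨a, ha⟩, ⟨b, hb⟩⟩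
    have hab : a * b = 1 := by
      apply algebraMap_injective x
      rw [map_mul, ha, hb, map_one, ← Units.val_mul, mul_inv_cancel, Units.val_one]
    refine ⟨⟨a, b, hab, by rw [mul_comm]; exact hab⟩, ?_⟩
    apply Units.ext
    exact ha

theorem germOf_eq_germOf_iff (x : X) (f g : CDiv.KUnits X) :
    CDiv.germOf X x f = CDiv.germOf X x g ↔ f⁻¹ * g ∈ CDiv.stalkUnits X x :=
  QuotientGroup.eq

theorem germOf_eq_one_iff (x : X) (f : CDiv.KUnits X) :
    CDiv.germOf X x f = 1 ↔ f ∈ CDiv.stalkUnits X x :=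
  QuotientGroup.eq_one_iff f

/-- If `f` and `g` represent the same germ at `x` and `f` is regular at `x`, so is `g`. -/
theorem mem_R_of_germOf_eq (x : X) (f g : CDiv.KUnits X)
    (h : CDiv.germOf X x f = CDiv.germOf X x g) (hf : (f : X.functionField) ∈ R X x) :
    (g : X.functionField) ∈ R X x := by
  rw [germOf_eq_germOf_iff, mem_stalkUnits_iff] at h
  have : (g : X.functionField) = f * ((f⁻¹ * g : CDiv.KUnits X) : X.functionField) := by
    rw [← Units.val_mul, mul_inv_cancel_left]
  rw [this]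
  exact (R X x).mul_mem hf h.1

theorem isEffectiveAt_iff (D : CDiv.Divisor X) (x : X) (f : CDiv.KUnits X)
    (hf : D.1 x = CDiv.germOf X x f) :
    CDiv.IsEffectiveAt D x ↔ (f : X.functionField) ∈ R X x := by
  constructor
  · rintro ⟨a, ha, hD⟩
    rw [hf] at hD
    exact mem_R_of_germOf_eq x _ f hD.symm ⟨a, rfl⟩
  · rintro ⟨a, ha⟩
    have ha0 : algebraMap (X.presheaf.stalk x) X.functionField a ≠ 0 := by
      rw [ha]; exact f.ne_zero
    refine ⟨a, ha0, ?_⟩
    rw [hf]
    congr 1
    apply Units.ext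
    exact ha.symm

/-- A divisor is represented near `x` by a single function which also represents it at all
generizations of `x`. -/
theorem exists_rep (D : CDiv.Divisor X) (x : X) :
    ∃ f : CDiv.KUnits X, ∀ z : X, z ⤳ x → D.1 z = CDiv.germOf X z f := by
  obtain ⟨U, f, hxU, hU⟩ := D.2 x
  exact ⟨f, fun z hz => hU z (hz.mem_open U.isOpen hxU)⟩

end Groth.Agent.H15.CDivB

namespace Groth.Agent.H15.CDivB

variable {X : Scheme.{u}} [IsIntegral X]

theorem primeIdealOf_injective' {X : Scheme.{u}} {U : X.Opens} (hU : IsAffineOpen U) {x x' : U}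
    (h : hU.primeIdealOf x = hU.primeIdealOf x') : x = x' := by
  apply Subtype.ext
  rw [← hU.fromSpec_primeIdealOf x, ← hU.fromSpec_primeIdealOf x', h]

theorem fromSpec_mem' {X : Scheme.{u}} {U : X.Opens} (hU : IsAffineOpen U)
    (q : PrimeSpectrum Γ(X, U)) : hU.fromSpec q ∈ U := by
  have : hU.fromSpec q ∈ Set.range hU.fromSpec := ⟨q, rfl⟩
  rw [hU.range_fromSpec] at this
  exact this

theorem primeIdealOf_fromSpec' {X : Scheme.{u}} {U : X.Opens} (hU : IsAffineOpen U)
    (q : PrimeSpectrum Γ(X, U)) :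
    hU.primeIdealOf ⟨hU.fromSpec q, fromSpec_mem' hU q⟩ = q := by
  have h1 : hU.fromSpec (hU.primeIdealOf ⟨hU.fromSpec q, fromSpec_mem' hU q⟩) = hU.fromSpec q :=
    hU.fromSpec_primeIdealOf _
  exact (hU.fromSpec.isOpenEmbedding).injective h1

/-- Chart description of the functions regular at a point of an affine open. -/
theorem mem_R_iff_chart {U : X.Opens} (hU : IsAffineOpen U) (x : X) (hx : x ∈ U)
    (f : X.functionField) :
    haveI : Nonempty U := ⟨⟨x, hx⟩⟩
    f ∈ R X x ↔ ∃ a s : Γ(X, U), s ∉ (hU.primeIdealOf ⟨x, hx⟩).asIdeal ∧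
      f * algebraMap Γ(X, U) X.functionField s = algebraMap Γ(X, U) X.functionField a := by
  haveI : Nonempty U := ⟨⟨x, hx⟩⟩
  letI := TopCat.Presheaf.algebra_section_stalk X.presheaf (⟨x, hx⟩ : U)
  haveI := hU.isLocalization_stalk ⟨x, hx⟩
  haveI := functionField_isScalarTower X U ⟨x, hx⟩
  haveI := functionField_isFractionRing_of_isAffineOpen X U hU
  constructor
  · rintro ⟨o, rfl⟩
    obtain ⟨a, s, rfl⟩ := IsLocalization.exists_mk'_eq
      (hU.primeIdealOf ⟨x, hx⟩).asIdeal.primeCompl o
    refine ⟨a, s, s.2, ?_⟩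
    rw [IsScalarTower.algebraMap_apply Γ(X, U) (X.presheaf.stalk x) X.functionField,
      IsScalarTower.algebraMap_apply Γ(X, U) (X.presheaf.stalk x) X.functionField, ← map_mul,
      IsLocalization.mk'_spec]
  · rintro ⟨a, s, hs, h⟩
    refine ⟨IsLocalization.mk' (X.presheaf.stalk x) a
      (⟨s, hs⟩ : (hU.primeIdealOf ⟨x, hx⟩).asIdeal.primeCompl), ?_⟩
    have hs0 : algebraMap Γ(X, U) X.functionField s ≠ 0 := by
      rw [Ne, map_eq_zero_iff _ (IsFractionRing.injective Γ(X, U) X.functionField)]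
      rintro rfl
      exact hs (Ideal.zero_mem _)
    apply mul_right_cancel₀ hs0
    rw [h, IsScalarTower.algebraMap_apply Γ(X, U) (X.presheaf.stalk x) X.functionField s,
      ← map_mul]
    rw [show IsLocalization.mk' (X.presheaf.stalk x) a
        (⟨s, hs⟩ : (hU.primeIdealOf ⟨x, hx⟩).asIdeal.primeCompl) *
        algebraMap Γ(X, U) (X.presheaf.stalk x) s = algebraMap Γ(X, U) (X.presheaf.stalk x) a from
      IsLocalization.mk'_spec _ a ⟨s, hs⟩]
    rw [← IsScalarTower.algebraMap_apply]

end Groth.Agent.H15.CDivB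

namespace Groth.Agent.H15.CDivB

variable {X : Scheme.{u}} [IsIntegral X]

/-- **Key lemma**: on a locally Noetherian integral scheme, a rational function which is regular at
all generizations `z` of `x` with `depth O_z = 1` is regular at `x`. -/
theorem mem_R_of_forall_depth_one [IsLocallyNoetherian X] (x : X) (f : X.functionField)
    (h : ∀ z : X, z ⤳ x →
      LocCoh.depth (X.presheaf.stalk z) (X.presheaf.stalk z) = 1 → f ∈ R X z) :
    f ∈ R X x := by
  by_contra hf
  obtain ⟨_, ⟨U, hU : IsAffineOpen U, rfl⟩, hxU, -⟩ :=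
    X.isBasis_affineOpens.exists_subset_of_mem_open (Set.mem_univ x) isOpen_univ
  haveI : Nonempty U := ⟨⟨x, hxU⟩⟩
  haveI := functionField_isFractionRing_of_isAffineOpen X U hU
  haveI : IsNoetherianRing Γ(X, U) := IsLocallyNoetherian.component_noetherian ⟨U, hU⟩
  rw [mem_R_iff_chart hU x hxU] at hf
  obtain ⟨q, b, c, hqprime, hqp, hb, hq, hfq⟩ :=
    CDivAlg.exists_prime_not_mem (K := X.functionField) (hU.primeIdealOf ⟨x, hxU⟩).asIdeal f hf
  let qq : PrimeSpectrum Γ(X, U) := ⟨q, hqprime⟩
  let z : X := hU.fromSpec qq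
  have hzU : z ∈ U := fromSpec_mem' hU qq
  have hzq : hU.primeIdealOf ⟨z, hzU⟩ = qq := primeIdealOf_fromSpec' hU qq
  have hzx : z ⤳ x := by
    have h1 : qq ⤳ hU.primeIdealOf ⟨x, hxU⟩ := (PrimeSpectrum.le_iff_specializes _ _).mp hqp
    have h2 := h1.map hU.fromSpec.continuous
    rwa [hU.fromSpec_primeIdealOf ⟨x, hxU⟩] at h2
  have hdepth : LocCoh.depth (X.presheaf.stalk z) (X.presheaf.stalk z) = 1 := by
    letI := TopCat.Presheaf.algebra_section_stalk X.presheaf (⟨z, hzU⟩ : U)
    haveI : IsLocalization.AtPrime (X.presheaf.stalk z) q := by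
      have := hU.isLocalization_stalk ⟨z, hzU⟩
      rwa [hzq] at this
    exact CDivAlg.depth_eq_one_of_colon q (X.presheaf.stalk z) b c hb hq
  have hfz := h z hzx hdepth
  rw [mem_R_iff_chart hU z hzU, hzq] at hfz
  exact hfq hfz

end Groth.Agent.H15.CDivB
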