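import Groth.Agent.H15.CDivBasic
import Groth.Agent.H15.CDivNormal
import Groth.Prelude.Def_Pi1
import Mathlib.AlgebraicGeometry.OrderOfVanishing
import Mathlib.RingTheory.Valuation.Discrete.IsDiscreteValuationRing

/-!
# Cartier divisors on normal locally Noetherian integral schemes: orders of vanishing
-/

set_option autoImplicit false
set_option linter.style.haveILetI false
universe u

open CategoryTheory AlgebraicGeometry TopologicalSpace

namespace Groth.Agent.H15.CDivB

variable {X : Scheme.{u}} [IsIntegral X] [IsLocallyNoetherian X]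

theorem isDVR_of_depth_one (hX : Pi1.IsNormalScheme X) (x : X)
    (hd : LocCoh.depth (X.presheaf.stalk x) (X.presheaf.stalk x) = 1) :
    IsDiscreteValuationRing (X.presheaf.stalk x) := by
  haveI := (hX x).2
  exact CDivAlg.isDiscreteValuationRing_of_depth_eq_one hd

omit [IsLocallyNoetherian X] in
theorem coheight_eq_one_of_isDVR (x : X) [IsDiscreteValuationRing (X.presheaf.stalk x)] :
    Order.coheight x = 1 := by
  have h1 := IsDiscreteValuationRing.ringKrullDim_eq_one (X.presheaf.stalk x)
  rw [ringKrullDim_stalk_eq_coheight] at h1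
  exact_mod_cast h1

theorem ordHom_eq (x : X) (hx : Order.coheight x = 1) :
    haveI : Ring.KrullDimLE 1 (X.presheaf.stalk x) := krullDimLE_of_coheight_le hx.le
    X.ordHom x hx = Ring.ordFrac (X.presheaf.stalk x) := rfl

theorem mem_R_of_ord_nonneg (x : X) [IsDiscreteValuationRing (X.presheaf.stalk x)]
    (hx : Order.coheight x = 1) (f : X.functionField) (hf : f ≠ 0)
    (h : 0 ≤ Scheme.ord f x) : f ∈ R X x := by
  rw [Scheme.le_ord_iff hx hf] at h
  haveI : Ring.KrullDimLE 1 (X.presheaf.stalk x) := krullDimLE_of_coheight_le hx.le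
  change _ ≤ Ring.ordFrac (X.presheaf.stalk x) f at h
  rw [Ring.ordFrac_eq_valuation_inv] at h
  have hv0 : (IsDiscreteValuationRing.maximalIdeal (X.presheaf.stalk x)).valuation
      X.functionField f ≠ 0 := by
    rwa [Ne, Valuation.zero_iff]
  have hle : (IsDiscreteValuationRing.maximalIdeal (X.presheaf.stalk x)).valuation
      X.functionField f ≤ 1 := by
    have h' : (1 : WithZero (Multiplicative ℤ)) ≤
        ((IsDiscreteValuationRing.maximalIdeal (X.presheaf.stalk x)).valuation
          X.functionField f)⁻¹ := by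
      simpa using h
    exact (one_le_inv₀ (zero_lt_iff.mpr hv0)).mp h'
  obtain ⟨a, ha⟩ := IsDiscreteValuationRing.exists_lift_of_le_one hle
  exact ⟨a, ha⟩

theorem ord_nonneg_of_mem_R (x : X) (hx : Order.coheight x = 1) (f : X.functionField)
    (hf : f ≠ 0) (h : f ∈ R X x) : 0 ≤ Scheme.ord f x := by
  rw [Scheme.le_ord_iff hx hf]
  haveI : Ring.KrullDimLE 1 (X.presheaf.stalk x) := krullDimLE_of_coheight_le hx.le
  change _ ≤ Ring.ordFrac (X.presheaf.stalk x) f
  obtain ⟨a, rfl⟩ := h
  have ha : a ≠ 0 := by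
    rintro rfl
    exact hf (map_zero _)
  simpa using Ring.ordFrac_ge_one_of_ne_zero (K := X.functionField) ha

theorem mem_stalkUnits_of_ord_eq_zero (x : X) [IsDiscreteValuationRing (X.presheaf.stalk x)]
    (hx : Order.coheight x = 1) (f : CDiv.KUnits X)
    (h : Scheme.ord (f : X.functionField) x = 0) : f ∈ CDiv.stalkUnits X x := by
  rw [Scheme.ord_eq_iff hx f.ne_zero] at h
  haveI : Ring.KrullDimLE 1 (X.presheaf.stalk x) := krullDimLE_of_coheight_le hx.le
  change Ring.ordFrac (X.presheaf.stalk x) (f : X.functionField) = _ at h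
  have hmem : (f : X.functionField) ∈ MonoidHom.mker (Ring.ordFrac (X.presheaf.stalk x)
      (K := X.functionField)) := by
    rw [MonoidHom.mem_mker, h]
    rfl
  rw [Ring.mker_ordFrac_eq_isUnitSubmonoid] at hmem
  obtain ⟨a, ha, haf⟩ := hmem
  have hau : IsUnit a := ha
  refine ⟨hau.unit, ?_⟩
  apply Units.ext
  exact haf

end Groth.Agent.H15.CDivB
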