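import Groth.Agent.H15.Conv
import Groth.Prelude.Def_LieHopf
import Mathlib.RingTheory.HopfAlgebra.Convolution
import Mathlib.Tactic.NoncommRing

set_option autoImplicit false
universe u
open TensorProduct WithConv

namespace Groth.Agent.H15

/-- A commutator identity in an algebra, for elements scaled by square-zero scalars. -/
theorem comm_calc {R 𝒜 : Type*} [CommRing R] [Ring 𝒜] [Algebra R 𝒜] (t t' : R)
    (ht : t * t = 0) (ht' : t' * t' = 0) (d e : 𝒜) :
    (1 + t • d) * (1 + t' • e) * (1 - t • d) * (1 - t' • e) = 1 + (t * t') • (d * e - e * d) := by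
  set u := t • d with hu
  set v := t' • e with hv
  have huu : ∀ z : 𝒜, u * z * u = 0 := by
    intro z
    rw [hu, smul_mul_assoc, smul_mul_assoc, mul_smul_comm, smul_smul, ht, zero_smul]
  have hvv : ∀ z : 𝒜, v * z * v = 0 := by
    intro z
    rw [hv, smul_mul_assoc, smul_mul_assoc, mul_smul_comm, smul_smul, ht', zero_smul]
  have hu2 : u * u = 0 := by simpa using huu 1
  have hv2 : v * v = 0 := by simpa using hvv 1
  have e1 : (1 + u) * (1 + v) * (1 - u) = 1 + v + u * v - v * u + (-(u * u) - u * v * u) := by
    noncomm_ring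
  have e2 : (1 + v + u * v - v * u) * (1 - v) =
      1 + u * v - v * u + (-(v * v) - u * (v * v) + v * u * v) := by
    noncomm_ring
  rw [e1, hu2, huu, neg_zero, sub_zero, add_zero, e2, hv2, hvv, mul_zero, neg_zero, sub_zero,
    add_zero, add_zero]
  have : u * v - v * u = (t * t') • (d * e - e * d) := by
    rw [hu, hv, smul_mul_assoc, mul_smul_comm, smul_mul_assoc, mul_smul_comm, smul_smul, smul_smul,
      smul_sub, mul_comm t' t]
  rw [← this]
  abel

variable (k : Type u) [CommRing k] (A : Type u) [CommRing A] [HopfAlgebra k A]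

/-- The linear map underlying an ε-derivation, with values in a `k`-algebra `R`. -/
noncomputable def dR (D : LieHopf.Lie k A) (R : Type u) [CommRing R] [Algebra k R] :
    WithConv (A →ₗ[k] R) :=
  toConv ((Algebra.linearMap k R) ∘ₗ LieHopf.dlin D)

theorem ptOfLie_toLinearMap (D : LieHopf.Lie k A) (R : Type u) [CommRing R] [Algebra k R] (t : R)
    (ht : t * t = 0) :
    toConv (LieHopf.ptOfLie D R t ht).toLinearMap = 1 + t • dR k A D R := by
  apply WithConv.ext
  ext a
  simp [dR, LieHopf.ptOfLie, mul_comm]

theorem ptOfLie_inv_toLinearMap (D : LieHopf.Lie k A) (R : Type u) [CommRing R] [Algebra k R] (t : R)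
    (ht : t * t = 0) :
    toConv ((LieHopf.ptOfLie D R t ht).comp (HopfAlgebra.antipodeAlgHom k A)).toLinearMap
      = 1 - t • dR k A D R := by
  have h0 := LinearMap.algHom_comp_convMul_distrib (R := k) (C := A) (LieHopf.ptOfLie D R t ht)
    (toConv LinearMap.id) (toConv (HopfAlgebra.antipode k (A := A)))
  rw [LinearMap.id_mul_antipode] at h0
  have h2 : (1 + t • dR k A D R) *
      toConv ((LieHopf.ptOfLie D R t ht).comp (HopfAlgebra.antipodeAlgHom k A)).toLinearMap = 1 := by
    rw [← ptOfLie_toLinearMap k A D R t ht]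
    apply WithConv.ofConv_injective
    have e1 : (toConv (LieHopf.ptOfLie D R t ht).toLinearMap *
        toConv ((LieHopf.ptOfLie D R t ht).comp (HopfAlgebra.antipodeAlgHom k A)).toLinearMap).ofConv
        = (toConv ((LieHopf.ptOfLie D R t ht).toLinearMap ∘ₗ (toConv LinearMap.id).ofConv) *
        toConv ((LieHopf.ptOfLie D R t ht).toLinearMap ∘ₗ
          (toConv (HopfAlgebra.antipode k (A := A))).ofConv)).ofConv := rfl
    rw [e1, ← h0]
    ext a
    simp [LinearMap.convOne_def]
  -- uniqueness of inverses
  have h3 : (1 - t • dR k A D R) * (1 + t • dR k A D R) = 1 := by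
    have : (t • dR k A D R) * (t • dR k A D R) = 0 := by
      rw [smul_mul_assoc, mul_smul_comm, smul_smul, ht, zero_smul]
    generalize t • dR k A D R = w at this
    have e : (1 - w) * (1 + w) = 1 - w * w := by noncomm_ring
    rw [e, this, sub_zero]
  calc toConv ((LieHopf.ptOfLie D R t ht).comp (HopfAlgebra.antipodeAlgHom k A)).toLinearMap
      = 1 * toConv ((LieHopf.ptOfLie D R t ht).comp (HopfAlgebra.antipodeAlgHom k A)).toLinearMap :=
        (one_mul _).symm
    _ = (1 - t • dR k A D R) * ((1 + t • dR k A D R) *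
          toConv ((LieHopf.ptOfLie D R t ht).comp (HopfAlgebra.antipodeAlgHom k A)).toLinearMap) := by
        rw [← mul_assoc, h3]
    _ = 1 - t • dR k A D R := by rw [h2, mul_one]

theorem dR_mul_apply (D E : LieHopf.Lie k A) (R : Type u) [CommRing R] [Algebra k R] (a : A) :
    (dR k A D R * dR k A E R) a =
      algebraMap k R (LieHopf.conv (LieHopf.dlin D) (LieHopf.dlin E) a) := by
  have h := LinearMap.algHom_comp_convMul_distrib (R := k) (C := A) (Algebra.ofId k R)
    (toConv (LieHopf.dlin D)) (toConv (LieHopf.dlin E))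
  have h' := congrArg (fun f : A →ₗ[k] R => f a) h
  simp only [LinearMap.comp_apply] at h'
  exact h'.symm

end Groth.Agent.H15
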