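import Groth.Prelude.Def_Dyn
import Groth.Prelude.Def_Lie2

set_option autoImplicit false
universe u
open TensorProduct

namespace Groth.Agent.H15

variable (k : Type u) [CommRing k] (A : Type u) [CommRing A] [HopfAlgebra k A]

/-- The convolution product of two points (algebra maps into a commutative algebra). -/
noncomputable def conv2 {C : Type u} [CommRing C] [Algebra k C] (f g : A →ₐ[k] C) : A →ₐ[k] C :=
  (Algebra.TensorProduct.lmul' (S := C) k).comp
    ((Algebra.TensorProduct.map f g).comp (Bialgebra.comulAlgHom k A))

/-- The unit point. -/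
noncomputable def unitPt (C : Type u) [CommRing C] [Algebra k C] : A →ₐ[k] C :=
  (Algebra.ofId k C).comp (Bialgebra.counitAlgHom k A)

theorem conv3_eq_conv2 {C : Type u} [CommRing C] [Algebra k C] (f g h : A →ₐ[k] C) :
    Dyn.conv3 k A f g h = conv2 k A (conv2 k A f g) h := by
  unfold Dyn.conv3 conv2
  congr 1
  rw [← AlgHom.comp_assoc]
  congr 1
  ext x <;> simp

theorem conv2_apply {C : Type u} [CommRing C] [Algebra k C] (f g : A →ₐ[k] C) (a : A) :
    conv2 k A f g a = Algebra.TensorProduct.lmul' (S := C) k
      (Algebra.TensorProduct.map f g (CoalgebraStruct.comul (R := k) a)) := rfl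

theorem conv2_unit_right {C : Type u} [CommRing C] [Algebra k C] (f : A →ₐ[k] C) :
    conv2 k A f (unitPt k A C) = f := by
  ext a
  rw [conv2_apply]
  have key : ∀ t : A ⊗[k] A, Algebra.TensorProduct.lmul' (S := C) k
      (Algebra.TensorProduct.map f (unitPt k A C) t) =
      f (TensorProduct.rid k A ((CoalgebraStruct.counit (R := k) (A := A)).lTensor A t)) := by
    intro t
    induction t using TensorProduct.induction_on with
    | zero => simp
    | tmul x y =>
      simp [unitPt, Algebra.ofId_apply, Algebra.smul_def, mul_comm]
    | add x y hx hy => simp only [map_add, hx, hy]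
  rw [key, Coalgebra.lTensor_counit_comul]
  simp

theorem conv2_unit_left {C : Type u} [CommRing C] [Algebra k C] (f : A →ₐ[k] C) :
    conv2 k A (unitPt k A C) f = f := by
  ext a
  rw [conv2_apply]
  have key : ∀ t : A ⊗[k] A, Algebra.TensorProduct.lmul' (S := C) k
      (Algebra.TensorProduct.map (unitPt k A C) f t) =
      f (TensorProduct.lid k A ((CoalgebraStruct.counit (R := k) (A := A)).rTensor A t)) := by
    intro t
    induction t using TensorProduct.induction_on with
    | zero => simp
    | tmul x y =>
      simp [unitPt, Algebra.ofId_apply, Algebra.smul_def]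
    | add x y hx hy => simp only [map_add, hx, hy]
  rw [key, Coalgebra.rTensor_counit_comul]
  simp

end Groth.Agent.H15
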