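import Mathlib.RingTheory.DedekindDomain.Ideal.Basic

/-!
# A domain with prime factorisation of ideals is Dedekind

If every nonzero ideal of a domain `R` is a product of prime ideals then `R` is a Dedekind domain
(Matsumura, Theorem 11.6): invertible primes are maximal, every nonzero prime is invertible, hence
every nonzero (fractional) ideal is invertible.
-/

set_option autoImplicit false
set_option linter.unusedSectionVars false
universe u
open scoped nonZeroDivisors

namespace Groth.Agent.H15.DF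

section
variable {R : Type u} [CommRing R] [IsDomain R]

/-- invertibility of an integral ideal. -/
def Inv (I : Ideal R) : Prop := IsUnit (I : FractionalIdeal R⁰ (FractionRing R))

theorem inv_mul_iff (I J : Ideal R) : Inv (I * J) ↔ Inv I ∧ Inv J := by
  unfold Inv
  rw [FractionalIdeal.coeIdeal_mul, IsUnit.mul_iff]

theorem inv_top : Inv (⊤ : Ideal R) := by
  unfold Inv
  rw [FractionalIdeal.coeIdeal_top]
  exact isUnit_one

theorem inv_span_singleton {a : R} (ha : a ≠ 0) : Inv (Ideal.span {a}) := by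
  unfold Inv
  rw [FractionalIdeal.coeIdeal_span_singleton]
  refine IsUnit.of_mul_eq_one
    (FractionalIdeal.spanSingleton R⁰ (algebraMap R (FractionRing R) a)⁻¹) ?_
  rw [FractionalIdeal.spanSingleton_mul_spanSingleton, mul_inv_cancel₀,
    FractionalIdeal.spanSingleton_one]
  exact (map_ne_zero_iff _ (IsFractionRing.injective R _)).mpr ha

theorem Inv.ne_bot {I : Ideal R} (h : Inv I) : I ≠ ⊥ := by
  rintro rfl
  unfold Inv at h
  rw [FractionalIdeal.coeIdeal_bot] at h
  exact not_isUnit_zero h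

theorem Inv.mul_left_cancel {I J J' : Ideal R} (h : Inv I) (e : I * J = I * J') : J = J' := by
  apply FractionalIdeal.coeIdeal_injective (K := FractionRing R)
  have := congrArg (fun X : Ideal R => (X : FractionalIdeal R⁰ (FractionRing R))) e
  simp only [FractionalIdeal.coeIdeal_mul] at this
  exact IsUnit.mul_left_cancel (show IsUnit (I : FractionalIdeal R⁰ (FractionRing R)) from h) this

theorem inv_multiset_prod (s : Multiset (Ideal R)) : Inv s.prod ↔ ∀ p ∈ s, Inv p := by
  induction s using Multiset.induction with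
  | empty => simp [inv_top]
  | cons a s ih => rw [Multiset.prod_cons, inv_mul_iff, ih]; simp

theorem multiset_prod_le_of_mem {s : Multiset (Ideal R)} {p : Ideal R} (hp : p ∈ s) :
    s.prod ≤ p :=
  Ideal.multiset_prod_le_inf.trans (Multiset.inf_le hp)

/-- uniqueness of factorisation into invertible prime ideals. -/
theorem unique_fact : ∀ (n : ℕ) (S T : Multiset (Ideal R)), Multiset.card S = n →
    (∀ p ∈ S, p.IsPrime ∧ Inv p) → (∀ p ∈ T, p.IsPrime ∧ Inv p) → S.prod = T.prod → S = T := by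
  classical
  intro n
  induction n with
  | zero =>
    intro S T hS _ hT hprod
    rw [Multiset.card_eq_zero] at hS
    subst hS
    rw [Multiset.prod_zero] at hprod
    by_contra hne
    obtain ⟨B, hB⟩ := Multiset.exists_mem_of_ne_zero (Ne.symm hne)
    have h1 : T.prod ≤ B := multiset_prod_le_of_mem hB
    rw [← hprod, Ideal.one_eq_top, top_le_iff] at h1
    exact (hT B hB).1.ne_top h1
  | succ n ih =>
    intro S T hcard hS hT hprod
    have hSne : S.toFinset.Nonempty := by
      rw [Finset.nonempty_iff_ne_empty, Ne, Multiset.toFinset_eq_empty]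
      rintro rfl
      simp at hcard
    obtain ⟨A, hA, hmin⟩ := Finset.exists_minimal hSne
    rw [Multiset.mem_toFinset] at hA
    have hAprime := (hS A hA).1
    obtain ⟨B, hB, hBA⟩ := hAprime.multiset_prod_le.mp (hprod ▸ multiset_prod_le_of_mem hA)
    have hBprime := (hT B hB).1
    obtain ⟨A', hA', hA'B⟩ := hBprime.multiset_prod_le.mp (hprod.symm ▸ multiset_prod_le_of_mem hB)
    have hAA' : A' = A :=
      le_antisymm (hA'B.trans hBA) (hmin (Multiset.mem_toFinset.mpr hA') (hA'B.trans hBA))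
    have hBeq : B = A := le_antisymm hBA (hAA' ▸ hA'B)
    subst hBeq
    have hS' : S = B ::ₘ S.erase B := (Multiset.cons_erase hA).symm
    have hT' : T = B ::ₘ T.erase B := (Multiset.cons_erase hB).symm
    have hprod' : (S.erase B).prod = (T.erase B).prod := by
      apply (hS B hA).2.mul_left_cancel
      rw [← Multiset.prod_cons, ← Multiset.prod_cons, ← hS', ← hT', hprod]
    have hcard' : Multiset.card (S.erase B) = n := by
      rw [Multiset.card_erase_of_mem hA, hcard]; rfl
    have := ih (S.erase B) (T.erase B) hcard'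
      (fun p hp => hS p (Multiset.mem_of_mem_erase hp))
      (fun p hp => hT p (Multiset.mem_of_mem_erase hp)) hprod'
    rw [hS', hT', this]

end


section step1
variable {R : Type u} [CommRing R] [IsDomain R]

theorem sup_span_eq_top_of_inv
    (hfac : ∀ I : Ideal R, I ≠ ⊥ → ∃ s : Multiset (Ideal R), (∀ p ∈ s, p.IsPrime) ∧ s.prod = I)
    (P : Ideal R) [hPp : P.IsPrime] (hP : Inv P) (a : R) (ha : a ∉ P) :
    P ⊔ Ideal.span {a} = ⊤ := by
  classical
  set π := Ideal.Quotient.mk P with hπ
  have hπs : Function.Surjective π := Ideal.Quotient.mk_surjective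
  have hker : RingHom.ker π = P := Ideal.mk_ker
  have hπa : π a ≠ 0 := by
    rw [Ne, Ideal.Quotient.eq_zero_iff_mem]; exact ha
  -- the two ideals and their factorisations
  have hI0 : ∀ b : R, P ⊔ Ideal.span {b} ≠ ⊥ := fun b h =>
    hP.ne_bot (le_bot_iff.mp (h ▸ le_sup_left))
  obtain ⟨s, hs, hsI⟩ := hfac _ (hI0 a)
  obtain ⟨t, ht, htI⟩ := hfac _ (hI0 (a ^ 2))
  have hPs : ∀ p ∈ s, P ≤ p := fun p hp =>
    le_sup_left.trans (hsI ▸ multiset_prod_le_of_mem hp)
  have hPt : ∀ p ∈ t, P ≤ p := fun p hp =>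
    le_sup_left.trans (htI ▸ multiset_prod_le_of_mem hp)
  -- images in the quotient
  have hmap : ∀ b : R, Ideal.map π (P ⊔ Ideal.span {b}) = Ideal.span {π b} := by
    intro b
    rw [Ideal.map_sup, Ideal.map_span, Set.image_singleton, hπ, Ideal.map_quotient_self, bot_sup_eq]
  have hprod : ∀ u : Multiset (Ideal R), (u.map (Ideal.map π)).prod = Ideal.map π u.prod := by
    intro u
    have := map_multiset_prod (Ideal.mapHom π) u
    simpa using this.symm
  have hsbar : (s.map (Ideal.map π)).prod = Ideal.span {π a} := by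
    rw [hprod, hsI, hmap]
  have htbar : (t.map (Ideal.map π)).prod = Ideal.span {π a ^ 2} := by
    rw [hprod, htI, hmap, map_pow]
  have hprime : ∀ u : Multiset (Ideal R), (∀ p ∈ u, p.IsPrime) → (∀ p ∈ u, P ≤ p) →
      ∀ q ∈ u.map (Ideal.map π), q.IsPrime := by
    intro u hu hPu q hq
    obtain ⟨p, hp, rfl⟩ := Multiset.mem_map.mp hq
    have := hu p hp
    exact Ideal.map_isPrime_of_surjective hπs (hker.symm ▸ hPu p hp)
  have hinv_s : ∀ q ∈ s.map (Ideal.map π), Inv q :=
    (inv_multiset_prod _).mp (hsbar ▸ inv_span_singleton hπa)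
  have hinv_t : ∀ q ∈ t.map (Ideal.map π), Inv q :=
    (inv_multiset_prod _).mp (htbar ▸ inv_span_singleton (pow_ne_zero 2 hπa))
  have huniq : s.map (Ideal.map π) + s.map (Ideal.map π) = t.map (Ideal.map π) := by
    refine unique_fact _ _ _ rfl ?_ ?_ ?_
    · intro q hq
      rcases Multiset.mem_add.mp hq with hq | hq
      · exact ⟨hprime s hs hPs q hq, hinv_s q hq⟩
      · exact ⟨hprime s hs hPs q hq, hinv_s q hq⟩
    · intro q hq
      exact ⟨hprime t ht hPt q hq, hinv_t q hq⟩
    · rw [Multiset.prod_add, hsbar, htbar, Ideal.span_singleton_mul_span_singleton, pow_two]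
  -- pulling back
  have hback : ∀ u : Multiset (Ideal R), (∀ p ∈ u, P ≤ p) →
      (u.map (Ideal.map π)).map (Ideal.comap π) = u := by
    intro u hu
    rw [Multiset.map_map]
    conv_rhs => rw [← Multiset.map_id u]
    refine Multiset.map_congr rfl fun p hp => ?_
    simp only [Function.comp_apply, id]
    rw [Ideal.comap_map_of_surjective π hπs, ← RingHom.ker_eq_comap_bot, hker]
    exact sup_eq_left.mpr (hu p hp)
  have hts : t = s + s := by
    rw [← hback t hPt, ← huniq, Multiset.map_add, hback s hPs]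
  have hI2 : P ⊔ Ideal.span {a ^ 2} = (P ⊔ Ideal.span {a}) * (P ⊔ Ideal.span {a}) := by
    rw [← htI, hts, Multiset.prod_add, hsI]
  -- `P ≤ P * (P ⊔ (a))`
  have hle : (P ⊔ Ideal.span {a}) * (P ⊔ Ideal.span {a}) ≤ P * P ⊔ Ideal.span {a} := by
    rw [Ideal.sup_mul, Ideal.mul_sup, Ideal.mul_sup]
    refine sup_le (sup_le le_sup_left (le_sup_of_le_right ?_))
      (sup_le (le_sup_of_le_right ?_) (le_sup_of_le_right ?_))
    all_goals first | exact Ideal.mul_le_left | exact Ideal.mul_le_right
  have hPle : P ≤ P * (P ⊔ Ideal.span {a}) := by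
    intro p hp
    have h1 : p ∈ P * P ⊔ Ideal.span {a} := hle (hI2 ▸ (le_sup_left : P ≤ _) hp)
    obtain ⟨q, hq, y, hy, rfl⟩ := Submodule.mem_sup.mp h1
    obtain ⟨r, rfl⟩ := Ideal.mem_span_singleton'.mp hy
    have hqP : q ∈ P := Ideal.mul_le_left hq
    have hra : r * a ∈ P := by
      have := P.sub_mem hp hqP
      simpa using this
    have hr : r ∈ P := (hPp.mem_or_mem hra).resolve_right ha
    rw [Ideal.mul_sup]
    exact Submodule.add_mem_sup hq (Ideal.mul_mem_mul hr (Ideal.mem_span_singleton_self a))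
  have heq : P * (P ⊔ Ideal.span {a}) = P * ⊤ := by
    rw [Ideal.mul_top]
    exact le_antisymm Ideal.mul_le_left hPle
  exact hP.mul_left_cancel heq

end step1


section final
variable {R : Type u} [CommRing R] [IsDomain R]

theorem isMaximal_of_inv
    (hfac : ∀ I : Ideal R, I ≠ ⊥ → ∃ s : Multiset (Ideal R), (∀ p ∈ s, p.IsPrime) ∧ s.prod = I)
    (P : Ideal R) [hPp : P.IsPrime] (hP : Inv P) : P.IsMaximal := by
  rw [Ideal.isMaximal_iff]
  refine ⟨fun h1 => hPp.ne_top ((Ideal.eq_top_iff_one P).mpr h1), fun J x hPJ hxP hxJ => ?_⟩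
  have h := sup_span_eq_top_of_inv hfac P hP x hxP
  have hle : P ⊔ Ideal.span {x} ≤ J :=
    sup_le hPJ ((Ideal.span_singleton_le_iff_mem J).mpr hxJ)
  exact hle (h ▸ Submodule.mem_top)

theorem inv_of_prime
    (hfac : ∀ I : Ideal R, I ≠ ⊥ → ∃ s : Multiset (Ideal R), (∀ p ∈ s, p.IsPrime) ∧ s.prod = I)
    (P : Ideal R) [hPp : P.IsPrime] (hP0 : P ≠ ⊥) : Inv P := by
  obtain ⟨a, haP, ha0⟩ := Submodule.exists_mem_ne_zero_of_ne_bot hP0
  have hsp : Ideal.span {a} ≠ ⊥ := by
    rw [Ne, Ideal.span_singleton_eq_bot]; exact ha0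
  obtain ⟨s, hs, hsa⟩ := hfac _ hsp
  have hinv : ∀ p ∈ s, Inv p := (inv_multiset_prod s).mp (hsa ▸ inv_span_singleton ha0)
  have hle : s.prod ≤ P := hsa ▸ (Ideal.span_singleton_le_iff_mem P).mpr haP
  obtain ⟨Q, hQ, hQP⟩ := hPp.multiset_prod_le.mp hle
  have := hs Q hQ
  have hQmax : Q.IsMaximal := isMaximal_of_inv hfac Q (hinv Q hQ)
  have : Q = P := hQmax.eq_of_le hPp.ne_top hQP
  exact this ▸ hinv Q hQ

theorem inv_of_ne_bot
    (hfac : ∀ I : Ideal R, I ≠ ⊥ → ∃ s : Multiset (Ideal R),
      (∀ p ∈ s, p.IsPrime ∧ p ≠ ⊥) ∧ s.prod = I)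
    (I : Ideal R) (hI : I ≠ ⊥) : Inv I := by
  have hfac' : ∀ I : Ideal R, I ≠ ⊥ → ∃ s : Multiset (Ideal R),
      (∀ p ∈ s, p.IsPrime) ∧ s.prod = I := fun I hI => by
    obtain ⟨s, hs, hsI⟩ := hfac I hI
    exact ⟨s, fun p hp => (hs p hp).1, hsI⟩
  obtain ⟨s, hs, hsI⟩ := hfac I hI
  rw [← hsI, inv_multiset_prod]
  intro p hp
  have := (hs p hp).1
  exact inv_of_prime hfac' p (hs p hp).2

/-- A domain in which every nonzero ideal is a product of nonzero prime ideals is a Dedekind
domain. -/
theorem isDedekindDomain_of_fact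
    (hfac : ∀ I : Ideal R, I ≠ ⊥ → ∃ s : Multiset (Ideal R),
      (∀ p ∈ s, p.IsPrime ∧ p ≠ ⊥) ∧ s.prod = I) : IsDedekindDomain R := by
  rw [isDedekindDomain_iff_mul_inv_cancel (K := FractionRing R)]
  intro I hI
  rw [FractionalIdeal.mul_inv_cancel_iff_isUnit]
  obtain ⟨a, aI, ha, rfl⟩ := FractionalIdeal.exists_eq_spanSingleton_mul I
  have haI : aI ≠ ⊥ := by
    rintro rfl
    apply hI
    simp
  have hmap : algebraMap R (FractionRing R) a ≠ 0 :=
    (map_ne_zero_iff _ (IsFractionRing.injective R _)).mpr ha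
  refine IsUnit.mul ?_ (inv_of_ne_bot hfac aI haI)
  refine IsUnit.of_mul_eq_one
    (FractionalIdeal.spanSingleton R⁰ (algebraMap R (FractionRing R) a)) ?_
  rw [FractionalIdeal.spanSingleton_mul_spanSingleton, inv_mul_cancel₀ hmap,
    FractionalIdeal.spanSingleton_one]

end final

end Groth.Agent.H15.DF
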