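import Groth.Agent.H15.EpiLike

/-!
# Descent of morphisms along a topological quotient map with sheaf-theoretic exactness

A general form of "categorical quotient" arguments: `p : X ⟶ Y` is a quotient map on points,
injective on sections, and `h : X ⟶ Z` is constant on the fibres of `p` with `h^#` landing in the
image of `p^#`. Then `h` factors uniquely through `p`.
-/

set_option autoImplicit false

universe u

open CategoryTheory AlgebraicGeometry

namespace Groth.Agent.H15.Quot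

theorem exists_ringHom_lift' {A B C : Type*} [CommRing A] [CommRing B] [CommRing C]
    (φ : A →+* B) (hφ : Function.Injective φ) (χ : C →+* B) (h : ∀ c, χ c ∈ Set.range φ) :
    ∃ ψ : C →+* A, φ.comp ψ = χ := by
  choose ψ₀ hψ₀ using h
  refine ⟨{ toFun := ψ₀
            map_one' := hφ (by rw [hψ₀, map_one, map_one])
            map_mul' := fun a b => hφ (by rw [hψ₀, map_mul, map_mul, hψ₀, hψ₀])
            map_zero' := hφ (by rw [hψ₀, map_zero, map_zero])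
            map_add' := fun a b => hφ (by rw [hψ₀, map_add, map_add, hψ₀, hψ₀]) }, ?_⟩
  ext c
  exact hψ₀ c

variable {X Y Z : Scheme.{u}}

/-- The hypotheses needed to descend `h : X ⟶ Z` along `p : X ⟶ Y`. -/
structure DescData (p : X ⟶ Y) (h : X ⟶ Z) : Prop where
  quot : Topology.IsQuotientMap p.base
  inj : ∀ U : Y.Opens, Function.Injective (p.app U).hom
  fib : ∀ x x' : X, p.base x = p.base x' → h.base x = h.base x'
  range : ∀ (V : Y.Opens) (W : Z.Opens) (hVW : p ⁻¹ᵁ V ≤ h ⁻¹ᵁ W) (c : Γ(Z, W)),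
    (h.appLE W (p ⁻¹ᵁ V) hVW).hom c ∈ Set.range (p.app V).hom

variable {p : X ⟶ Y} {h : X ⟶ Z}

theorem DescData.epiLike (D : DescData p h) : EpiLike p := ⟨D.quot.surjective, D.inj⟩

theorem DescData.exists_desc_affine (D : DescData p h) (W : Z.Opens) (hW : IsAffineOpen W)
    (V : Y.Opens) (hVW : p ⁻¹ᵁ V ≤ h ⁻¹ᵁ W) :
    ∃ f : V.toScheme ⟶ Z, p.resLE V (p ⁻¹ᵁ V) le_rfl ≫ f = (p ⁻¹ᵁ V).ι ≫ h := by
  obtain ⟨ψ, hψ⟩ := exists_ringHom_lift' (p.app V).hom (D.inj V) (h.appLE W (p ⁻¹ᵁ V) hVW).hom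
    (D.range V W hVW)
  refine ⟨V.toSpecΓ ≫ Spec.map (CommRingCat.ofHom ψ) ≫ hW.fromSpec, ?_⟩
  have h1 : CommRingCat.ofHom ψ ≫ p.app V = h.appLE W (p ⁻¹ᵁ V) hVW := by
    apply CommRingCat.hom_ext
    exact hψ
  rw [Scheme.Hom.resLE_eq_morphismRestrict, ← Scheme.Opens.toSpecΓ_naturality_assoc,
    ← Spec.map_comp_assoc, h1, Scheme.Opens.toSpecΓ_SpecMap_appLE_assoc,
    IsAffineOpen.toSpecΓ_fromSpec, Scheme.Hom.resLE_comp_ι]

theorem DescData.exists_opens_preimage_eq (D : DescData p h) (W : Z.Opens) :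
    ∃ V : Y.Opens, p ⁻¹ᵁ V = h ⁻¹ᵁ W ∧ ∀ x : X, h.base x ∈ W → p.base x ∈ V := by
  have hpre : p.base ⁻¹' (p.base '' (h ⁻¹ᵁ W : Set X)) = (h ⁻¹ᵁ W : Set X) := by
    apply Set.Subset.antisymm
    · rintro x ⟨s, hs, hsx⟩
      change h.base x ∈ W
      rw [← D.fib s x hsx]
      exact hs
    · exact Set.subset_preimage_image _ _
  have hopen : IsOpen (p.base '' (h ⁻¹ᵁ W : Set X)) := by
    rw [← D.quot.isOpen_preimage, hpre]
    exact (h ⁻¹ᵁ W).isOpen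
  refine ⟨⟨_, hopen⟩, ?_, ?_⟩
  · ext x
    exact Set.ext_iff.mp hpre x
  · intro x hx
    exact ⟨x, hx, rfl⟩

theorem DescData.existsUnique_desc (D : DescData p h) : ∃! h' : Y ⟶ Z, p ≫ h' = h := by
  suffices hex : ∃ h' : Y ⟶ Z, p ≫ h' = h by
    obtain ⟨h', hh'⟩ := hex
    exact ⟨h', hh', fun h'' hh'' => D.epiLike.eq_of_comp_eq (hh''.trans hh'.symm)⟩
  choose V hV hV' using fun W : Z.affineOpens => D.exists_opens_preimage_eq W.1
  have hcover : TopologicalSpace.IsOpenCover V := by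
    rw [TopologicalSpace.IsOpenCover, eq_top_iff]
    intro y _
    obtain ⟨x, rfl⟩ := D.quot.surjective y
    obtain ⟨_, ⟨W, hW : IsAffineOpen W, rfl⟩, hxW, -⟩ :=
      Z.isBasis_affineOpens.exists_subset_of_mem_open (Set.mem_univ (h.base x)) isOpen_univ
    exact TopologicalSpace.Opens.mem_iSup.mpr ⟨⟨W, hW⟩, hV' ⟨W, hW⟩ x hxW⟩
  choose f hf using fun W : Z.affineOpens =>
    D.exists_desc_affine W.1 W.2 (V W) (hV W).le
  have key : ∀ (W : Z.affineOpens) (V' : Y.Opens) (hle : V' ≤ V W),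
      p.resLE V' (p ⁻¹ᵁ V') le_rfl ≫ Y.homOfLE hle ≫ f W = (p ⁻¹ᵁ V').ι ≫ h := by
    intro W V' hle
    have hle' : p ⁻¹ᵁ V' ≤ p ⁻¹ᵁ V W := fun x hx => hle hx
    rw [Scheme.Hom.resLE_map_assoc, ← Scheme.Hom.map_resLE_assoc p le_rfl hle', hf W,
      Scheme.homOfLE_ι_assoc]
  obtain ⟨g, hg⟩ := exists_glue V hcover f (fun W W' => by
    apply (D.epiLike.resLE (V W ⊓ V W')).eq_of_comp_eq
    rw [key W _ inf_le_left, key W' _ inf_le_right])
  refine ⟨g, ?_⟩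
  refine Scheme.hom_ext_of_forall _ _ fun x => ?_
  obtain ⟨_, ⟨W, hW : IsAffineOpen W, rfl⟩, hxW, -⟩ :=
    Z.isBasis_affineOpens.exists_subset_of_mem_open (Set.mem_univ (h.base x)) isOpen_univ
  refine ⟨p ⁻¹ᵁ V ⟨W, hW⟩, hV' ⟨W, hW⟩ x hxW, ?_⟩
  rw [← Scheme.Hom.resLE_comp_ι_assoc p (le_refl (p ⁻¹ᵁ V ⟨W, hW⟩)), hg, hf]

end Groth.Agent.H15.Quot
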