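import Mathlib.AlgebraicGeometry.Restrict
import Mathlib.AlgebraicGeometry.AffineScheme
import Mathlib.AlgebraicGeometry.Gluing
import Mathlib.AlgebraicGeometry.Cover.Open

/-!
# Morphisms of schemes that are surjective and injective on sections are epimorphisms;
gluing morphisms along opens.
-/

set_option autoImplicit false

universe u

open CategoryTheory AlgebraicGeometry

namespace Groth.Agent.H15.Quot

/-- A morphism which is surjective on points and injective on sections over every open. -/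
structure EpiLike {X Y : Scheme.{u}} (p : X ⟶ Y) : Prop where
  surj : Function.Surjective p.base
  inj : ∀ U : Y.Opens, Function.Injective (p.app U).hom

variable {X Y : Scheme.{u}} {p : X ⟶ Y}

theorem EpiLike.eq_of_comp_eq (hp : EpiLike p) {Z : Scheme.{u}} {a b : Y ⟶ Z}
    (h : p ≫ a = p ≫ b) : a = b := by
  have hpt : ∀ y : Y, a.base y = b.base y := by
    intro y
    obtain ⟨x, rfl⟩ := hp.surj y
    exact congr($(h).base x)
  have hbase : a.base = b.base := by
    apply TopCat.hom_ext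
    ext y
    exact hpt y
  refine Scheme.Hom.ext hbase fun U => ?_
  have e1 : b ⁻¹ᵁ U ≤ a ⁻¹ᵁ U := by
    intro y hy
    change a.base y ∈ U
    rw [hpt y]; exact hy
  have key : a.appLE U (b ⁻¹ᵁ U) e1 = b.appLE U (b ⁻¹ᵁ U) le_rfl := by
    apply CommRingCat.hom_ext
    apply RingHom.ext
    intro s
    apply hp.inj (b ⁻¹ᵁ U)
    have h1 : a.appLE U (b ⁻¹ᵁ U) e1 ≫ p.app (b ⁻¹ᵁ U) =
        b.appLE U (b ⁻¹ᵁ U) le_rfl ≫ p.app (b ⁻¹ᵁ U) := by
      rw [Scheme.Hom.app_eq_appLE, Scheme.Hom.appLE_comp_appLE, Scheme.Hom.appLE_comp_appLE]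
      congr 1
    exact congr($(h1).hom s)
  rw [Scheme.Hom.appLE_eq_app] at key
  rw [← key]
  rfl

end Groth.Agent.H15.Quot

namespace Groth.Agent.H15.Quot

variable {X Y : Scheme.{u}} {p : X ⟶ Y}

theorem appLE_injective_of_eq (p : X ⟶ Y) (O : Y.Opens) (U : X.Opens) (e : U = p ⁻¹ᵁ O)
    (h : Function.Injective (p.app O).hom) : Function.Injective (p.appLE O U e.le).hom := by
  subst e
  rwa [Scheme.Hom.appLE_eq_app]

theorem EpiLike.resLE (hp : EpiLike p) (V : Y.Opens) :
    EpiLike (p.resLE V (p ⁻¹ᵁ V) le_rfl) := by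
  constructor
  · intro y
    obtain ⟨x, hx⟩ := hp.surj y.1
    have hxV : x ∈ p ⁻¹ᵁ V := by
      change p.base x ∈ V
      rw [hx]; exact y.2
    refine ⟨⟨x, hxV⟩, Subtype.ext ?_⟩
    rw [Scheme.Hom.coe_resLE_apply]
    exact hx
  · intro O
    rw [Scheme.Hom.app_eq_appLE, Scheme.Hom.resLE_appLE]
    apply appLE_injective_of_eq
    · rw [Scheme.Hom.resLE_preimage, Scheme.Hom.image_preimage_eq_opensRange_inf,
        Scheme.Opens.opensRange_ι]
      apply le_antisymm
      · exact inf_le_right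
      · refine le_inf ?_ le_rfl
        intro x hx
        exact V.ι_image_le O hx
    · exact hp.inj _

/-- Gluing morphisms defined on an open cover by opens. -/
theorem exists_glue {Y Z : Scheme.{u}} {ι : Type*} (V : ι → Y.Opens)
    (hV : TopologicalSpace.IsOpenCover V) (f : ∀ i, (V i).toScheme ⟶ Z)
    (hf : ∀ i j, Y.homOfLE (inf_le_left : V i ⊓ V j ≤ V i) ≫ f i =
      Y.homOfLE (inf_le_right : V i ⊓ V j ≤ V j) ≫ f j) :
    ∃ g : Y ⟶ Z, ∀ i, (V i).ι ≫ g = f i := by
  let 𝒰 := Y.openCoverOfIsOpenCover V hV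
  have hf' : ∀ i j : ι, Limits.pullback.fst (V i).ι (V j).ι ≫ f i =
      Limits.pullback.snd (V i).ι (V j).ι ≫ f j := by
    intro i j
    have hpb := isPullback_opens_inf (V i) (V j)
    rw [← cancel_epi hpb.isoPullback.hom]
    have h1 : hpb.isoPullback.hom ≫ Limits.pullback.fst (V i).ι (V j).ι =
        Y.homOfLE inf_le_left := hpb.isoPullback_hom_fst
    have h2 : hpb.isoPullback.hom ≫ Limits.pullback.snd (V i).ι (V j).ι =
        Y.homOfLE inf_le_right := hpb.isoPullback_hom_snd
    rw [reassoc_of% h1, reassoc_of% h2]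
    exact hf i j
  refine ⟨𝒰.glueMorphisms f hf', fun i => ?_⟩
  exact 𝒰.ι_glueMorphisms f hf' i

end Groth.Agent.H15.Quot
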