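import Mathlib

/-!
# Faithfully flat descent of elements
-/

set_option autoImplicit false
universe u
open TensorProduct

namespace Groth.Agent.H15.FFD

variable (R : Type*) [CommRing R] (S : Type*) [CommRing S] [Algebra R S]
  (M : Type*) [AddCommGroup M] [Module R M]

/-- `x ↦ 1 ⊗ x` -/
noncomputable def d₁ : S ⊗[R] M →ₗ[R] S ⊗[R] (S ⊗[R] M) := TensorProduct.mk R S (S ⊗[R] M) 1

/-- `s ⊗ m ↦ s ⊗ (1 ⊗ m)` -/
noncomputable def d₂ : S ⊗[R] M →ₗ[R] S ⊗[R] (S ⊗[R] M) :=
  LinearMap.lTensor S (TensorProduct.mk R S M 1)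

@[simp] lemma d₁_apply (x : S ⊗[R] M) : d₁ R S M x = (1 : S) ⊗ₜ[R] x := rfl

@[simp] lemma d₂_tmul (s : S) (m : M) : d₂ R S M (s ⊗ₜ[R] m) = s ⊗ₜ[R] ((1 : S) ⊗ₜ[R] m) := by
  simp [d₂]

/-- `a ⊗ (b ⊗ z) ↦ ab ⊗ z` -/
noncomputable def contract (P : Type*) [AddCommGroup P] [Module R P] :
    S ⊗[R] (S ⊗[R] P) →ₗ[R] S ⊗[R] P :=
  (LinearMap.rTensor P (LinearMap.mul' R S)) ∘ₗ (TensorProduct.assoc R S S P).symm.toLinearMap

@[simp] lemma contract_tmul (P : Type*) [AddCommGroup P] [Module R P] (a b : S) (z : P) :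
    contract R S P (a ⊗ₜ[R] (b ⊗ₜ[R] z)) = (a * b) ⊗ₜ[R] z := by
  simp [contract]

theorem exact_amitsur [Module.FaithfullyFlat R S] :
    Function.Exact (TensorProduct.mk R S M 1) (d₁ R S M - d₂ R S M) := by
  rw [← Module.FaithfullyFlat.lTensor_exact_iff_exact R S]
  intro y
  constructor
  · intro hy
    refine ⟨contract R S M y, ?_⟩
    have h1 : ∀ y : S ⊗[R] (S ⊗[R] M),
        contract R S (S ⊗[R] M) (LinearMap.lTensor S (d₁ R S M) y) = y := by
      intro y
      induction y using TensorProduct.induction_on with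
      | zero => simp
      | add x y hx hy => rw [map_add, map_add, hx, hy]
      | tmul a z => simp
    have h2 : ∀ y : S ⊗[R] (S ⊗[R] M),
        contract R S (S ⊗[R] M) (LinearMap.lTensor S (d₂ R S M) y) =
          LinearMap.lTensor S (TensorProduct.mk R S M 1) (contract R S M y) := by
      intro y
      induction y using TensorProduct.induction_on with
      | zero => simp
      | add x y hx hy => rw [map_add, map_add, map_add, map_add, hx, hy]
      | tmul a z =>
        induction z using TensorProduct.induction_on with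
        | zero => simp
        | add x y hx hy =>
          rw [tmul_add, map_add, map_add, map_add, map_add, hx, hy]
        | tmul b m => simp
    rw [LinearMap.lTensor_sub, LinearMap.sub_apply, sub_eq_zero] at hy
    rw [← h2, ← hy, h1]
  · rintro ⟨z, rfl⟩
    rw [← LinearMap.comp_apply, ← LinearMap.lTensor_comp]
    have : (d₁ R S M - d₂ R S M) ∘ₗ TensorProduct.mk R S M 1 = 0 := by
      ext m
      simp
    rw [this, LinearMap.lTensor_zero, LinearMap.zero_apply]

/-- Faithfully flat descent of elements. -/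
theorem exists_of_eq [Module.FaithfullyFlat R S] (x : S ⊗[R] M)
    (h : (1 : S) ⊗ₜ[R] x = d₂ R S M x) : ∃ m : M, (1 : S) ⊗ₜ[R] m = x := by
  have hx : (d₁ R S M - d₂ R S M) x = 0 := by
    rw [LinearMap.sub_apply, d₁_apply, h, sub_self]
  obtain ⟨m, hm⟩ := (exact_amitsur R S M x).mp hx
  exact ⟨m, hm⟩

end Groth.Agent.H15.FFD
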