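import Mathlib

set_option autoImplicit false
set_option linter.style.haveILetI false

namespace Groth.Agent.H15.GL2

open Matrix

variable {F : Type*} [Field F]

/-- upper unitriangular -/
noncomputable def U (s : F) : GL (Fin 2) F :=
  Matrix.GeneralLinearGroup.mkOfDetNeZero !![1, s; 0, 1] (by simp [Matrix.det_fin_two])

/-- lower unitriangular -/
noncomputable def L (s : F) : GL (Fin 2) F :=
  Matrix.GeneralLinearGroup.mkOfDetNeZero !![1, 0; s, 1] (by simp [Matrix.det_fin_two])

@[simp] lemma U_coe (s : F) : ((U s : GL (Fin 2) F) : Matrix (Fin 2) (Fin 2) F) = !![1, s; 0, 1] := rfl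
@[simp] lemma L_coe (s : F) : ((L s : GL (Fin 2) F) : Matrix (Fin 2) (Fin 2) F) = !![1, 0; s, 1] := rfl

lemma U_mul (a b : F) : U a * U b = U (a + b) := by
  apply Units.ext
  simp only [Units.val_mul, U_coe]
  ext i j; fin_cases i <;> fin_cases j <;> simp [Matrix.mul_apply, Fin.sum_univ_two, add_comm]

lemma L_mul (a b : F) : L a * L b = L (a + b) := by
  apply Units.ext
  simp only [Units.val_mul, L_coe]
  ext i j; fin_cases i <;> fin_cases j <;> simp [Matrix.mul_apply, Fin.sum_univ_two, add_comm]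

lemma U_zero : U (0 : F) = 1 := by
  apply Units.ext
  simp only [U_coe, Units.val_one]
  ext i j; fin_cases i <;> fin_cases j <;> simp

lemma L_zero : L (0 : F) = 1 := by
  apply Units.ext
  simp only [L_coe, Units.val_one]
  ext i j; fin_cases i <;> fin_cases j <;> simp

lemma U_pow (a : F) (n : ℕ) : U a ^ n = U (n * a) := by
  induction n with
  | zero => simp [U_zero]
  | succ n ih => rw [pow_succ, ih, U_mul]; congr 1; push_cast; ring

lemma L_pow (a : F) (n : ℕ) : L a ^ n = L (n * a) := by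
  induction n with
  | zero => simp [L_zero]
  | succ n ih => rw [pow_succ, ih, L_mul]; congr 1; push_cast; ring

/-- SL₂ is generated by elementary matrices: any subgroup containing all `U s`, `L s` contains
every matrix of determinant one. -/
lemma mem_of_det_eq_one (H : Subgroup (GL (Fin 2) F)) (hU : ∀ s, U s ∈ H) (hL : ∀ s, L s ∈ H)
    (g : GL (Fin 2) F) (hg : (g : Matrix (Fin 2) (Fin 2) F).det = 1) : g ∈ H := by
  -- case c ≠ 0
  have key : ∀ g : GL (Fin 2) F, (g : Matrix (Fin 2) (Fin 2) F).det = 1 →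
      (g : Matrix (Fin 2) (Fin 2) F) 1 0 ≠ 0 → g ∈ H := by
    intro g hg hc
    set a := (g : Matrix (Fin 2) (Fin 2) F) 0 0 with ha
    set b := (g : Matrix (Fin 2) (Fin 2) F) 0 1 with hb
    set c := (g : Matrix (Fin 2) (Fin 2) F) 1 0 with hc'
    set d := (g : Matrix (Fin 2) (Fin 2) F) 1 1 with hd
    have hdet : a * d - b * c = 1 := by rw [← hg, Matrix.det_fin_two]
    have : g = U ((a - 1) / c) * L c * U ((d - 1) / c) := by
      apply Units.ext
      simp only [Units.val_mul, U_coe, L_coe]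
      ext i j; fin_cases i <;> fin_cases j <;>
        simp [Matrix.mul_apply, Fin.sum_univ_two, ← ha, ← hb, ← hc', ← hd]
      · field_simp; ring
      · field_simp; linear_combination (-1 : F) * hdet
      · field_simp; ring
    rw [this]
    exact H.mul_mem (H.mul_mem (hU _) (hL _)) (hU _)
  by_cases hc : (g : Matrix (Fin 2) (Fin 2) F) 1 0 = 0
  · -- then d ≠ 0, multiply by L 1
    have hdet : (g : Matrix (Fin 2) (Fin 2) F) 0 0 * (g : Matrix (Fin 2) (Fin 2) F) 1 1
        - (g : Matrix (Fin 2) (Fin 2) F) 0 1 * (g : Matrix (Fin 2) (Fin 2) F) 1 0 = 1 := by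
      rw [← hg, Matrix.det_fin_two]
    have hd : (g : Matrix (Fin 2) (Fin 2) F) 1 1 ≠ 0 := by
      intro h; rw [hc, h] at hdet; simp at hdet
    have h1 : g * L 1 ∈ H := by
      apply key
      · rw [Units.val_mul, Matrix.det_mul, hg, L_coe]; simp [Matrix.det_fin_two]
      · rw [Units.val_mul, L_coe]
        simp [Matrix.mul_apply, Fin.sum_univ_two, hc, hd]
    have : g = (g * L 1) * (L 1)⁻¹ := by group
    rw [this]
    exact H.mul_mem h1 (H.inv_mem (hL 1))
  · exact key g hg hc

variable {p : ℕ} [Fact p.Prime]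

local notation "MM" => Matrix (Fin 2) (Fin 2) (ZMod p)
local notation "GG" => GL (Fin 2) (ZMod p)

/-- The evaluation-at-`u` linear map on a subalgebra of matrices. -/
def evalAt (E : Subalgebra (ZMod p) MM) (u : Fin 2 → ZMod p) : E →ₗ[ZMod p] (Fin 2 → ZMod p) where
  toFun x := (x : MM) *ᵥ u
  map_add' x y := by simp [Matrix.add_mulVec]
  map_smul' a x := by simp [Matrix.smul_mulVec]

lemma mem_image_of_ne_zero (E : Subalgebra (ZMod p) MM) (C : Subgroup GG)
    (hEC : (E : Set MM) = insert 0 ((fun g : GG => (g : MM)) '' (C : Set GG)))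
    {x : MM} (hx : x ∈ E) (hx0 : x ≠ 0) : ∃ c ∈ C, (c : MM) = x := by
  have : x ∈ (E : Set MM) := hx
  rw [hEC] at this
  rcases this with h | ⟨c, hc, rfl⟩
  · exact absurd h hx0
  · exact ⟨c, hc, rfl⟩

lemma evalAt_bijective (E : Subalgebra (ZMod p) MM) (C : Subgroup GG)
    (hcard : Nat.card E = p ^ 2)
    (hEC : (E : Set MM) = insert 0 ((fun g : GG => (g : MM)) '' (C : Set GG)))
    {u : Fin 2 → ZMod p} (hu : u ≠ 0) : Function.Bijective (evalAt E u) := by
  have hinj : Function.Injective (evalAt E u) := by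
    rw [← LinearMap.ker_eq_bot, LinearMap.ker_eq_bot']
    intro x hx
    by_contra hx0
    have hx0' : (x : MM) ≠ 0 := fun h => hx0 (Subtype.ext h)
    obtain ⟨c, -, hc⟩ := mem_image_of_ne_zero E C hEC x.2 hx0'
    have h1 : (c : MM) *ᵥ u = 0 := by rw [hc]; exact hx
    have h2 : ((c⁻¹ : GG) : MM) *ᵥ ((c : MM) *ᵥ u) = u := by
      rw [Matrix.mulVec_mulVec, ← Units.val_mul, inv_mul_cancel, Units.val_one, Matrix.one_mulVec]
    rw [h1, Matrix.mulVec_zero] at h2
    exact hu h2.symm
  haveI : Finite E := Nat.finite_of_card_ne_zero (by rw [hcard]; exact pow_ne_zero _ (Fact.out : p.Prime).ne_zero)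
  refine (Function.Injective.bijective_of_nat_card_le hinj ?_)
  rw [hcard, Nat.card_fun, Nat.card_zmod, Nat.card_eq_fintype_card, Fintype.card_fin]

lemma exists_mulVec_eq (E : Subalgebra (ZMod p) MM) (C : Subgroup GG)
    (hcard : Nat.card E = p ^ 2)
    (hEC : (E : Set MM) = insert 0 ((fun g : GG => (g : MM)) '' (C : Set GG)))
    {u e : Fin 2 → ZMod p} (hu : u ≠ 0) (he : e ≠ 0) : ∃ c ∈ C, (c : MM) *ᵥ u = e := by
  obtain ⟨x, hx⟩ := (evalAt_bijective E C hcard hEC hu).2 e
  have hx0 : (x : MM) ≠ 0 := by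
    intro h
    apply he
    rw [← hx]
    show (x : MM) *ᵥ u = 0
    rw [h, Matrix.zero_mulVec]
  obtain ⟨c, hc, hcx⟩ := mem_image_of_ne_zero E C hEC x.2 hx0
  exact ⟨c, hc, by rw [hcx]; exact hx⟩

lemma exists_det_eq (E : Subalgebra (ZMod p) MM) (hE : IsField E) (C : Subgroup GG)
    (hcard : Nat.card E = p ^ 2)
    (hEC : (E : Set MM) = insert 0 ((fun g : GG => (g : MM)) '' (C : Set GG)))
    (a : ZMod p) (ha : a ≠ 0) : ∃ c ∈ C, (c : MM).det = a := by
  letI : Field E := hE.toField
  haveI : Finite E := Nat.finite_of_card_ne_zero (by rw [hcard]; exact pow_ne_zero _ (Fact.out : p.Prime).ne_zero)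
  obtain ⟨x, hx⟩ := FiniteField.norm_surjective (ZMod p) E a
  have hu : (Pi.single 0 1 : Fin 2 → ZMod p) ≠ 0 := by
    intro h; have := congrFun h 0; simp at this
  let e : E ≃ₗ[ZMod p] (Fin 2 → ZMod p) :=
    LinearEquiv.ofBijective (evalAt E (Pi.single 0 1)) (evalAt_bijective E C hcard hEC hu)
  have hdet : (x : MM).det = a := by
    rw [← hx, Algebra.norm_apply, ← LinearMap.det_toLin', ← LinearMap.det_conj _ e]
    congr 1
    apply LinearMap.ext
    intro v
    obtain ⟨y, rfl⟩ := e.surjective v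
    simp only [LinearMap.comp_apply, LinearEquiv.coe_coe, LinearEquiv.symm_apply_apply,
      Matrix.toLin'_apply]
    show (x : MM) *ᵥ ((y : MM) *ᵥ _) = (((x * y : E) : MM)) *ᵥ _
    rw [Matrix.mulVec_mulVec]
    rfl
  have hx0 : (x : MM) ≠ 0 := by
    intro h; rw [h, Matrix.det_zero] at hdet; exact ha hdet.symm
  obtain ⟨c, hc, hcx⟩ := mem_image_of_ne_zero E C hEC x.2 hx0
  exact ⟨c, hc, by rw [hcx]; exact hdet⟩


/-- an element of `GL₂(𝔽_p)` of order `p` fixes a nonzero vector and has determinant one. -/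
lemma exists_fixed_of_orderOf (h : GG) (hh : orderOf h = p) :
    (h : MM).det = 1 ∧ ∃ u : Fin 2 → ZMod p, u ≠ 0 ∧ (h : MM) *ᵥ u = u := by
  have hp : p.Prime := Fact.out
  have hpow : (h : MM) ^ p = 1 := by
    have h1 : h ^ p = 1 := by
      have := pow_orderOf_eq_one h
      rwa [hh] at this
    rw [← Units.val_pow_eq_pow_val, h1, Units.val_one]
  constructor
  · have : ((h : MM).det) ^ p = 1 := by rw [← Matrix.det_pow, hpow, Matrix.det_one]
    rwa [ZMod.pow_card] at this
  · have h0 : ((h : MM) - 1) ^ p = 0 := by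
      rw [sub_pow_char_of_commute _ (Commute.one_right _), hpow, one_pow, sub_self]
    have hdet : ((h : MM) - 1).det = 0 := by
      have : (((h : MM) - 1).det) ^ p = 0 := by
        rw [← Matrix.det_pow, h0, Matrix.det_zero]
      exact pow_eq_zero_iff hp.ne_zero |>.1 this
    obtain ⟨u, hu, hu0⟩ := Matrix.exists_mulVec_eq_zero_iff.2 hdet
    refine ⟨u, hu, ?_⟩
    rw [Matrix.sub_mulVec, Matrix.one_mulVec, sub_eq_zero] at hu0
    exact hu0

lemma eq_U_of_fix (g : GG) (hdet : (g : MM).det = 1)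
    (hfix : (g : MM) *ᵥ (Pi.single 0 1) = Pi.single 0 1) : g = U ((g : MM) 0 1) := by
  have h00 : (g : MM) 0 0 = 1 := by
    have := congrFun hfix 0
    simpa [Matrix.mulVec, dotProduct, Fin.sum_univ_two] using this
  have h10 : (g : MM) 1 0 = 0 := by
    have := congrFun hfix 1
    simpa [Matrix.mulVec, dotProduct, Fin.sum_univ_two] using this
  have h11 : (g : MM) 1 1 = 1 := by
    rw [Matrix.det_fin_two, h00, h10] at hdet
    simpa using hdet
  apply Units.ext
  rw [U_coe]
  ext i j; fin_cases i <;> fin_cases j <;> simp [h00, h10, h11]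

lemma eq_L_of_fix (g : GG) (hdet : (g : MM).det = 1)
    (hfix : (g : MM) *ᵥ (Pi.single 1 1) = Pi.single 1 1) : g = L ((g : MM) 1 0) := by
  have h01 : (g : MM) 0 1 = 0 := by
    have := congrFun hfix 0
    simpa [Matrix.mulVec, dotProduct, Fin.sum_univ_two] using this
  have h11 : (g : MM) 1 1 = 1 := by
    have := congrFun hfix 1
    simpa [Matrix.mulVec, dotProduct, Fin.sum_univ_two] using this
  have h00 : (g : MM) 0 0 = 1 := by
    rw [Matrix.det_fin_two, h01, h11] at hdet
    simpa using hdet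
  apply Units.ext
  rw [L_coe]
  ext i j; fin_cases i <;> fin_cases j <;> simp [h00, h01, h11]

lemma U_mem_of_U_mem (H : Subgroup GG) {b : ZMod p} (hb : b ≠ 0) (hU : U b ∈ H) (s : ZMod p) :
    U s ∈ H := by
  have : U s = U b ^ (s / b).val := by
    rw [U_pow, ZMod.natCast_zmod_val, div_mul_cancel₀ _ hb]
  rw [this]
  exact H.pow_mem hU _

lemma L_mem_of_L_mem (H : Subgroup GG) {b : ZMod p} (hb : b ≠ 0) (hL : L b ∈ H) (s : ZMod p) :
    L s ∈ H := by
  have : L s = L b ^ (s / b).val := by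
    rw [L_pow, ZMod.natCast_zmod_val, div_mul_cancel₀ _ hb]
  rw [this]
  exact H.pow_mem hL _

theorem eq_top_of_cartan (H : Subgroup GG) (E : Subalgebra (ZMod p) MM) (hE : IsField E)
    (C : Subgroup GG) (hCH : C ≤ H) (hcard : Nat.card E = p ^ 2)
    (hEC : (E : Set MM) = insert 0 ((fun g : GG => (g : MM)) '' (C : Set GG)))
    (hp : p ∣ Nat.card H) : H = ⊤ := by
  obtain ⟨⟨h, hH⟩, hord⟩ := exists_prime_orderOf_dvd_card' p hp
  have hord' : orderOf h = p := by
    have := Subgroup.orderOf_mk h hH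
    exact this.symm.trans hord
  have hp' : p.Prime := Fact.out
  have hne : h ≠ 1 := by
    intro h1; rw [h1, orderOf_one] at hord'; exact hp'.one_lt.ne hord'
  obtain ⟨hdet, u, hu, hfix⟩ := exists_fixed_of_orderOf h hord'
  -- conjugates
  have conj : ∀ e : Fin 2 → ZMod p, e ≠ 0 → ∃ g ∈ H, g ≠ 1 ∧ (g : MM).det = 1 ∧ (g : MM) *ᵥ e = e := by
    intro e he
    obtain ⟨c, hc, hce⟩ := exists_mulVec_eq E C hcard hEC hu he
    refine ⟨c * h * c⁻¹, H.mul_mem (H.mul_mem (hCH hc) hH) (H.inv_mem (hCH hc)), ?_, ?_, ?_⟩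
    · intro h1
      apply hne
      have : h = c⁻¹ * (c * h * c⁻¹) * c := by group
      rw [this, h1]; group
    · rw [Units.val_mul, Units.val_mul, Matrix.det_mul, Matrix.det_mul, hdet, mul_one,
        ← Matrix.det_mul, ← Units.val_mul, mul_inv_cancel, Units.val_one, Matrix.det_one]
    · rw [← hce, Matrix.mulVec_mulVec, ← Units.val_mul]
      have : c * h * c⁻¹ * c = c * h := by group
      rw [this, Units.val_mul, ← Matrix.mulVec_mulVec, hfix]
  have hU : ∀ s, U s ∈ H := by
    have he : (Pi.single 0 1 : Fin 2 → ZMod p) ≠ 0 := by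
      intro h; have := congrFun h 0; simp at this
    obtain ⟨g, hg, hg1, hgdet, hgfix⟩ := conj _ he
    have hgU := eq_U_of_fix g hgdet hgfix
    have hb : (g : MM) 0 1 ≠ 0 := by
      intro hb; rw [hb, U_zero] at hgU; exact hg1 hgU
    exact U_mem_of_U_mem H hb (hgU ▸ hg)
  have hL : ∀ s, L s ∈ H := by
    have he : (Pi.single 1 1 : Fin 2 → ZMod p) ≠ 0 := by
      intro h; have := congrFun h 1; simp at this
    obtain ⟨g, hg, hg1, hgdet, hgfix⟩ := conj _ he
    have hgL := eq_L_of_fix g hgdet hgfix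
    have hb : (g : MM) 1 0 ≠ 0 := by
      intro hb; rw [hb, L_zero] at hgL; exact hg1 hgL
    exact L_mem_of_L_mem H hb (hgL ▸ hg)
  rw [eq_top_iff]
  intro g _
  have hg0 : (g : MM).det ≠ 0 := by
    have := (Matrix.isUnit_iff_isUnit_det (g : MM)).1 g.isUnit
    exact this.ne_zero
  obtain ⟨c, hc, hcdet⟩ := exists_det_eq E hE C hcard hEC _ hg0
  have h1 : g * c⁻¹ ∈ H := by
    apply mem_of_det_eq_one H hU hL
    have hcc : ((c⁻¹ : GG) : MM).det * (c : MM).det = 1 := by
      rw [← Matrix.det_mul, ← Units.val_mul, inv_mul_cancel, Units.val_one, Matrix.det_one]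
    rw [Units.val_mul, Matrix.det_mul, ← hcdet]
    rw [mul_comm]; exact hcc
  have : g = g * c⁻¹ * c := by group
  rw [this]
  exact H.mul_mem h1 (hCH hc)

/-- a subring of matrices over `ZMod p` is a subalgebra -/
def toSubalg (E : Subring MM) : Subalgebra (ZMod p) MM :=
  { E.toSubsemiring with
    algebraMap_mem' := fun r => by
      have : algebraMap (ZMod p) MM r = ((r.val : ℕ) : MM) := by
        rw [Algebra.algebraMap_eq_smul_one]
        conv_lhs => rw [← ZMod.natCast_zmod_val r]
        rw [Nat.cast_smul_eq_nsmul, nsmul_eq_mul, mul_one]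
      rw [this]
      exact natCast_mem E _ }

/-- existence of a non-split Cartan subgroup -/
theorem exists_cartan : ∃ (C : Subgroup GG) (E : Subalgebra (ZMod p) MM),
    IsField E ∧ Nat.card E = p ^ 2 ∧
      (E : Set MM) = insert 0 ((fun g : GG => (g : MM)) '' (C : Set GG)) := by
  let K := GaloisField p 2
  have hfr : Module.finrank (ZMod p) K = 2 := GaloisField.finrank p two_ne_zero
  let b : Module.Basis (Fin 2) (ZMod p) K := Module.finBasisOfFinrankEq _ _ hfr
  let φ : K →ₐ[ZMod p] MM := Algebra.leftMulMatrix b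
  have hinj : Function.Injective φ := Algebra.leftMulMatrix_injective b
  let e : K ≃ₐ[ZMod p] φ.range := AlgEquiv.ofInjective φ hinj
  have hunit : ∀ k : K, k ≠ 0 → φ k * φ k⁻¹ = 1 ∧ φ k⁻¹ * φ k = 1 := by
    intro k hk
    constructor
    · rw [← map_mul, mul_inv_cancel₀ hk, map_one]
    · rw [← map_mul, inv_mul_cancel₀ hk, map_one]
  let C : Subgroup GG :=
    { carrier := {g | (g : MM) ∈ φ.range}
      mul_mem' := fun {a b} ha hb => by
        show ((a * b : GG) : MM) ∈ φ.range
        rw [Units.val_mul]; exact φ.range.mul_mem ha hb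
      one_mem' := by
        show ((1 : GG) : MM) ∈ φ.range
        rw [Units.val_one]; exact φ.range.one_mem
      inv_mem' := fun {a} ha => by
        show ((a⁻¹ : GG) : MM) ∈ φ.range
        obtain ⟨k, hk⟩ := ha
        have hk0 : k ≠ 0 := by
          rintro rfl
          rw [map_zero] at hk
          have := a.isUnit
          rw [← hk] at this
          exact not_isUnit_zero this
        have : ((a⁻¹ : GG) : MM) = φ k⁻¹ := by
          have h1 : (a : MM) * φ k⁻¹ = 1 := by rw [← hk]; exact (hunit k hk0).1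
          calc ((a⁻¹ : GG) : MM) = ((a⁻¹ : GG) : MM) * ((a : MM) * φ k⁻¹) := by rw [h1, mul_one]
            _ = φ k⁻¹ := by rw [← mul_assoc, ← Units.val_mul, inv_mul_cancel, Units.val_one, one_mul]
        rw [this]
        exact ⟨_, rfl⟩ }
  refine ⟨C, φ.range, ?_, ?_, ?_⟩
  · exact MulEquiv.isField (Field.toIsField K) e.symm.toMulEquiv
  · rw [← Nat.card_congr e.toEquiv]
    exact GaloisField.card p 2 two_ne_zero
  · ext x
    constructor
    · rintro ⟨k, rfl⟩
      by_cases hk : k = 0
      · left; rw [hk]; exact map_zero φ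
      · right
        refine ⟨⟨φ k, φ k⁻¹, (hunit k hk).1, (hunit k hk).2⟩, ?_, rfl⟩
        show φ k ∈ φ.range
        exact ⟨k, rfl⟩
    · rintro (rfl | ⟨g, hg, rfl⟩)
      · exact φ.range.zero_mem
      · exact hg

lemma dvd_card_top : p ∣ Nat.card (⊤ : Subgroup GG) := by
  have hp : p.Prime := Fact.out
  rw [Subgroup.card_top]
  have h1 : (U (1 : ZMod p)) ^ p = 1 := by
    rw [U_pow, mul_one, ZMod.natCast_self, U_zero]
  have h2 : U (1 : ZMod p) ≠ 1 := by
    intro h
    have := congrArg (fun g : GG => (g : MM) 0 1) h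
    simp at this
  have h3 := orderOf_eq_prime h1 h2
  have h4 := orderOf_dvd_natCard (U (1 : ZMod p))
  rwa [h3] at h4

end Groth.Agent.H15.GL2
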