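import Groth.Agent.H26.DiagRigid
import Groth.Agent.H26.DiagField
import Mathlib

/-!
# Group-like elements of a group algebra over an arbitrary commutative ring

Their coefficients form a complete family of orthogonal idempotents.
-/

set_option autoImplicit false
universe u
open TensorProduct Coalgebra

namespace Groth.Agent.H15.GLD
open Groth.Agent.H26

variable {S : Type*} [CommRing S] {N : Type*}

open Classical in
lemma coeffPair_comul' (m n : N) (y : MonoidAlgebra S N) :
    coeffPair m n (Coalgebra.comul (R := S) y) = if m = n then y.coeff m else 0 := by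
  induction y using MonoidAlgebra.induction_linear with
  | zero => simp
  | add x y hx hy =>
    rw [map_add, map_add, hx, hy]
    split_ifs <;> simp
  | single x a =>
    rw [MonoidAlgebra.comul_single, CommSemiring.comul_apply, TensorProduct.map_tmul,
      coeffPair_tmul]
    simp only [MonoidAlgebra.lsingle_apply, MonoidAlgebra.coeff_single, Finsupp.single_apply]
    split_ifs <;> simp_all

open Classical in
lemma coeff_mul_coeff {g : MonoidAlgebra S N} (hg : IsGroupLikeElem S g) (m n : N) :
    g.coeff m * g.coeff n = if m = n then g.coeff m else 0 := by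
  rw [← coeffPair_comul', hg.comul_eq_tmul_self, coeffPair_tmul]

lemma coeff_idem {g : MonoidAlgebra S N} (hg : IsGroupLikeElem S g) (m : N) :
    g.coeff m * g.coeff m = g.coeff m := by
  classical
  rw [coeff_mul_coeff hg, if_pos rfl]

lemma coeff_orth {g : MonoidAlgebra S N} (hg : IsGroupLikeElem S g) {m n : N} (h : m ≠ n) :
    g.coeff m * g.coeff n = 0 := by
  classical
  rw [coeff_mul_coeff hg, if_neg h]

lemma counit_eq_sum (y : MonoidAlgebra S N) :
    Coalgebra.counit (R := S) y = y.coeff.sum (fun _ r => r) := by
  induction y using MonoidAlgebra.induction_linear with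
  | zero => simp
  | add x y hx hy =>
    rw [map_add, hx, hy, MonoidAlgebra.coeff_add, Finsupp.sum_add_index'] <;> simp
  | single x a => simp

lemma sum_coeff {g : MonoidAlgebra S N} (hg : IsGroupLikeElem S g) :
    g.coeff.sum (fun _ r => r) = 1 := by
  rw [← counit_eq_sum, hg.counit_eq_one]

/-- multiplying a group-like element by one of its coefficients isolates a monomial -/
lemma coeff_smul_self {g : MonoidAlgebra S N} (hg : IsGroupLikeElem S g) (m : N) :
    g.coeff m • g = MonoidAlgebra.single m (g.coeff m) := by
  classical
  ext n
  rw [MonoidAlgebra.coeff_smul, Finsupp.smul_apply, smul_eq_mul, coeff_mul_coeff hg,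
    MonoidAlgebra.coeff_single, Finsupp.single_apply]

/-- an element killed by all coefficients of a group-like element is zero -/
lemma eq_zero_of_forall_mul_coeff {g : MonoidAlgebra S N} (hg : IsGroupLikeElem S g) (r : S)
    (h : ∀ m, r * g.coeff m = 0) : r = 0 := by
  have h1 := sum_coeff hg
  have : r * g.coeff.sum (fun _ r => r) = 0 := by
    rw [Finsupp.sum, Finset.mul_sum]
    exact Finset.sum_eq_zero (fun m _ => h m)
  rw [h1, mul_one] at this
  exact this

end Groth.Agent.H15.GLD
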