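import Mathlib.RingTheory.Invariant.Basic
import Mathlib.RingTheory.Unramified.Finite
import Mathlib.RingTheory.TensorProduct.Basic
import Mathlib.LinearAlgebra.TensorProduct.Finiteness
import Mathlib.Algebra.Module.Projective

/-!
# Galois extensions of commutative rings (Chase–Harrison–Rosenberg), elementary part

`B → A` a ring map, `G` a finite group acting on `A` by `B`-automorphisms with `A^G = B`, such that
for every maximal ideal `m` of `A` and `g ≠ 1` there is `a` with `g • a - a ∉ m`. Then
`A ⊗[B] A ≃ ∏_G A`, `A` is finite projective over `B` and unramified.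
-/

set_option autoImplicit false
set_option linter.style.haveILetI false
set_option linter.unusedSectionVars false

open TensorProduct

namespace Groth.Agent.H15.Gal

variable (B A G : Type*) [CommRing B] [CommRing A] [Algebra B A] [Group G]
  [MulSemiringAction G A] [SMulCommClass G B A]

/-- `μ_g : A ⊗[B] A → A`, `a ⊗ a' ↦ a * g • a'`. -/
noncomputable def mu (g : G) : A ⊗[B] A →ₐ[A] A :=
  Algebra.TensorProduct.lift (AlgHom.id A A) (MulSemiringAction.toAlgHom B A g)
    (fun _ _ => Commute.all _ _)

@[simp] theorem mu_tmul (g : G) (a a' : A) : mu B A G g (a ⊗ₜ[B] a') = a * g • a' := by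
  simp [mu]

/-- `φ : A ⊗[B] A → ∏_G A`. -/
noncomputable def phi : A ⊗[B] A →ₐ[A] (G → A) :=
  AlgHom.pi (fun g => mu B A G g)

@[simp] theorem phi_apply (t : A ⊗[B] A) (g : G) : phi B A G t g = mu B A G g t := rfl


variable {B A G}

/-- The freeness condition (no inertia at maximal ideals). -/
def FreeAt (A G : Type*) [CommRing A] [Group G] [MulSemiringAction G A] : Prop :=
  ∀ (m : Ideal A), m.IsMaximal → ∀ g : G, g ≠ 1 → ∃ a : A, g • a - a ∉ m

theorem exists_eps (hfree : FreeAt A G) (g : G) (hg : g ≠ 1) :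
    ∃ t : A ⊗[B] A, mu B A G 1 t = 1 ∧ mu B A G g t = 0 := by
  classical
  have htop : Ideal.span (Set.range fun a : A => g • a - a) = ⊤ := by
    by_contra hne
    obtain ⟨m, hm, hle⟩ := Ideal.exists_le_maximal _ hne
    obtain ⟨a, ha⟩ := hfree m hm g hg
    exact ha (hle (Ideal.subset_span ⟨a, rfl⟩))
  have h1 : (1 : A) ∈ Ideal.span (Set.range fun a : A => g • a - a) := by
    rw [htop]; exact Submodule.mem_top
  obtain ⟨c, hc⟩ := (Finsupp.mem_span_range_iff_exists_finsupp).mp h1
  refine ⟨c.sum fun a r => (r * g • a) ⊗ₜ[B] (1 : A) - r ⊗ₜ[B] a, ?_, ?_⟩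
  · rw [Finsupp.sum, map_sum]
    rw [Finsupp.sum] at hc
    refine Eq.trans (Finset.sum_congr rfl fun a _ => ?_) hc
    simp only [map_sub, mu_tmul, one_smul, smul_one, mul_one, smul_eq_mul]
    ring
  · rw [Finsupp.sum, map_sum]
    refine Finset.sum_eq_zero fun a _ => ?_
    simp only [map_sub, mu_tmul, smul_one, mul_one, sub_self]

theorem exists_e [Finite G] (hfree : FreeAt A G) :
    ∃ e : A ⊗[B] A, mu B A G 1 e = 1 ∧ ∀ g : G, g ≠ 1 → mu B A G g e = 0 := by
  classical
  haveI := Fintype.ofFinite G
  choose! eps h1 hg using fun g : G => exists_eps (B := B) hfree g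
  refine ⟨∏ g ∈ Finset.univ.erase (1 : G), eps g, ?_, ?_⟩
  · rw [map_prod]
    refine Finset.prod_eq_one fun g hg' => ?_
    exact h1 g (Finset.ne_of_mem_erase hg')
  · intro g hg'
    rw [map_prod]
    exact Finset.prod_eq_zero (Finset.mem_erase.mpr ⟨hg', Finset.mem_univ g⟩) (hg g hg')


/-- A finite family `(x_p, y_p)` with `∑ x_p * g • y_p = δ_{g,1}`. -/
def Sep (A G : Type*) [CommRing A] [Group G] [MulSemiringAction G A] [DecidableEq G]
    (S : Finset (A × A)) : Prop :=
  ∀ g : G, ∑ p ∈ S, p.1 * g • p.2 = if g = 1 then 1 else 0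

theorem exists_sep [Finite G] [DecidableEq G] (hfree : FreeAt A G) (B : Type*) [CommRing B]
    [Algebra B A] [SMulCommClass G B A] :
    ∃ S : Finset (A × A), Sep A G S := by
  obtain ⟨e, he1, heg⟩ := exists_e (B := B) hfree
  obtain ⟨S, hS⟩ := TensorProduct.exists_finset e
  refine ⟨S, fun g => ?_⟩
  have : mu B A G g e = ∑ p ∈ S, p.1 * g • p.2 := by
    rw [hS, map_sum]
    exact Finset.sum_congr rfl fun p _ => mu_tmul B A G g p.1 p.2
  rw [← this]
  split_ifs with h
  · rw [h, he1]
  · exact heg g h

section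
variable [DecidableEq G] {S : Finset (A × A)}

theorem Sep.symm (hS : Sep A G S) (g : G) :
    ∑ p ∈ S, g • p.1 * p.2 = if g = 1 then 1 else 0 := by
  have h := congrArg (fun a => g • a) (hS g⁻¹)
  simp only [Finset.smul_sum, smul_mul', smul_smul, mul_inv_cancel, one_smul, inv_eq_one] at h
  rw [h]
  split_ifs
  · exact smul_one g
  · exact smul_zero g

theorem Sep.trace_eq [Fintype G] (hS : Sep A G S) (a : A) :
    ∑ p ∈ S, (∑ g : G, g • (a * p.1)) * p.2 = a := by
  simp only [Finset.sum_mul, smul_mul']
  rw [Finset.sum_comm]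
  have : ∀ g : G, ∑ p ∈ S, g • a * g • p.1 * p.2 = if g = 1 then a else 0 := by
    intro g
    have := hS.symm g
    simp only [mul_assoc, ← Finset.mul_sum, this]
    split_ifs with h
    · rw [h, one_smul, mul_one]
    · rw [mul_zero]
  simp only [this, Finset.sum_ite_eq', Finset.mem_univ, if_true]

end


section
variable [DecidableEq G] [Fintype G] {S : Finset (A × A)}

/-- The reconstruction formula `t = ∑_g ∑_p (μ_g t * g • x_p) ⊗ y_p`. -/
theorem Sep.reconstruct [Algebra.IsInvariant B A G] (hS : Sep A G S) (t : A ⊗[B] A) :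
    ∑ g : G, ∑ p ∈ S, (mu B A G g t * g • p.1) ⊗ₜ[B] p.2 = t := by
  induction t using TensorProduct.induction_on with
  | zero => simp
  | add t₁ t₂ h₁ h₂ =>
    conv_rhs => rw [← h₁, ← h₂]
    simp only [map_add, add_mul, TensorProduct.add_tmul, Finset.sum_add_distrib]
  | tmul x y =>
    -- the traces are invariant, hence come from `B`
    have hinv : ∀ p : A × A, ∃ b : B, algebraMap B A b = ∑ g : G, g • (y * p.1) := by
      intro p
      apply Algebra.IsInvariant.isInvariant (G := G)
      intro h
      rw [Finset.smul_sum]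
      simp only [smul_smul]
      exact Fintype.sum_equiv (Equiv.mulLeft h) _ _ fun g => rfl
    choose b hb using hinv
    have h1 : x ⊗ₜ[B] y = ∑ p ∈ S, x ⊗ₜ[B] ((∑ g : G, g • (y * p.1)) * p.2) := by
      rw [← TensorProduct.tmul_sum, hS.trace_eq]
    refine Eq.trans ?_ h1.symm
    rw [Finset.sum_comm]
    refine Finset.sum_congr rfl fun p _ => ?_
    rw [← hb p, ← Algebra.smul_def, TensorProduct.tmul_smul, TensorProduct.smul_tmul',
      Algebra.smul_def, hb p, Finset.sum_mul, TensorProduct.sum_tmul]
    refine Finset.sum_congr rfl fun g _ => ?_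
    rw [mu_tmul, smul_mul']
    congr 1
    ring

theorem Sep.phi_injective [Algebra.IsInvariant B A G] (hS : Sep A G S) :
    Function.Injective (phi B A G) := by
  rw [injective_iff_map_eq_zero]
  intro t ht
  rw [← hS.reconstruct (B := B) t]
  refine Finset.sum_eq_zero fun g _ => Finset.sum_eq_zero fun p _ => ?_
  have : mu B A G g t = 0 := congrFun ht g
  rw [this, zero_mul, TensorProduct.zero_tmul]

theorem Sep.phi_surjective (hS : Sep A G S) : Function.Surjective (phi B A G) := by
  intro v
  refine ⟨∑ h : G, ∑ p ∈ S, (v h * p.1) ⊗ₜ[B] (h⁻¹ • p.2), ?_⟩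
  funext g
  rw [phi_apply, map_sum]
  simp only [map_sum, mu_tmul, smul_smul, mul_assoc, ← Finset.mul_sum]
  have : ∀ h : G, ∑ p ∈ S, p.1 * (g * h⁻¹) • p.2 = if h = g then 1 else 0 := by
    intro h
    rw [hS (g * h⁻¹)]
    simp only [mul_inv_eq_one]
    exact if_congr eq_comm rfl rfl
  simp only [this, mul_ite, mul_one, mul_zero, Finset.sum_ite_eq', Finset.mem_univ, if_true]

theorem Sep.phi_bijective [Algebra.IsInvariant B A G] (hS : Sep A G S) :
    Function.Bijective (phi B A G) :=
  ⟨hS.phi_injective, hS.phi_surjective⟩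

end


section
variable [DecidableEq G] [Fintype G] {S : Finset (A × A)}

theorem Sep.finite [Algebra.IsInvariant B A G] (hS : Sep A G S) : Module.Finite B A := by
  classical
  refine ⟨⟨S.image Prod.snd, ?_⟩⟩
  rw [eq_top_iff]
  intro a _
  rw [← hS.trace_eq a]
  refine Submodule.sum_mem _ fun p hp => ?_
  have hinv : ∃ b : B, algebraMap B A b = ∑ g : G, g • (a * p.1) := by
    apply Algebra.IsInvariant.isInvariant (G := G)
    intro h
    rw [Finset.smul_sum]
    simp only [smul_smul]
    exact Fintype.sum_equiv (Equiv.mulLeft h) _ _ fun g => rfl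
  obtain ⟨b, hb⟩ := hinv
  rw [← hb, ← Algebra.smul_def]
  refine Submodule.smul_mem _ _ (Submodule.subset_span ?_)
  rw [Finset.coe_image]
  exact ⟨p, hp, rfl⟩

omit [DecidableEq G] in
/-- The trace `A → B`, `a ↦ ∑ g • a`. -/
theorem exists_trace [Algebra.IsInvariant B A G] (hinj : Function.Injective (algebraMap B A)) :
    ∃ tr : A →ₗ[B] B, ∀ a, algebraMap B A (tr a) = ∑ g : G, g • a := by
  have hinv : ∀ a : A, ∃ b : B, algebraMap B A b = ∑ g : G, g • a := by
    intro a
    apply Algebra.IsInvariant.isInvariant (G := G)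
    intro h
    rw [Finset.smul_sum]
    simp only [smul_smul]
    exact Fintype.sum_equiv (Equiv.mulLeft h) _ _ fun g => rfl
  choose f hf using hinv
  refine ⟨{ toFun := f, map_add' := ?_, map_smul' := ?_ }, hf⟩
  · intro a a'
    apply hinj
    rw [map_add, hf, hf, hf]
    simp only [smul_add, Finset.sum_add_distrib]
  · intro b a
    apply hinj
    rw [RingHom.id_apply, smul_eq_mul, map_mul, hf, hf, Finset.mul_sum]
    refine Finset.sum_congr rfl fun g _ => ?_
    rw [Algebra.smul_def, smul_mul', smul_algebraMap]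

theorem Sep.projective [Algebra.IsInvariant B A G] (hS : Sep A G S)
    (hinj : Function.Injective (algebraMap B A)) : Module.Projective B A := by
  obtain ⟨tr, htr⟩ := exists_trace (G := G) hinj
  let i : A →ₗ[B] (S → B) :=
    LinearMap.pi fun p => tr.comp (LinearMap.mulRight B (p.1.1 : A))
  let s : (S → B) →ₗ[B] A :=
    ∑ p : S, (LinearMap.toSpanSingleton B A (p.1.2 : A)).comp (LinearMap.proj p)
  refine Module.Projective.of_split i s ?_
  ext a
  simp only [LinearMap.comp_apply, LinearMap.id_apply, s, i, LinearMap.sum_apply,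
    LinearMap.proj_apply, LinearMap.pi_apply, LinearMap.toSpanSingleton_apply,
    LinearMap.mulRight_apply]
  conv_rhs => rw [← hS.trace_eq a]
  rw [← Finset.sum_coe_sort S]
  refine Finset.sum_congr rfl fun p _ => ?_
  rw [Algebra.smul_def, htr]

theorem Sep.formallyUnramified [Algebra.IsInvariant B A G] (hS : Sep A G S) :
    Algebra.FormallyUnramified B A := by
  haveI := hS.finite (B := B)
  rw [Algebra.FormallyUnramified.iff_exists_tensorProduct]
  refine ⟨∑ p ∈ S, p.1 ⊗ₜ[B] p.2, fun a => ?_, ?_⟩
  · apply hS.phi_injective (B := B)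
    funext g
    rw [map_zero, phi_apply, map_mul, map_sub, mu_tmul, mu_tmul, map_sum, Pi.zero_apply]
    simp only [mu_tmul, one_mul, smul_one, mul_one]
    rw [hS g]
    split_ifs with h
    · rw [h, one_smul, sub_self, zero_mul]
    · rw [mul_zero]
  · rw [map_sum]
    have := hS 1
    simp only [one_smul, if_true] at this
    rw [← this]
    exact Finset.sum_congr rfl fun p _ => Algebra.TensorProduct.lmul'_apply_tmul _ _

end


section
variable [DecidableEq G] [Fintype G] {S : Finset (A × A)}

/-- Two field-valued points of `A` with the same restriction to `B` differ by a group element. -/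
theorem Sep.exists_smul_of_field [Algebra.IsInvariant B A G] (hS : Sep A G S)
    {k : Type*} [Field k] (α1 α2 : A →+* k)
    (h : α1.comp (algebraMap B A) = α2.comp (algebraMap B A)) :
    ∃ g : G, ∀ a, α2 a = α1 (g • a) := by
  letI : Algebra B k := (α1.comp (algebraMap B A)).toAlgebra
  let α1' : A →ₐ[B] k := { α1 with commutes' := fun b => rfl }
  let α2' : A →ₐ[B] k := { α2 with commutes' := fun b => (RingHom.congr_fun h b).symm }
  let χ : A ⊗[B] A →ₐ[B] k := Algebra.TensorProduct.productMap α1' α2'
  have hχ : ∀ a a', χ (a ⊗ₜ[B] a') = α1 a * α2 a' := fun a a' =>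
    Algebra.TensorProduct.productMap_apply_tmul α1' α2' a a'
  let e : G → A ⊗[B] A := fun g => ∑ p ∈ S, p.1 ⊗ₜ[B] (g⁻¹ • p.2)
  have hmu : ∀ h g : G, mu B A G h (e g) = if h = g then 1 else 0 := by
    intro h g
    simp only [e, map_sum, mu_tmul, smul_smul]
    rw [hS (h * g⁻¹)]
    simp only [mul_inv_eq_one]
  have hsum : ∑ g : G, e g = 1 := by
    apply hS.phi_injective (B := B)
    funext h
    rw [phi_apply, map_sum, map_one]
    simp only [hmu, Finset.sum_ite_eq, Finset.mem_univ, if_true, Pi.one_apply]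
  have hne : ∃ g : G, χ (e g) ≠ 0 := by
    by_contra hcon
    push Not at hcon
    have := congrArg χ hsum
    rw [map_sum, map_one, Finset.sum_eq_zero fun g _ => hcon g] at this
    exact zero_ne_one this
  obtain ⟨g, hg⟩ := hne
  refine ⟨g, fun a => ?_⟩
  have hzero : ((1 : A) ⊗ₜ[B] a - (g • a) ⊗ₜ[B] (1 : A)) * e g = 0 := by
    apply hS.phi_injective (B := B)
    funext h
    rw [map_zero, phi_apply, map_mul, map_sub, mu_tmul, mu_tmul, hmu, Pi.zero_apply]
    split_ifs with hh
    · rw [hh, one_mul, smul_one, mul_one, mul_one, sub_self]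
    · rw [mul_zero]
  have := congrArg χ hzero
  rw [map_mul, map_sub, hχ, hχ, map_one, map_one, one_mul, mul_one, map_zero] at this
  rcases mul_eq_zero.mp this with h0 | h0
  · exact sub_eq_zero.mp h0
  · exact absurd h0 hg

end

/-- **Chase–Harrison–Rosenberg**: summary. -/
theorem main [Finite G] [Algebra.IsInvariant B A G] (hfree : FreeAt A G)
    (hinj : Function.Injective (algebraMap B A)) :
    Function.Bijective (phi B A G) ∧ Module.Finite B A ∧ Module.Projective B A ∧
      Algebra.FormallyUnramified B A := by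
  classical
  haveI := Fintype.ofFinite G
  obtain ⟨S, hS⟩ := exists_sep (G := G) hfree B
  exact ⟨hS.phi_bijective, hS.finite, hS.projective hinj, hS.formallyUnramified⟩

theorem exists_smul_of_field [Finite G] [Algebra.IsInvariant B A G] (hfree : FreeAt A G)
    {k : Type*} [Field k] (α1 α2 : A →+* k)
    (h : α1.comp (algebraMap B A) = α2.comp (algebraMap B A)) :
    ∃ g : G, ∀ a, α2 a = α1 (g • a) := by
  classical
  haveI := Fintype.ofFinite G
  obtain ⟨S, hS⟩ := exists_sep (G := G) hfree B
  exact hS.exists_smul_of_field α1 α2 h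

/-- With a retraction `σ : A → B`, `A ≃ ∏_G B`. -/
noncomputable def psi (σ : A →ₐ[B] B) : A →ₐ[B] (G → B) :=
  AlgHom.pi (fun g => σ.comp (MulSemiringAction.toAlgHom B A g))

@[simp] theorem psi_apply (σ : A →ₐ[B] B) (a : A) (g : G) : psi σ a g = σ (g • a) := rfl

theorem psi_bijective [Finite G] [Algebra.IsInvariant B A G] (hfree : FreeAt A G)
    (σ : A →ₐ[B] B) : Function.Bijective (psi (G := G) σ) := by
  classical
  haveI := Fintype.ofFinite G
  obtain ⟨S, hS⟩ := exists_sep (G := G) hfree B
  constructor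
  · rw [injective_iff_map_eq_zero]
    intro a ha
    have ha' : ∀ g : G, σ (g • a) = 0 := fun g => congrFun ha g
    rw [← hS.trace_eq a]
    refine Finset.sum_eq_zero fun p _ => ?_
    have hinv : ∃ b : B, algebraMap B A b = ∑ g : G, g • (a * p.1) := by
      apply Algebra.IsInvariant.isInvariant (G := G)
      intro h
      rw [Finset.smul_sum]
      simp only [smul_smul]
      exact Fintype.sum_equiv (Equiv.mulLeft h) _ _ fun g => rfl
    obtain ⟨b, hb⟩ := hinv
    have hb0 : b = 0 := by
      have h1 : σ (algebraMap B A b) = b := by rw [AlgHom.commutes]; rfl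
      rw [← h1, hb, map_sum]
      refine Finset.sum_eq_zero fun g _ => ?_
      rw [smul_mul', map_mul, ha', zero_mul]
    rw [← hb, hb0, map_zero, zero_mul]
  · intro v
    let e0 : A := ∑ p ∈ S, algebraMap B A (σ p.1) * p.2
    have he0 : ∀ g : G, σ (g • e0) = if g = 1 then 1 else 0 := by
      intro g
      simp only [e0, Finset.smul_sum, smul_mul', smul_algebraMap, map_sum, map_mul,
        AlgHom.commutes]
      have h1 := congrArg σ (hS g)
      simp only [map_sum, map_mul] at h1
      refine Eq.trans ?_ (h1.trans ?_)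
      · exact Finset.sum_congr rfl fun x _ => rfl
      split_ifs
      · exact map_one σ
      · exact map_zero σ
    refine ⟨∑ h : G, algebraMap B A (v h) * h⁻¹ • e0, ?_⟩
    funext g
    rw [psi_apply]
    simp only [Finset.smul_sum, smul_mul', smul_algebraMap, smul_smul, map_sum, map_mul,
      AlgHom.commutes, he0, mul_inv_eq_one]
    rw [Algebra.algebraMap_self]
    simp only [RingHom.id_apply, mul_ite, mul_one, mul_zero]
    rw [Finset.sum_eq_single g]
    · simp
    · intro h _ hne
      rw [if_neg (Ne.symm hne)]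
    · intro h; exact absurd (Finset.mem_univ g) h

end Groth.Agent.H15.Gal
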