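import Groth.Agent.H15.QuotTop
import Groth.Agent.H15.GaloisRing
import Mathlib.AlgebraicGeometry.Morphisms.FormallyUnramified
import Mathlib.AlgebraicGeometry.Morphisms.Flat
import Mathlib.FieldTheory.IsAlgClosed.AlgebraicClosure

/-!
# Free actions of finite groups on schemes: local structure of the quotient
-/

set_option autoImplicit false
set_option linter.style.haveILetI false

universe u

open CategoryTheory CategoryTheory.Limits AlgebraicGeometry

namespace Groth.Agent.H15.Quot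

variable {X Y : Scheme.{u}} {G : Type u} [Group G] {ρ : G →* Aut X} {p : X ⟶ Y}

/-- Freeness on geometric points. -/
def GeomFree (ρ : G →* Aut X) : Prop :=
  ∀ (K : Type u) [Field K] [IsAlgClosed K] (ξ : Spec (CommRingCat.of K) ⟶ X) (g : G),
    ξ ≫ (ρ g).hom = ξ → g = 1

theorem fromSpec_rho (hp : SGA1.IsQuot ρ p) (V : Y.Opens) (hU : IsAffineOpen (p ⁻¹ᵁ V)) (g : G) :
    hU.fromSpec ≫ (ρ g).hom = Spec.map (CommRingCat.ofHom (sig hp V g)) ≫ hU.fromSpec :=
  (IsAffineOpen.SpecMap_appLE_fromSpec (ρ g).hom hU hU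
    (SGA1.preimage_le_of_inv ρ p hp.inv g V)).symm

theorem freeAt (hp : SGA1.IsQuot ρ p) (hfree : GeomFree ρ) (V : Y.Opens)
    (hU : IsAffineOpen (p ⁻¹ᵁ V)) :
    letI := action hp V
    Gal.FreeAt Γ(X, p ⁻¹ᵁ V) G := by
  letI := action hp V
  intro m hm g hg
  by_contra hcon
  push Not at hcon
  haveI := hm
  letI : Field (Γ(X, p ⁻¹ᵁ V) ⧸ m) := Ideal.Quotient.field m
  let k := AlgebraicClosure (Γ(X, p ⁻¹ᵁ V) ⧸ m)
  let α : Γ(X, p ⁻¹ᵁ V) →+* k :=
    (algebraMap (Γ(X, p ⁻¹ᵁ V) ⧸ m) k).comp (Ideal.Quotient.mk m)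
  have hα : ∀ a, α (sig hp V g⁻¹ a) = α a := by
    intro a
    have h1 : g • a - a ∈ m := hcon a
    rw [smul_def] at h1
    have h2 : Ideal.Quotient.mk m (sig hp V g⁻¹ a) = Ideal.Quotient.mk m a :=
      Ideal.Quotient.eq.mpr h1
    simp only [α, RingHom.comp_apply, h2]
  let ξ : Spec (CommRingCat.of k) ⟶ X := Spec.map (CommRingCat.ofHom α) ≫ hU.fromSpec
  have hξ : ξ ≫ (ρ g⁻¹).hom = ξ := by
    simp only [ξ, Category.assoc]
    rw [fromSpec_rho hp V hU, ← Category.assoc, ← Spec.map_comp, ← CommRingCat.ofHom_comp]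
    congr 3
    ext a
    exact hα a
  have := hfree k ξ g⁻¹ hξ
  exact hg (inv_eq_one.mp this)


theorem chart_main [Finite G] (hp : SGA1.IsQuot ρ p) (hfree : GeomFree ρ) (V : Y.Opens)
    (hV : IsAffineOpen V) :
    letI := action hp V
    letI := alg p V
    haveI := smulCommClass hp V
    Function.Bijective (Gal.phi Γ(Y, V) Γ(X, p ⁻¹ᵁ V) G) ∧ Module.Finite Γ(Y, V) Γ(X, p ⁻¹ᵁ V) ∧
      Module.Projective Γ(Y, V) Γ(X, p ⁻¹ᵁ V) ∧
      Algebra.FormallyUnramified Γ(Y, V) Γ(X, p ⁻¹ᵁ V) := by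
  letI := action hp V
  letI := alg p V
  haveI := smulCommClass hp V
  haveI := isInvariant hp V
  haveI := hp.affine
  exact Gal.main (freeAt hp hfree V (hV.preimage p)) (hp.injective V)

theorem flat_of_geomFree [Finite G] (hp : SGA1.IsQuot ρ p) (hfree : GeomFree ρ) : Flat p := by
  haveI := hp.affine
  rw [HasRingHomProperty.iff_exists_appLE (P := @Flat)
    (RingHom.Flat.stableUnderComposition.stableUnderCompositionWithLocalizationAway
      RingHom.Flat.holdsForLocalizationAway).left]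
  intro x
  obtain ⟨_, ⟨V, hV : IsAffineOpen V, rfl⟩, hxV, -⟩ :=
    Y.isBasis_affineOpens.exists_subset_of_mem_open (Set.mem_univ (p.base x)) isOpen_univ
  refine ⟨⟨V, hV⟩, ⟨p ⁻¹ᵁ V, hV.preimage p⟩, hxV, le_rfl, ?_⟩
  obtain ⟨-, -, hproj, -⟩ := chart_main hp hfree V hV
  change RingHom.Flat (p.appLE V (p ⁻¹ᵁ V) le_rfl).hom
  rw [← Scheme.Hom.app_eq_appLE]
  letI := alg p V
  change Module.Flat Γ(Y, V) Γ(X, p ⁻¹ᵁ V)
  infer_instance

theorem formallyUnramified_of_geomFree [Finite G] (hp : SGA1.IsQuot ρ p) (hfree : GeomFree ρ) :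
    FormallyUnramified p := by
  haveI := hp.affine
  rw [HasRingHomProperty.iff_exists_appLE (P := @FormallyUnramified)
    (RingHom.FormallyUnramified.stableUnderComposition.stableUnderCompositionWithLocalizationAway
      RingHom.FormallyUnramified.holdsForLocalizationAway).left]
  intro x
  obtain ⟨_, ⟨V, hV : IsAffineOpen V, rfl⟩, hxV, -⟩ :=
    Y.isBasis_affineOpens.exists_subset_of_mem_open (Set.mem_univ (p.base x)) isOpen_univ
  refine ⟨⟨V, hV⟩, ⟨p ⁻¹ᵁ V, hV.preimage p⟩, hxV, le_rfl, ?_⟩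
  obtain ⟨-, -, -, hunr⟩ := chart_main hp hfree V hV
  change RingHom.FormallyUnramified (p.appLE V (p ⁻¹ᵁ V) le_rfl).hom
  rw [← Scheme.Hom.app_eq_appLE]
  exact hunr


/-- Field-valued points of `X` with the same image in `Y` are conjugate under `G`. -/
theorem exists_rho_comp_eq [Finite G] (hp : SGA1.IsQuot ρ p) (hfree : GeomFree ρ)
    (k : Type u) [Field k] (a1 a2 : Spec (CommRingCat.of k) ⟶ X) (h : a1 ≫ p = a2 ≫ p) :
    ∃ g : G, a2 = a1 ≫ (ρ g).hom := by
  haveI := hp.affine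
  let pt : Spec (CommRingCat.of k) := default
  obtain ⟨_, ⟨V, hV : IsAffineOpen V, rfl⟩, hyV, -⟩ :=
    Y.isBasis_affineOpens.exists_subset_of_mem_open (Set.mem_univ ((a1 ≫ p).base pt)) isOpen_univ
  have hU : IsAffineOpen (p ⁻¹ᵁ V) := hV.preimage p
  have hr1 : Set.range a1.base ⊆ Set.range hU.fromSpec.base := by
    rw [hU.range_fromSpec]
    rintro _ ⟨q, rfl⟩
    rw [Subsingleton.elim q pt]
    exact hyV
  have hr2 : Set.range a2.base ⊆ Set.range hU.fromSpec.base := by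
    rw [hU.range_fromSpec]
    rintro _ ⟨q, rfl⟩
    rw [Subsingleton.elim q pt]
    change (a2 ≫ p).base pt ∈ V
    rw [← h]
    exact hyV
  let b1 := IsOpenImmersion.lift hU.fromSpec a1 hr1
  let b2 := IsOpenImmersion.lift hU.fromSpec a2 hr2
  have hb1 : b1 ≫ hU.fromSpec = a1 := IsOpenImmersion.lift_fac _ _ _
  have hb2 : b2 ≫ hU.fromSpec = a2 := IsOpenImmersion.lift_fac _ _ _
  let α1 : Γ(X, p ⁻¹ᵁ V) →+* k := (Spec.preimage b1).hom
  let α2 : Γ(X, p ⁻¹ᵁ V) →+* k := (Spec.preimage b2).hom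
  have hα1 : Spec.map (CommRingCat.ofHom α1) = b1 := Spec.map_preimage b1
  have hα2 : Spec.map (CommRingCat.ofHom α2) = b2 := Spec.map_preimage b2
  letI := action hp V
  letI := alg p V
  haveI := smulCommClass hp V
  haveI := isInvariant hp V
  have hfp : hU.fromSpec ≫ p = Spec.map (p.app V) ≫ hV.fromSpec := by
    rw [Scheme.Hom.app_eq_appLE]
    exact (IsAffineOpen.SpecMap_appLE_fromSpec p hV hU le_rfl).symm
  have hcomp : α1.comp (algebraMap Γ(Y, V) Γ(X, p ⁻¹ᵁ V)) =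
      α2.comp (algebraMap Γ(Y, V) Γ(X, p ⁻¹ᵁ V)) := by
    have h1 : Spec.map (p.app V ≫ Spec.preimage b1) = Spec.map (p.app V ≫ Spec.preimage b2) := by
      rw [Spec.map_comp, Spec.map_comp, Spec.map_preimage, Spec.map_preimage]
      rw [← cancel_mono hV.fromSpec, Category.assoc, Category.assoc, ← hfp, ← Category.assoc,
        ← Category.assoc, hb1, hb2, h]
    have h2 := Spec.map_injective h1
    ext b
    exact congr($(h2).hom b)
  obtain ⟨g, hg⟩ := Gal.exists_smul_of_field (B := Γ(Y, V)) (freeAt hp hfree V hU) α1 α2 hcomp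
  refine ⟨g⁻¹, ?_⟩
  rw [← hb1, ← hb2, Category.assoc, fromSpec_rho hp V hU, ← Category.assoc, ← hα1, ← hα2,
    ← Spec.map_comp, ← CommRingCat.ofHom_comp]
  congr 3
  ext a
  rw [RingHom.comp_apply, hg a, smul_def]


theorem isOpenImmersion_graph [Finite G] (hp : SGA1.IsQuot ρ p) (hfree : GeomFree ρ)
    [LocallyOfFiniteType p] (g : G) (w : 𝟙 X ≫ p = (ρ g).hom ≫ p) :
    IsOpenImmersion (pullback.lift (𝟙 X) (ρ g).hom w : X ⟶ pullback p p) := by
  haveI := formallyUnramified_of_geomFree hp hfree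
  have h1 : pullback.lift (𝟙 X) (ρ g).hom w = pullback.diagonal p ≫
      pullback.map p p p p (𝟙 X) (ρ g).hom (𝟙 Y) (by simp) (by rw [Category.comp_id, hp.inv g]) := by
    apply pullback.hom_ext
    · rw [pullback.lift_fst, Category.assoc, pullback.lift_fst, ← Category.assoc,
        pullback.diagonal_fst, Category.id_comp]
    · rw [pullback.lift_snd, Category.assoc, pullback.lift_snd, ← Category.assoc,
        pullback.diagonal_snd, Category.id_comp]
  rw [h1]
  haveI : IsOpenImmersion (pullback.diagonal p) := FormallyUnramified.isOpenImmersion_diagonal p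
  haveI : IsIso (ρ g).hom := Iso.isIso_hom (ρ g)
  haveI : IsIso (pullback.map p p p p (𝟙 X) (ρ g).hom (𝟙 Y) (by simp)
      (by rw [Category.comp_id, hp.inv g])) := inferInstance
  infer_instance

theorem rho_comp (g h : G) : (ρ g).hom ≫ (ρ h).hom = (ρ (h * g)).hom := by
  rw [map_mul]; rfl

theorem graph_disjoint [Finite G] (hp : SGA1.IsQuot ρ p) (hfree : GeomFree ρ)
    [LocallyOfFiniteType p] (g h : G) (wg : 𝟙 X ≫ p = (ρ g).hom ≫ p)
    (wh : 𝟙 X ≫ p = (ρ h).hom ≫ p) (x x' : X)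
    (hxx : (pullback.lift (𝟙 X) (ρ g).hom wg : X ⟶ pullback p p).base x =
      (pullback.lift (𝟙 X) (ρ h).hom wh : X ⟶ pullback p p).base x') : g = h := by
  haveI := isOpenImmersion_graph hp hfree g wg
  haveI := isOpenImmersion_graph hp hfree h wh
  set Δg : X ⟶ pullback p p := pullback.lift (𝟙 X) (ρ g).hom wg with hΔg
  set Δh : X ⟶ pullback p p := pullback.lift (𝟙 X) (ρ h).hom wh with hΔh
  -- the open where `Δg` lands in the range of `Δh`
  let O : X.Opens := Δg ⁻¹ᵁ Δh.opensRange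
  have hxO : x ∈ O := ⟨x', hxx.symm⟩
  have hrange : Set.range (O.ι ≫ Δg).base ⊆ Set.range Δh.base := by
    rintro _ ⟨o, rfl⟩
    exact o.2
  let θ := IsOpenImmersion.lift Δh (O.ι ≫ Δg) hrange
  have hθ : θ ≫ Δh = O.ι ≫ Δg := IsOpenImmersion.lift_fac _ _ _
  have hθι : θ = O.ι := by
    have := congrArg (· ≫ pullback.fst p p) hθ
    simp only [Category.assoc] at this
    rw [hΔg, hΔh, pullback.lift_fst, pullback.lift_fst, Category.comp_id, Category.comp_id] at this
    exact this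
  have hOgh : O.ι ≫ (ρ g).hom = O.ι ≫ (ρ h).hom := by
    have := congrArg (· ≫ pullback.snd p p) hθ
    rw [hθι] at this
    simp only [Category.assoc] at this
    rw [hΔg, hΔh, pullback.lift_snd, pullback.lift_snd] at this
    exact this.symm
  -- a geometric point over `x`
  let K := AlgebraicClosure (X.residueField x)
  let ξ : Spec (CommRingCat.of K) ⟶ X :=
    Spec.map (CommRingCat.ofHom (algebraMap (X.residueField x) K)) ≫ X.fromSpecResidueField x
  have hξr : Set.range ξ.base ⊆ Set.range O.ι.base := by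
    rintro _ ⟨q, rfl⟩
    rw [Scheme.Opens.range_ι]
    have : ξ.base q = x := by
      simp only [ξ, Scheme.Hom.comp_base, TopCat.hom_comp, ContinuousMap.comp_apply]
      exact Scheme.fromSpecResidueField_apply x _
    rw [this]
    exact hxO
  let ξ' := IsOpenImmersion.lift O.ι ξ hξr
  have hξ' : ξ' ≫ O.ι = ξ := IsOpenImmersion.lift_fac _ _ _
  have h2 : ξ ≫ (ρ g).hom = ξ ≫ (ρ h).hom := by
    rw [← hξ', Category.assoc, Category.assoc, hOgh]
  have h3 : ξ ≫ (ρ (h⁻¹ * g)).hom = ξ := by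
    rw [← rho_comp, ← Category.assoc, h2, Category.assoc, rho_comp, inv_mul_cancel, map_one]
    exact Category.comp_id ξ
  have := hfree K ξ (h⁻¹ * g) h3
  exact (inv_mul_eq_one.mp this).symm


open scoped Function in
/-- **SGA1 V 2.6 (i) ⇒ (iii)**: for a free action, `∐_G X ≅ X ×_Y X`. -/
theorem isIso_sigmaDesc_graph [Finite G] (hp : SGA1.IsQuot ρ p) (hfree : GeomFree ρ)
    [LocallyOfFiniteType p] (w : ∀ g : G, 𝟙 X ≫ p = (ρ g).hom ≫ p) :
    IsIso (Sigma.desc (fun g : G => (pullback.lift (𝟙 X) (ρ g).hom (w g) : X ⟶ pullback p p))) := by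
  haveI : ∀ g : G, IsOpenImmersion (pullback.lift (𝟙 X) (ρ g).hom (w g) : X ⟶ pullback p p) :=
    fun g => isOpenImmersion_graph hp hfree g (w g)
  have hopen : IsOpenImmersion
      (Sigma.desc (fun g : G => (pullback.lift (𝟙 X) (ρ g).hom (w g) : X ⟶ pullback p p))) := by
    refine isOpenImmersion_sigmaDesc _ _ (fun g h hgh => ?_)
    rw [Function.onFun, Set.disjoint_iff_forall_ne]
    rintro _ ⟨x, rfl⟩ _ ⟨x', rfl⟩ heq
    exact hgh (graph_disjoint hp hfree g h (w g) (w h) x x' heq)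
  rw [isIso_iff_isOpenImmersion_and_surjective]
  refine ⟨hopen, ⟨fun z => ?_⟩⟩
  let k : Type u := (pullback p p).residueField z
  let ζ : Spec (CommRingCat.of k) ⟶ pullback p p := (pullback p p).fromSpecResidueField z
  have hcond : (ζ ≫ pullback.fst p p) ≫ p = (ζ ≫ pullback.snd p p) ≫ p := by
    rw [Category.assoc, Category.assoc, pullback.condition]
  obtain ⟨g, hg⟩ := exists_rho_comp_eq hp hfree k _ _ hcond
  have hζ : ζ = (ζ ≫ pullback.fst p p) ≫ pullback.lift (𝟙 X) (ρ g).hom (w g) := by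
    apply pullback.hom_ext
    · rw [Category.assoc, pullback.lift_fst, Category.comp_id]
    · rw [Category.assoc, pullback.lift_snd, hg]
  let pt : Spec (CommRingCat.of k) := default
  have hz : ζ.base pt = z := Scheme.fromSpecResidueField_apply z pt
  refine ⟨(Sigma.ι (fun _ : G => X) g).base ((ζ ≫ pullback.fst p p).base pt), ?_⟩
  refine Eq.trans ?_ hz
  have h5 : ζ.base pt = ((ζ ≫ pullback.fst p p) ≫ pullback.lift (𝟙 X) (ρ g).hom (w g)).base pt :=
    congrArg (fun f : Spec (CommRingCat.of k) ⟶ pullback p p => f.base pt) hζ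
  rw [h5, ← Scheme.Hom.comp_apply, Sigma.ι_desc]
  rfl


theorem isOpenImmersion_of_section {X Y : Scheme.{u}} (p : X ⟶ Y) [FormallyUnramified p]
    [LocallyOfFiniteType p] (s : Y ⟶ X) (hs : s ≫ p = 𝟙 Y) : IsOpenImmersion s := by
  let Q : MorphismProperty Scheme.{u} := (@FormallyUnramified : MorphismProperty Scheme.{u}) ⊓
    (@LocallyOfFiniteType : MorphismProperty Scheme.{u})
  haveI : Q.IsStableUnderBaseChange := MorphismProperty.IsStableUnderBaseChange.inf
  have key : (@IsOpenImmersion : MorphismProperty Scheme.{u}).HasOfPostcompProperty Q := by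
    rw [MorphismProperty.hasOfPostcompProperty_iff_le_diagonal]
    intro X Y f ⟨h1, h2⟩
    exact FormallyUnramified.isOpenImmersion_diagonal f
  refine MorphismProperty.of_postcomp (W := @IsOpenImmersion)
    (W' := Q) s p ⟨‹_›, ‹_›⟩ ?_
  rw [hs]
  infer_instance

theorem section_disjoint [Finite G] (hp : SGA1.IsQuot ρ p) (hfree : GeomFree ρ)
    [LocallyOfFiniteType p] (s : Y ⟶ X) (hs : s ≫ p = 𝟙 Y) (g h : G) (y y' : Y)
    (hyy : (s ≫ (ρ g).hom).base y = (s ≫ (ρ h).hom).base y') : g = h := by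
  haveI := formallyUnramified_of_geomFree hp hfree
  haveI := isOpenImmersion_of_section p s hs
  haveI : IsIso (ρ g).hom := Iso.isIso_hom (ρ g)
  haveI : IsIso (ρ h).hom := Iso.isIso_hom (ρ h)
  have hsg : (s ≫ (ρ g).hom) ≫ p = 𝟙 Y := by rw [Category.assoc, hp.inv g, hs]
  have hsh : (s ≫ (ρ h).hom) ≫ p = 𝟙 Y := by rw [Category.assoc, hp.inv h, hs]
  let O : Y.Opens := (s ≫ (ρ g).hom) ⁻¹ᵁ (s ≫ (ρ h).hom).opensRange
  have hyO : y ∈ O := ⟨y', hyy.symm⟩
  have hrange : Set.range (O.ι ≫ s ≫ (ρ g).hom).base ⊆ Set.range (s ≫ (ρ h).hom).base := by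
    rintro _ ⟨o, rfl⟩
    exact o.2
  let θ := IsOpenImmersion.lift (s ≫ (ρ h).hom) (O.ι ≫ s ≫ (ρ g).hom) hrange
  have hθ : θ ≫ s ≫ (ρ h).hom = O.ι ≫ s ≫ (ρ g).hom := IsOpenImmersion.lift_fac _ _ _
  have hθι : θ = O.ι := by
    have := congrArg (· ≫ p) hθ
    simp only [Category.assoc] at this
    rw [hp.inv h, hp.inv g, hs, Category.comp_id, Category.comp_id] at this
    exact this
  have hOgh : O.ι ≫ s ≫ (ρ g).hom = O.ι ≫ s ≫ (ρ h).hom := by
    rw [← hθ, hθι]
  let K := AlgebraicClosure (Y.residueField y)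
  let ξ : Spec (CommRingCat.of K) ⟶ Y :=
    Spec.map (CommRingCat.ofHom (algebraMap (Y.residueField y) K)) ≫ Y.fromSpecResidueField y
  have hξr : Set.range ξ.base ⊆ Set.range O.ι.base := by
    rintro _ ⟨q, rfl⟩
    rw [Scheme.Opens.range_ι]
    have : ξ.base q = y := by
      simp only [ξ, Scheme.Hom.comp_base, TopCat.hom_comp, ContinuousMap.comp_apply]
      exact Scheme.fromSpecResidueField_apply y _
    rw [this]
    exact hyO
  let ξ' := IsOpenImmersion.lift O.ι ξ hξr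
  have hξ' : ξ' ≫ O.ι = ξ := IsOpenImmersion.lift_fac _ _ _
  have h2 : (ξ ≫ s) ≫ (ρ g).hom = (ξ ≫ s) ≫ (ρ h).hom := by
    rw [← hξ', Category.assoc, Category.assoc, Category.assoc, Category.assoc, hOgh]
  have h3 : (ξ ≫ s) ≫ (ρ (h⁻¹ * g)).hom = ξ ≫ s := by
    rw [← rho_comp, ← Category.assoc, h2, Category.assoc, rho_comp, inv_mul_cancel, map_one]
    exact Category.comp_id _
  have := hfree K (ξ ≫ s) (h⁻¹ * g) h3
  exact (inv_mul_eq_one.mp this).symm

open scoped Function in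
/-- **SGA1 V 2.6**: a free action with a section is trivial: `∐_G Y ≅ X`. -/
theorem isIso_sigmaDesc_section [Finite G] (hp : SGA1.IsQuot ρ p) (hfree : GeomFree ρ)
    [LocallyOfFiniteType p] (s : Y ⟶ X) (hs : s ≫ p = 𝟙 Y) :
    IsIso (Sigma.desc (fun g : G => s ≫ (ρ g).hom) : (∐ fun _ : G => Y) ⟶ X) := by
  haveI := formallyUnramified_of_geomFree hp hfree
  haveI := isOpenImmersion_of_section p s hs
  haveI : ∀ g : G, IsOpenImmersion (s ≫ (ρ g).hom) := fun g => by
    haveI : IsIso (ρ g).hom := Iso.isIso_hom (ρ g)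
    infer_instance
  have hopen : IsOpenImmersion
      (Sigma.desc (fun g : G => s ≫ (ρ g).hom) : (∐ fun _ : G => Y) ⟶ X) := by
    refine isOpenImmersion_sigmaDesc _ _ (fun g h hgh => ?_)
    rw [Function.onFun, Set.disjoint_iff_forall_ne]
    rintro _ ⟨y, rfl⟩ _ ⟨y', rfl⟩ heq
    exact hgh (section_disjoint hp hfree s hs g h y y' heq)
  rw [isIso_iff_isOpenImmersion_and_surjective]
  refine ⟨hopen, ⟨fun x => ?_⟩⟩
  let k : Type u := X.residueField x
  let ζ : Spec (CommRingCat.of k) ⟶ X := X.fromSpecResidueField x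
  have hcond : (ζ ≫ p ≫ s) ≫ p = ζ ≫ p := by
    rw [Category.assoc, Category.assoc, hs, Category.comp_id]
  obtain ⟨g, hg⟩ := exists_rho_comp_eq hp hfree k _ _ hcond
  let pt : Spec (CommRingCat.of k) := default
  have hx : ζ.base pt = x := Scheme.fromSpecResidueField_apply x pt
  refine ⟨(Sigma.ι (fun _ : G => Y) g).base ((ζ ≫ p).base pt), ?_⟩
  refine Eq.trans ?_ hx
  have h5 : ζ.base pt = ((ζ ≫ p ≫ s) ≫ (ρ g).hom).base pt :=
    congrArg (fun f : Spec (CommRingCat.of k) ⟶ X => f.base pt) hg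
  rw [h5, ← Scheme.Hom.comp_apply, Sigma.ι_desc]
  rfl

end Groth.Agent.H15.Quot
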