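import Groth.Agent.H15.GaloisSch
import Mathlib.AlgebraicGeometry.Morphisms.Etale
import Mathlib.AlgebraicGeometry.Morphisms.Separated

/-!
# Étale quotients of connected schemes: freeness and automorphisms
-/

set_option autoImplicit false
set_option linter.style.haveILetI false

universe u

open CategoryTheory CategoryTheory.Limits AlgebraicGeometry

namespace Groth.Agent.H15.Quot

variable {X Y : Scheme.{u}} {G : Type u} [Group G] {ρ : G →* Aut X} {p : X ⟶ Y}

/-- A faithful action on a connected scheme with unramified (separated) quotient map is free on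
geometric points. -/
theorem geomFree_of_unramified [ConnectedSpace X] (hp : SGA1.IsQuot ρ p) [FormallyUnramified p]
    [LocallyOfFiniteType p] (hfaith : Function.Injective ρ) : GeomFree ρ := by
  intro K _ _ ξ g hξ
  haveI := hp.affine
  have w : 𝟙 X ≫ p = (ρ g).hom ≫ p := by rw [Category.id_comp, hp.inv g]
  let γ : X ⟶ pullback p p := pullback.lift (𝟙 X) (ρ g).hom w
  haveI : IsOpenImmersion (pullback.diagonal p) := FormallyUnramified.isOpenImmersion_diagonal p
  haveI : IsClosedImmersion (pullback.diagonal p) := IsSeparated.isClosedImmersion_diagonal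
  let e : pullback γ (pullback.diagonal p) ⟶ X := pullback.fst γ (pullback.diagonal p)
  haveI : IsOpenImmersion e := inferInstance
  haveI : IsClosedImmersion e := inferInstance
  have hcond : e ≫ γ = pullback.snd γ (pullback.diagonal p) ≫ pullback.diagonal p :=
    pullback.condition
  have he1 : e = pullback.snd γ (pullback.diagonal p) := by
    have := congrArg (· ≫ pullback.fst p p) hcond
    simp only [Category.assoc] at this
    rw [pullback.lift_fst, pullback.diagonal_fst, Category.comp_id, Category.comp_id] at this
    exact this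
  have he : e ≫ (ρ g).hom = e := by
    have := congrArg (· ≫ pullback.snd p p) hcond
    simp only [Category.assoc] at this
    rw [pullback.lift_snd, pullback.diagonal_snd, Category.comp_id, ← he1] at this
    exact this
  -- the equalizer is nonempty
  have hl : ξ ≫ γ = ξ ≫ pullback.diagonal p := by
    apply pullback.hom_ext
    · rw [Category.assoc, Category.assoc, pullback.lift_fst, pullback.diagonal_fst]
    · rw [Category.assoc, Category.assoc, pullback.lift_snd, pullback.diagonal_snd,
        Category.comp_id, hξ]
  let l : Spec (CommRingCat.of K) ⟶ pullback γ (pullback.diagonal p) := pullback.lift ξ ξ hl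
  let pt : Spec (CommRingCat.of K) := default
  have hclopen : IsClopen (Set.range e.base) :=
    ⟨e.isClosedEmbedding.isClosed_range, e.isOpenEmbedding.isOpen_range⟩
  have huniv : Set.range e.base = Set.univ := hclopen.eq_univ ⟨_, ⟨l.base pt, rfl⟩⟩
  haveI : IsIso e := by
    rw [isIso_iff_isOpenImmersion_and_surjective]
    exact ⟨inferInstance, ⟨Set.range_eq_univ.mp huniv⟩⟩
  have h1 : (ρ g).hom = 𝟙 X := (cancel_epi e).mp (he.trans (Category.comp_id e).symm)
  have h2 : ρ g = ρ 1 := by
    rw [map_one]
    exact Iso.ext h1
  exact hfaith h2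


/-- For a free action on a connected scheme, every `Y`-automorphism of `X` comes from `G`. -/
theorem exists_rho_eq_of_aut [Finite G] [ConnectedSpace X] (hp : SGA1.IsQuot ρ p)
    (hfree : GeomFree ρ) [LocallyOfFiniteType p] (u : Aut X) (hu : u.hom ≫ p = p) :
    ∃ g : G, ρ g = u := by
  haveI := hp.affine
  obtain ⟨x0⟩ : Nonempty X := inferInstance
  let k : Type u := X.residueField x0
  let ζ : Spec (CommRingCat.of k) ⟶ X := X.fromSpecResidueField x0
  obtain ⟨g, hg⟩ := exists_rho_comp_eq hp hfree k ζ (ζ ≫ u.hom) (by rw [Category.assoc, hu])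
  refine ⟨g, ?_⟩
  have wu : 𝟙 X ≫ p = u.hom ≫ p := by rw [Category.id_comp, hu]
  have wg : 𝟙 X ≫ p = (ρ g).hom ≫ p := by rw [Category.id_comp, hp.inv g]
  let γu : X ⟶ pullback p p := pullback.lift (𝟙 X) u.hom wu
  let Δg : X ⟶ pullback p p := pullback.lift (𝟙 X) (ρ g).hom wg
  haveI : IsOpenImmersion Δg := isOpenImmersion_graph hp hfree g wg
  haveI : IsClosedImmersion Δg := by
    haveI : IsClosedImmersion (Δg ≫ pullback.fst p p) := by
      rw [pullback.lift_fst]; infer_instance
    exact IsClosedImmersion.of_comp Δg (pullback.fst p p)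
  have hζ : ζ ≫ γu = ζ ≫ Δg := by
    apply pullback.hom_ext
    · rw [Category.assoc, Category.assoc, pullback.lift_fst, pullback.lift_fst]
    · rw [Category.assoc, Category.assoc, pullback.lift_snd, pullback.lift_snd, hg]
  let pt : Spec (CommRingCat.of k) := default
  have hx0 : ζ.base pt = x0 := Scheme.fromSpecResidueField_apply x0 pt
  have hclopen : IsClopen (γu.base ⁻¹' Set.range Δg.base) :=
    ⟨Δg.isClosedEmbedding.isClosed_range.preimage γu.continuous,
      Δg.isOpenEmbedding.isOpen_range.preimage γu.continuous⟩
  have hne : (γu.base ⁻¹' Set.range Δg.base).Nonempty := by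
    refine ⟨x0, x0, ?_⟩
    rw [← hx0, ← Scheme.Hom.comp_apply, ← Scheme.Hom.comp_apply, hζ]
  have huniv := hclopen.eq_univ hne
  have hrange : Set.range γu.base ⊆ Set.range Δg.base := by
    rintro _ ⟨x, rfl⟩
    have : x ∈ γu.base ⁻¹' Set.range Δg.base := by rw [huniv]; trivial
    exact this
  let θ := IsOpenImmersion.lift Δg γu hrange
  have hθ : θ ≫ Δg = γu := IsOpenImmersion.lift_fac _ _ _
  have hθ1 : θ = 𝟙 X := by
    have := congrArg (· ≫ pullback.fst p p) hθ
    simp only [Category.assoc] at this
    rw [pullback.lift_fst, pullback.lift_fst, Category.comp_id] at this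
    exact this
  have h3 : (ρ g).hom = u.hom := by
    have := congrArg (· ≫ pullback.snd p p) hθ
    simp only [Category.assoc] at this
    rw [pullback.lift_snd, pullback.lift_snd, hθ1, Category.id_comp] at this
    exact this
  exact Iso.ext h3

end Groth.Agent.H15.Quot
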