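import Groth.Agent.H1.Descent
import Groth.Agent.H40.Torsor
import Groth.Prelude.Def_AlgGrp
import Mathlib

/-!
# Descending a property of a homomorphism from its restriction to a flat kernel

For an extension `1 ⟶ N ⟶ G ⟶ G'' ⟶ 1` (with `p : G ⟶ G''` an fpqc covering) and a homomorphism
`u : G ⟶ H`, the morphism `(u, p) : G ⟶ H ⊗ G''` becomes, after the base change along
`H ◁ p`, the morphism `(n, g) ↦ (u n * u g, g)`, which is a base change of `u ∘ i` composed with an
isomorphism.  Hence properties which descend along fpqc coverings pass from `u ∘ i` to `(u, p)`.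
-/

set_option autoImplicit false
universe u

open CategoryTheory CategoryTheory.Limits MonoidalCategory CartesianMonoidalCategory MonObj GrpObj
  AlgebraicGeometry MorphismProperty

namespace Groth.Agent.H15.GrpExtDescent

section Abstract

variable {C : Type*} [Category C] [CartesianMonoidalCategory C]

/-- the translation `(h, g) ↦ (h * u g, g)` of `H ⊗ G` -/
def shearIso {G H : C} [GrpObj G] [GrpObj H] (u : G ⟶ H) : H ⊗ G ≅ H ⊗ G where
  hom := lift (fst H G * (snd H G ≫ u)) (snd H G)
  inv := lift (fst H G * (snd H G ≫ u)⁻¹) (snd H G)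
  hom_inv_id := by
    apply CartesianMonoidalCategory.hom_ext
    · rw [Category.assoc, lift_fst, MonObj.comp_mul, lift_fst, GrpObj.comp_inv, ← Category.assoc,
        lift_snd, Category.id_comp, mul_inv_cancel_right]
    · rw [Category.assoc, lift_snd, lift_snd, Category.id_comp]
  inv_hom_id := by
    apply CartesianMonoidalCategory.hom_ext
    · rw [Category.assoc, lift_fst, MonObj.comp_mul, lift_fst, ← Category.assoc,
        lift_snd, Category.id_comp, inv_mul_cancel_right]
    · rw [Category.assoc, lift_snd, lift_snd, Category.id_comp]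

theorem isPullback_pair {G G'' H N : C} [GrpObj G] [GrpObj G''] [GrpObj H]
    (p : G ⟶ G'') [IsMonHom p] (u : G ⟶ H) [IsMonHom u]
    (i : N ⟶ G) (hN : IsPullback i (toUnit N) p η[G'']) :
    IsPullback (((i ≫ u) ▷ G) ≫ (shearIso u).hom) ((fst N G ≫ i) * snd N G) (H ◁ p) (lift u p) := by
  have hmulp : ∀ {T : C} (a b : T ⟶ G), (a * b) ≫ p = (a ≫ p) * (b ≫ p) := fun {T} a b =>
    map_mul (IsMonHom.monoidHom p T) a b
  have hmulu : ∀ {T : C} (a b : T ⟶ G), (a * b) ≫ u = (a ≫ u) * (b ≫ u) := fun {T} a b =>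
    map_mul (IsMonHom.monoidHom u T) a b
  have hinvp : ∀ {T : C} (a : T ⟶ G), a⁻¹ ≫ p = (a ≫ p)⁻¹ := fun {T} a =>
    map_inv (IsMonHom.monoidHom p T) a
  have hinvu : ∀ {T : C} (a : T ⟶ G), a⁻¹ ≫ u = (a ≫ u)⁻¹ := fun {T} a =>
    map_inv (IsMonHom.monoidHom u T) a
  have hip : ∀ {T : C} (n : T ⟶ N), (n ≫ i) ≫ p = 1 := by
    intro T n
    rw [Category.assoc, hN.w, ← Category.assoc, Hom.one_def, toUnit_unique (n ≫ toUnit N) (toUnit T)]
  have hfst : ((i ≫ u) ▷ G) ≫ (shearIso u).hom ≫ fst H G
      = (fst N G ≫ i ≫ u) * (snd N G ≫ u) := by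
    change ((i ≫ u) ▷ G) ≫ lift (fst H G * (snd H G ≫ u)) (snd H G) ≫ fst H G = _
    rw [lift_fst, MonObj.comp_mul, whiskerRight_fst, whiskerRight_snd_assoc]
  have hsnd : ((i ≫ u) ▷ G) ≫ (shearIso u).hom ≫ snd H G = snd N G := by
    change ((i ≫ u) ▷ G) ≫ lift (fst H G * (snd H G ≫ u)) (snd H G) ≫ snd H G = _
    rw [lift_snd, whiskerRight_snd]
  have w : (((i ≫ u) ▷ G) ≫ (shearIso u).hom) ≫ (H ◁ p)
      = ((fst N G ≫ i) * snd N G) ≫ lift u p := by
    apply CartesianMonoidalCategory.hom_ext
    · rw [Category.assoc, Category.assoc, whiskerLeft_fst, hfst, Category.assoc, lift_fst, hmulu,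
        Category.assoc]
    · rw [Category.assoc, Category.assoc, whiskerLeft_snd, reassoc_of% hsnd, Category.assoc,
        lift_snd, hmulp, hip, _root_.one_mul]
  -- data extracted from a cone
  have c1 : ∀ s : PullbackCone (H ◁ p) (lift u p), s.fst ≫ fst H G = s.snd ≫ u := by
    intro s
    have := congrArg (· ≫ fst H G'') s.condition
    simpa using this
  have c2 : ∀ s : PullbackCone (H ◁ p) (lift u p), (s.fst ≫ snd H G) ≫ p = s.snd ≫ p := by
    intro s
    have := congrArg (· ≫ snd H G'') s.condition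
    simpa using this
  have key : ∀ s : PullbackCone (H ◁ p) (lift u p),
      (s.snd * (s.fst ≫ snd H G)⁻¹) ≫ p = toUnit s.pt ≫ η[G''] := by
    intro s
    rw [hmulp, hinvp, c2, mul_inv_cancel, Hom.one_def]
  refine ⟨⟨w⟩, ⟨PullbackCone.IsLimit.mk w
    (fun s => lift (hN.lift (s.snd * (s.fst ≫ snd H G)⁻¹) (toUnit s.pt) (key s)) (s.fst ≫ snd H G))
    ?_ ?_ ?_⟩⟩
  · intro s
    apply CartesianMonoidalCategory.hom_ext
    · rw [Category.assoc, Category.assoc, hfst, MonObj.comp_mul, ← Category.assoc, lift_fst,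
        ← Category.assoc, hN.lift_fst, ← Category.assoc, lift_snd, hmulu, hinvu,
        inv_mul_cancel_right, c1]
    · rw [Category.assoc, Category.assoc, hsnd, lift_snd]
  · intro s
    rw [MonObj.comp_mul, ← Category.assoc, lift_fst, hN.lift_fst, lift_snd, inv_mul_cancel_right]
  · intro s m h1 h2
    have h3 : m ≫ snd N G = s.fst ≫ snd H G := by
      rw [← h1, Category.assoc, Category.assoc, hsnd]
    have h4 : (m ≫ fst N G) ≫ i = s.snd * (s.fst ≫ snd H G)⁻¹ := by
      rw [← h2, ← h3, MonObj.comp_mul, Category.assoc, mul_inv_cancel_right]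
    apply CartesianMonoidalCategory.hom_ext
    · rw [lift_fst]
      apply hN.hom_ext
      · rw [hN.lift_fst, h4]
      · exact toUnit_unique _ _
    · rw [lift_snd, h3]

end Abstract

section Schemes

open Groth.Agent.H1

variable {S : Scheme.{u}}

/-- membership of `fpqc` for a morphism of `S`-schemes -/
theorem fpqc_whiskerLeft {G G'' : Over S} (H : Over S) (p : G ⟶ G'')
    [Surjective p.left] [Flat p.left] [QuasiCompact p.left] : fpqc (H ◁ p).left := by
  have sq : IsPullback (H ◁ p).left (snd H G).left (snd H G'').left p.left := by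
    have := (Groth.Agent.H40.isPullback_whiskerLeft_snd p H).map (Over.forget S)
    simpa using this
  exact ⟨⟨MorphismProperty.of_isPullback (P := @Surjective) sq.flip inferInstance,
    MorphismProperty.of_isPullback (P := @Flat) sq.flip inferInstance⟩,
    MorphismProperty.of_isPullback (P := @QuasiCompact) sq.flip inferInstance⟩

/-- For an extension `N ⟶ G ⟶ G''` of `S`-groups with `p : G ⟶ G''` an fpqc covering and a
homomorphism `u : G ⟶ H`: a property stable under base change which descends along fpqc coverings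
passes from `u ∘ i` to `(u, p) : G ⟶ H ×_S G''`. -/
theorem prop_pair_of_prop_kernel (P : MorphismProperty Scheme.{u}) [P.IsStableUnderBaseChange]
    [P.RespectsIso] (hP : P.DescendsAlong fpqc.{u})
    {G G'' H N : Over S} [GrpObj G] [GrpObj G''] [GrpObj H]
    (p : G ⟶ G'') [IsMonHom p] [Surjective p.left] [Flat p.left] [QuasiCompact p.left]
    (i : N ⟶ G) (hker : AlgGrp.IsKernel i p) (u : G ⟶ H) [IsMonHom u]
    (hu : P (i ≫ u).left) : P (lift u p).left := by
  have sq := (isPullback_pair p u i hker).map (Over.forget S)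
  simp only [Over.forget_obj, Over.forget_map] at sq
  have h1 : P ((i ≫ u) ▷ G).left := by
    have hpb : IsPullback ((i ≫ u) ▷ G).left (fst N G).left (fst H G).left (i ≫ u).left := by
      have := (Groth.Agent.H40.isPullback_whiskerRight_fst (i ≫ u) G).map (Over.forget S)
      simpa using this
    exact P.of_isPullback hpb.flip hu
  have h2 : P (((i ≫ u) ▷ G) ≫ (shearIso u).hom).left := by
    rw [Over.comp_left]
    have : IsIso (shearIso u).hom.left := inferInstanceAs (IsIso ((Over.forget S).map (shearIso u).hom))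
    exact (P.cancel_right_of_respectsIso _ _).mpr h1
  exact hP.of_isPullback sq (fpqc_whiskerLeft H p) h2

end Schemes

end Groth.Agent.H15.GrpExtDescent
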