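import Groth.Agent.H15.GrpHomProper
import Groth.Agent.S4104
import Mathlib

/-!
# Monomorphisms of group schemes over a field into affine group schemes

* `isAffineHom_of_mono_of_universallyClosed`: a universally closed monomorphism is affine.
* `isClosedImmersion_of_mono_of_isAffine`: a monomorphic homomorphism between affine group schemes
  over a field is a closed immersion (scheme version of S4104).
* `isClosedImmersion_of_mono_quasiCompact`: a quasi-compact monomorphic homomorphism of group
  schemes over a field with affine target is a closed immersion.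
-/

set_option autoImplicit false
set_option linter.style.haveILetI false
universe u

open CategoryTheory CategoryTheory.Limits MonoidalCategory CartesianMonoidalCategory MonObj GrpObj
  AlgebraicGeometry MorphismProperty

namespace Groth.Agent.H15.GrpHomAffine

/-- A universally closed monomorphism of schemes is affine. -/
theorem isAffineHom_of_mono_of_universallyClosed {X Y : Scheme.{u}} (f : X ⟶ Y) [Mono f]
    [UniversallyClosed f] : IsAffineHom f := by
  have hce : Topology.IsClosedEmbedding f :=
    Topology.IsClosedEmbedding.of_continuous_injective_isClosedMap f.continuous f.injective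
      f.isClosedMap
  exact isAffineHom_of_isInducing f hce.isInducing hce.isClosed_range

section Field

variable (k : Type u) [Field k]

/-- A monomorphic homomorphism between affine group schemes over a field is a closed immersion. -/
theorem isClosedImmersion_of_mono_of_isAffine (G G' : Over (Spec (CommRingCat.of k))) [GrpObj G]
    [GrpObj G'] [IsAffine G.left] [IsAffine G'.left] (h : G ⟶ G') [IsMonHom h] [Mono h.left] :
    IsClosedImmersion h.left := by
  obtain ⟨Hop, ⟨e⟩⟩ := (essImage_hopfSpec (R := CommRingCat.of k) (G := Grp.mk G)).mpr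
    (inferInstance : IsAffine G.left)
  obtain ⟨Hop', ⟨e'⟩⟩ := (essImage_hopfSpec (R := CommRingCat.of k) (G := Grp.mk G')).mpr
    (inferInstance : IsAffine G'.left)
  let F := e.hom ≫ Grp.ofHom h ≫ e'.inv
  let f := (hopfSpec.fullyFaithful (R := CommRingCat.of k)).preimage F
  have hf : (hopfSpec (CommRingCat.of k)).map f = F :=
    (hopfSpec.fullyFaithful (R := CommRingCat.of k)).map_preimage F
  let iH : HopfAlgebra k Hop.unop := Hop.unop.hopfAlgebra
  let iH' : HopfAlgebra k Hop'.unop := Hop'.unop.hopfAlgebra
  let φ : Hop'.unop →ₐc[k] Hop.unop := f.unop.hom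
  have hleft : ((hopfSpec (CommRingCat.of k)).map f).hom.hom.left =
      Spec.map (CommRingCat.ofHom ((φ : Hop'.unop →ₐ[k] Hop.unop) : Hop'.unop →+* Hop.unop)) := rfl
  obtain ⟨a, ha⟩ : ∃ a : ((hopfSpec (CommRingCat.of k)).obj Hop).X.left ⟶ G.left,
      a = e.hom.hom.hom.left := ⟨_, rfl⟩
  obtain ⟨c, hc⟩ : ∃ c : G'.left ⟶ ((hopfSpec (CommRingCat.of k)).obj Hop').X.left,
      c = e'.inv.hom.hom.left := ⟨_, rfl⟩
  have h1 : ((hopfSpec (CommRingCat.of k)).map f).hom.hom.left = a ≫ h.left ≫ c := by
    rw [hf, ha, hc]; rfl
  have hiso1 : IsIso a := by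
    rw [ha]
    exact ((Grp.forget _ ⋙ CategoryTheory.Over.forget _).mapIso e).isIso_hom
  have hiso2 : IsIso c := by
    rw [hc]
    exact ((Grp.forget _ ⋙ CategoryTheory.Over.forget _).mapIso e').isIso_inv
  have hmono' : Mono (((hopfSpec (CommRingCat.of k)).map f).hom.hom.left) := by
    rw [h1]
    infer_instance
  have hmono : Mono (Spec.map (CommRingCat.ofHom
      ((φ : Hop'.unop →ₐ[k] Hop.unop) : Hop'.unop →+* Hop.unop))) := hmono'
  have hsurj : Function.Surjective φ := by
    apply Groth.Agent.S4104.result k Hop'.unop Hop.unop φ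
    intro R _ a b hab
    have hab' : a.comp ((φ : Hop'.unop →ₐ[k] Hop.unop) : Hop'.unop →+* Hop.unop) =
        b.comp ((φ : Hop'.unop →ₐ[k] Hop.unop) : Hop'.unop →+* Hop.unop) := hab
    have h2 : Spec.map (CommRingCat.ofHom a) ≫ Spec.map (CommRingCat.ofHom
        ((φ : Hop'.unop →ₐ[k] Hop.unop) : Hop'.unop →+* Hop.unop)) =
        Spec.map (CommRingCat.ofHom b) ≫ Spec.map (CommRingCat.ofHom
        ((φ : Hop'.unop →ₐ[k] Hop.unop) : Hop'.unop →+* Hop.unop)) := by
      rw [← Spec.map_comp, ← Spec.map_comp, ← CommRingCat.ofHom_comp, ← CommRingCat.ofHom_comp,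
        hab']
    have h3 := (cancel_mono _).mp h2
    have h4 := Spec.map_injective h3
    exact congrArg CommRingCat.Hom.hom h4
  have hci : IsClosedImmersion (Spec.map (CommRingCat.ofHom
      ((φ : Hop'.unop →ₐ[k] Hop.unop) : Hop'.unop →+* Hop.unop))) :=
    IsClosedImmersion.spec_of_surjective _ hsurj
  have hci' : IsClosedImmersion (((hopfSpec (CommRingCat.of k)).map f).hom.hom.left) := hci
  rw [h1] at hci'
  have hh : h.left = inv a ≫ (a ≫ h.left ≫ c) ≫ inv c := by
    rw [Category.assoc, Category.assoc, IsIso.hom_inv_id, Category.comp_id,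
      IsIso.inv_hom_id_assoc]
  rw [hh]
  infer_instance

/-- A quasi-compact monomorphic homomorphism of group schemes over a field with affine target is a
closed immersion. -/
theorem isClosedImmersion_of_mono_quasiCompact (G H : Over (Spec (CommRingCat.of k)))
    [GrpObj G] [GrpObj H] [IsAffine H.left] (u : G ⟶ H) [IsMonHom u] [Mono u]
    [QuasiCompact u.left] : IsClosedImmersion u.left := by
  have hmonoL : Mono u.left := by
    have : Mono ((CategoryTheory.Over.forget _).map u) := inferInstance
    exact ‹Mono ((CategoryTheory.Over.forget _).map u)›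
  -- the kernel is trivial
  set t := Limits.pullback.snd u.left (η[H] : 𝟙_ (Over (Spec (CommRingCat.of k))) ⟶ H).left with ht
  have hmonot : Mono t := inferInstance
  have hcond : (η[G] : 𝟙_ (Over (Spec (CommRingCat.of k))) ⟶ G).left ≫ u.left =
      𝟙 _ ≫ (η[H] : 𝟙_ (Over (Spec (CommRingCat.of k))) ⟶ H).left := by
    rw [← Over.comp_left, IsMonHom.one_hom, Category.id_comp]
  have hsec : Limits.pullback.lift (η[G] : 𝟙_ (Over (Spec (CommRingCat.of k))) ⟶ G).left (𝟙 _)
      hcond ≫ t = 𝟙 _ := Limits.pullback.lift_snd _ _ _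
  have hse : IsSplitEpi t := ⟨⟨⟨_, hsec⟩⟩⟩
  have hiso : IsIso t := isIso_of_mono_of_isSplitEpi t
  have hK : UniversallyClosed t := inferInstance
  have huc : UniversallyClosed u.left :=
    Groth.Agent.H15.GrpHomProper.universallyClosed_of_artinian k G H u hK
  have haff : IsAffineHom u.left := isAffineHom_of_mono_of_universallyClosed u.left
  have hGaff : IsAffine G.left := isAffine_of_isAffineHom u.left
  exact isClosedImmersion_of_mono_of_isAffine k G H u

end Field

end Groth.Agent.H15.GrpHomAffine
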