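import Groth.Agent.H90.OrbitProper
import Groth.Agent.H90.GrpKerSmooth
import Groth.Agent.H90.GrpUnitSection
import Groth.Agent.H38.GrpConnComp
import Mathlib

/-!
# Homomorphisms of group schemes over an artinian local ring: properness from the kernel

`universallyClosed_of_perfectField`: over a perfect field, a quasi-compact homomorphism of group
schemes whose kernel is universally closed over the base is universally closed (fpqc descent along
`G_red ⟶ image`).
-/

set_option autoImplicit false
set_option linter.style.haveILetI false
universe u

open CategoryTheory CategoryTheory.Limits MonoidalCategory CartesianMonoidalCategory MonObj GrpObj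
  AlgebraicGeometry MorphismProperty

namespace Groth.Agent.H15.GrpHomProper

open Groth.Agent.H90

section Kernel

variable {S : Scheme.{u}} {G H : Over S} [GrpObj G] [GrpObj H]

/-- The projection of the kernel pair of a homomorphism `φ` is a base change of the kernel
`pullback φ.left η.left ⟶ S`. -/
theorem exists_kernelPair (φ : G ⟶ H) [IsMonHom φ] :
    ∃ (P : Scheme.{u}) (p q : P ⟶ G.left) (h : P ⟶ pullback φ.left η[H].left),
      IsPullback p q φ.left φ.left ∧
        IsPullback h p (pullback.snd φ.left η[H].left) G.hom := by
  obtain ⟨N, i, hN⟩ : ∃ (N : Over S) (i : N ⟶ G), IsPullback i (toUnit N) φ η[H] := by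
    refine ⟨pullback φ η[H], pullback.fst _ _, ?_⟩
    have h := IsPullback.of_hasPullback φ η[H]
    rwa [toUnit_unique (pullback.snd φ η[H]) (toUnit _)] at h
  have sqN := hN.map (Over.forget S)
  simp only [Over.forget_obj, Over.forget_map] at sqN
  have sq1 := (isPullback_shear_of_isKernel φ i hN).map (Over.forget S)
  simp only [Over.forget_obj, Over.forget_map] at sq1
  have sq2 : IsPullback (snd G N).left (fst G N).left N.hom G.hom := by
    rw [Over.fst_left, Over.snd_left]
    exact (IsPullback.of_hasPullback G.hom N.hom).flip
  have sqS := IsPullback.of_hasPullback φ.left η[H].left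
  have hNhom : N.hom = (toUnit N).left := by
    have := Over.w (toUnit N)
    rw [← this]
    exact (Category.comp_id _).symm
  -- the comparison iso `N.left ≅ pullback φ.left η.left`
  let e : N.left ≅ pullback φ.left η[H].left := sqN.isoPullback
  have he2 : e.hom ≫ pullback.snd φ.left η[H].left = N.hom := by
    rw [hNhom]
    exact sqN.isoPullback_hom_snd
  refine ⟨(G ⊗ N).left, (fst G N).left, (fst G N * (snd G N ≫ i)).left,
    (snd G N).left ≫ e.hom, sq1, ?_⟩
  have : IsPullback ((snd G N).left ≫ e.hom) (fst G N).left
      (e.inv ≫ N.hom) G.hom := by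
    refine IsPullback.of_iso sq2 (Iso.refl _) e (Iso.refl _) (Iso.refl _) ?_ ?_ ?_ ?_
    · simp
    · simp
    · simp
    · simp
  rwa [← he2, e.inv_hom_id_assoc] at this

end Kernel

section Perfect

variable (L : Type u) [Field L] [PerfectField L]

/-- Over a perfect field: a quasi-compact homomorphism of group schemes whose kernel is
universally closed over the base is universally closed. -/
theorem universallyClosed_of_perfectField
    (G H : Over (Spec (CommRingCat.of L))) [GrpObj G] [GrpObj H] (u : G ⟶ H) [IsMonHom u]
    [QuasiCompact u.left]
    (hK : UniversallyClosed (pullback.snd u.left η[H].left)) : UniversallyClosed u.left := by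
  obtain ⟨Gr, instGr, r, hr1, hr2, hr3, hr4⟩ := OrbitProper.exists_reduced_subgroup L G
  let ur : Gr ⟶ H := r ≫ u
  have hurqc : QuasiCompact ur.left := by
    change QuasiCompact (r ≫ u).left
    rw [Over.comp_left]
    infer_instance
  obtain ⟨H', instH', i, f', hi, hf', hfac, hci, hker, hqc, hsurj⟩ :=
    exists_image_subgroup L Gr H ur
  have hdom : IsSchemeTheoreticallyDominant f'.left := ⟨hker⟩
  have hH'red : IsReduced H'.left := IsSchemeTheoreticallyDominant.isReduced f'.left
  have hflat : Flat f'.left :=
    flat_of_quasiCompact_dominant_of_isReduced L Gr H' f' f'.left.surjective.denseRange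
  obtain ⟨P, p, q, h, sq1, sq3⟩ := exists_kernelPair f'
  -- the kernel of `f'` is universally closed over the base
  have hmonoi : Mono i.left := inferInstance
  have sqK' := OrbitProper.isPullback_comp_mono (IsPullback.of_hasPullback f'.left η[H'].left) i.left
  have e1 : f'.left ≫ i.left = r.left ≫ u.left := by
    rw [← Over.comp_left, hfac]
    rfl
  have e2 : η[H'].left ≫ i.left = η[H].left := by
    rw [← Over.comp_left, IsMonHom.one_hom]
  rw [e1, e2] at sqK'
  have sqS := IsPullback.of_hasPullback u.left η[H].left
  let j := sqS.lift (pullback.fst f'.left η[H'].left ≫ r.left) (pullback.snd f'.left η[H'].left)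
    (by rw [Category.assoc]; exact sqK'.w)
  have sqJ : IsPullback (pullback.fst f'.left η[H'].left) j r.left (pullback.fst u.left η[H].left) := by
    refine (IsPullback.of_right ?_ (sqS.lift_fst _ _ _) sqS.flip).flip
    rw [sqS.lift_snd]
    exact sqK'.flip
  have hj : IsClosedImmersion j := MorphismProperty.of_isPullback (P := @IsClosedImmersion) sqJ hr2
  have ht' : UniversallyClosed (pullback.snd f'.left η[H'].left) := by
    have : pullback.snd f'.left η[H'].left = j ≫ pullback.snd u.left η[H].left :=
      (sqS.lift_snd _ _ _).symm
    rw [this]
    infer_instance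
  have hp : UniversallyClosed p := MorphismProperty.of_isPullback (P := @UniversallyClosed) sq3 ht'
  have hf'uc : UniversallyClosed f'.left :=
    MorphismProperty.of_isPullback_of_descendsAlong (P := @UniversallyClosed)
      (Q := @Surjective ⊓ @Flat ⊓ @QuasiCompact) sq1 ⟨⟨hsurj, hflat⟩, hqc⟩ hp
  have : UniversallyClosed (r.left ≫ u.left) := by
    rw [← e1]
    infer_instance
  exact UniversallyClosed.of_comp_surjective r.left u.left

end Perfect

section BaseChange

variable {S S' : Scheme.{u}} (g : S' ⟶ S) {G H : Over S} [GrpObj G] [GrpObj H] (u : G ⟶ H)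

omit [GrpObj G] [GrpObj H] in
lemma bc_map_left_fst :
    ((Over.pullback g).map u).left ≫ pullback.fst H.hom g = pullback.fst G.hom g ≫ u.left :=
  pullback.lift_fst _ _ _

omit [GrpObj G] [GrpObj H] in
lemma bc_map_left_snd :
    ((Over.pullback g).map u).left ≫ pullback.snd H.hom g = pullback.snd G.hom g :=
  pullback.lift_snd _ _ _

omit [GrpObj G] [GrpObj H] in
/-- The base change square of a morphism of `S`-schemes. -/
lemma isPullback_bc_map :
    IsPullback ((Over.pullback g).map u).left (pullback.fst G.hom g) (pullback.fst H.hom g)
      u.left := by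
  have right : IsPullback (pullback.snd H.hom g) (pullback.fst H.hom g) g H.hom :=
    (IsPullback.of_hasPullback H.hom g).flip
  have outer : IsPullback (((Over.pullback g).map u).left ≫ pullback.snd H.hom g)
      (pullback.fst G.hom g) g (u.left ≫ H.hom) := by
    rw [bc_map_left_snd, Over.w u]
    exact (IsPullback.of_hasPullback G.hom g).flip
  exact IsPullback.of_right outer (bc_map_left_fst g u) right

lemma unit_bc_fst : η[Red.bc g H].left ≫ pullback.fst H.hom g = g ≫ η[H].left := by
  letI : GrpObj (Over.mk H.hom) := ‹GrpObj H›
  exact Groth.Agent.H38.GrpConnComp.one_left_fst H.hom g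

/-- The kernel of the base change is the base change of the kernel. -/
lemma exists_isPullback_kernel_bc [IsMonHom u] :
    ∃ m : pullback ((Over.pullback g).map u).left η[Red.bc g H].left ⟶ pullback u.left η[H].left,
      IsPullback m (pullback.snd ((Over.pullback g).map u).left η[Red.bc g H].left)
        (pullback.snd u.left η[H].left) g := by
  have left := IsPullback.of_hasPullback ((Over.pullback g).map u).left η[Red.bc g H].left
  have right : IsPullback (pullback.fst G.hom g) ((Over.pullback g).map u).left u.left
      (pullback.fst H.hom g) := (isPullback_bc_map g u).flip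
  have big := left.paste_horiz right
  rw [unit_bc_fst] at big
  have sqK := IsPullback.of_hasPullback u.left η[H].left
  let m := sqK.lift (pullback.fst ((Over.pullback g).map u).left η[Red.bc g H].left ≫
      pullback.fst G.hom g)
    (pullback.snd ((Over.pullback g).map u).left η[Red.bc g H].left ≫ g)
    (by rw [Category.assoc]; exact big.w)
  refine ⟨m, IsPullback.of_right ?_ (sqK.lift_snd _ _ _) sqK⟩
  rw [sqK.lift_fst]
  exact big

end BaseChange

section Artin

variable (A : Type u) [CommRing A] [IsArtinianRing A] [IsLocalRing A]

lemma subsingleton_spec_artinian : Subsingleton ↥(Spec (CommRingCat.of A)) := by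
  change Subsingleton (PrimeSpectrum A)
  refine ⟨fun p q => ?_⟩
  ext1
  have hp : p.asIdeal.IsMaximal := IsArtinianRing.isMaximal_of_isPrime p.asIdeal
  have hq : q.asIdeal.IsMaximal := IsArtinianRing.isMaximal_of_isPrime q.asIdeal
  rw [IsLocalRing.eq_maximalIdeal hp, IsLocalRing.eq_maximalIdeal hq]

/-- Over an artinian local ring: a quasi-compact homomorphism of group schemes whose kernel is
universally closed over the base is universally closed. -/
theorem universallyClosed_of_artinian
    (G H : Over (Spec (CommRingCat.of A))) [GrpObj G] [GrpObj H] (u : G ⟶ H) [IsMonHom u]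
    [QuasiCompact u.left]
    (hK : UniversallyClosed (pullback.snd u.left η[H].left)) : UniversallyClosed u.left := by
  let k := IsLocalRing.ResidueField A
  let L := AlgebraicClosure k
  let φ : A →+* L := (algebraMap k L).comp (IsLocalRing.residue A)
  let g : Spec (CommRingCat.of L) ⟶ Spec (CommRingCat.of A) := Spec.map (CommRingCat.ofHom φ)
  have hφint : φ.IsIntegral := by
    refine RingHom.IsIntegral.trans _ _
      (RingHom.isIntegral_of_surjective _ IsLocalRing.residue_surjective) ?_
    exact algebraMap_isIntegral_iff.mpr inferInstance
  have hgint : IsIntegralHom g := IsIntegralHom.SpecMap_iff.mpr hφint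
  have hsub := subsingleton_spec_artinian A
  have hgsurj : Surjective g :=
    ⟨fun y => ⟨IsLocalRing.closedPoint L, Subsingleton.elim _ _⟩⟩
  let uL := (Over.pullback g).map u
  have sq := isPullback_bc_map g u
  have hqcL : QuasiCompact uL.left :=
    MorphismProperty.of_isPullback (P := @QuasiCompact) sq.flip inferInstance
  obtain ⟨m, sqm⟩ := exists_isPullback_kernel_bc g u
  have hKL : UniversallyClosed (pullback.snd uL.left η[Red.bc g H].left) :=
    MorphismProperty.of_isPullback (P := @UniversallyClosed) sqm hK
  have huL : UniversallyClosed uL.left :=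
    universallyClosed_of_perfectField L (Red.bc g G) (Red.bc g H) uL hKL
  have : UniversallyClosed (pullback.fst G.hom g ≫ u.left) := by
    rw [← bc_map_left_fst g u]
    infer_instance
  exact UniversallyClosed.of_comp_surjective (pullback.fst G.hom g) u.left

/-- Over an artinian local ring: a quasi-compact homomorphism of group schemes locally of finite
type whose kernel is proper over the base is proper. -/
theorem isProper_of_artinian
    (G H : Over (Spec (CommRingCat.of A))) [GrpObj G] [GrpObj H] [LocallyOfFiniteType G.hom]
    (u : G ⟶ H) [IsMonHom u] [QuasiCompact u.left]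
    (hK : UniversallyClosed (pullback.snd u.left η[H].left)) : IsProper u.left := by
  have huc := universallyClosed_of_artinian A G H u hK
  have hsub := subsingleton_spec_artinian A
  have hdisc : DiscreteTopology ↥(Spec (CommRingCat.of A)) := inferInstance
  have hsepG : IsSeparated G.hom := isSeparated_of_discrete _ G
  have hsep : IsSeparated u.left := by
    have : IsSeparated (u.left ≫ H.hom) := by rw [Over.w u]; exact hsepG
    exact IsSeparated.of_comp u.left H.hom
  have hft : LocallyOfFiniteType u.left := by
    have : LocallyOfFiniteType (u.left ≫ H.hom) := by rw [Over.w u]; infer_instance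
    exact locallyOfFiniteType_of_comp u.left H.hom
  exact { }

end Artin

end Groth.Agent.H15.GrpHomProper
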