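import Mathlib

/-!
# Hopf's lemma on 1-generic bilinear maps, via the Segre ring

For an algebraically closed field `k` and a bilinear map `φ : k^m × k^n → k^r` with
`φ a b ≠ 0` for nonzero `a`, `b`, we show `m + n ≤ r + 1`.  The proof uses the weight-zero
subalgebra `Seg` of `k[x_1..x_m, y_1..y_n]` (weights `+1` on `x`, `-1` on `y`), which is Noetherian
because it is a direct summand, the Nullstellensatz, Krull's height theorem and an explicit chain
of primes of length `m + n - 1` in `Seg`.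
-/

set_option linter.style.haveILetI false

namespace Groth.Agent.H15.Hopf

open MvPolynomial

section Retraction

variable {S R : Type*} [CommRing S] [CommRing R] [Algebra S R]

lemma comap_map_of_retraction (ρ : R →ₗ[S] S) (hρ : ∀ s, ρ (algebraMap S R s) = s)
    (I : Ideal S) : (I.map (algebraMap S R)).comap (algebraMap S R) = I := by
  refine le_antisymm ?_ Ideal.le_comap_map
  intro x hx
  have key : ∀ y ∈ (I • (⊤ : Submodule S R)), ρ y ∈ I := by
    intro y hy
    refine Submodule.smul_induction_on hy (fun i hi r _ => ?_) (fun a b ha hb => ?_)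
    · rw [map_smul]
      exact I.mul_mem_right _ hi
    · rw [map_add]
      exact I.add_mem ha hb
  have hx' : algebraMap S R x ∈ (I • (⊤ : Submodule S R)) := by
    rw [Ideal.smul_top_eq_map]
    exact hx
  simpa [hρ] using key _ hx'

lemma isNoetherianRing_of_retraction [IsNoetherianRing R] (ρ : R →ₗ[S] S)
    (hρ : ∀ s, ρ (algebraMap S R s) = s) : IsNoetherianRing S := by
  rw [isNoetherianRing_iff, isNoetherian_iff']
  have hmono : StrictMono (Ideal.map (algebraMap S R) : Ideal S → Ideal R) := by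
    intro I J hIJ
    refine lt_of_le_of_ne (Ideal.map_mono hIJ.le) fun h => hIJ.ne ?_
    rw [← comap_map_of_retraction ρ hρ I, ← comap_map_of_retraction ρ hρ J, h]
  have : WellFoundedGT (Ideal R) := (isNoetherian_iff'.mp ‹IsNoetherianRing R›)
  exact hmono.wellFoundedGT

end Retraction

section Segre

variable (k : Type*) [Field k] (m n : ℕ)

/-- The weights: `+1` on the first block of variables, `-1` on the second. -/
def wt : Fin m ⊕ Fin n → ℤ := Sum.elim (fun _ => 1) (fun _ => -1)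

/-- The Segre ring: polynomials of weight zero. -/
def Seg : Subalgebra k (MvPolynomial (Fin m ⊕ Fin n) k) where
  carrier := {p | IsWeightedHomogeneous (wt m n) p 0}
  mul_mem' ha hb := by simpa using IsWeightedHomogeneous.mul ha hb
  add_mem' ha hb := IsWeightedHomogeneous.add ha hb
  algebraMap_mem' r := isWeightedHomogeneous_C _ r

lemma mem_Seg {p : MvPolynomial (Fin m ⊕ Fin n) k} :
    p ∈ Seg k m n ↔ IsWeightedHomogeneous (wt m n) p 0 := Iff.rfl

lemma X_mul_X_mem (i : Fin m) (j : Fin n) :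
    (X (Sum.inl i) * X (Sum.inr j) : MvPolynomial (Fin m ⊕ Fin n) k) ∈ Seg k m n := by
  have := (isWeightedHomogeneous_X k (wt m n) (Sum.inl i)).mul
    (isWeightedHomogeneous_X k (wt m n) (Sum.inr j))
  simpa [wt, mem_Seg] using this

attribute [local instance] MvPolynomial.weightedGradedAlgebra in
lemma rho_mul {s : MvPolynomial (Fin m ⊕ Fin n) k} (hs : IsWeightedHomogeneous (wt m n) s 0)
    (p : MvPolynomial (Fin m ⊕ Fin n) k) :
    weightedHomogeneousComponent (wt m n) 0 (s * p) =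
      s * weightedHomogeneousComponent (wt m n) 0 p := by
  have := DirectSum.coe_decompose_mul_of_left_mem_zero
    (weightedHomogeneousSubmodule k (wt m n)) (j := 0) (a := s) (b := p)
    ((mem_weightedHomogeneousSubmodule _ _ _ _).2 hs)
  rw [← weightedDecomposition.decompose'_apply, ← weightedDecomposition.decompose'_apply]
  exact this

/-- The `Seg`-linear retraction `k[x,y] → Seg`. -/
noncomputable def rho : MvPolynomial (Fin m ⊕ Fin n) k →ₗ[Seg k m n] Seg k m n where
  toFun p := ⟨weightedHomogeneousComponent (wt m n) 0 p,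
    weightedHomogeneousComponent_isWeightedHomogeneous 0 p⟩
  map_add' p q := Subtype.ext (map_add _ p q)
  map_smul' s p := Subtype.ext (by
    simpa [Algebra.smul_def] using rho_mul k m n s.2 p)

lemma rho_algebraMap (s : Seg k m n) :
    rho k m n (algebraMap (Seg k m n) (MvPolynomial (Fin m ⊕ Fin n) k) s) = s :=
  Subtype.ext (IsWeightedHomogeneous.weightedHomogeneousComponent_same s.2)

instance : IsNoetherianRing (Seg k m n) :=
  isNoetherianRing_of_retraction (rho k m n) (rho_algebraMap k m n)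

/-- Kill the variables in `T`. -/
noncomputable def kill (T : Set (Fin m ⊕ Fin n)) [DecidablePred (· ∈ T)] :
    MvPolynomial (Fin m ⊕ Fin n) k →ₐ[k] MvPolynomial (Fin m ⊕ Fin n) k :=
  aeval fun v => if v ∈ T then 0 else X v

lemma kill_X (T : Set (Fin m ⊕ Fin n)) [DecidablePred (· ∈ T)] (v : Fin m ⊕ Fin n) :
    kill k m n T (X v) = if v ∈ T then 0 else X v := by
  simp [kill]

lemma kill_comp {T T' : Set (Fin m ⊕ Fin n)} [DecidablePred (· ∈ T)] [DecidablePred (· ∈ T')]
    (h : T ⊆ T') : (kill k m n T').comp (kill k m n T) = kill k m n T' := by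
  apply MvPolynomial.algHom_ext
  intro v
  by_cases hv : v ∈ T
  · simp [kill_X, hv, h hv]
  · simp [kill_X, hv]

/-- Evaluation at the origin. -/
noncomputable def ev0 : MvPolynomial (Fin m ⊕ Fin n) k →ₐ[k] k := aeval fun _ => (0 : k)

lemma ev0_comp_kill (T : Set (Fin m ⊕ Fin n)) [DecidablePred (· ∈ T)] :
    (ev0 k m n).comp (kill k m n T) = ev0 k m n := by
  apply MvPolynomial.algHom_ext
  intro v
  by_cases hv : v ∈ T <;> simp [kill_X, hv, ev0]

/-- The prime of `Seg` obtained by killing the variables in `T`. -/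
noncomputable def Q (T : Set (Fin m ⊕ Fin n)) [DecidablePred (· ∈ T)] : Ideal (Seg k m n) :=
  RingHom.ker ((kill k m n T).comp (Seg k m n).val)

instance (T : Set (Fin m ⊕ Fin n)) [DecidablePred (· ∈ T)] : (Q k m n T).IsPrime :=
  RingHom.ker_isPrime _

/-- The irrelevant ideal of `Seg`. -/
noncomputable def irr : Ideal (Seg k m n) := RingHom.ker ((ev0 k m n).comp (Seg k m n).val)

instance : (irr k m n).IsPrime := RingHom.ker_isPrime _

lemma mem_Q {T : Set (Fin m ⊕ Fin n)} [DecidablePred (· ∈ T)] {s : Seg k m n} :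
    s ∈ Q k m n T ↔ kill k m n T (s : MvPolynomial (Fin m ⊕ Fin n) k) = 0 := Iff.rfl

lemma mem_irr {s : Seg k m n} :
    s ∈ irr k m n ↔ ev0 k m n (s : MvPolynomial (Fin m ⊕ Fin n) k) = 0 := Iff.rfl

lemma Q_le_irr (T : Set (Fin m ⊕ Fin n)) [DecidablePred (· ∈ T)] : Q k m n T ≤ irr k m n := by
  intro s hs
  rw [mem_Q] at hs
  rw [mem_irr, ← ev0_comp_kill k m n T, AlgHom.comp_apply, hs, map_zero]

lemma Q_mono {T T' : Set (Fin m ⊕ Fin n)} [DecidablePred (· ∈ T)] [DecidablePred (· ∈ T')]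
    (h : T ⊆ T') : Q k m n T ≤ Q k m n T' := by
  intro s hs
  rw [mem_Q] at hs ⊢
  rw [← kill_comp k m n h, AlgHom.comp_apply, hs, map_zero]

end Segre

section Chain

variable (k : Type*) [Field k] (m n : ℕ)

/-- Position of a variable in the order in which we kill them; the last `x` is never killed. -/
def pos : Fin (m + 1) ⊕ Fin (n + 1) → ℕ
  | Sum.inl i => if i.val < m then i.val else m + n + 5
  | Sum.inr j => m + j.val

/-- The first `t` variables. -/
def T (t : ℕ) : Set (Fin (m + 1) ⊕ Fin (n + 1)) := {v | pos m n v < t}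

instance (t : ℕ) : DecidablePred (· ∈ T m n t) :=
  fun v => inferInstanceAs (Decidable (pos m n v < t))

lemma mem_T {t : ℕ} {v : Fin (m + 1) ⊕ Fin (n + 1)} : v ∈ T m n t ↔ pos m n v < t := Iff.rfl

lemma kill_XX_eq_zero (T' : Set (Fin (m + 1) ⊕ Fin (n + 1))) [DecidablePred (· ∈ T')]
    (i : Fin (m + 1)) (j : Fin (n + 1)) (h : Sum.inl i ∈ T' ∨ Sum.inr j ∈ T') :
    kill k (m + 1) (n + 1) T' (X (Sum.inl i) * X (Sum.inr j)) = 0 := by
  rw [map_mul, kill_X, kill_X]
  rcases h with h | h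
  · rw [if_pos h, zero_mul]
  · rw [if_pos h, mul_zero]

lemma kill_XX_ne_zero (T' : Set (Fin (m + 1) ⊕ Fin (n + 1))) [DecidablePred (· ∈ T')]
    (i : Fin (m + 1)) (j : Fin (n + 1)) (hi : Sum.inl i ∉ T') (hj : Sum.inr j ∉ T') :
    kill k (m + 1) (n + 1) T' (X (Sum.inl i) * X (Sum.inr j)) ≠ 0 := by
  rw [map_mul, kill_X, kill_X, if_neg hi, if_neg hj]
  exact mul_ne_zero (X_ne_zero _) (X_ne_zero _)

lemma step (t : ℕ) (ht : t < m + n + 1) :
    Q k (m + 1) (n + 1) (T m n t) < Q k (m + 1) (n + 1) (T m n (t + 1)) := by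
  rw [SetLike.lt_iff_le_and_exists]
  refine ⟨Q_mono _ _ _ (fun v hv => Nat.lt_succ_of_lt hv), ?_⟩
  by_cases h : t < m
  · have h1 : pos m n (Sum.inl ⟨t, by omega⟩) = t := by simp [pos, h]
    have h2 : pos m n (Sum.inr 0) = m := by simp [pos]
    refine ⟨⟨X (Sum.inl ⟨t, by omega⟩) * X (Sum.inr 0), X_mul_X_mem _ _ _ _ _⟩, ?_, ?_⟩
    · rw [mem_Q]
      exact kill_XX_eq_zero k m n _ _ _ (Or.inl (by rw [mem_T, h1]; omega))
    · rw [mem_Q]
      exact kill_XX_ne_zero k m n _ _ _ (by rw [mem_T, h1]; omega) (by rw [mem_T, h2]; omega)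
  · have h1 : pos m n (Sum.inl (Fin.last m)) = m + n + 5 := by simp [pos]
    have h2 : pos m n (Sum.inr ⟨t - m, by omega⟩) = t := by simp [pos]; omega
    refine ⟨⟨X (Sum.inl (Fin.last m)) * X (Sum.inr ⟨t - m, by omega⟩), X_mul_X_mem _ _ _ _ _⟩,
      ?_, ?_⟩
    · rw [mem_Q]
      exact kill_XX_eq_zero k m n _ _ _ (Or.inr (by rw [mem_T, h2]; omega))
    · rw [mem_Q]
      exact kill_XX_ne_zero k m n _ _ _ (by rw [mem_T, h1]; omega) (by rw [mem_T, h2]; omega)

/-- The chain of primes of length `m + n + 1` in the Segre ring. -/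
noncomputable def chain : LTSeries (PrimeSpectrum (Seg k (m + 1) (n + 1))) where
  length := m + n + 1
  toFun t := ⟨Q k (m + 1) (n + 1) (T m n t.val), inferInstance⟩
  step t := by
    change Q k (m + 1) (n + 1) (T m n t.val) < Q k (m + 1) (n + 1) (T m n (t.val + 1))
    exact step k m n t.val t.isLt

lemma le_height_irr : ((m + n + 1 : ℕ) : ℕ∞) ≤ (irr k (m + 1) (n + 1)).height := by
  have := Order.length_le_height (p := chain k m n)
    (x := (⟨irr k (m + 1) (n + 1), inferInstance⟩ : PrimeSpectrum (Seg k (m + 1) (n + 1))))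
    (by
      change Q k (m + 1) (n + 1) _ ≤ irr k (m + 1) (n + 1)
      exact Q_le_irr _ _ _ _)
  rw [← PrimeSpectrum.height_eq_orderHeight] at this
  exact this

end Chain

section Main

variable (k : Type*) [Field k] (M N : ℕ)

lemma exists_ne_zero_of_weight {d : Fin M ⊕ Fin N →₀ ℕ} (hd : Finsupp.weight (wt M N) d = 0)
    (hd0 : d ≠ 0) : (∃ i, d (Sum.inl i) ≠ 0) ∧ (∃ j, d (Sum.inr j) ≠ 0) := by
  rw [Finsupp.weight_eq_sum, Fintype.sum_sum_type] at hd
  simp only [wt, Sum.elim_inl, Sum.elim_inr, mul_one, nsmul_eq_mul, mul_neg,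
    Finset.sum_neg_distrib] at hd
  have hd' : (∑ i, (d (Sum.inl i) : ℤ)) = ∑ j, (d (Sum.inr j) : ℤ) := by linarith
  by_contra hcon
  apply hd0
  have hboth : (∀ i, d (Sum.inl i) = 0) ∧ (∀ j, d (Sum.inr j) = 0) := by
    by_cases h1 : ∀ i, d (Sum.inl i) = 0
    · refine ⟨h1, ?_⟩
      have : (∑ j, (d (Sum.inr j) : ℤ)) = 0 := by rw [← hd']; simp [h1]
      have h2 : (∑ j, d (Sum.inr j)) = 0 := by exact_mod_cast this
      intro j
      exact (Finset.sum_eq_zero_iff.mp h2) j (Finset.mem_univ _)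
    · by_cases h2 : ∀ j, d (Sum.inr j) = 0
      · refine ⟨?_, h2⟩
        have : (∑ i, (d (Sum.inl i) : ℤ)) = 0 := by rw [hd']; simp [h2]
        have h3 : (∑ i, d (Sum.inl i)) = 0 := by exact_mod_cast this
        intro i
        exact (Finset.sum_eq_zero_iff.mp h3) i (Finset.mem_univ _)
      · push Not at h1 h2
        exact absurd ⟨h1, h2⟩ hcon
  ext v
  rcases v with i | j
  · simpa using hboth.1 i
  · simpa using hboth.2 j

lemma aeval_eq_zero_of_mem_irr {s : Seg k M N} (hs : s ∈ irr k M N) (z : Fin M ⊕ Fin N → k)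
    (hz : (∀ i, z (Sum.inl i) = 0) ∨ (∀ j, z (Sum.inr j) = 0)) :
    aeval z (s : MvPolynomial (Fin M ⊕ Fin N) k) = 0 := by
  rw [aeval_def, eval₂_eq']
  apply Finset.sum_eq_zero
  intro d hd
  have hcoeff : coeff d (s : MvPolynomial (Fin M ⊕ Fin N) k) ≠ 0 := by
    simpa [mem_support_iff] using hd
  have hw : Finsupp.weight (wt M N) d = 0 := s.2 hcoeff
  have hd0 : d ≠ 0 := by
    rintro rfl
    apply hcoeff
    have := (mem_irr k M N).mp hs
    simpa [ev0, constantCoeff_eq] using this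
  obtain ⟨⟨i, hi⟩, ⟨j, hj⟩⟩ := exists_ne_zero_of_weight M N hw hd0
  rcases hz with hz | hz
  · rw [Finset.prod_eq_zero (Finset.mem_univ (Sum.inl i)) (by rw [hz i, zero_pow hi]), mul_zero]
  · rw [Finset.prod_eq_zero (Finset.mem_univ (Sum.inr j)) (by rw [hz j, zero_pow hj]), mul_zero]

variable {k M N}
variable {r : ℕ} (φ : (Fin M → k) →ₗ[k] (Fin N → k) →ₗ[k] (Fin r → k))

/-- The bilinear forms which are the components of `φ`. -/
noncomputable def F (l : Fin r) : MvPolynomial (Fin M ⊕ Fin N) k :=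
  ∑ i, ∑ j, C (φ (Pi.single i 1) (Pi.single j 1) l) * (X (Sum.inl i) * X (Sum.inr j))

lemma F_mem (l : Fin r) : F φ l ∈ Seg k M N := by
  refine Subalgebra.sum_mem _ fun i _ => Subalgebra.sum_mem _ fun j _ => ?_
  exact Subalgebra.mul_mem _ (Subalgebra.algebraMap_mem _ _) (X_mul_X_mem k M N i j)

lemma aeval_F (z : Fin M ⊕ Fin N → k) (l : Fin r) :
    aeval z (F φ l) = φ (fun i => z (Sum.inl i)) (fun j => z (Sum.inr j)) l := by
  have ha : (fun i => z (Sum.inl i)) = ∑ i, z (Sum.inl i) • (Pi.single i (1 : k) : Fin M → k) := by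
    ext t
    simp [Finset.sum_apply, Pi.single_apply]
  have hb : (fun j => z (Sum.inr j)) = ∑ j, z (Sum.inr j) • (Pi.single j (1 : k) : Fin N → k) := by
    ext t
    simp [Finset.sum_apply, Pi.single_apply]
  rw [ha, hb]
  simp only [F, map_sum, map_mul, aeval_C, aeval_X, LinearMap.sum_apply, map_smul,
    LinearMap.smul_apply, Finset.sum_apply, Pi.smul_apply, smul_eq_mul, Algebra.algebraMap_self,
    RingHom.id_apply, Finset.mul_sum]
  rw [Finset.sum_comm]
  refine Finset.sum_congr rfl fun j _ => Finset.sum_congr rfl fun i _ => ?_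
  ring

/-- The forms as elements of the Segre ring. -/
noncomputable def Fs (l : Fin r) : Seg k M N := ⟨F φ l, F_mem φ l⟩

lemma Fs_mem_irr (l : Fin r) : Fs φ l ∈ irr k M N := by
  rw [mem_irr]
  change ev0 k M N (F φ l) = 0
  rw [ev0, aeval_F]
  have : φ (fun _ : Fin M => (0 : k)) = 0 := by
    have : (fun _ : Fin M => (0 : k)) = 0 := rfl
    rw [this, map_zero]
  rw [this]
  rfl

variable [IsAlgClosed k]

lemma irr_le_radical (hφ : ∀ a b, a ≠ 0 → b ≠ 0 → φ a b ≠ 0) :
    irr k M N ≤ (Ideal.span (Set.range (Fs φ))).radical := by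
  intro s hs
  set J : Ideal (Seg k M N) := Ideal.span (Set.range (Fs φ)) with hJ
  set IR : Ideal (MvPolynomial (Fin M ⊕ Fin N) k) := Ideal.span (Set.range (F φ)) with hIR
  have hmap : J.map (algebraMap (Seg k M N) (MvPolynomial (Fin M ⊕ Fin N) k)) = IR := by
    rw [hJ, Ideal.map_span, hIR, ← Set.range_comp]
    rfl
  have hrad : (s : MvPolynomial (Fin M ⊕ Fin N) k) ∈ IR.radical := by
    rw [← MvPolynomial.vanishingIdeal_zeroLocus_eq_radical (K := k), mem_vanishingIdeal_iff]
    intro z hz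
    rw [hIR, zeroLocus_span] at hz
    apply aeval_eq_zero_of_mem_irr k M N hs
    have h0 : φ (fun i => z (Sum.inl i)) (fun j => z (Sum.inr j)) = 0 := by
      ext l
      rw [← aeval_F]
      exact hz _ ⟨l, rfl⟩
    by_contra hcon
    push Not at hcon
    obtain ⟨⟨i, hi⟩, ⟨j, hj⟩⟩ := hcon
    exact hφ _ _ (fun h => hi (congrFun h i)) (fun h => hj (congrFun h j)) h0
  obtain ⟨e, he⟩ := hrad
  refine ⟨e, ?_⟩
  rw [← comap_map_of_retraction (rho k M N) (rho_algebraMap k M N) J, Ideal.mem_comap, hmap,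
    map_pow]
  exact he

theorem hopf_core (hφ : ∀ a b, a ≠ 0 → b ≠ 0 → φ a b ≠ 0) {m n : ℕ} (hM : M = m + 1)
    (hN : N = n + 1) : M + N ≤ r + 1 := by
  subst hM hN
  have hmin : irr k (m + 1) (n + 1) ∈ (Ideal.span (Set.range (Fs φ))).minimalPrimes := by
    refine ⟨⟨inferInstance, ?_⟩, ?_⟩
    · rw [Ideal.span_le]
      rintro _ ⟨l, rfl⟩
      exact Fs_mem_irr φ l
    · rintro q ⟨hq, hJq⟩ -
      exact (irr_le_radical φ hφ).trans (hq.radical_le_iff.2 hJq)
  have h1 := Ideal.height_le_card_of_mem_minimalPrimes_span (Set.finite_range (Fs φ)) hmin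
  have h2 := le_height_irr k m n
  have h3 : (Set.range (Fs φ)).ncard ≤ r := by
    have := Set.ncard_image_le (f := Fs φ) (Set.finite_univ (α := Fin r))
    simpa [Set.image_univ, Set.ncard_univ] using this
  have h4 : ((m + n + 1 : ℕ) : ℕ∞) ≤ (r : ℕ∞) := h2.trans (h1.trans (by exact_mod_cast h3))
  have h5 : m + n + 1 ≤ r := by exact_mod_cast h4
  omega

end Main

/-- **Hopf's lemma**: a 1-generic bilinear map `U × V → W` of finite-dimensional vector spaces over
an algebraically closed field has `dim U + dim V ≤ dim W + 1`. -/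
theorem hopf {k : Type*} [Field k] [IsAlgClosed k] {U V W : Type*} [AddCommGroup U] [Module k U]
    [AddCommGroup V] [Module k V] [AddCommGroup W] [Module k W]
    [Module.Finite k U] [Module.Finite k V] [Module.Finite k W] [Nontrivial U] [Nontrivial V]
    (φ : U →ₗ[k] V →ₗ[k] W) (hφ : ∀ (a : U) (b : V), a ≠ 0 → b ≠ 0 → φ a b ≠ 0) :
    Module.finrank k U + Module.finrank k V ≤ Module.finrank k W + 1 := by
  let eU := (Module.finBasis k U).equivFun
  let eV := (Module.finBasis k V).equivFun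
  let eW := (Module.finBasis k W).equivFun
  let φ' : (Fin (Module.finrank k U) → k) →ₗ[k] (Fin (Module.finrank k V) → k) →ₗ[k]
      (Fin (Module.finrank k W) → k) :=
    (φ.compl₁₂ eU.symm.toLinearMap eV.symm.toLinearMap).compr₂ eW.toLinearMap
  have hU : 0 < Module.finrank k U := Module.finrank_pos
  have hV : 0 < Module.finrank k V := Module.finrank_pos
  obtain ⟨m, hm⟩ := Nat.exists_eq_succ_of_ne_zero hU.ne'
  obtain ⟨n, hn⟩ := Nat.exists_eq_succ_of_ne_zero hV.ne'
  refine hopf_core φ' ?_ hm hn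
  intro a b ha hb
  have h1 : eU.symm a ≠ 0 := by simpa using ha
  have h2 : eV.symm b ≠ 0 := by simpa using hb
  have := hφ _ _ h1 h2
  simpa [φ'] using this

end Groth.Agent.H15.Hopf
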