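import Groth.Agent.H15.MTBC

/-!
# Descent of Hopf algebra structures along an injective base change (flat case)

Let `C → R` be an injective ring map, `B` a flat `C`-algebra, `A` a Hopf algebra over `R` and
`ι : B → A` a `C`-algebra map identifying `A` with `R ⊗[C] B`.  If the comultiplication, the
counit and the antipode of `A` map (the image of) `B` into (the images of) `B ⊗[C] B`, `C` and `B`,
then `B` carries a Hopf algebra structure over `C` for which `ι` is a coalgebra map.
-/

set_option autoImplicit false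
set_option linter.style.haveILetI false
set_option linter.unusedSectionVars false
universe u
open TensorProduct Coalgebra

namespace Groth.Agent.H15.HA
open Groth.Agent.H26 Groth.Agent.H15.MTC

section inj
variable {C : Type*} [CommRing C] {R : Type*} [CommRing R] [Algebra C R]
  {M : Type*} [AddCommGroup M] [Module C M]
  {N : Type*} [AddCommGroup N] [Module C N] [Module R N] [IsScalarTower C R N]

/-- a flat module injects into its base change along an injective ring map -/
theorem injective_of_isBaseChange [Module.Flat C M]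
    (hinj : Function.Injective (algebraMap C R)) {f : M →ₗ[C] N} (hf : IsBaseChange R f) :
    Function.Injective f := by
  have h1 : Function.Injective ((Algebra.linearMap C R).rTensor M) :=
    Module.Flat.rTensor_preserves_injective_linearMap _ hinj
  have h2 : (f : M → N) =
      hf.equiv ∘ ((Algebra.linearMap C R).rTensor M) ∘ (TensorProduct.lid C M).symm := by
    funext m
    simp [IsBaseChange.equiv_tmul]
  rw [h2]
  exact hf.equiv.injective.comp (h1.comp (TensorProduct.lid C M).symm.injective)

end inj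

section tmulMap
variable {C : Type*} [CommRing C] (R : Type*) [CommRing R] [Algebra C R]
  {M₁ M₂ : Type*} [AddCommGroup M₁] [Module C M₁] [AddCommGroup M₂] [Module C M₂]
  {N₁ N₂ : Type*} [AddCommGroup N₁] [Module C N₁] [Module R N₁] [IsScalarTower C R N₁]
  [AddCommGroup N₂] [Module C N₂] [Module R N₂] [IsScalarTower C R N₂]

/-- `a ⊗ b ↦ f₁ a ⊗ f₂ b`, from a tensor product over `C` to a tensor product over `R` -/
noncomputable def tmulMap (f₁ : M₁ →ₗ[C] N₁) (f₂ : M₂ →ₗ[C] N₂) :
    M₁ ⊗[C] M₂ →ₗ[C] N₁ ⊗[R] N₂ :=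
  TensorProduct.lift (LinearMap.mk₂ C (fun a b => f₁ a ⊗ₜ[R] f₂ b)
    (by intros; simp [add_tmul]) (by intros; simp [smul_tmul'])
    (by intros; simp [tmul_add]) (by intros; simp [tmul_smul]))

@[simp] lemma tmulMap_tmul (f₁ : M₁ →ₗ[C] N₁) (f₂ : M₂ →ₗ[C] N₂) (a : M₁) (b : M₂) :
    tmulMap R f₁ f₂ (a ⊗ₜ[C] b) = f₁ a ⊗ₜ[R] f₂ b := by
  rw [tmulMap, TensorProduct.lift.tmul]
  rfl

lemma isBaseChange_tmulMap {f₁ : M₁ →ₗ[C] N₁} {f₂ : M₂ →ₗ[C] N₂} (h₁ : IsBaseChange R f₁)
    (h₂ : IsBaseChange R f₂) : IsBaseChange R (tmulMap R f₁ f₂) := by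
  let e : R ⊗[C] (M₁ ⊗[C] M₂) ≃ₗ[R] N₁ ⊗[R] N₂ :=
    (TensorProduct.AlgebraTensorModule.distribBaseChange C R M₁ M₂).trans
      (TensorProduct.congr h₁.equiv h₂.equiv)
  refine IsBaseChange.of_equiv e fun x => ?_
  induction x with
  | zero => simp
  | add x y hx hy => rw [tmul_add, map_add, map_add, hx, hy]
  | tmul b₁ b₂ =>
    simp [e, IsBaseChange.equiv_tmul]

end tmulMap

section lift
variable {C : Type*} [CommRing C] {X Y Z : Type*} [CommRing X] [CommRing Y] [CommRing Z]
  [Algebra C X] [Algebra C Y] [Algebra C Z]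

/-- lifting an algebra map through an injective algebra map containing its range -/
theorem exists_algHom_lift (j : X →ₐ[C] Y) (hj : Function.Injective j) (f : Z →ₐ[C] Y)
    (h : ∀ z, f z ∈ Set.range j) : ∃ g : Z →ₐ[C] X, ∀ z, j (g z) = f z := by
  let e := AlgEquiv.ofInjective j hj
  have hmem : ∀ z, f z ∈ j.range := fun z => by
    obtain ⟨x, hx⟩ := h z
    exact ⟨x, hx⟩
  refine ⟨e.symm.toAlgHom.comp (f.codRestrict j.range hmem), fun z => ?_⟩
  have h1 := e.apply_symm_apply ⟨f z, hmem z⟩
  exact congrArg Subtype.val h1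

end lift

end Groth.Agent.H15.HA
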