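import Groth.Agent.H15.HopfApprox1

/-!
# Descent of Hopf algebra structures along an injective base change: the construction
-/

set_option autoImplicit false
set_option linter.style.haveILetI false
set_option linter.unusedSectionVars false
universe u
open TensorProduct Coalgebra

namespace Groth.Agent.H15.HA
open Groth.Agent.H26 Groth.Agent.H15.MTC

section mul
variable {C : Type*} [CommRing C] {R : Type*} [CommRing R] [Algebra C R]
  {B : Type*} [CommRing B] [Algebra C B]
  {A : Type*} [CommRing A] [Algebra C A] [Algebra R A] [IsScalarTower C R A]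

lemma tmul₂_mul' (θ : B →ₐ[C] A) (x y : B ⊗[C] B) :
    tmul₂ R θ.toLinearMap (x * y) = tmul₂ R θ.toLinearMap x * tmul₂ R θ.toLinearMap y := by
  induction x with
  | zero => simp
  | add x₁ x₂ h₁ h₂ => rw [add_mul, map_add, map_add, add_mul, h₁, h₂]
  | tmul a b =>
    induction y with
    | zero => simp
    | add y₁ y₂ h₁ h₂ => rw [mul_add, map_add, map_add, mul_add, h₁, h₂]
    | tmul c d =>
      rw [Algebra.TensorProduct.tmul_mul_tmul, tmul₂_tmul, tmul₂_tmul, tmul₂_tmul,
        Algebra.TensorProduct.tmul_mul_tmul]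
      simp

/-- `b₁ ⊗ b₂ ↦ θ b₁ ⊗ θ b₂` as an algebra map -/
noncomputable def tmul₂Alg (θ : B →ₐ[C] A) : B ⊗[C] B →ₐ[C] A ⊗[R] A :=
  AlgHom.ofLinearMap (tmul₂ R θ.toLinearMap)
    (by rw [Algebra.TensorProduct.one_def, tmul₂_tmul]; simp [Algebra.TensorProduct.one_def])
    (tmul₂_mul' θ)

lemma tmul₂Alg_apply (θ : B →ₐ[C] A) (x : B ⊗[C] B) :
    tmul₂Alg (R := R) θ x = tmul₂ R θ.toLinearMap x := rfl

end mul

section desc
variable {C : Type u} [CommRing C] {R : Type u} [CommRing R] [Algebra C R]
  {B : Type u} [CommRing B] [Algebra C B] [Module.Flat C B]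
  {A : Type u} [CommRing A] [HopfAlgebra R A] [Algebra C A] [IsScalarTower C R A]

/-- the data allowing to descend the Hopf algebra structure of `A` to `B` -/
structure DescData (R : Type u) [CommRing R] [Algebra C R] [HopfAlgebra R A] [IsScalarTower C R A]
    (ι : B →ₐ[C] A) : Prop where
  inj : Function.Injective (algebraMap C R)
  bc : IsBaseChange R ι.toLinearMap
  comul : ∀ b, comul (R := R) (ι b) ∈ Set.range (tmul₂ R ι.toLinearMap)
  counit : ∀ b, counit (R := R) (ι b) ∈ Set.range (algebraMap C R)
  antipode : ∀ b, HopfAlgebra.antipode R (ι b) ∈ Set.range ι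

namespace DescData
variable {ι : B →ₐ[C] A} (h : DescData R ι)
include h

lemma inj₁ : Function.Injective ι :=
  injective_of_isBaseChange h.inj h.bc

lemma inj₂ : Function.Injective (tmul₂ R ι.toLinearMap) :=
  injective_of_isBaseChange h.inj (Groth.Agent.H15.HA.isBaseChange_tmulMap R h.bc h.bc)

lemma inj₃ : Function.Injective (tmulMap R ι.toLinearMap (tmul₂ R ι.toLinearMap)) :=
  injective_of_isBaseChange h.inj
    (isBaseChange_tmulMap R h.bc (Groth.Agent.H15.HA.isBaseChange_tmulMap R h.bc h.bc))

/-- the descended comultiplication -/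
noncomputable def comulHom : B →ₐ[C] B ⊗[C] B :=
  Classical.choose (exists_algHom_lift (tmul₂Alg (R := R) ι) h.inj₂
    (((Bialgebra.comulAlgHom R A).restrictScalars C).comp ι) h.comul)

lemma tmul₂_comulHom (b : B) :
    tmul₂ R ι.toLinearMap (h.comulHom b) = Coalgebra.comul (R := R) (ι b) :=
  Classical.choose_spec (exists_algHom_lift (tmul₂Alg (R := R) ι) h.inj₂
    (((Bialgebra.comulAlgHom R A).restrictScalars C).comp ι) h.comul) b

/-- the descended counit -/
noncomputable def counitHom : B →ₐ[C] C :=
  Classical.choose (exists_algHom_lift (Algebra.ofId C R) h.inj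
    (((Bialgebra.counitAlgHom R A).restrictScalars C).comp ι) h.counit)

lemma algebraMap_counitHom (b : B) :
    algebraMap C R (h.counitHom b) = Coalgebra.counit (R := R) (ι b) :=
  Classical.choose_spec (exists_algHom_lift (Algebra.ofId C R) h.inj
    (((Bialgebra.counitAlgHom R A).restrictScalars C).comp ι) h.counit) b

/-- the descended antipode -/
noncomputable def antipodeHom : B →ₐ[C] B :=
  Classical.choose (exists_algHom_lift ι h.inj₁
    (((HopfAlgebra.antipodeAlgHom R A).restrictScalars C).comp ι) h.antipode)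

lemma ι_antipodeHom (b : B) :
    ι (h.antipodeHom b) = HopfAlgebra.antipode R (ι b) :=
  Classical.choose_spec (exists_algHom_lift ι h.inj₁
    (((HopfAlgebra.antipodeAlgHom R A).restrictScalars C).comp ι) h.antipode) b

omit h in
lemma nat_assoc (y : B ⊗[C] B) (b₂ : B) :
    tmulMap R ι.toLinearMap (tmul₂ R ι.toLinearMap) (TensorProduct.assoc C B B B (y ⊗ₜ[C] b₂)) =
      TensorProduct.assoc R A A A (tmul₂ R ι.toLinearMap y ⊗ₜ[R] ι b₂) := by
  induction y with
  | zero => simp
  | add x y hx hy => rw [add_tmul, map_add, map_add, hx, hy, map_add, add_tmul, map_add]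
  | tmul u v => simp

lemma nat_rTensor (x : B ⊗[C] B) :
    tmulMap R ι.toLinearMap (tmul₂ R ι.toLinearMap)
      (TensorProduct.assoc C B B B (h.comulHom.toLinearMap.rTensor B x)) =
      TensorProduct.assoc R A A A
        ((Coalgebra.comul (R := R) (A := A)).rTensor A (tmul₂ R ι.toLinearMap x)) := by
  induction x with
  | zero => simp
  | add x y hx hy => simp only [map_add, hx, hy]
  | tmul b₁ b₂ =>
    rw [LinearMap.rTensor_tmul, AlgHom.toLinearMap_apply, nat_assoc, tmul₂_tmul,
      LinearMap.rTensor_tmul, h.tmul₂_comulHom]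
    rfl

lemma nat_lTensor (x : B ⊗[C] B) :
    tmulMap R ι.toLinearMap (tmul₂ R ι.toLinearMap) (h.comulHom.toLinearMap.lTensor B x) =
      (Coalgebra.comul (R := R) (A := A)).lTensor A (tmul₂ R ι.toLinearMap x) := by
  induction x with
  | zero => simp
  | add x y hx hy => simp only [map_add, hx, hy]
  | tmul b₁ b₂ =>
    rw [LinearMap.lTensor_tmul, AlgHom.toLinearMap_apply, tmulMap_tmul, tmul₂_tmul,
      LinearMap.lTensor_tmul, h.tmul₂_comulHom]
    rfl

lemma nat_counit_rTensor (x : B ⊗[C] B) :
    ι (TensorProduct.lid C B (h.counitHom.toLinearMap.rTensor B x)) =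
      TensorProduct.lid R A
        ((Coalgebra.counit (R := R) (A := A)).rTensor A (tmul₂ R ι.toLinearMap x)) := by
  induction x with
  | zero => simp
  | add x y hx hy => simp only [map_add, hx, hy]
  | tmul b₁ b₂ =>
    rw [LinearMap.rTensor_tmul, AlgHom.toLinearMap_apply, TensorProduct.lid_tmul, tmul₂_tmul,
      LinearMap.rTensor_tmul, TensorProduct.lid_tmul, map_smul]
    change _ = Coalgebra.counit (R := R) (ι b₁) • ι b₂
    rw [← h.algebraMap_counitHom, algebraMap_smul]

lemma nat_counit_lTensor (x : B ⊗[C] B) :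
    ι (TensorProduct.rid C B (h.counitHom.toLinearMap.lTensor B x)) =
      TensorProduct.rid R A
        ((Coalgebra.counit (R := R) (A := A)).lTensor A (tmul₂ R ι.toLinearMap x)) := by
  induction x with
  | zero => simp
  | add x y hx hy => simp only [map_add, hx, hy]
  | tmul b₁ b₂ =>
    rw [LinearMap.lTensor_tmul, AlgHom.toLinearMap_apply, TensorProduct.rid_tmul, tmul₂_tmul,
      LinearMap.lTensor_tmul, TensorProduct.rid_tmul, map_smul]
    change _ = Coalgebra.counit (R := R) (ι b₂) • ι b₁
    rw [← h.algebraMap_counitHom, algebraMap_smul]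

lemma nat_antipode_rTensor (x : B ⊗[C] B) :
    ι (LinearMap.mul' C B (h.antipodeHom.toLinearMap.rTensor B x)) =
      LinearMap.mul' R A ((HopfAlgebra.antipode R (A := A)).rTensor A
        (tmul₂ R ι.toLinearMap x)) := by
  induction x with
  | zero => simp
  | add x y hx hy => simp only [map_add, hx, hy]
  | tmul b₁ b₂ =>
    rw [LinearMap.rTensor_tmul, AlgHom.toLinearMap_apply, LinearMap.mul'_apply, tmul₂_tmul,
      LinearMap.rTensor_tmul, LinearMap.mul'_apply, map_mul, h.ι_antipodeHom]
    rfl

lemma nat_antipode_lTensor (x : B ⊗[C] B) :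
    ι (LinearMap.mul' C B (h.antipodeHom.toLinearMap.lTensor B x)) =
      LinearMap.mul' R A ((HopfAlgebra.antipode R (A := A)).lTensor A
        (tmul₂ R ι.toLinearMap x)) := by
  induction x with
  | zero => simp
  | add x y hx hy => simp only [map_add, hx, hy]
  | tmul b₁ b₂ =>
    rw [LinearMap.lTensor_tmul, AlgHom.toLinearMap_apply, LinearMap.mul'_apply, tmul₂_tmul,
      LinearMap.lTensor_tmul, LinearMap.mul'_apply, map_mul, h.ι_antipodeHom]
    rfl

/-- the descended coalgebra structure -/
@[reducible] noncomputable def coalgebra : Coalgebra C B where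
  comul := h.comulHom.toLinearMap
  counit := h.counitHom.toLinearMap
  coassoc := by
    ext b
    apply h.inj₃
    simp only [LinearMap.comp_apply, LinearEquiv.coe_coe]
    rw [h.nat_rTensor, h.nat_lTensor, AlgHom.toLinearMap_apply, h.tmul₂_comulHom]
    exact Coalgebra.coassoc_apply (R := R) (ι b)
  rTensor_counit_comp_comul := by
    ext b
    apply (TensorProduct.lid C B).injective
    apply h.inj₁
    simp only [LinearMap.comp_apply]
    rw [h.nat_counit_rTensor, AlgHom.toLinearMap_apply, h.tmul₂_comulHom,
      Coalgebra.rTensor_counit_comul]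
    simp
  lTensor_counit_comp_comul := by
    ext b
    apply (TensorProduct.rid C B).injective
    apply h.inj₁
    simp only [LinearMap.comp_apply]
    rw [h.nat_counit_lTensor, AlgHom.toLinearMap_apply, h.tmul₂_comulHom,
      Coalgebra.lTensor_counit_comul]
    simp

/-- the descended bialgebra structure -/
@[reducible] noncomputable def bialgebra : Bialgebra C B :=
  letI := h.coalgebra
  Bialgebra.mk' C B (map_one h.counitHom) (fun {a b} => map_mul h.counitHom a b)
    (map_one h.comulHom) (fun {a b} => map_mul h.comulHom a b)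

/-- the descended Hopf algebra structure -/
@[reducible] noncomputable def hopfAlgebra : HopfAlgebra C B :=
  letI := h.bialgebra
  { antipode := h.antipodeHom.toLinearMap
    mul_antipode_rTensor_comul := by
      ext b
      apply h.inj₁
      simp only [LinearMap.comp_apply]
      change ι (LinearMap.mul' C B (h.antipodeHom.toLinearMap.rTensor B (h.comulHom b))) =
        ι (algebraMap C B (h.counitHom b))
      rw [h.nat_antipode_rTensor, h.tmul₂_comulHom, HopfAlgebra.mul_antipode_rTensor_comul_apply,
        ← h.algebraMap_counitHom, ι.commutes, ← IsScalarTower.algebraMap_apply]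
    mul_antipode_lTensor_comul := by
      ext b
      apply h.inj₁
      simp only [LinearMap.comp_apply]
      change ι (LinearMap.mul' C B (h.antipodeHom.toLinearMap.lTensor B (h.comulHom b))) =
        ι (algebraMap C B (h.counitHom b))
      rw [h.nat_antipode_lTensor, h.tmul₂_comulHom, HopfAlgebra.mul_antipode_lTensor_comul_apply,
        ← h.algebraMap_counitHom, ι.commutes, ← IsScalarTower.algebraMap_apply] }

/-- for the descended structure, `ι` is a coalgebra map -/
theorem isCoalgMapOver :
    letI := h.hopfAlgebra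
    IsCoalgMapOver R ι.toLinearMap := by
  letI := h.hopfAlgebra
  exact ⟨fun b => (h.tmul₂_comulHom b).symm, fun b => (h.algebraMap_counitHom b).symm⟩

end DescData

end desc

end Groth.Agent.H15.HA
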