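import Groth.Agent.H15.HopfApprox2
import Groth.Agent.S4848
import Mathlib.RingTheory.Extension.Presentation.Core

/-!
# Noetherian approximation of flat finitely presented algebras (ring level), with an injective
structure map
-/

set_option autoImplicit false
set_option linter.style.haveILetI false
set_option linter.unusedSectionVars false
universe u
open TensorProduct

namespace Groth.Agent.H15.HA

section model

theorem exists_noetherian_model (A B : Type u) [CommRing A] [CommRing B] [Algebra A B]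
    [Algebra.FinitePresentation A B] :
    ∃ (A₀ : Subalgebra ℤ A) (B₀ : Type u) (_ : CommRing B₀) (_ : Algebra A₀ B₀),
      A₀.FG ∧ Algebra.FinitePresentation A₀ B₀ ∧ Nonempty (B ≃ₐ[A] A ⊗[A₀] B₀) := by
  let P := Algebra.Presentation.ofFinitePresentation A B
  let A₀ : Subalgebra ℤ A := Algebra.adjoin ℤ P.coeffs
  have : P.HasCoeffs A₀ := ⟨by simp [A₀]⟩
  exact ⟨A₀, (P.ModelOfHasCoeffs A₀:), inferInstance, inferInstance,
    ⟨P.finite_coeffs.toFinset, by simp [A₀]⟩, inferInstance,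
    ⟨(P.tensorModelOfHasCoeffsEquiv A₀).symm⟩⟩

variable (A₁ A : Type u) [CommRing A₁] [CommRing A] [Algebra A₁ A]

/-- The directed system of finitely generated subalgebras. -/
abbrev FGSub : Type u := {C : Subalgebra A₁ A // C.FG}

/-- The system of finitely generated `A₁`-subalgebras of `A` is a directed colimit system. -/
theorem isDirectedColimitRing_fgSub :
    FlatCA.IsDirectedColimitRing (fun C : FGSub A₁ A => ↥C.1)
      (fun i j h => (Subalgebra.inclusion (show i.1 ≤ j.1 from h)).toRingHom) A := by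
  refine ⟨⟨fun a b => ⟨⟨a.1 ⊔ b.1, a.2.sup b.2⟩, (le_sup_left : a.1 ≤ a.1 ⊔ b.1),
    (le_sup_right : b.1 ≤ a.1 ⊔ b.1)⟩⟩, ⟨⟨⊥, Subalgebra.fg_bot⟩⟩, ?_, ?_, ?_, ?_, ?_⟩
  · intro i; ext x; rfl
  · intro i j k hij hjk; ext x; rfl
  · intro i j h; ext x; rfl
  · intro a
    exact ⟨⟨Algebra.adjoin A₁ {a}, Subalgebra.fg_def.mpr ⟨{a}, Set.finite_singleton a, rfl⟩⟩,
      ⟨a, Algebra.subset_adjoin (Set.mem_singleton a)⟩, rfl⟩
  · intro i x hx
    refine ⟨i, le_rfl, ?_⟩
    have : x = 0 := Subtype.ext hx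
    rw [this, map_zero]

end model

/-- Ring-level Noetherian approximation of flat finitely presented algebras. -/
theorem exists_flat_model (A B : Type u) [CommRing A] [CommRing B] [Algebra A B]
    [Algebra.FinitePresentation A B] [Module.Flat A B] :
    ∃ (A₀ : Type u) (_ : CommRing A₀) (_ : Algebra A₀ A) (B₀ : Type u) (_ : CommRing B₀)
      (_ : Algebra A₀ B₀), Algebra.FiniteType ℤ A₀ ∧ Function.Injective (algebraMap A₀ A) ∧
        Algebra.FinitePresentation A₀ B₀ ∧
        Module.Flat A₀ B₀ ∧ Nonempty (A ⊗[A₀] B₀ ≃ₐ[A] B) := by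
  obtain ⟨A₁, B₁, _, _, hfg, hfp, ⟨e₁⟩⟩ := exists_noetherian_model A B
  have hft₁ : Algebra.FiniteType ℤ A₁ := (Subalgebra.fg_iff_finiteType A₁).mp hfg
  have hflat : Module.Flat A (A ⊗[A₁] B₁) :=
    Module.Flat.of_linearEquiv e₁.symm.toLinearEquiv
  obtain ⟨C, hC⟩ := (Groth.Agent.S4848.result (A₀ := A₁) (fun C : FGSub A₁ A => ↥C.1)
    (fun i j h => Subalgebra.inclusion (show i.1 ≤ j.1 from h)) A
    (isDirectedColimitRing_fgSub A₁ A) (B₀ := B₁) B₁).mp hflat
  have hftC : Algebra.FiniteType ℤ C.1 := by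
    have h1 : Algebra.FiniteType A₁ C.1 := (Subalgebra.fg_iff_finiteType C.1).mp C.2
    exact Algebra.FiniteType.trans hft₁ h1
  refine ⟨C.1, inferInstance, inferInstance, C.1 ⊗[A₁] B₁, inferInstance, inferInstance, hftC,
    Subtype.val_injective, inferInstance, hC, ⟨?_⟩⟩
  exact (Algebra.TensorProduct.cancelBaseChange A₁ C.1 A A B₁).trans e₁.symm

end Groth.Agent.H15.HA
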