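import Groth.Agent.H15.HopfApprox3

/-!
# Noetherian approximation of flat finitely presented Hopf algebras
-/

set_option autoImplicit false
set_option linter.style.haveILetI false
set_option linter.unusedSectionVars false
universe u
open TensorProduct Coalgebra

namespace Groth.Agent.H15.HA
open Groth.Agent.H26 Groth.Agent.H15.MTC

section rep
variable {C₀ : Type*} [CommRing C₀] {R : Type*} [CommRing R] [Algebra C₀ R]
  {M : Type*} [AddCommGroup M] [Module C₀ M]
  {N : Type*} [AddCommGroup N] [Module C₀ N] [Module R N] [IsScalarTower C₀ R N]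

/-- elements of a base change are finite combinations of elements of the original module -/
theorem exists_rep {f : M →ₗ[C₀] N} (hf : IsBaseChange R f) (n : N) :
    ∃ S : Finset (R × M), n = ∑ i ∈ S, i.1 • f i.2 := by
  obtain ⟨x, rfl⟩ := hf.equiv.surjective n
  obtain ⟨S, rfl⟩ := TensorProduct.exists_finset x
  refine ⟨S, ?_⟩
  rw [map_sum]
  refine Finset.sum_congr rfl fun i _ => ?_
  rw [IsBaseChange.equiv_tmul]

end rep

section tm

variable {R : Type*} [CommRing R] {S₁ : Type*} [CommRing S₁] [Algebra R S₁]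
  {S₂ : Type*} [CommRing S₂] [Algebra S₁ S₂] [Algebra R S₂] [IsScalarTower R S₁ S₂]
  {C : Type*} [AddCommGroup C] [Module R C]
  {T₁ : Type*} [AddCommGroup T₁] [Module R T₁] [Module S₁ T₁] [IsScalarTower R S₁ T₁]
  {T₂ : Type*} [AddCommGroup T₂] [Module R T₂] [Module S₁ T₂] [Module S₂ T₂]
  [IsScalarTower R S₁ T₂] [IsScalarTower S₁ S₂ T₂] [IsScalarTower R S₂ T₂]

lemma tmul₂_tower' (θ₁ : C →ₗ[R] T₁) (θ₂ : T₁ →ₗ[S₁] T₂) (x : C ⊗[R] C) :
    tmul₂ S₂ θ₂ (tmul₂ S₁ θ₁ x) = tmul₂ S₂ ((θ₂.restrictScalars R) ∘ₗ θ₁) x := by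
  induction x with
  | zero => simp
  | add x y hx hy => rw [map_add, map_add, map_add, hx, hy]
  | tmul b₁ b₂ => simp

end tm

section stage
variable {C₀ : Type u} [CommRing C₀] {R : Type u} [CommRing R] [Algebra C₀ R]
  {B₀ : Type u} [CommRing B₀] [Algebra C₀ B₀]
  {A : Type u} [CommRing A] [Algebra R A] [Algebra C₀ A] [IsScalarTower C₀ R A]
  (ι₀ : B₀ →ₐ[C₀] A)
  (C' : Type u) [CommRing C'] [Algebra C₀ C'] [Algebra C' R] [IsScalarTower C₀ C' R]
  [Algebra C' A] [IsScalarTower C' R A] [IsScalarTower C₀ C' A]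

/-- the map `C' ⊗ B₀ → A` -/
noncomputable def stageMap : C' ⊗[C₀] B₀ →ₐ[C'] A :=
  Algebra.TensorProduct.lift (Algebra.ofId C' A) ι₀ (fun _ _ => Commute.all _ _)

@[simp] lemma stageMap_tmul (c : C') (b : B₀) : stageMap ι₀ C' (c ⊗ₜ[C₀] b) = c • ι₀ b := by
  simp [stageMap, Algebra.ofId_apply, Algebra.smul_def]

variable {ι₀}

lemma isBaseChange_stageMap (hι₀ : IsBaseChange R ι₀.toLinearMap) :
    IsBaseChange R (stageMap ι₀ C').toLinearMap := by
  apply IsBaseChange.of_comp (TensorProduct.isBaseChange C₀ B₀ C')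
  have : ((stageMap ι₀ C').toLinearMap : C' ⊗[C₀] B₀ →ₗ[C₀] A) ∘ₗ (TensorProduct.mk C₀ C' B₀ 1) =
      ι₀.toLinearMap := by
    ext b
    simp
  rw [this]
  exact hι₀

lemma smul_tmul₂_mem_range (c : C') (x : B₀ ⊗[C₀] B₀) :
    algebraMap C' R c • tmul₂ R ι₀.toLinearMap x ∈
      LinearMap.range (tmul₂ R (stageMap ι₀ C').toLinearMap) := by
  refine ⟨c • tmul₂ C' (TensorProduct.mk C₀ C' B₀ 1) x, ?_⟩
  rw [map_smul, tmul₂_tower', algebraMap_smul]
  congr 2
  ext b
  simp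

lemma smul_mem_range (c : C') (b : B₀) :
    algebraMap C' R c • ι₀ b ∈ LinearMap.range (stageMap ι₀ C').toLinearMap := by
  refine ⟨c ⊗ₜ b, ?_⟩
  rw [AlgHom.toLinearMap_apply, stageMap_tmul, algebraMap_smul]

/-- a subalgebra of `C' ⊗ B₀` containing generators of `B₀` is everything -/
lemma subalgebra_eq_top (T : Subalgebra C' (C' ⊗[C₀] B₀)) (gs : Set B₀)
    (hgs : Algebra.adjoin C₀ gs = ⊤) (hT : ∀ g ∈ gs, (1 : C') ⊗ₜ[C₀] g ∈ T) : T = ⊤ := by
  have h1 : ∀ b : B₀, (1 : C') ⊗ₜ[C₀] b ∈ T := by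
    intro b
    have hb : b ∈ Algebra.adjoin C₀ gs := by rw [hgs]; trivial
    induction hb using Algebra.adjoin_induction with
    | mem x hx => exact hT x hx
    | algebraMap r =>
      have : (1 : C') ⊗ₜ[C₀] (algebraMap C₀ B₀ r) =
          algebraMap C' (C' ⊗[C₀] B₀) (algebraMap C₀ C' r) := by
        rw [Algebra.TensorProduct.algebraMap_apply, Algebra.algebraMap_eq_smul_one r,
          tmul_smul, smul_tmul', ← Algebra.algebraMap_eq_smul_one]
        rfl
      rw [this]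
      exact T.algebraMap_mem _
    | add x y _ _ hx hy =>
      rw [tmul_add]
      exact T.add_mem hx hy
    | mul x y _ _ hx hy =>
      have : (1 : C') ⊗ₜ[C₀] (x * y) = ((1 : C') ⊗ₜ[C₀] x) * ((1 : C') ⊗ₜ[C₀] y) := by
        rw [Algebra.TensorProduct.tmul_mul_tmul, one_mul]
      rw [this]
      exact T.mul_mem hx hy
  rw [eq_top_iff]
  intro z _
  clear ‹z ∈ (⊤ : Subalgebra C' (C' ⊗[C₀] B₀))›
  induction z with
  | zero => exact T.zero_mem
  | add x y hx hy => exact T.add_mem hx hy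
  | tmul c b =>
    have : c ⊗ₜ[C₀] b = c • ((1 : C') ⊗ₜ[C₀] b) := by
      rw [smul_tmul', smul_eq_mul, mul_one]
    rw [this]
    exact T.smul_mem (h1 b) c

end stage

section stage2
variable {C₀ : Type u} [CommRing C₀] {R : Type u} [CommRing R] [Algebra C₀ R]
  {B₀ : Type u} [CommRing B₀] [Algebra C₀ B₀] [Module.Flat C₀ B₀]
  {A : Type u} [CommRing A] [HopfAlgebra R A] [Algebra C₀ A] [IsScalarTower C₀ R A]
  {ι₀ : B₀ →ₐ[C₀] A}
  (C' : Type u) [CommRing C'] [Algebra C₀ C'] [Algebra C' R] [IsScalarTower C₀ C' R]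
  [Algebra C' A] [IsScalarTower C' R A] [IsScalarTower C₀ C' A]

/-- the descent data at a stage containing enough coefficients -/
theorem descData_stage (hι₀ : IsBaseChange R ι₀.toLinearMap)
    (hinj : Function.Injective (algebraMap C' R)) (gs : Set B₀)
    (hgs : Algebra.adjoin C₀ gs = ⊤)
    (hΔ : ∀ g ∈ gs, ∃ S : Finset (R × (B₀ ⊗[C₀] B₀)),
      (∀ i ∈ S, i.1 ∈ Set.range (algebraMap C' R)) ∧
        Coalgebra.comul (R := R) (ι₀ g) = ∑ i ∈ S, i.1 • tmul₂ R ι₀.toLinearMap i.2)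
    (hε : ∀ g ∈ gs, Coalgebra.counit (R := R) (ι₀ g) ∈ Set.range (algebraMap C' R))
    (hS : ∀ g ∈ gs, ∃ S : Finset (R × B₀), (∀ i ∈ S, i.1 ∈ Set.range (algebraMap C' R)) ∧
      HopfAlgebra.antipode R (ι₀ g) = ∑ i ∈ S, i.1 • ι₀ i.2) :
    DescData R (stageMap ι₀ C') := by
  have hone : ∀ b : B₀, stageMap ι₀ C' ((1 : C') ⊗ₜ[C₀] b) = ι₀ b := fun b => by
    rw [stageMap_tmul, one_smul]
  refine ⟨hinj, isBaseChange_stageMap C' hι₀, ?_, ?_, ?_⟩
  · -- comultiplication
    let T : Subalgebra C' (C' ⊗[C₀] B₀) :=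
      (tmul₂Alg (R := R) (stageMap ι₀ C')).range.comap
        (((Bialgebra.comulAlgHom R A).restrictScalars C').comp (stageMap ι₀ C'))
    have hT : T = ⊤ := by
      apply subalgebra_eq_top C' T gs hgs
      intro g hg
      obtain ⟨S, hS1, hS2⟩ := hΔ g hg
      change Coalgebra.comul (R := R) (stageMap ι₀ C' ((1 : C') ⊗ₜ[C₀] g)) ∈
        (tmul₂Alg (R := R) (stageMap ι₀ C')).range
      rw [hone, hS2]
      have hsum : ∑ i ∈ S, i.1 • tmul₂ R ι₀.toLinearMap i.2 ∈
          LinearMap.range (tmul₂ R (stageMap ι₀ C').toLinearMap) := by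
        apply Submodule.sum_mem
        intro i hi
        obtain ⟨c, hc⟩ := hS1 i hi
        rw [← hc]
        exact smul_tmul₂_mem_range C' c i.2
      obtain ⟨y, hy⟩ := hsum
      exact ⟨y, hy⟩
    intro b
    have hb : b ∈ T := by rw [hT]; trivial
    obtain ⟨y, hy⟩ := hb
    exact ⟨y, hy⟩
  · -- counit
    let T : Subalgebra C' (C' ⊗[C₀] B₀) :=
      (Algebra.ofId C' R).range.comap
        (((Bialgebra.counitAlgHom R A).restrictScalars C').comp (stageMap ι₀ C'))
    have hT : T = ⊤ := by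
      apply subalgebra_eq_top C' T gs hgs
      intro g hg
      obtain ⟨c, hc⟩ := hε g hg
      change Coalgebra.counit (R := R) (stageMap ι₀ C' ((1 : C') ⊗ₜ[C₀] g)) ∈
        (Algebra.ofId C' R).range
      rw [hone]
      exact ⟨c, hc⟩
    intro b
    have hb : b ∈ T := by rw [hT]; trivial
    obtain ⟨y, hy⟩ := hb
    exact ⟨y, hy⟩
  · -- antipode
    let T : Subalgebra C' (C' ⊗[C₀] B₀) :=
      (stageMap ι₀ C').range.comap
        (((HopfAlgebra.antipodeAlgHom R A).restrictScalars C').comp (stageMap ι₀ C'))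
    have hT : T = ⊤ := by
      apply subalgebra_eq_top C' T gs hgs
      intro g hg
      obtain ⟨S, hS1, hS2⟩ := hS g hg
      change HopfAlgebra.antipode R (stageMap ι₀ C' ((1 : C') ⊗ₜ[C₀] g)) ∈
        (stageMap ι₀ C').range
      rw [hone, hS2]
      have hsum : ∑ i ∈ S, i.1 • ι₀ i.2 ∈ LinearMap.range (stageMap ι₀ C').toLinearMap := by
        apply Submodule.sum_mem
        intro i hi
        obtain ⟨c, hc⟩ := hS1 i hi
        rw [← hc]
        exact smul_mem_range C' c i.2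
      obtain ⟨y, hy⟩ := hsum
      exact ⟨y, hy⟩
    intro b
    have hb : b ∈ T := by rw [hT]; trivial
    obtain ⟨y, hy⟩ := hb
    exact ⟨y, hy⟩

end stage2

end Groth.Agent.H15.HA
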