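import Groth.Agent.H15.HopfApprox4

/-!
# Noetherian approximation of flat finitely presented Hopf algebras: the theorem
-/

set_option autoImplicit false
set_option linter.style.haveILetI false
set_option linter.unusedSectionVars false
universe u
open TensorProduct Coalgebra

namespace Groth.Agent.H15.HA
open Groth.Agent.H26 Groth.Agent.H15.MTC

/-- **Noetherian approximation of Hopf algebras**: a flat finitely presented Hopf algebra over a
ring `R` is the base change of a flat finitely presented Hopf algebra over a finitely generated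
`ℤ`-subalgebra of `R`. -/
theorem exists_hopf_model (R : Type u) [CommRing R] (A : Type u) [CommRing A] [HopfAlgebra R A]
    [Module.Flat R A] [Algebra.FinitePresentation R A] :
    ∃ (C : Type u) (_ : CommRing C) (_ : Algebra C R) (B : Type u) (_ : CommRing B)
      (_ : HopfAlgebra C B), Algebra.FiniteType ℤ C ∧ Function.Injective (algebraMap C R) ∧
        Algebra.FinitePresentation C B ∧ Module.Flat C B ∧ Nonempty (R ⊗[C] B ≃ₐc[R] A) := by
  classical
  obtain ⟨C₀, _, _, B₀, _, _, hftC₀, hinj₀, hfp₀, hfl₀, ⟨e₀⟩⟩ := exists_flat_model R A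
  letI : Algebra C₀ A := ((algebraMap R A).comp (algebraMap C₀ R)).toAlgebra
  haveI : IsScalarTower C₀ R A := IsScalarTower.of_algebraMap_eq fun _ => rfl
  let ι₀ : B₀ →ₐ[C₀] A :=
    ((e₀ : R ⊗[C₀] B₀ →ₐ[R] A).restrictScalars C₀).comp Algebra.TensorProduct.includeRight
  have hι₀ : IsBaseChange R ι₀.toLinearMap := by
    have h0 := (TensorProduct.isBaseChange C₀ B₀ R).comp (IsBaseChange.ofEquiv e₀.toLinearEquiv)
    have h1 : ι₀.toLinearMap = (e₀.toLinearEquiv.toLinearMap.restrictScalars C₀) ∘ₗ
        (TensorProduct.mk C₀ R B₀ 1) := LinearMap.ext fun _ => rfl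
    rw [h1]
    exact h0
  have hι₂ : IsBaseChange R (tmul₂ R ι₀.toLinearMap) := isBaseChange_tmulMap R hι₀ hι₀
  -- generators
  obtain ⟨gs, hgs⟩ := (Algebra.FiniteType.out : (⊤ : Subalgebra C₀ B₀).FG)
  -- representations
  choose SΔ hSΔ using fun g : B₀ => exists_rep hι₂ (Coalgebra.comul (R := R) (ι₀ g))
  choose SS hSS using fun g : B₀ => exists_rep hι₀ (HopfAlgebra.antipode R (ι₀ g))
  let F : Finset R := gs.biUnion fun g =>
    (SΔ g).image Prod.fst ∪ (SS g).image Prod.fst ∪ {Coalgebra.counit (R := R) (ι₀ g)}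
  let C' : Subalgebra C₀ R := Algebra.adjoin C₀ (F : Set R)
  have hF : ∀ r ∈ F, r ∈ Set.range (algebraMap C' R) := fun r hr =>
    ⟨⟨r, Algebra.subset_adjoin hr⟩, rfl⟩
  have hftC' : Algebra.FiniteType ℤ C' := by
    have h1 : Algebra.FiniteType C₀ C' :=
      (Subalgebra.fg_iff_finiteType C').mp ⟨F, rfl⟩
    exact Algebra.FiniteType.trans hftC₀ h1
  have hinj' : Function.Injective (algebraMap C' R) := Subtype.val_injective
  haveI : IsScalarTower C' R A := IsScalarTower.of_algebraMap_eq fun _ => rfl
  haveI : IsScalarTower C₀ C' A := IsScalarTower.of_algebraMap_eq fun _ => rfl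
  have hD : DescData R (stageMap ι₀ C') := by
    apply descData_stage C' hι₀ hinj' (gs : Set B₀) hgs
    · intro g hg
      refine ⟨SΔ g, fun i hi => hF _ ?_, hSΔ g⟩
      exact Finset.mem_biUnion.mpr ⟨g, hg, Finset.mem_union_left _
        (Finset.mem_union_left _ (Finset.mem_image_of_mem _ hi))⟩
    · intro g hg
      apply hF
      exact Finset.mem_biUnion.mpr ⟨g, hg, Finset.mem_union_right _ (Finset.mem_singleton_self _)⟩
    · intro g hg
      refine ⟨SS g, fun i hi => hF _ ?_, hSS g⟩
      exact Finset.mem_biUnion.mpr ⟨g, hg, Finset.mem_union_left _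
        (Finset.mem_union_right _ (Finset.mem_image_of_mem _ hi))⟩
  letI := hD.hopfAlgebra
  refine ⟨C', inferInstance, inferInstance, C' ⊗[C₀] B₀, inferInstance, hD.hopfAlgebra, hftC',
    hinj', inferInstance, inferInstance, ?_⟩
  have hco : IsCoalgMapOver R (liftAlg R (stageMap ι₀ C')).toLinearMap :=
    isCoalgMapOver_liftAlg R hD.isCoalgMapOver
  have hbc : IsBaseChange R (liftAlg R (stageMap ι₀ C')).toLinearMap :=
    isBaseChange_liftAlg R hD.bc
  exact nonempty_bialgEquiv_of_chart (liftAlg R (stageMap ι₀ C')) hco hbc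

end Groth.Agent.H15.HA
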