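import Mathlib.LinearAlgebra.TensorProduct.Basis
import Mathlib.RingTheory.Ideal.IdempotentFG
import Mathlib.RingTheory.TensorProduct.Maps
import Mathlib.LinearAlgebra.Basis.VectorSpace
import Mathlib.RingTheory.Ideal.Maps

/-!
# Geometric connectedness of an augmented algebra over a field

Let `B` be an algebra over a field `k` with an augmentation `ε : B → k` and with only the trivial
idempotents.  Then for every field extension `K` of `k`, the algebra `K ⊗[k] B` has only the
trivial idempotents.
-/

set_option autoImplicit false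
set_option linter.style.haveILetI false
set_option linter.unusedSectionVars false
universe u
open TensorProduct

namespace Groth.Agent.H15.HF

section aug
variable {k : Type*} [Field k] {K : Type*} [CommRing K] [Algebra k K]
  {B : Type*} [CommRing B] [Algebra k B]

/-- the submodule of `K ⊗ B` spanned by the `l ⊗ b`, `b ∈ J` -/
def tspan (K : Type*) [CommRing K] [Algebra k K] (J : Ideal B) : Submodule k (K ⊗[k] B) :=
  Submodule.span k {x | ∃ (l : K) (b : B), b ∈ J ∧ x = l ⊗ₜ[k] b}

lemma mul_mem_tspan {J₁ J₂ : Ideal B} {x y : K ⊗[k] B} (hx : x ∈ tspan K J₁)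
    (hy : y ∈ tspan K J₂) : x * y ∈ tspan K (J₁ * J₂) := by
  induction hx using Submodule.span_induction with
  | mem x hx =>
    obtain ⟨l, b, hb, rfl⟩ := hx
    induction hy using Submodule.span_induction with
    | mem y hy =>
      obtain ⟨l', b', hb', rfl⟩ := hy
      rw [Algebra.TensorProduct.tmul_mul_tmul]
      exact Submodule.subset_span ⟨l * l', b * b', Ideal.mul_mem_mul hb hb', rfl⟩
    | zero => rw [mul_zero]; exact Submodule.zero_mem _
    | add y₁ y₂ _ _ h₁ h₂ => rw [mul_add]; exact Submodule.add_mem _ h₁ h₂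
    | smul c y _ h => rw [mul_smul_comm]; exact Submodule.smul_mem _ c h
  | zero => rw [zero_mul]; exact Submodule.zero_mem _
  | add x₁ x₂ _ _ h₁ h₂ => rw [add_mul]; exact Submodule.add_mem _ h₁ h₂
  | smul c x _ h => rw [smul_mul_assoc]; exact Submodule.smul_mem _ c h

lemma coord_mem_of_mem_tspan (φ : K →ₗ[k] k) {J : Ideal B} {x : K ⊗[k] B}
    (hx : x ∈ tspan K J) : TensorProduct.lid k B (φ.rTensor B x) ∈ J := by
  induction hx using Submodule.span_induction with
  | mem x hx =>
    obtain ⟨l, b, hb, rfl⟩ := hx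
    rw [LinearMap.rTensor_tmul, TensorProduct.lid_tmul, Algebra.smul_def]
    exact J.mul_mem_left _ hb
  | zero => simp
  | add x₁ x₂ _ _ h₁ h₂ => rw [map_add, map_add]; exact J.add_mem h₁ h₂
  | smul c x _ h =>
    rw [map_smul, map_smul, Algebra.smul_def]
    exact J.mul_mem_left _ h

lemma coord_lTensor (φ : K →ₗ[k] k) (ε : B →ₗ[k] k) (x : K ⊗[k] B) :
    TensorProduct.lid k k (φ.rTensor k (ε.lTensor K x)) =
      ε (TensorProduct.lid k B (φ.rTensor B x)) := by
  induction x with
  | zero => simp
  | add x y hx hy => simp only [map_add, hx, hy]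
  | tmul l b => simp

/-- **key lemma**: an idempotent of `K ⊗ B` killed by the augmentation vanishes -/
theorem idem_eq_zero_of_aug (hB : ∀ b : B, IsIdempotentElem b → b = 0 ∨ b = 1) (ε : B →ₐ[k] k)
    (e : K ⊗[k] B) (he : IsIdempotentElem e) (hε : ε.toLinearMap.lTensor K e = 0) : e = 0 := by
  classical
  let ℬ := Module.Basis.ofVectorSpace k K
  set f := TensorProduct.equivFinsuppOfBasisLeft ℬ e with hf
  have hef : e = f.sum fun i n => ℬ i ⊗ₜ[k] n := by
    rw [← TensorProduct.equivFinsuppOfBasisLeft_symm_apply, hf, LinearEquiv.symm_apply_apply]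
  let J : Ideal B := Ideal.span ((f.support.image f : Finset B) : Set B)
  have hJfg : J.FG := ⟨f.support.image f, rfl⟩
  have hfJ : ∀ i, f i ∈ J := by
    intro i
    by_cases hi : i ∈ f.support
    · exact Ideal.subset_span (Finset.mem_coe.mpr (Finset.mem_image_of_mem f hi))
    · rw [Finsupp.notMem_support_iff.mp hi]
      exact J.zero_mem
  have heJ : e ∈ tspan K J := by
    rw [hef]
    apply Submodule.sum_mem
    intro i _
    exact Submodule.subset_span ⟨ℬ i, f i, hfJ i, rfl⟩
  have hee : e ∈ tspan K (J * J) := by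
    have := mul_mem_tspan heJ heJ
    rwa [he.eq] at this
  have hfJJ : ∀ i, f i ∈ J * J := by
    intro i
    rw [hf, TensorProduct.equivFinsuppOfBasisLeft_apply]
    exact coord_mem_of_mem_tspan (ℬ.coord i) hee
  have hJle : J ≤ J * J := by
    apply Ideal.span_le.mpr
    intro b hb
    obtain ⟨i, _, rfl⟩ := Finset.mem_image.mp (Finset.mem_coe.mp hb)
    exact hfJJ i
  have hJidem : IsIdempotentElem J := le_antisymm Ideal.mul_le_right hJle
  obtain ⟨g, hg, hJg⟩ := (Ideal.isIdempotentElem_iff_of_fg J hJfg).mp hJidem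
  have hεf : ∀ i, ε (f i) = 0 := by
    intro i
    have h1 := coord_lTensor (ℬ.coord i) ε.toLinearMap e
    rw [hε, map_zero, map_zero] at h1
    rw [hf, TensorProduct.equivFinsuppOfBasisLeft_apply]
    exact h1.symm
  have hJε : J ≤ RingHom.ker (ε : B →+* k) := by
    apply Ideal.span_le.mpr
    intro b hb
    obtain ⟨i, _, rfl⟩ := Finset.mem_image.mp (Finset.mem_coe.mp hb)
    exact hεf i
  rcases hB g hg with h0 | h1
  · have hJ0 : J = ⊥ := by rw [hJg, h0]; exact Ideal.span_singleton_eq_bot.mpr rfl
    have hf0 : f = 0 := by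
      ext i
      have := hfJ i
      rw [hJ0, Ideal.mem_bot] at this
      rw [this, Finsupp.zero_apply]
    rw [hef, hf0, Finsupp.sum_zero_index]
  · exfalso
    have hJ1 : J = ⊤ := by rw [hJg, h1]; exact Ideal.span_singleton_one
    have : (1 : B) ∈ RingHom.ker (ε : B →+* k) := hJε (by rw [hJ1]; trivial)
    rw [RingHom.mem_ker] at this
    simp at this

end aug

end Groth.Agent.H15.HF
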