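import Groth.Agent.H15.MTQI7
import Mathlib.RingTheory.Spectrum.Prime.Chevalley

/-!
# Groups of multiplicative type and of finite type are quasi-isotrivial
-/

set_option autoImplicit false
set_option linter.style.haveILetI false
set_option linter.unusedSectionVars false
universe u
open TensorProduct Coalgebra

namespace Groth.Agent.H15.MTQI
open Groth.Agent.H26 Groth.Agent.H15.MTC Groth.Agent.H15.MT Groth.Agent.H15.GLD

attribute [local instance] Algebra.TensorProduct.rightAlgebra

section cover

variable {R : Type u} [CommRing R]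

/-- a flat algebra whose image on spectra contains `D(f)` becomes faithfully flat over `R_f` -/
theorem faithfullyFlat_away_tensor (f : R) (E : Type u) [CommRing E] [Algebra R E]
    [Module.Flat R E]
    (hcover : ∀ p : Ideal R, p.IsPrime → f ∉ p →
      ∃ q : Ideal E, q.IsPrime ∧ q.comap (algebraMap R E) = p) :
    Module.FaithfullyFlat (Localization.Away f) (Localization.Away f ⊗[R] E) := by
  apply Module.FaithfullyFlat.of_comap_surjective
  intro P
  have hp : (P.asIdeal.comap (algebraMap R (Localization.Away f))).IsPrime :=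
    Ideal.comap_isPrime _ _
  have hf : f ∉ P.asIdeal.comap (algebraMap R (Localization.Away f)) := by
    intro hmem
    rw [Ideal.mem_comap] at hmem
    exact P.isPrime.ne_top (Ideal.eq_top_of_isUnit_mem _ hmem
      (IsLocalization.Away.algebraMap_isUnit f))
  obtain ⟨q, hq, hqp⟩ := hcover _ hp hf
  have hdisj : Disjoint (Submonoid.powers (algebraMap R E f) : Set E) (q : Set E) := by
    rw [Set.disjoint_left]
    rintro x ⟨n, rfl⟩ hx
    have h1 : algebraMap R E f ∈ q := hq.mem_of_pow_mem n hx
    apply hf
    rw [← hqp]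
    exact h1
  have hQ : (q.map (algebraMap E (Localization.Away f ⊗[R] E))).IsPrime :=
    IsLocalization.isPrime_of_isPrime_disjoint (Submonoid.powers (algebraMap R E f)) _ q hq hdisj
  have hQq : (q.map (algebraMap E (Localization.Away f ⊗[R] E))).comap
      (algebraMap E (Localization.Away f ⊗[R] E)) = q :=
    IsLocalization.under_map_of_isPrime_disjoint (Submonoid.powers (algebraMap R E f)) _ hq hdisj
  refine ⟨⟨q.map (algebraMap E (Localization.Away f ⊗[R] E)), hQ⟩, ?_⟩
  apply PrimeSpectrum.ext
  rw [PrimeSpectrum.comap_asIdeal]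
  change (q.map (algebraMap E (Localization.Away f ⊗[R] E))).comap
    (algebraMap (Localization.Away f) (Localization.Away f ⊗[R] E)) = P.asIdeal
  rw [← IsLocalization.map_under (Submonoid.powers f) (Localization.Away f) P.asIdeal,
    ← IsLocalization.map_under (Submonoid.powers f) (Localization.Away f)
      ((q.map (algebraMap E (Localization.Away f ⊗[R] E))).comap
        (algebraMap (Localization.Away f) (Localization.Away f ⊗[R] E)))]
  congr 1
  change ((q.map (algebraMap E (Localization.Away f ⊗[R] E))).comap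
    (algebraMap (Localization.Away f) (Localization.Away f ⊗[R] E))).comap
      (algebraMap R (Localization.Away f)) = P.asIdeal.comap (algebraMap R (Localization.Away f))
  rw [Ideal.comap_comap, ← IsScalarTower.algebraMap_eq,
    IsScalarTower.algebraMap_eq R E (Localization.Away f ⊗[R] E), ← Ideal.comap_comap, hQq, hqp]

/-- the image of an étale algebra on spectra contains a basic open neighbourhood of any point of
it -/
theorem exists_basicOpen_cover (E : Type u) [CommRing E] [Algebra R E] [Algebra.Etale R E]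
    (q : Ideal E) [hq : q.IsPrime] :
    ∃ f : R, f ∉ q.comap (algebraMap R E) ∧ ∀ p : Ideal R, p.IsPrime → f ∉ p →
      ∃ q' : Ideal E, q'.IsPrime ∧ q'.comap (algebraMap R E) = p := by
  have hopen : IsOpen (Set.range (PrimeSpectrum.comap (algebraMap R E))) :=
    (PrimeSpectrum.isOpenMap_comap_of_hasGoingDown_of_finitePresentation (R := R) (S := E)).isOpen_range
  have hx : PrimeSpectrum.comap (algebraMap R E) ⟨q, hq⟩ ∈
      Set.range (PrimeSpectrum.comap (algebraMap R E)) := ⟨_, rfl⟩
  obtain ⟨v, ⟨f, rfl⟩, hxv, hvU⟩ :=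
    PrimeSpectrum.isTopologicalBasis_basic_opens.exists_subset_of_mem_open hx hopen
  refine ⟨f, ?_, ?_⟩
  · have := (PrimeSpectrum.mem_basicOpen f _).mp hxv
    rwa [PrimeSpectrum.comap_asIdeal] at this
  · intro p hp hfp
    have hmem : (⟨p, hp⟩ : PrimeSpectrum R) ∈ (PrimeSpectrum.basicOpen f : Set _) :=
      (PrimeSpectrum.mem_basicOpen f _).mpr hfp
    obtain ⟨y, hy⟩ := hvU hmem
    refine ⟨y.asIdeal, y.isPrime, ?_⟩
    rw [← PrimeSpectrum.comap_asIdeal, hy]

end cover

section assembly

variable (R : Type u) [CommRing R] (A : Type u) [CommRing A] [HopfAlgebra R A]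

/-- a chart over an étale algebra covering `D(f)` makes the group quasi-isotrivial of constant
type over `D(f)` -/
theorem isQuasiIsotrivialConst_away (f : R) (E : Type u) [CommRing E] [Algebra R E]
    [Algebra.Etale R E] {M : Type u} [CommGroup M] (h : HasDChart R A E M)
    (hcover : ∀ p : Ideal R, p.IsPrime → f ∉ p →
      ∃ q : Ideal E, q.IsPrime ∧ q.comap (algebraMap R E) = p) :
    SGA3b.IsQuasiIsotrivialConst (Localization.Away f) (Localization.Away f ⊗[R] A) := by
  have hff := faithfullyFlat_away_tensor f E hcover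
  have h1 : HasDChart R A (Localization.Away f ⊗[R] E) M := h.map _
  have h2 := h1.baseChange (Localization.Away f)
  have h3 := (h2.baseChange (Localization.Away f ⊗[R] E)).nonempty_equiv
  exact ⟨Localization.Away f ⊗[R] E, inferInstance, inferInstance, inferInstance, hff,
    M, inferInstance, h3⟩

/-- a Hopf algebra which is diagonalisable over an étale neighbourhood of every closed point is
quasi-isotrivial -/
theorem isQuasiIsotrivial_of_pointwise
    (h : ∀ (𝔪 : Ideal R), 𝔪.IsMaximal → ∃ (E : Type u) (_ : CommRing E) (_ : Algebra R E)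
      (M : Type u) (_ : CommGroup M), Algebra.Etale R E ∧ HasDChart R A E M ∧
        𝔪.map (algebraMap R E) ≠ ⊤) : SGA3b.IsQuasiIsotrivial R A := by
  refine ⟨{f : R | SGA3b.IsQuasiIsotrivialConst (Localization.Away f)
    (Localization.Away f ⊗[R] A)}, ?_, fun f hf => hf⟩
  by_contra hne
  obtain ⟨𝔪, hmax, hle⟩ := Ideal.exists_le_maximal _ hne
  obtain ⟨E, _, _, M, _, het, hchart, htop⟩ := h 𝔪 hmax
  haveI := het
  obtain ⟨Q, hQmax, hQle⟩ := Ideal.exists_le_maximal _ htop
  haveI hQprime : Q.IsPrime := hQmax.isPrime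
  have hQ𝔪 : Q.comap (algebraMap R E) = 𝔪 := by
    have h1 : 𝔪 ≤ Q.comap (algebraMap R E) := by
      rw [← Ideal.map_le_iff_le_comap]; exact hQle
    exact (hmax.eq_of_le (Ideal.comap_ne_top _ hQprime.ne_top) h1).symm
  obtain ⟨f, hf, hcover⟩ := exists_basicOpen_cover (R := R) E Q
  rw [hQ𝔪] at hf
  apply hf
  apply hle
  apply Ideal.subset_span
  exact isQuasiIsotrivialConst_away R A f E hchart hcover

/-- **SGA3 X 4.5**: a group of multiplicative type and of finite type is quasi-isotrivial. -/
theorem isQuasiIsotrivial_of_finiteType (hft : Algebra.FiniteType R A)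
    (h : SGA3b.IsMultType R A) : SGA3b.IsQuasiIsotrivial R A := by
  apply isQuasiIsotrivial_of_pointwise
  intro 𝔪 hmax
  obtain ⟨s₀, hs₀, hconst⟩ := h
  have hex : ∃ f₀ ∈ s₀, f₀ ∉ 𝔪 := by
    by_contra hcon
    have hcon' : ∀ f₀ ∈ s₀, f₀ ∈ 𝔪 := by
      intro f₀ hf₀
      by_contra hn
      exact hcon ⟨f₀, hf₀, hn⟩
    have : Ideal.span s₀ ≤ 𝔪 := Ideal.span_le.mpr hcon'
    rw [hs₀] at this
    exact hmax.ne_top (top_le_iff.mp this)
  obtain ⟨f₀, hf₀, hf₀𝔪⟩ := hex
  have hdisj : Disjoint (Submonoid.powers f₀ : Set R) (𝔪 : Set R) := by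
    rw [Set.disjoint_left]
    rintro x ⟨n, rfl⟩ hx
    exact hf₀𝔪 (hmax.isPrime.mem_of_pow_mem n hx)
  have hunder : (𝔪.map (algebraMap R (Localization.Away f₀))).comap
      (algebraMap R (Localization.Away f₀)) = 𝔪 :=
    IsLocalization.under_map_of_isPrime_disjoint (Submonoid.powers f₀) _ hmax.isPrime hdisj
  haveI : ((𝔪.map (algebraMap R (Localization.Away f₀))).under R).IsMaximal := by
    rw [Ideal.under_def, hunder]; exact hmax
  haveI hmax₀ : (𝔪.map (algebraMap R (Localization.Away f₀))).IsMaximal :=
    Ideal.IsMaximal.of_isLocalization_of_disjoint (Submonoid.powers f₀)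
  have hft₀ : Algebra.FiniteType (Localization.Away f₀) (Localization.Away f₀ ⊗[R] A) :=
    inferInstance
  obtain ⟨E, _, _, M, _, het, hchart, htop⟩ :=
    exists_etale_hasDChart (Localization.Away f₀) (Localization.Away f₀ ⊗[R] A) hft₀
      (hconst f₀ hf₀) (𝔪.map (algebraMap R (Localization.Away f₀)))
  haveI := het
  letI : Algebra R E := ((algebraMap (Localization.Away f₀) E).comp
    (algebraMap R (Localization.Away f₀))).toAlgebra
  haveI : IsScalarTower R (Localization.Away f₀) E := IsScalarTower.of_algebraMap_eq fun _ => rfl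
  haveI : Algebra.Etale R (Localization.Away f₀) := Algebra.Etale.of_isLocalizationAway f₀
  refine ⟨E, inferInstance, inferInstance, M, inferInstance,
    Algebra.Etale.comp R (Localization.Away f₀) E,
    HasDChart.of_baseChange (Localization.Away f₀) hchart, ?_⟩
  rw [IsScalarTower.algebraMap_eq R (Localization.Away f₀) E, ← Ideal.map_map]
  exact htop

end assembly

end Groth.Agent.H15.MTQI
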