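import Groth.Agent.H15.HopfFib9
import Groth.Agent.H15.MTQI8

/-!
# Spreading out from the local rings: a finitely presented group which is of multiplicative type
over the local rings at all maximal ideals is of multiplicative type
-/

set_option autoImplicit false
set_option linter.style.haveILetI false
set_option linter.unusedSectionVars false
universe u
open TensorProduct Coalgebra

namespace Groth.Agent.H15.HF
open Groth.Agent.H26 Groth.Agent.H15.MTC Groth.Agent.H15.MT Groth.Agent.H15.GLD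
open Groth.Agent.H3 Groth.Agent.H3.EtNbhd Hens2 Groth.Agent.H15.MTQI SGA3b

section pointwise

variable (R : Type u) [CommRing R] (A : Type u) [CommRing A] [HopfAlgebra R A]

/-- a finitely presented group which is of multiplicative type over the local ring at a maximal
ideal is diagonalisable over an étale neighbourhood of that closed point -/
theorem exists_etale_hasDChart_of_localization (hfp : Algebra.FinitePresentation R A)
    (𝔪 : Ideal R) [h𝔪 : 𝔪.IsMaximal]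
    (h : SGA3b.IsMultTypeConst (Localization.AtPrime 𝔪) (Localization.AtPrime 𝔪 ⊗[R] A)) :
    ∃ (E : Type u) (_ : CommRing E) (_ : Algebra R E) (M : Type u) (_ : CommGroup M),
      Algebra.Etale R E ∧ HasDChart R A E M ∧ 𝔪.map (algebraMap R E) ≠ ⊤ := by
  haveI := hfp
  letI : Field (R ⧸ 𝔪) := Ideal.Quotient.field 𝔪
  -- the closed fibre is isotrivial
  have hunit0 : ∀ y : 𝔪.primeCompl, IsUnit (algebraMap R (R ⧸ 𝔪) y) := fun y => by
    rw [isUnit_iff_ne_zero, Ne, Ideal.Quotient.algebraMap_eq, Ideal.Quotient.eq_zero_iff_mem]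
    exact y.2
  letI : Algebra (Localization.AtPrime 𝔪) (R ⧸ 𝔪) :=
    (IsLocalization.lift (M := 𝔪.primeCompl) (S := Localization.AtPrime 𝔪) hunit0).toAlgebra
  haveI : IsScalarTower R (Localization.AtPrime 𝔪) (R ⧸ 𝔪) :=
    IsScalarTower.of_algebraMap_eq fun c =>
      (IsLocalization.lift_eq (M := 𝔪.primeCompl) (S := Localization.AtPrime 𝔪) hunit0 c).symm
  have h0 : SGA3b.IsMultType (R ⧸ 𝔪) ((R ⧸ 𝔪) ⊗[R] A) :=
    Groth.Agent.H15.MTF.isMultType_of_isMultTypeConst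
      (isMultTypeConst_of_tower (Localization.AtPrime 𝔪) (R ⧸ 𝔪) h)
  have hft0 : Algebra.FiniteType (R ⧸ 𝔪) ((R ⧸ 𝔪) ⊗[R] A) := inferInstance
  obtain ⟨k', _, _, hfin, hsep, M, _, hfg, ⟨e₀⟩⟩ :=
    Groth.Agent.H15.IsoF.isotrivial_of_field (R ⧸ 𝔪) _ hft0 h0
  haveI := hfg
  haveI := hfin
  haveI := hsep
  letI : Algebra R k' := ((algebraMap (R ⧸ 𝔪) k').comp (algebraMap R (R ⧸ 𝔪))).toAlgebra
  haveI : IsScalarTower R (R ⧸ 𝔪) k' := IsScalarTower.of_algebraMap_eq fun _ => rfl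
  haveI : Algebra.FormallyEtale (R ⧸ 𝔪) k' := Algebra.FormallyEtale.of_isSeparable _ _
  haveI : Algebra.FinitePresentation (R ⧸ 𝔪) k' := by
    have : Algebra.FiniteType (R ⧸ 𝔪) k' := inferInstance
    exact Algebra.FinitePresentation.of_finiteType.mp this
  haveI het0 : Algebra.Etale (R ⧸ 𝔪) k' := {}
  have h1 : HasDChart (R ⧸ 𝔪) ((R ⧸ 𝔪) ⊗[R] A) k' M := HasDChart.of_equiv e₀
  have h2 : HasDChart R A k' M := HasDChart.of_baseChange (R ⧸ 𝔪) h1
  -- an étale algebra lifting the residue extension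
  obtain ⟨E₁, _, _, hetE, ⟨ψ⟩⟩ := Groth.Agent.H47.exists_etale_lift_quotient R 𝔪 k'
  haveI := hetE
  let g : E₁ →ₐ[R] k' :=
    ((ψ : (R ⧸ 𝔪) ⊗[R] E₁ →ₐ[R ⧸ 𝔪] k').restrictScalars R).comp
      (Algebra.TensorProduct.includeRight : E₁ →ₐ[R] (R ⧸ 𝔪) ⊗[R] E₁)
  have hg : Function.Surjective g := by
    have hs1 : Function.Surjective (Algebra.TensorProduct.includeRight :
        E₁ →ₐ[R] (R ⧸ 𝔪) ⊗[R] E₁) :=
      Algebra.TensorProduct.includeRight_surjective E₁ Ideal.Quotient.mk_surjective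
    exact ψ.surjective.comp hs1
  set 𝔫 : Ideal E₁ := RingHom.ker g.toRingHom with h𝔫
  haveI h𝔫max : 𝔫.IsMaximal := RingHom.ker_isMaximal_of_surjective g.toRingHom hg
  -- the henselization
  have hH := HensFlatMain.isPairHenselization_Lim E₁ 𝔫
  obtain ⟨G, hG, hGsurj, hGker⟩ := exists_residue_map hH g.toRingHom hg rfl
  obtain ⟨hloc, hhens⟩ := henselianLocalRing_of_residue_map hH G hGsurj hGker
  haveI := hhens
  letI : Algebra R (HensTower.Lim E₁ 𝔫) :=
    ((algebraMap E₁ (HensTower.Lim E₁ 𝔫)).comp (algebraMap R E₁)).toAlgebra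
  haveI : IsScalarTower R E₁ (HensTower.Lim E₁ 𝔫) := IsScalarTower.of_algebraMap_eq fun _ => rfl
  letI : Algebra (HensTower.Lim E₁ 𝔫) k' := G.toAlgebra
  have hGR : ∀ r : R, G (algebraMap R (HensTower.Lim E₁ 𝔫) r) = algebraMap R k' r := fun r => by
    change G (algebraMap E₁ (HensTower.Lim E₁ 𝔫) (algebraMap R E₁ r)) = algebraMap R k' r
    have : G (algebraMap E₁ (HensTower.Lim E₁ 𝔫) (algebraMap R E₁ r)) = g (algebraMap R E₁ r) :=
      congrArg (fun ψ : E₁ →+* k' => ψ (algebraMap R E₁ r)) hG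
    rw [this, g.commutes]
  haveI : IsScalarTower R (HensTower.Lim E₁ 𝔫) k' := IsScalarTower.of_algebraMap_eq fun r =>
    (hGR r).symm
  have h4 : HasDChart (HensTower.Lim E₁ 𝔫) (HensTower.Lim E₁ 𝔫 ⊗[R] A) k' M :=
    h2.baseChange (HensTower.Lim E₁ 𝔫)
  -- the henselization is an algebra over the local ring
  have hkerG : RingHom.ker G = IsLocalRing.maximalIdeal (HensTower.Lim E₁ 𝔫) :=
    IsLocalRing.eq_maximalIdeal (RingHom.ker_isMaximal_of_surjective G hGsurj)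
  have hunitH : ∀ y : 𝔪.primeCompl, IsUnit (algebraMap R (HensTower.Lim E₁ 𝔫) y) := fun y => by
    apply IsLocalRing.notMem_maximalIdeal.mp
    rw [← hkerG, RingHom.mem_ker, hGR, IsScalarTower.algebraMap_apply R (R ⧸ 𝔪) k']
    intro hcon
    have h5 : algebraMap R (R ⧸ 𝔪) y = 0 :=
      (injective_iff_map_eq_zero (algebraMap (R ⧸ 𝔪) k')).mp (algebraMap (R ⧸ 𝔪) k').injective _ hcon
    rw [Ideal.Quotient.algebraMap_eq, Ideal.Quotient.eq_zero_iff_mem] at h5
    exact y.2 h5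
  letI : Algebra (Localization.AtPrime 𝔪) (HensTower.Lim E₁ 𝔫) :=
    (IsLocalization.lift (M := 𝔪.primeCompl) (S := Localization.AtPrime 𝔪) hunitH).toAlgebra
  haveI : IsScalarTower R (Localization.AtPrime 𝔪) (HensTower.Lim E₁ 𝔫) :=
    IsScalarTower.of_algebraMap_eq fun c =>
      (IsLocalization.lift_eq (M := 𝔪.primeCompl) (S := Localization.AtPrime 𝔪) hunitH c).symm
  have hmt' : SGA3b.IsMultType (HensTower.Lim E₁ 𝔫) (HensTower.Lim E₁ 𝔫 ⊗[R] A) :=
    Groth.Agent.H15.MTF.isMultType_of_isMultTypeConst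
      (isMultTypeConst_of_tower (Localization.AtPrime 𝔪) (HensTower.Lim E₁ 𝔫) h)
  have hft' : Algebra.FiniteType (HensTower.Lim E₁ 𝔫) (HensTower.Lim E₁ 𝔫 ⊗[R] A) :=
    inferInstance
  obtain ⟨M', _, ⟨e⟩⟩ := Groth.Agent.H15.MTHens.isDiag_of_henselian (HensTower.Lim E₁ 𝔫)
    (HensTower.Lim E₁ 𝔫 ⊗[R] A) hft' hmt' k' hGsurj M h4
  haveI : Group.FG M' := by
    have hft'' : Algebra.FiniteType (HensTower.Lim E₁ 𝔫) (MonoidAlgebra (HensTower.Lim E₁ 𝔫) M') :=
      hft'.equiv (e : (HensTower.Lim E₁ 𝔫 ⊗[R] A) ≃ₐ[HensTower.Lim E₁ 𝔫] MonoidAlgebra _ M')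
    exact MonoidAlgebra.finiteType_iff_group_fg.mp hft''
  -- spreading out
  haveI hfpC : Algebra.FinitePresentation E₁ (E₁ ⊗[R] A) := inferInstance
  have h5 : HasDChart R A (HensTower.Lim E₁ 𝔫) M' := HasDChart.of_equiv e
  have h6 : HasDChart E₁ (E₁ ⊗[R] A) (HensTower.Lim E₁ 𝔫) M' := h5.baseChange E₁
  obtain ⟨A', _, _, hN, h7⟩ := exists_nbhd_hasDChart hH (E₁ ⊗[R] A) M' h6
  haveI := hN.etale
  letI : Algebra R A' := ((algebraMap E₁ A').comp (algebraMap R E₁)).toAlgebra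
  haveI : IsScalarTower R E₁ A' := IsScalarTower.of_algebraMap_eq fun _ => rfl
  refine ⟨A', inferInstance, inferInstance, M', inferInstance,
    Algebra.Etale.comp R E₁ A', HasDChart.of_baseChange E₁ h7, ?_⟩
  intro htop
  have h8 : 𝔪.map (algebraMap R E₁) ≤ 𝔫 := by
    rw [Ideal.map_le_iff_le_comap]
    intro r hr
    rw [Ideal.mem_comap, h𝔫, RingHom.mem_ker]
    change g (algebraMap R E₁ r) = 0
    rw [g.commutes, IsScalarTower.algebraMap_apply R (R ⧸ 𝔪) k',
      Ideal.Quotient.algebraMap_eq, Ideal.Quotient.eq_zero_iff_mem.mpr hr, map_zero]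
  have h9 : 𝔫.map (algebraMap E₁ A') = ⊤ := by
    rw [eq_top_iff, ← htop, IsScalarTower.algebraMap_eq R E₁ A', ← Ideal.map_map]
    exact Ideal.map_mono h8
  have h10 : algebraMap E₁ A' 1 ∈ 𝔫.map (algebraMap E₁ A') := by rw [h9]; trivial
  exact h𝔫max.ne_top ((Ideal.eq_top_iff_one _).mpr (hN.inj 1 h10))

end pointwise

end Groth.Agent.H15.HF
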