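import Groth.Agent.H15.HopfFib10

/-!
# SGA3 X 4.8 / 4.9: flat finitely presented groups with fibres of multiplicative type
-/

set_option autoImplicit false
set_option linter.style.haveILetI false
set_option linter.unusedSectionVars false
universe u
open TensorProduct Coalgebra

namespace Groth.Agent.H15.HF
open Groth.Agent.H26 Groth.Agent.H15.MTC SGA3b

section global
variable (R : Type u) [CommRing R] (A : Type u) [CommRing A] [HopfAlgebra R A] [Module.Flat R A]

/-- a flat finitely presented group whose fibres at the closed points are of multiplicative type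
is quasi-isotrivial of multiplicative type, provided idempotents of the augmentation ideal vanish
after local base changes -/
theorem isQuasiIsotrivial_of_idemVanish (hfp : Algebra.FinitePresentation R A)
    (hfib : ∀ (𝔪 : Ideal R) [𝔪.IsMaximal],
      IsMultType 𝔪.ResidueField (𝔪.ResidueField ⊗[R] A))
    (hz : IdemVanish R A) : IsQuasiIsotrivial R A := by
  haveI := hfp
  apply Groth.Agent.H15.MTQI.isQuasiIsotrivial_of_pointwise
  intro 𝔪 hmax
  haveI := hmax
  apply exists_etale_hasDChart_of_localization R A hfp 𝔪
  have hfp₁ : Algebra.FinitePresentation (Localization.AtPrime 𝔪)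
      (Localization.AtPrime 𝔪 ⊗[R] A) := inferInstance
  apply isMultTypeConst_of_isLocalRing_of_idem (Localization.AtPrime 𝔪)
    (Localization.AtPrime 𝔪 ⊗[R] A) hfp₁ _ (hz.baseChange (Localization.AtPrime 𝔪))
  apply Groth.Agent.H15.MTF.isMultType_of_isMultTypeConst
  exact isMultTypeConst_tower' (Localization.AtPrime 𝔪) 𝔪.ResidueField
    (Groth.Agent.H15.MTHens.isMultTypeConst_of_isLocalRing 𝔪.ResidueField _ (hfib 𝔪))

end global

end Groth.Agent.H15.HF
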