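import Groth.Agent.H15.MTIso5
import Mathlib.RingTheory.LocalRing.ResidueField.Ideal

/-!
# Connected fibres: the clopen subgroup is everything (SGA3 X 3.3 (a))
-/

set_option autoImplicit false
set_option linter.style.haveILetI false
universe u
open TensorProduct Coalgebra

namespace Groth.Agent.H15.MTI
open Groth.Agent.H26 Groth.Agent.H15.MTC SGA3b

section conn
variable {R : Type*} [CommRing R]

/-- idempotents of a ring with connected spectrum are trivial -/
theorem idem_eq_zero_or_one_of_connected [PreconnectedSpace (PrimeSpectrum R)] {e : R}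
    (he : IsIdempotentElem e) : e = 0 ∨ e = 1 := by
  have h1 : IsClopen (PrimeSpectrum.basicOpen e : Set (PrimeSpectrum R)) :=
    PrimeSpectrum.isClopen_basicOpen_of_mul_add e (1 - e)
      (by rw [mul_sub, mul_one, he.eq, sub_self]) (by ring)
  rcases isClopen_iff.mp h1 with h | h
  · left
    have h2 : PrimeSpectrum.basicOpen e = ⊥ := by
      ext x
      simp only [TopologicalSpace.Opens.coe_bot]
      rw [← h]
    rw [PrimeSpectrum.basicOpen_eq_bot_iff] at h2
    obtain ⟨n, hn⟩ := h2
    rcases n with _ | n
    · rw [pow_zero] at hn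
      rw [← mul_one e, hn, mul_zero]
    · rwa [he.pow_succ_eq] at hn
  · right
    have h2 : PrimeSpectrum.basicOpen (1 - e) = ⊥ := by
      ext x
      simp only [TopologicalSpace.Opens.coe_bot, Set.mem_empty_iff_false, iff_false]
      intro hx
      have hx' : x ∈ (PrimeSpectrum.basicOpen e : Set (PrimeSpectrum R)) := by rw [h]; trivial
      rw [SetLike.mem_coe, PrimeSpectrum.mem_basicOpen] at hx hx'
      apply x.2.mul_notMem hx' hx
      rw [mul_sub, mul_one, he.eq, sub_self]
      exact zero_mem _
    rw [PrimeSpectrum.basicOpen_eq_bot_iff] at h2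
    obtain ⟨n, hn⟩ := h2
    have he' : IsIdempotentElem (1 - e) := he.one_sub
    rcases n with _ | n
    · rw [pow_zero] at hn
      rw [← mul_one e, hn, mul_zero, ← hn]
    · rw [he'.pow_succ_eq, sub_eq_zero] at hn
      exact hn.symm

end conn

section fibres
variable {A : Type u} [CommRing A] {C : Type u} [CommRing C] [Algebra A C]

/-- an idempotent in the augmentation ideal of an algebra with connected fibres vanishes -/
theorem idem_eq_zero_of_fibres_connected (ε : C →ₐ[A] A) (e : C) (he : IsIdempotentElem e)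
    (hε : ε e = 0)
    (hconn : ∀ (p : Ideal A) [p.IsPrime],
      ConnectedSpace (PrimeSpectrum (p.ResidueField ⊗[A] C))) : e = 0 := by
  suffices h : IsNilpotent e by
    obtain ⟨n, hn⟩ := h
    rcases n with _ | n
    · rw [pow_zero] at hn
      rw [← mul_one e, hn, mul_zero]
    · rwa [he.pow_succ_eq] at hn
  rw [nilpotent_iff_mem_prime]
  intro q hq
  haveI := hq
  set p := q.comap (algebraMap A C) with hp
  haveI : p.IsPrime := Ideal.comap_isPrime _ _
  haveI := hconn p
  have hidem : IsIdempotentElem ((1 : p.ResidueField) ⊗ₜ[A] e) :=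
    he.map (Algebra.TensorProduct.includeRight : C →ₐ[A] p.ResidueField ⊗[A] C)
  rcases idem_eq_zero_or_one_of_connected hidem with h | h
  · let f : A →ₐ[A] q.ResidueField := Algebra.ofId A q.ResidueField
    have hf : ∀ a : A, f a = algebraMap C q.ResidueField (algebraMap A C a) := fun a =>
      IsScalarTower.algebraMap_apply A C q.ResidueField a
    have hf₁ : p ≤ RingHom.ker f := by
      intro a ha
      rw [RingHom.mem_ker, hf, Ideal.algebraMap_residueField_eq_zero]
      exact ha
    have hf₂ : p.primeCompl ≤ (IsUnit.submonoid q.ResidueField).comap f := by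
      intro a ha
      rw [Submonoid.mem_comap, IsUnit.mem_submonoid_iff, isUnit_iff_ne_zero, Ne, hf,
        Ideal.algebraMap_residueField_eq_zero]
      exact ha
    let Ω : p.ResidueField ⊗[A] C →ₐ[A] q.ResidueField :=
      Algebra.TensorProduct.lift (Ideal.ResidueField.liftₐ p f hf₁ hf₂)
        (IsScalarTower.toAlgHom A C q.ResidueField) (fun _ _ => Commute.all _ _)
    have h1 := congrArg Ω h
    rw [map_zero, Algebra.TensorProduct.lift_tmul, map_one, one_mul] at h1
    exact Ideal.algebraMap_residueField_eq_zero.mp h1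
  · exfalso
    let Υ : p.ResidueField ⊗[A] C →ₐ[A] p.ResidueField :=
      Algebra.TensorProduct.lift (AlgHom.id A p.ResidueField)
        ((Algebra.ofId A p.ResidueField).comp ε) (fun _ _ => Commute.all _ _)
    have h1 := congrArg Υ h
    rw [map_one, Algebra.TensorProduct.lift_tmul, map_one, one_mul, AlgHom.comp_apply, hε,
      map_zero] at h1
    exact zero_ne_one h1

end fibres

section transport
variable {A : Type u} [CommRing A] {C : Type u} [CommRing C] [HopfAlgebra A C]
  {Q : Type u} [CommRing Q] [HopfAlgebra A Q]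

/-- base change of a bialgebra isomorphism -/
theorem nonempty_baseChange_equiv (ψ : C ≃ₐc[A] Q) (A' : Type u) [CommRing A'] [Algebra A A'] :
    Nonempty ((A' ⊗[A] C) ≃ₐc[A'] (A' ⊗[A] Q)) := by
  let f : A' ⊗[A] C →ₐc[A'] A' ⊗[A] Q :=
    Bialgebra.TensorProduct.map (BialgHom.id A' A') (ψ : C →ₐc[A] Q)
  let g : A' ⊗[A] C ≃ₗ[A] A' ⊗[A] Q :=
    TensorProduct.congr (LinearEquiv.refl A A') ψ.toLinearEquiv
  have hfg : ∀ x, f x = g x := by
    intro x
    induction x using TensorProduct.induction_on with
    | zero => simp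
    | add a b ha hb => rw [map_add, map_add, ha, hb]
    | tmul a c => rfl
  have hf : Function.Bijective f := by
    have : (f : A' ⊗[A] C → A' ⊗[A] Q) = g := funext hfg
    rw [this]
    exact g.bijective
  exact ⟨BialgEquiv.ofBijective f hf⟩

/-- isotriviality is invariant under bialgebra isomorphisms -/
theorem isIsotrivial_of_bialgEquiv (ψ : C ≃ₐc[A] Q) (h : IsIsotrivial A Q) : IsIsotrivial A C := by
  obtain ⟨A', _, _, het, hfin, hff, M, _, ⟨E⟩⟩ := h
  obtain ⟨F⟩ := nonempty_baseChange_equiv ψ A'
  exact ⟨A', inferInstance, inferInstance, het, hfin, hff, M, inferInstance, ⟨F.trans E⟩⟩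

/-- the quotient by the zero ideal -/
theorem isIsotrivial_of_quot_zero [(Ideal.span {(0 : C)}).IsHopfIdeal A]
    (h : IsIsotrivial A (C ⧸ Ideal.span {(0 : C)})) : IsIsotrivial A C := by
  have hbij : Function.Bijective (Bialgebra.Quotient.mkBialgHom (R := A) (Ideal.span {(0 : C)})) := by
    constructor
    · rw [injective_iff_map_eq_zero]
      intro x hx
      rw [Bialgebra.Quotient.mkBialgHom_apply, Ideal.Quotient.eq_zero_iff_mem,
        Ideal.mem_span_singleton'] at hx
      obtain ⟨z, hz⟩ := hx
      rw [← hz, mul_zero]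
    · intro y
      obtain ⟨c, rfl⟩ := Ideal.Quotient.mk_surjective y
      exact ⟨c, rfl⟩
  exact isIsotrivial_of_bialgEquiv (BialgEquiv.ofBijective _ hbij) h

end transport

section main
variable (A : Type u) [CommRing A] [IsNoetherianRing A] (I : Ideal A) [IsAdicComplete I A]
  (C : Type u) [CommRing C] [HopfAlgebra A C]

/-- **SGA3 X 3.3 (a)**: connected fibres -/
theorem isIsotrivial_of_fibres_connected [Module.Flat A C] (hft : Algebra.FiniteType A C)
    (hconn : ∀ (p : Ideal A) [p.IsPrime],
      ConnectedSpace (PrimeSpectrum (p.ResidueField ⊗[A] C)))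
    (h0 : IsIsotrivial (A ⧸ I) ((A ⧸ I) ⊗[A] C)) : IsIsotrivial A C := by
  have hfl : ∀ (q : Ideal C) [q.IsPrime], Ideal.map (algebraMap A C) I ≤ q →
      Module.Flat A (Localization.AtPrime q) := fun q _ _ =>
    Module.Flat.trans A C (Localization.AtPrime q)
  obtain ⟨e, heidem, -, hH, hiso⟩ := exists_clopen_subgroup A I C hft hfl h0
  have hce : counit (R := A) e = 0 :=
    Submodule.IsCoideal.counit_eq_zero (I := (Ideal.span {e}).restrictScalars A)
      (Ideal.mem_span_singleton_self e)
  have he0 : e = 0 :=
    idem_eq_zero_of_fibres_connected (Bialgebra.counitAlgHom A C) e heidem hce hconn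
  subst he0
  exact isIsotrivial_of_quot_zero hiso

end main

end Groth.Agent.H15.MTI
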