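import Groth.Agent.H15.HopfFib1
import Groth.Agent.H15.MTIso6

/-!
# Connected fibres with a rational point are geometrically connected (augmented algebras)
-/

set_option autoImplicit false
set_option linter.style.haveILetI false
set_option linter.unusedSectionVars false
universe u
open TensorProduct

namespace Groth.Agent.H15.HF

section augK
variable {R : Type*} [CommRing R] {A : Type*} [CommRing A] [Algebra R A]

/-- the augmentation of `S ⊗ A` induced by an augmentation of `A` -/
noncomputable def augBC (ε : A →ₐ[R] R) (S : Type*) [CommRing S] [Algebra R S] :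
    S ⊗[R] A →ₐ[S] S :=
  Algebra.TensorProduct.lift (AlgHom.id S S) ((Algebra.ofId R S).comp ε)
    (fun _ _ => Commute.all _ _)

@[simp] lemma augBC_tmul (ε : A →ₐ[R] R) (S : Type*) [CommRing S] [Algebra R S] (s : S) (a : A) :
    augBC ε S (s ⊗ₜ[R] a) = s * algebraMap R S (ε a) := by
  simp [augBC, Algebra.ofId_apply]

lemma augBC_eq (ε : A →ₐ[R] R) (S : Type*) [CommRing S] [Algebra R S] (x : S ⊗[R] A) :
    augBC ε S x = TensorProduct.rid R S (ε.toLinearMap.lTensor S x) := by
  induction x with
  | zero => simp
  | add x y hx hy => simp only [map_add, hx, hy]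
  | tmul s a =>
    rw [augBC_tmul, LinearMap.lTensor_tmul, TensorProduct.rid_tmul, AlgHom.toLinearMap_apply,
      Algebra.smul_def, mul_comm]

end augK

section field
variable {k : Type*} [Field k] {K : Type*} [Field K] [Algebra k K]
  {B : Type*} [CommRing B] [Algebra k B]

/-- over a field: an idempotent of `K ⊗ B` killed by the augmentation vanishes -/
theorem idem_eq_zero_of_augBC (hB : ∀ b : B, IsIdempotentElem b → b = 0 ∨ b = 1) (ε : B →ₐ[k] k)
    (e : K ⊗[k] B) (he : IsIdempotentElem e) (hε : augBC ε K e = 0) : e = 0 := by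
  apply idem_eq_zero_of_aug hB ε e he
  rw [augBC_eq] at hε
  exact (TensorProduct.rid k K).injective (by rw [hε, map_zero])

end field

section geom
variable {R : Type u} [CommRing R] {A : Type u} [CommRing A] [Algebra R A]

/-- connected fibres of an augmented algebra are geometrically connected -/
theorem idem_eq_zero_of_fibres_connected_field (ε : A →ₐ[R] R)
    (hconn : ∀ (p : Ideal R) [p.IsPrime],
      ConnectedSpace (PrimeSpectrum (p.ResidueField ⊗[R] A)))
    (K : Type u) [Field K] [Algebra R K] (e : K ⊗[R] A) (he : IsIdempotentElem e)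
    (hε : augBC ε K e = 0) : e = 0 := by
  set p : Ideal R := RingHom.ker (algebraMap R K) with hp
  haveI : p.IsPrime := RingHom.ker_isPrime _
  haveI := hconn p
  let f : R →ₐ[R] K := Algebra.ofId R K
  have hf₁ : p ≤ RingHom.ker f := le_of_eq rfl
  have hf₂ : p.primeCompl ≤ (IsUnit.submonoid K).comap f := by
    intro a ha
    rw [Submonoid.mem_comap, IsUnit.mem_submonoid_iff, isUnit_iff_ne_zero]
    exact ha
  letI : Algebra p.ResidueField K := (Ideal.ResidueField.liftₐ p f hf₁ hf₂).toRingHom.toAlgebra
  haveI : IsScalarTower R p.ResidueField K := IsScalarTower.of_algebraMap_eq fun r => by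
    change algebraMap R K r = Ideal.ResidueField.liftₐ p f hf₁ hf₂ (algebraMap R p.ResidueField r)
    rw [Ideal.ResidueField.liftₐ_algebraMap]
    rfl
  let Φ : K ⊗[p.ResidueField] (p.ResidueField ⊗[R] A) ≃ₐ[K] K ⊗[R] A :=
    Algebra.TensorProduct.cancelBaseChange R p.ResidueField K K A
  have hB : ∀ b : p.ResidueField ⊗[R] A, IsIdempotentElem b → b = 0 ∨ b = 1 := fun b hb =>
    Groth.Agent.H15.MTI.idem_eq_zero_or_one_of_connected hb
  have hcomp : (augBC ε K).comp (Φ : K ⊗[p.ResidueField] (p.ResidueField ⊗[R] A) →ₐ[K] K ⊗[R] A) =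
      augBC (augBC ε p.ResidueField) K := by
    apply Algebra.TensorProduct.ext
    · ext
    · apply AlgHom.ext
      intro x
      induction x with
      | zero => simp
      | add x y hx hy => simp only [map_add, hx, hy]
      | tmul s a =>
        simp only [AlgHom.coe_comp, AlgHom.coe_restrictScalars', Function.comp_apply,
          Algebra.TensorProduct.includeRight_apply, AlgEquiv.coe_toAlgHom]
        rw [Algebra.TensorProduct.cancelBaseChange_tmul, augBC_tmul, augBC_tmul, augBC_tmul,
          one_mul, map_mul, ← IsScalarTower.algebraMap_apply, Algebra.smul_def, mul_one]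
  have h1 : augBC (augBC ε p.ResidueField) K (Φ.symm e) = 0 := by
    rw [← hcomp, AlgHom.comp_apply, AlgEquiv.coe_toAlgHom, AlgEquiv.apply_symm_apply, hε]
  have h2 : Φ.symm e = 0 :=
    idem_eq_zero_of_augBC hB (augBC ε p.ResidueField) (Φ.symm e) (he.map Φ.symm) h1
  have := congrArg Φ h2
  rwa [AlgEquiv.apply_symm_apply, map_zero] at this

/-- an idempotent killed by the augmentation vanishes as soon as this holds on all geometric
fibres -/
theorem idem_eq_zero_of_geom (ε : A →ₐ[R] R) {S : Type u} [CommRing S] [Algebra R S]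
    (e : S ⊗[R] A) (he : IsIdempotentElem e) (hε : augBC ε S e = 0)
    (hgeo : ∀ (K : Type u) [Field K] [Algebra R K] (x : K ⊗[R] A), IsIdempotentElem x →
      augBC ε K x = 0 → x = 0) : e = 0 := by
  suffices h : IsNilpotent e by
    obtain ⟨n, hn⟩ := h
    rcases n with _ | n
    · rw [pow_zero] at hn
      rw [← mul_one e, hn, mul_zero]
    · rwa [he.pow_succ_eq] at hn
  rw [nilpotent_iff_mem_prime]
  intro Q hQ
  haveI := hQ
  let g : S ⊗[R] A →ₐ[R] Q.ResidueField ⊗[R] A :=
    Algebra.TensorProduct.map (IsScalarTower.toAlgHom R S Q.ResidueField) (AlgHom.id R A)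
  have hg : ∀ x : S ⊗[R] A, augBC ε Q.ResidueField (g x) =
      algebraMap S Q.ResidueField (augBC ε S x) := by
    intro x
    induction x with
    | zero => simp
    | add x y hx hy => simp only [map_add, hx, hy]
    | tmul s a =>
      rw [Algebra.TensorProduct.map_tmul, augBC_tmul, augBC_tmul, map_mul,
        ← IsScalarTower.algebraMap_apply]
      rfl
  have h1 : g e = 0 := hgeo Q.ResidueField (g e) (he.map g) (by rw [hg, hε, map_zero])
  let h : Q.ResidueField ⊗[R] A →ₐ[R] Q.ResidueField :=
    Algebra.TensorProduct.lift (AlgHom.id R Q.ResidueField)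
      ((IsScalarTower.toAlgHom R (S ⊗[R] A) Q.ResidueField).comp
        Algebra.TensorProduct.includeRight) (fun _ _ => Commute.all _ _)
  have hh : ∀ x : S ⊗[R] A, h (g x) = algebraMap (S ⊗[R] A) Q.ResidueField x := by
    intro x
    induction x with
    | zero => simp
    | add x y hx hy => simp only [map_add, hx, hy]
    | tmul s a =>
      rw [Algebra.TensorProduct.map_tmul, Algebra.TensorProduct.lift_tmul]
      simp only [IsScalarTower.coe_toAlgHom', AlgHom.id_apply, AlgHom.comp_apply,
        Algebra.TensorProduct.includeRight_apply]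
      rw [IsScalarTower.algebraMap_apply S (S ⊗[R] A) Q.ResidueField, ← map_mul,
        Algebra.TensorProduct.algebraMap_apply, Algebra.TensorProduct.tmul_mul_tmul, mul_one,
        one_mul]
      rfl
  have h2 := hh e
  rw [h1, map_zero] at h2
  exact Ideal.algebraMap_residueField_eq_zero.mp h2.symm

end geom

end Groth.Agent.H15.HF
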