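import Groth.Agent.H15.MTIso8

/-!
# Open and closed isotrivial subgroups: base change and transport
-/

set_option autoImplicit false
set_option linter.style.haveILetI false
set_option linter.unusedSectionVars false
universe u
open TensorProduct Coalgebra

namespace Groth.Agent.H15.HF
open Groth.Agent.H26 Groth.Agent.H15.MTC SGA3b

attribute [local instance] Algebra.TensorProduct.rightAlgebra

section isobc
variable {S : Type u} [CommRing S] {G : Type u} [CommRing G] [HopfAlgebra S G]

/-- isotriviality is stable under base change -/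
theorem isIsotrivial_baseChange (h : IsIsotrivial S G) (S' : Type u) [CommRing S']
    [Algebra S S'] : IsIsotrivial S' (S' ⊗[S] G) := by
  obtain ⟨T, _, _, het, hfin, hff, M, _, ⟨e⟩⟩ := h
  haveI := het
  haveI := hfin
  haveI := hff
  have h1 : HasDChart S G T M := HasDChart.of_equiv e
  have h2 : HasDChart S G (S' ⊗[S] T) M := h1.map (S' ⊗[S] T)
  have h3 : HasDChart S' (S' ⊗[S] G) (S' ⊗[S] T) M := h2.baseChange S'
  have h4 : HasDChart (S' ⊗[S] T) ((S' ⊗[S] T) ⊗[S'] (S' ⊗[S] G)) (S' ⊗[S] T) M :=
    h3.baseChange (S' ⊗[S] T)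
  exact ⟨S' ⊗[S] T, inferInstance, inferInstance, inferInstance, inferInstance, inferInstance, M,
    inferInstance, h4.nonempty_equiv⟩

end isobc

section clopen
variable (S : Type u) [CommRing S] (J : Ideal S) (H : Type u) [CommRing H] [HopfAlgebra S H]

/-- `H` has an open and closed isotrivial subgroup of multiplicative type, with the same
reduction modulo `J` -/
def HasClopen : Prop :=
  ∃ e : H, IsIdempotentElem e ∧ e ∈ J.map (algebraMap S H) ∧
    ∃ (G : Type u) (_ : CommRing G) (_ : HopfAlgebra S G) (π : H →ₐc[S] G),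
      Function.Surjective π ∧ (∀ x, π x = 0 ↔ x ∈ Ideal.span {e}) ∧ IsIsotrivial S G

variable {S J H}

theorem HasClopen.of_hopfIdeal (e : H) (he : IsIdempotentElem e)
    (heJ : e ∈ J.map (algebraMap S H)) [(Ideal.span {e}).IsHopfIdeal S]
    (hiso : IsIsotrivial S (H ⧸ Ideal.span {e})) : HasClopen S J H := by
  refine ⟨e, he, heJ, H ⧸ Ideal.span {e}, inferInstance, inferInstance,
    Bialgebra.Quotient.mkBialgHom (R := S) (Ideal.span {e}), ?_, ?_, hiso⟩
  · intro y
    obtain ⟨c, rfl⟩ := Ideal.Quotient.mk_surjective y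
    exact ⟨c, rfl⟩
  · intro x
    rw [Bialgebra.Quotient.mkBialgHom_apply, Ideal.Quotient.eq_zero_iff_mem]

/-- if the idempotent must vanish, the group is isotrivial -/
theorem HasClopen.isIsotrivial (h : HasClopen S J H)
    (hz : ∀ e : H, IsIdempotentElem e → e ∈ J.map (algebraMap S H) →
      Coalgebra.counit (R := S) e = 0 → e = 0) : IsIsotrivial S H := by
  obtain ⟨e, he, heJ, G, _, _, π, hsurj, hker, hiso⟩ := h
  have hπe : π e = 0 := (hker e).mpr (Ideal.mem_span_singleton_self e)
  have hce : Coalgebra.counit (R := S) e = 0 := by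
    have h1 := CoalgHomClass.counit_comp_apply π e
    rw [hπe, map_zero] at h1
    exact h1.symm
  have he0 : e = 0 := hz e he heJ hce
  have hinj : Function.Injective π := by
    rw [injective_iff_map_eq_zero]
    intro x hx
    have := (hker x).mp hx
    rw [he0, Ideal.mem_span_singleton'] at this
    obtain ⟨z, hz⟩ := this
    rw [← hz, mul_zero]
  exact Groth.Agent.H15.MTI.isIsotrivial_of_bialgEquiv (BialgEquiv.ofBijective π ⟨hinj, hsurj⟩) hiso

/-- transport along a bialgebra isomorphism -/
theorem HasClopen.of_equiv {H' : Type u} [CommRing H'] [HopfAlgebra S H'] (Ξ : H ≃ₐc[S] H')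
    (h : HasClopen S J H) : HasClopen S J H' := by
  obtain ⟨e, he, heJ, G, _, _, π, hsurj, hker, hiso⟩ := h
  refine ⟨Ξ e, he.map (Ξ : H →ₐ[S] H'), ?_, G, inferInstance, inferInstance,
    π.comp (Ξ.symm : H' →ₐc[S] H), ?_, ?_, hiso⟩
  · have h1 : (J.map (algebraMap S H)).map ((Ξ : H →ₐ[S] H') : H →+* H') =
        J.map (algebraMap S H') := by
      rw [Ideal.map_map]
      congr 1
      ext s
      exact (Ξ : H →ₐ[S] H').commutes s
    rw [← h1]
    exact Ideal.mem_map_of_mem _ heJ
  · intro g
    obtain ⟨x, rfl⟩ := hsurj g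
    exact ⟨Ξ x, by simp⟩
  · intro x
    have h1 : (π.comp (Ξ.symm : H' →ₐc[S] H)) x = π (Ξ.symm x) := rfl
    rw [h1, hker, Ideal.mem_span_singleton', Ideal.mem_span_singleton']
    constructor
    · rintro ⟨a, ha⟩
      refine ⟨Ξ a, ?_⟩
      have := congrArg Ξ ha
      rw [map_mul, BialgEquiv.apply_symm_apply] at this
      exact this
    · rintro ⟨a, ha⟩
      refine ⟨Ξ.symm a, ?_⟩
      rw [← ha, map_mul, BialgEquiv.symm_apply_apply]

/-- base change of an open and closed isotrivial subgroup -/
theorem HasClopen.baseChange (h : HasClopen S J H) (S' : Type u) [CommRing S'] [Algebra S S']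
    (J' : Ideal S') (hJ : J.map (algebraMap S S') ≤ J') : HasClopen S' J' (S' ⊗[S] H) := by
  obtain ⟨e, he, heJ, G, _, _, π, hsurj, hker, hiso⟩ := h
  let π' : S' ⊗[S] H →ₐc[S'] S' ⊗[S] G := Bialgebra.TensorProduct.map (BialgHom.id S' S') π
  have hπ' : ∀ x, π' x = Algebra.TensorProduct.map (AlgHom.id S S') (π : H →ₐ[S] G) x := by
    intro x
    induction x with
    | zero => simp
    | add x y hx hy => rw [map_add, map_add, hx, hy]
    | tmul a c => rfl
  refine ⟨(1 : S') ⊗ₜ[S] e,
    he.map (Algebra.TensorProduct.includeRight : H →ₐ[S] S' ⊗[S] H), ?_, S' ⊗[S] G,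
    inferInstance, inferInstance, π', ?_, ?_, isIsotrivial_baseChange hiso S'⟩
  · have h1 : (J.map (algebraMap S H)).map
        ((Algebra.TensorProduct.includeRight : H →ₐ[S] S' ⊗[S] H) : H →+* S' ⊗[S] H) ≤
        J'.map (algebraMap S' (S' ⊗[S] H)) := by
      rw [Ideal.map_map]
      have h2 : ((Algebra.TensorProduct.includeRight : H →ₐ[S] S' ⊗[S] H) : H →+* S' ⊗[S] H).comp
          (algebraMap S H) = (algebraMap S' (S' ⊗[S] H)).comp (algebraMap S S') := by
        ext s
        simp only [RingHom.comp_apply, AlgHom.coe_toRingHom,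
          Algebra.TensorProduct.includeRight_apply, Algebra.TensorProduct.algebraMap_apply]
        rw [Algebra.algebraMap_eq_smul_one, tmul_smul, smul_tmul', ← Algebra.algebraMap_eq_smul_one]
        rfl
      rw [h2, ← Ideal.map_map]
      exact Ideal.map_mono hJ
    exact h1 (Ideal.mem_map_of_mem _ heJ)
  · intro y
    induction y with
    | zero => exact ⟨0, map_zero _⟩
    | add x y hx hy =>
      obtain ⟨a, ha⟩ := hx
      obtain ⟨b, hb⟩ := hy
      exact ⟨a + b, by rw [map_add, ha, hb]⟩
    | tmul s g =>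
      obtain ⟨x, rfl⟩ := hsurj g
      exact ⟨s ⊗ₜ x, rfl⟩
  · intro x
    rw [hπ']
    have hk := Algebra.TensorProduct.lTensor_ker (A := S') (π : H →ₐ[S] G) hsurj
    have hkπ : RingHom.ker (π : H →ₐ[S] G) = Ideal.span {e} := by
      ext y
      rw [RingHom.mem_ker]
      exact hker y
    rw [hkπ, Ideal.map_span, Set.image_singleton] at hk
    rw [← RingHom.mem_ker, hk]
    rfl

end clopen

end Groth.Agent.H15.HF
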