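import Groth.Agent.H15.HopfFib3
import Groth.Agent.H15.HopfApprox5

/-!
# Local Noetherian models of flat finitely presented Hopf algebras over a local ring
-/

set_option autoImplicit false
set_option linter.style.haveILetI false
set_option linter.unusedSectionVars false
universe u
open TensorProduct Coalgebra

namespace Groth.Agent.H15.HF
open Groth.Agent.H26 Groth.Agent.H15.MTC SGA3b

attribute [local instance] Algebra.TensorProduct.rightAlgebra

section chartequiv
variable {C : Type u} [CommRing C] {B : Type u} [CommRing B] [Bialgebra C B]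
  (T : Type u) [CommRing T] [Algebra C T]
  {S : Type u} [CommRing S] [Algebra C S] [Algebra T S] [IsScalarTower C T S]
  {A' : Type u} [CommRing A'] [Bialgebra S A'] [Algebra C A'] [Algebra T A']
  [IsScalarTower C T A'] [IsScalarTower T S A'] [IsScalarTower C S A']

/-- a chart `B → A'` over `C → S` factoring through `T` gives `S ⊗[T] (T ⊗[C] B) ≅ A'` -/
theorem nonempty_equiv_of_chart_tower (θ : B →ₐ[C] A') (hco : IsCoalgMapOver S θ.toLinearMap)
    (hbc : IsBaseChange S θ.toLinearMap) : Nonempty (S ⊗[T] (T ⊗[C] B) ≃ₐc[S] A') := by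
  have h1 : IsCoalgMapOver S (liftAlg T θ).toLinearMap := isCoalgMapOver_liftAlg T hco
  have h2 : IsBaseChange S (liftAlg T θ).toLinearMap := isBaseChange_liftAlg T hbc
  have h3 : IsCoalgMapOver S (liftAlg S (liftAlg T θ)).toLinearMap := isCoalgMapOver_liftAlg S h1
  have h4 : IsBaseChange S (liftAlg S (liftAlg T θ)).toLinearMap := isBaseChange_liftAlg S h2
  exact nonempty_bialgEquiv_of_chart _ h3 h4

end chartequiv

section ofchart
variable {C : Type u} [CommRing C] {B : Type u} [CommRing B] [HopfAlgebra C B]
  {R : Type u} [CommRing R] [Algebra C R] {A : Type u} [CommRing A] [HopfAlgebra R A]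
  [Algebra C A] [IsScalarTower C R A]
  {K : Type u} [CommRing K] [Algebra R K] [Algebra C K] [IsScalarTower C R K]
  {M : Type u} [CommGroup M]

/-- charts compose -/
theorem HasDChart.of_chart (θ : B →ₐ[C] A) (hco : IsCoalgMapOver R θ.toLinearMap)
    (hbc : IsBaseChange R θ.toLinearMap) (h : HasDChart R A K M) : HasDChart C B K M := by
  obtain ⟨l, hlco, hlbc⟩ := h
  refine ⟨(l.restrictScalars C).comp θ, ?_, ?_⟩
  · exact IsCoalgMapOver.comp hlco hco
  · have h0 := hbc.comp hlbc
    have h1 : ((l.restrictScalars C).comp θ).toLinearMap =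
        (l.toLinearMap.restrictScalars C).comp θ.toLinearMap :=
      LinearMap.ext fun _ => rfl
    rw [h1]
    exact h0

end ofchart

section localmodel

/-- a flat finitely presented Hopf algebra over a local ring is the base change of a flat Hopf
algebra of finite type over a Noetherian local ring, along a local homomorphism -/
theorem exists_local_model (R : Type u) [CommRing R] [IsLocalRing R] (A : Type u) [CommRing A]
    [HopfAlgebra R A] [Module.Flat R A] [Algebra.FinitePresentation R A] :
    ∃ (C₁ : Type u) (_ : CommRing C₁) (_ : IsLocalRing C₁) (_ : IsNoetherianRing C₁)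
      (_ : Algebra C₁ R) (B₁ : Type u) (_ : CommRing B₁) (_ : HopfAlgebra C₁ B₁),
      IsLocalHom (algebraMap C₁ R) ∧ Algebra.FiniteType C₁ B₁ ∧ Module.Flat C₁ B₁ ∧
        Nonempty (R ⊗[C₁] B₁ ≃ₐc[R] A) := by
  obtain ⟨C, _, _, B, _, _, hft, -, hfp, hfl, ⟨Ξ⟩⟩ := Groth.Agent.H15.HA.exists_hopf_model R A
  haveI := hfp
  haveI := hfl
  haveI : IsNoetherianRing C := Algebra.FiniteType.isNoetherianRing ℤ C
  let p₀ : Ideal C := (IsLocalRing.maximalIdeal R).comap (algebraMap C R)
  haveI : p₀.IsPrime := Ideal.comap_isPrime _ _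
  have hunit : ∀ y : p₀.primeCompl, IsUnit (algebraMap C R y) := fun y => by
    have hy : (y : C) ∉ p₀ := y.2
    exact IsLocalRing.notMem_maximalIdeal.mp hy
  letI : Algebra (Localization.AtPrime p₀) R :=
    (IsLocalization.lift (M := p₀.primeCompl) (S := Localization.AtPrime p₀) hunit).toAlgebra
  haveI : IsScalarTower C (Localization.AtPrime p₀) R := IsScalarTower.of_algebraMap_eq fun c =>
    (IsLocalization.lift_eq (M := p₀.primeCompl) (S := Localization.AtPrime p₀) hunit c).symm
  haveI : IsNoetherianRing (Localization.AtPrime p₀) :=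
    IsLocalization.isNoetherianRing p₀.primeCompl _ inferInstance
  have hloc : IsLocalHom (algebraMap (Localization.AtPrime p₀) R) := by
    constructor
    intro x hx
    obtain ⟨c, s, rfl⟩ := IsLocalization.exists_mk'_eq p₀.primeCompl x
    have h1 : algebraMap (Localization.AtPrime p₀) R (IsLocalization.mk' _ c s) *
        algebraMap C R s = algebraMap C R c := by
      rw [IsScalarTower.algebraMap_apply C (Localization.AtPrime p₀) R,
        IsScalarTower.algebraMap_apply C (Localization.AtPrime p₀) R c, ← map_mul,
        IsLocalization.mk'_spec]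
    have h2 : IsUnit (algebraMap C R c) := by
      rw [← h1]
      exact hx.mul (hunit s)
    have h3 : c ∈ p₀.primeCompl := by
      change c ∉ p₀
      intro hc
      exact (IsLocalRing.mem_maximalIdeal _).mp hc h2
    exact IsLocalization.AtPrime.isUnit_mk'_iff (Localization.AtPrime p₀) p₀ c s |>.mpr h3
  letI : Algebra C A := ((algebraMap R A).comp (algebraMap C R)).toAlgebra
  haveI : IsScalarTower C R A := IsScalarTower.of_algebraMap_eq fun _ => rfl
  letI : Algebra (Localization.AtPrime p₀) A :=
    ((algebraMap R A).comp (algebraMap (Localization.AtPrime p₀) R)).toAlgebra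
  haveI : IsScalarTower (Localization.AtPrime p₀) R A := IsScalarTower.of_algebraMap_eq fun _ => rfl
  haveI : IsScalarTower C (Localization.AtPrime p₀) A := IsScalarTower.of_algebraMap_eq fun c => by
    change algebraMap R A (algebraMap C R c) =
      algebraMap R A (algebraMap (Localization.AtPrime p₀) R (algebraMap C _ c))
    rw [← IsScalarTower.algebraMap_apply C (Localization.AtPrime p₀) R]
  let θ : B →ₐ[C] A :=
    ((Ξ : R ⊗[C] B →ₐ[R] A).restrictScalars C).comp Algebra.TensorProduct.includeRight
  have hco : IsCoalgMapOver R θ.toLinearMap :=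
    IsCoalgMapOver.comp (S₂ := R) (isCoalgMapOver_of_coalgHom (Ξ : R ⊗[C] B →ₗc[R] A))
      (isCoalgMapOver_inc (R := C) R B)
  have hbc : IsBaseChange R θ.toLinearMap := by
    have h0 := (TensorProduct.isBaseChange C B R).comp (IsBaseChange.ofEquiv Ξ.toLinearEquiv)
    have h1 : θ.toLinearMap = (Ξ.toLinearEquiv.toLinearMap.restrictScalars C) ∘ₗ
        (TensorProduct.mk C R B 1) := LinearMap.ext fun _ => rfl
    rw [h1]
    exact h0
  exact ⟨Localization.AtPrime p₀, inferInstance, inferInstance, inferInstance, inferInstance,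
    Localization.AtPrime p₀ ⊗[C] B, inferInstance, inferInstance, hloc, inferInstance,
    inferInstance, nonempty_equiv_of_chart_tower (Localization.AtPrime p₀) θ hco hbc⟩

end localmodel

end Groth.Agent.H15.HF
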