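import Groth.Agent.H15.MTHens5

/-!
# Isotriviality over a henselian local ring
-/

set_option autoImplicit false
set_option linter.style.haveILetI false
universe u
open TensorProduct Coalgebra

namespace Groth.Agent.H15.MTHens
open Groth.Agent.H26 Groth.Agent.H15.MTC Groth.Agent.H15.MT Groth.Agent.H15.GLD

section final
variable (R : Type u) [CommRing R] [HenselianLocalRing R] (A : Type u) [CommRing A]
  [HopfAlgebra R A]

/-- a finite algebra over a local ring whose closed fibre is a field is local -/
theorem isLocalRing_of_fibre_field (R' : Type u) [CommRing R'] [Algebra R R'] [Module.Finite R R']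
    (k' : Type u) [Field k'] [Algebra (R ⧸ IsLocalRing.maximalIdeal R) k']
    (ψ : (R ⧸ IsLocalRing.maximalIdeal R) ⊗[R] R' ≃ₐ[R ⧸ IsLocalRing.maximalIdeal R] k') :
    IsLocalRing R' := by
  let e1 := Algebra.TensorProduct.quotIdealMapEquivTensorQuot R' (IsLocalRing.maximalIdeal R)
  let e2 : R' ⊗[R] (R ⧸ (IsLocalRing.maximalIdeal R)) ≃ₐ[R]
      (R ⧸ (IsLocalRing.maximalIdeal R)) ⊗[R] R' :=
    Algebra.TensorProduct.comm R R' (R ⧸ (IsLocalRing.maximalIdeal R))
  let ρ : (R' ⧸ (IsLocalRing.maximalIdeal R).map (algebraMap R R')) ≃+* k' :=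
    e1.toRingEquiv.trans (e2.toRingEquiv.trans ψ.toRingEquiv)
  have hfield : IsField (R' ⧸ (IsLocalRing.maximalIdeal R).map (algebraMap R R')) :=
    ρ.toMulEquiv.isField (Field.toIsField k')
  have hmax : ((IsLocalRing.maximalIdeal R).map (algebraMap R R')).IsMaximal :=
    Ideal.Quotient.maximal_of_isField _ hfield
  haveI : Algebra.IsIntegral R R' := Algebra.IsIntegral.of_finite R R'
  apply IsLocalRing.of_unique_max_ideal
  refine ⟨(IsLocalRing.maximalIdeal R).map (algebraMap R R'), hmax, ?_⟩
  intro P hP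
  have h1 : (P.comap (algebraMap R R')).IsMaximal :=
    Ideal.isMaximal_comap_of_isIntegral_of_isMaximal P
  have h2 : P.comap (algebraMap R R') = (IsLocalRing.maximalIdeal R) :=
    IsLocalRing.eq_maximalIdeal h1
  have h3 : (IsLocalRing.maximalIdeal R).map (algebraMap R R') ≤ P := by
    rw [Ideal.map_le_iff_le_comap, h2]
  exact (hmax.eq_of_le hP.ne_top h3).symm

/-- **SGA3 X 4.6**: over a henselian local ring, a group of multiplicative type and of finite
type is isotrivial. -/
theorem isIsotrivial_of_henselian (hft : Algebra.FiniteType R A) (h : SGA3b.IsMultType R A) :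
    SGA3b.IsIsotrivial R A := by
  have hconst := isMultTypeConst_of_isLocalRing R A h
  have h0 : SGA3b.IsMultType (IsLocalRing.ResidueField R) (IsLocalRing.ResidueField R ⊗[R] A) :=
    Groth.Agent.H15.MTF.isMultType_of_isMultTypeConst
      (Groth.Agent.H15.MTF.isMultTypeConst_baseChange hconst _)
  have hft0 : Algebra.FiniteType (IsLocalRing.ResidueField R)
      (IsLocalRing.ResidueField R ⊗[R] A) := inferInstance
  obtain ⟨k', _, _, hfin, hsep, M, _, hfg, ⟨e₀⟩⟩ :=
    Groth.Agent.H15.IsoF.isotrivial_of_field (IsLocalRing.ResidueField R) _ hft0 h0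
  haveI := hfg
  letI : Algebra R k' :=
    ((algebraMap (IsLocalRing.ResidueField R) k').comp
      (algebraMap R (IsLocalRing.ResidueField R))).toAlgebra
  haveI : IsScalarTower R (IsLocalRing.ResidueField R) k' :=
    IsScalarTower.of_algebraMap_eq fun _ => rfl
  haveI : Algebra.FormallyEtale (IsLocalRing.ResidueField R) k' :=
    Algebra.FormallyEtale.of_isSeparable _ _
  haveI : Algebra.FinitePresentation (IsLocalRing.ResidueField R) k' := by
    have : Algebra.FiniteType (IsLocalRing.ResidueField R) k' := inferInstance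
    exact Algebra.FinitePresentation.of_finiteType.mp this
  haveI het0 : Algebra.Etale (IsLocalRing.ResidueField R) k' := {}
  have h1 : HasDChart (IsLocalRing.ResidueField R) (IsLocalRing.ResidueField R ⊗[R] A) k' M :=
    HasDChart.of_equiv e₀
  have h2 : HasDChart R A k' M := HasDChart.of_baseChange (IsLocalRing.ResidueField R) h1
  -- lift the residue extension
  letI a1 : Algebra (R ⧸ IsLocalRing.maximalIdeal R) k' :=
    inferInstanceAs (Algebra (IsLocalRing.ResidueField R) k')
  haveI a2 : Module.Finite (R ⧸ IsLocalRing.maximalIdeal R) k' := hfin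
  haveI a3 : Algebra.Etale (R ⧸ IsLocalRing.maximalIdeal R) k' := het0
  haveI a4 : IsScalarTower R (R ⧸ IsLocalRing.maximalIdeal R) k' :=
    IsScalarTower.of_algebraMap_eq fun _ => rfl
  haveI a5 : Module.FaithfullyFlat (R ⧸ IsLocalRing.maximalIdeal R) k' :=
    inferInstanceAs (Module.FaithfullyFlat (IsLocalRing.ResidueField R) k')
  obtain ⟨R', _, _, hfin', het', ⟨ψ⟩⟩ :=
    Groth.Agent.S0532.result R (IsLocalRing.maximalIdeal R) k'
  haveI := hfin'
  haveI := het'
  haveI hloc : IsLocalRing R' := isLocalRing_of_fibre_field R R' k' ψ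
  haveI : Algebra.IsIntegral R R' := Algebra.IsIntegral.of_finite R R'
  haveI hhens : HenselianLocalRing R' :=
    Groth.Agent.H3.HensIntegralLocal.henselianLocalRing_of_isIntegral R R'
  haveI : Module.Flat R R' := inferInstance
  let g : R' →ₐ[R] k' :=
    ((ψ : (R ⧸ IsLocalRing.maximalIdeal R) ⊗[R] R' →ₐ[R ⧸ IsLocalRing.maximalIdeal R] k').restrictScalars
      R).comp (Algebra.TensorProduct.includeRight :
        R' →ₐ[R] (R ⧸ IsLocalRing.maximalIdeal R) ⊗[R] R')
  have hg : Function.Surjective g := by
    have hs1 : Function.Surjective (Algebra.TensorProduct.includeRight :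
        R' →ₐ[R] (R ⧸ IsLocalRing.maximalIdeal R) ⊗[R] R') :=
      Algebra.TensorProduct.includeRight_surjective R' Ideal.Quotient.mk_surjective
    exact ψ.surjective.comp hs1
  have hff : Module.FaithfullyFlat R R' :=
    Groth.Agent.H15.MTI.faithfullyFlat_of_quotient R (IsLocalRing.maximalIdeal R) R'
      (IsLocalRing.maximalIdeal_le_jacobson ⊥) k' g
  letI : Algebra R' k' := g.toRingHom.toAlgebra
  haveI : IsScalarTower R R' k' := IsScalarTower.of_algebraMap_eq (fun x => (g.commutes x).symm)
  have h4 : HasDChart R' (R' ⊗[R] A) k' M := h2.baseChange R'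
  have hmt' : SGA3b.IsMultType R' (R' ⊗[R] A) :=
    Groth.Agent.H15.MTF.isMultType_of_isMultTypeConst
      (Groth.Agent.H15.MTF.isMultTypeConst_baseChange hconst R')
  have hft' : Algebra.FiniteType R' (R' ⊗[R] A) := inferInstance
  have hdiag : SGA3b.IsDiag R' (R' ⊗[R] A) :=
    isDiag_of_henselian R' (R' ⊗[R] A) hft' hmt' k' hg M h4
  exact ⟨R', inferInstance, inferInstance, het', hfin', hff, hdiag⟩

end final

end Groth.Agent.H15.MTHens
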