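import Groth.Agent.H15.HopfFib4
import Groth.Agent.H15.MTHens6
import Groth.Agent.H20.ComplNoeth2

/-!
# The closed fibre of a local model, and the open and closed subgroup over the completion
-/

set_option autoImplicit false
set_option linter.style.haveILetI false
set_option linter.unusedSectionVars false
universe u
open TensorProduct Coalgebra

namespace Groth.Agent.H15.HF
open Groth.Agent.H26 Groth.Agent.H15.MTC SGA3b

attribute [local instance] Algebra.TensorProduct.rightAlgebra

section closedfibre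
variable {C₁ : Type u} [CommRing C₁] [IsLocalRing C₁] {R : Type u} [CommRing R] [IsLocalRing R]
  [Algebra C₁ R] [IsLocalHom (algebraMap C₁ R)]
  {B₁ : Type u} [CommRing B₁] [HopfAlgebra C₁ B₁] {A : Type u} [CommRing A] [HopfAlgebra R A]

/-- the closed fibre of a local model is of multiplicative type if that of the group is -/
theorem isMultType_closedFibre_of_equiv (Ξ₁ : R ⊗[C₁] B₁ ≃ₐc[R] A)
    (hs : IsMultType (IsLocalRing.ResidueField R) (IsLocalRing.ResidueField R ⊗[R] A)) :
    IsMultType (IsLocalRing.ResidueField C₁) (IsLocalRing.ResidueField C₁ ⊗[C₁] B₁) := by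
  obtain ⟨k', _, _, hff, M, _, ⟨e⟩⟩ :=
    Groth.Agent.H15.MTHens.isMultTypeConst_of_isLocalRing (IsLocalRing.ResidueField R) _ hs
  haveI := hff
  letI : Algebra R k' :=
    ((algebraMap (IsLocalRing.ResidueField R) k').comp
      (algebraMap R (IsLocalRing.ResidueField R))).toAlgebra
  haveI : IsScalarTower R (IsLocalRing.ResidueField R) k' :=
    IsScalarTower.of_algebraMap_eq fun _ => rfl
  have h1 : HasDChart (IsLocalRing.ResidueField R) (IsLocalRing.ResidueField R ⊗[R] A) k' M :=
    HasDChart.of_equiv e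
  have h2 : HasDChart R A k' M := HasDChart.of_baseChange (IsLocalRing.ResidueField R) h1
  letI : Algebra C₁ A := ((algebraMap R A).comp (algebraMap C₁ R)).toAlgebra
  haveI : IsScalarTower C₁ R A := IsScalarTower.of_algebraMap_eq fun _ => rfl
  let θ : B₁ →ₐ[C₁] A :=
    ((Ξ₁ : R ⊗[C₁] B₁ →ₐ[R] A).restrictScalars C₁).comp Algebra.TensorProduct.includeRight
  have hco : IsCoalgMapOver R θ.toLinearMap :=
    IsCoalgMapOver.comp (S₂ := R) (isCoalgMapOver_of_coalgHom (Ξ₁ : R ⊗[C₁] B₁ →ₗc[R] A))
      (isCoalgMapOver_inc (R := C₁) R B₁)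
  have hbc : IsBaseChange R θ.toLinearMap := by
    have h0 := (TensorProduct.isBaseChange C₁ B₁ R).comp (IsBaseChange.ofEquiv Ξ₁.toLinearEquiv)
    have h1 : θ.toLinearMap = (Ξ₁.toLinearEquiv.toLinearMap.restrictScalars C₁) ∘ₗ
        (TensorProduct.mk C₁ R B₁ 1) := LinearMap.ext fun _ => rfl
    rw [h1]
    exact h0
  letI : Algebra C₁ k' := ((algebraMap R k').comp (algebraMap C₁ R)).toAlgebra
  haveI : IsScalarTower C₁ R k' := IsScalarTower.of_algebraMap_eq fun _ => rfl
  have h3 : HasDChart C₁ B₁ k' M := HasDChart.of_chart θ hco hbc h2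
  letI : Algebra (IsLocalRing.ResidueField C₁) (IsLocalRing.ResidueField R) :=
    (IsLocalRing.ResidueField.map (algebraMap C₁ R)).toAlgebra
  letI : Algebra (IsLocalRing.ResidueField C₁) k' :=
    ((algebraMap (IsLocalRing.ResidueField R) k').comp
      (algebraMap (IsLocalRing.ResidueField C₁) (IsLocalRing.ResidueField R))).toAlgebra
  haveI : IsScalarTower (IsLocalRing.ResidueField C₁) (IsLocalRing.ResidueField R) k' :=
    IsScalarTower.of_algebraMap_eq fun _ => rfl
  haveI : IsScalarTower C₁ (IsLocalRing.ResidueField C₁) k' :=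
    IsScalarTower.of_algebraMap_eq fun c => by
      change algebraMap (IsLocalRing.ResidueField R) k'
          (algebraMap R (IsLocalRing.ResidueField R) (algebraMap C₁ R c)) =
        algebraMap (IsLocalRing.ResidueField R) k'
          (IsLocalRing.ResidueField.map (algebraMap C₁ R) (IsLocalRing.residue C₁ c))
      rw [IsLocalRing.ResidueField.map_residue]
      rfl
  have h4 : HasDChart (IsLocalRing.ResidueField C₁) (IsLocalRing.ResidueField C₁ ⊗[C₁] B₁) k' M :=
    h3.baseChange (IsLocalRing.ResidueField C₁)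
  haveI : Module.FaithfullyFlat (IsLocalRing.ResidueField C₁) (IsLocalRing.ResidueField R) :=
    inferInstance
  haveI : Module.FaithfullyFlat (IsLocalRing.ResidueField C₁) k' :=
    Module.FaithfullyFlat.trans (IsLocalRing.ResidueField C₁) (IsLocalRing.ResidueField R) k'
  apply Groth.Agent.H15.MTF.isMultType_of_isMultTypeConst
  exact ⟨k', inferInstance, inferInstance, inferInstance, M, inferInstance,
    (h4.baseChange k').nonempty_equiv⟩

end closedfibre

section closedfibre2
variable {C₁ : Type u} [CommRing C₁] [IsLocalRing C₁] {Ch : Type u} [CommRing Ch] [IsLocalRing Ch]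
  [Algebra C₁ Ch] [IsLocalHom (algebraMap C₁ Ch)]
  {B₁ : Type u} [CommRing B₁] [HopfAlgebra C₁ B₁]

/-- the closed fibre of a base change along a local homomorphism -/
theorem isMultType_closedFibre_baseChange
    (h : IsMultType (IsLocalRing.ResidueField C₁) (IsLocalRing.ResidueField C₁ ⊗[C₁] B₁)) :
    IsMultType (IsLocalRing.ResidueField Ch) (IsLocalRing.ResidueField Ch ⊗[Ch] (Ch ⊗[C₁] B₁)) := by
  obtain ⟨T, _, _, hff, M, _, ⟨e⟩⟩ :=
    Groth.Agent.H15.MTHens.isMultTypeConst_of_isLocalRing (IsLocalRing.ResidueField C₁) _ h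
  haveI := hff
  letI : Algebra C₁ T :=
    ((algebraMap (IsLocalRing.ResidueField C₁) T).comp
      (algebraMap C₁ (IsLocalRing.ResidueField C₁))).toAlgebra
  haveI : IsScalarTower C₁ (IsLocalRing.ResidueField C₁) T :=
    IsScalarTower.of_algebraMap_eq fun _ => rfl
  have h1 : HasDChart (IsLocalRing.ResidueField C₁) (IsLocalRing.ResidueField C₁ ⊗[C₁] B₁) T M :=
    HasDChart.of_equiv e
  have h2 : HasDChart C₁ B₁ T M := HasDChart.of_baseChange (IsLocalRing.ResidueField C₁) h1
  haveI : IsScalarTower C₁ T (IsLocalRing.ResidueField Ch ⊗[IsLocalRing.ResidueField C₁] T) :=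
    IsScalarTower.of_algebraMap_eq fun c => by
      change (algebraMap C₁ (IsLocalRing.ResidueField Ch) c) ⊗ₜ[IsLocalRing.ResidueField C₁] (1 : T) =
        (1 : IsLocalRing.ResidueField Ch) ⊗ₜ[IsLocalRing.ResidueField C₁]
          (algebraMap (IsLocalRing.ResidueField C₁) T (IsLocalRing.residue C₁ c))
      rw [Algebra.algebraMap_eq_smul_one (IsLocalRing.residue C₁ c), tmul_smul, smul_tmul',
        Algebra.smul_def, mul_one]
      rfl
  have h3 : HasDChart C₁ B₁ (IsLocalRing.ResidueField Ch ⊗[IsLocalRing.ResidueField C₁] T) M :=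
    h2.map (IsLocalRing.ResidueField Ch ⊗[IsLocalRing.ResidueField C₁] T)
  have h4 : HasDChart Ch (Ch ⊗[C₁] B₁)
      (IsLocalRing.ResidueField Ch ⊗[IsLocalRing.ResidueField C₁] T) M := h3.baseChange Ch
  have h5 : HasDChart (IsLocalRing.ResidueField Ch)
      (IsLocalRing.ResidueField Ch ⊗[Ch] (Ch ⊗[C₁] B₁))
      (IsLocalRing.ResidueField Ch ⊗[IsLocalRing.ResidueField C₁] T) M :=
    h4.baseChange (IsLocalRing.ResidueField Ch)
  apply Groth.Agent.H15.MTF.isMultType_of_isMultTypeConst
  exact ⟨(IsLocalRing.ResidueField Ch ⊗[IsLocalRing.ResidueField C₁] T), inferInstance,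
    inferInstance, inferInstance, M, inferInstance,
    (h5.baseChange (IsLocalRing.ResidueField Ch ⊗[IsLocalRing.ResidueField C₁] T)).nonempty_equiv⟩

end closedfibre2

section completion
variable (C₁ : Type u) [CommRing C₁] [IsLocalRing C₁] [IsNoetherianRing C₁]
  (B₁ : Type u) [CommRing B₁] [HopfAlgebra C₁ B₁] [Module.Flat C₁ B₁]

open IsLocalRing in
/-- over the completion of a Noetherian local ring, a flat group of finite type whose closed
fibre is of multiplicative type has an open and closed isotrivial subgroup of multiplicative type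
with the same closed fibre -/
theorem hasClopen_completion (hft : Algebra.FiniteType C₁ B₁)
    (hκ : IsMultType (ResidueField C₁) (ResidueField C₁ ⊗[C₁] B₁)) :
    HasClopen (AdicCompletion (maximalIdeal C₁) C₁)
      (maximalIdeal (AdicCompletion (maximalIdeal C₁) C₁))
      (AdicCompletion (maximalIdeal C₁) C₁ ⊗[C₁] B₁) := by
  haveI := hft
  haveI : IsNoetherianRing (AdicCompletion (maximalIdeal C₁) C₁) :=
    Groth.Agent.H20.isNoetherianRing_adicCompletion _
  have hft' : Algebra.FiniteType (AdicCompletion (maximalIdeal C₁) C₁)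
      (AdicCompletion (maximalIdeal C₁) C₁ ⊗[C₁] B₁) := inferInstance
  have hfl : ∀ (q : Ideal (AdicCompletion (maximalIdeal C₁) C₁ ⊗[C₁] B₁)) [q.IsPrime],
      Ideal.map (algebraMap (AdicCompletion (maximalIdeal C₁) C₁)
        (AdicCompletion (maximalIdeal C₁) C₁ ⊗[C₁] B₁))
        (maximalIdeal (AdicCompletion (maximalIdeal C₁) C₁)) ≤ q →
      Module.Flat (AdicCompletion (maximalIdeal C₁) C₁) (Localization.AtPrime q) := fun q _ _ =>
    Module.Flat.trans _ (AdicCompletion (maximalIdeal C₁) C₁ ⊗[C₁] B₁) (Localization.AtPrime q)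
  have hmt := isMultType_closedFibre_baseChange (Ch := AdicCompletion (maximalIdeal C₁) C₁) hκ
  have h0 : IsIsotrivial (ResidueField (AdicCompletion (maximalIdeal C₁) C₁))
      (ResidueField (AdicCompletion (maximalIdeal C₁) C₁) ⊗[AdicCompletion (maximalIdeal C₁) C₁]
        (AdicCompletion (maximalIdeal C₁) C₁ ⊗[C₁] B₁)) :=
    Groth.Agent.H15.MTHens.isIsotrivial_of_henselian _ _ inferInstance hmt
  obtain ⟨e, he, heI, hH, hiso⟩ := Groth.Agent.H15.MTI.exists_clopen_subgroup
    (AdicCompletion (maximalIdeal C₁) C₁) (maximalIdeal (AdicCompletion (maximalIdeal C₁) C₁))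
    (AdicCompletion (maximalIdeal C₁) C₁ ⊗[C₁] B₁) hft' hfl h0
  exact HasClopen.of_hopfIdeal e he heI hiso

end completion

end Groth.Agent.H15.HF
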