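import Groth.Agent.H15.HopfFib5

/-!
# The local cover `R''`: a flat local `R`-algebra receiving the completion of a local model
-/

set_option autoImplicit false
set_option linter.style.haveILetI false
set_option linter.unusedSectionVars false
universe u
open TensorProduct Coalgebra IsLocalRing

namespace Groth.Agent.H15.HF
open Groth.Agent.H26 Groth.Agent.H15.MTC SGA3b

attribute [local instance] Algebra.TensorProduct.rightAlgebra

section cover
variable (C₁ : Type u) [CommRing C₁] [IsLocalRing C₁] [IsNoetherianRing C₁]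
  (R : Type u) [CommRing R] [IsLocalRing R] [Algebra C₁ R] [IsLocalHom (algebraMap C₁ R)]

/-- the residue map of the completion, with values in the residue field of `R` -/
noncomputable def complRes : AdicCompletion (maximalIdeal C₁) C₁ →ₐ[C₁] ResidueField R :=
  (IsScalarTower.toAlgHom C₁ (ResidueField C₁) (ResidueField R)).comp
    (AdicCompletion.evalOneₐ (maximalIdeal C₁))

lemma complRes_eq_zero (x : AdicCompletion (maximalIdeal C₁) C₁)
    (hx : AdicCompletion.evalOneₐ (maximalIdeal C₁) x = 0) : complRes C₁ R x = 0 := by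
  have h1 : complRes C₁ R x = (IsScalarTower.toAlgHom C₁ (ResidueField C₁) (ResidueField R))
      (AdicCompletion.evalOneₐ (maximalIdeal C₁) x) := rfl
  rw [h1, hx]
  exact map_zero _

/-- the residue map of `R ⊗ Ĉ₁` -/
noncomputable def coverHom :
    R ⊗[C₁] AdicCompletion (maximalIdeal C₁) C₁ →ₐ[C₁] ResidueField R :=
  Algebra.TensorProduct.lift (IsScalarTower.toAlgHom C₁ R (ResidueField R))
    (complRes C₁ R) (fun _ _ => Commute.all _ _)

lemma coverHom_tmul (r : R) (x : AdicCompletion (maximalIdeal C₁) C₁) :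
    coverHom C₁ R (r ⊗ₜ x) = residue R r * complRes C₁ R x := by
  rw [coverHom, Algebra.TensorProduct.lift_tmul]
  rfl

/-- the prime of `R ⊗ Ĉ₁` over the closed points -/
noncomputable def coverPrime : Ideal (R ⊗[C₁] AdicCompletion (maximalIdeal C₁) C₁) :=
  RingHom.ker (coverHom C₁ R)

instance : (coverPrime C₁ R).IsPrime := RingHom.ker_isPrime _

/-- the local cover -/
abbrev Cover : Type u := Localization.AtPrime (coverPrime C₁ R)

instance : IsLocalHom (algebraMap R (Cover C₁ R)) := by
  constructor
  intro r hr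
  rw [IsScalarTower.algebraMap_apply R (R ⊗[C₁] AdicCompletion (maximalIdeal C₁) C₁)
    (Cover C₁ R)] at hr
  have h1 := (IsLocalization.AtPrime.isUnit_to_map_iff (Cover C₁ R) (coverPrime C₁ R) _).mp hr
  have h2 : r ∉ maximalIdeal R := by
    intro hmem
    apply h1
    change coverHom C₁ R (algebraMap R _ r) = 0
    rw [Algebra.TensorProduct.algebraMap_apply, coverHom_tmul, map_one, mul_one]
    exact (residue_eq_zero_iff r).mpr hmem
  exact notMem_maximalIdeal.mp h2

lemma map_maximalIdeal_le :
    (maximalIdeal (AdicCompletion (maximalIdeal C₁) C₁)).map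
      (algebraMap (AdicCompletion (maximalIdeal C₁) C₁) (Cover C₁ R)) ≤
      maximalIdeal (Cover C₁ R) := by
  rw [Ideal.map_le_iff_le_comap]
  intro x hx
  rw [Ideal.mem_comap,
    IsScalarTower.algebraMap_apply (AdicCompletion (maximalIdeal C₁) C₁)
      (R ⊗[C₁] AdicCompletion (maximalIdeal C₁) C₁) (Cover C₁ R),
    IsLocalization.AtPrime.to_map_mem_maximal_iff (Cover C₁ R) (coverPrime C₁ R)]
  change coverHom C₁ R ((1 : R) ⊗ₜ x) = 0
  rw [coverHom_tmul, map_one, one_mul]
  apply complRes_eq_zero
  have h1 : x ∈ RingHom.ker (AdicCompletion.evalOneₐ (maximalIdeal C₁)).toRingHom := by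
    rw [AdicCompletion.ker_evalOneₐ_eq_map _ (maximalIdeal C₁).fg_of_isNoetherianRing,
      ← AdicCompletion.maximalIdeal_eq_map]
    exact hx
  exact h1

/-- the local cover, abstractly -/
theorem exists_cover :
    ∃ (R'' : Type u) (_ : CommRing R'') (_ : IsLocalRing R'') (_ : Algebra R R'')
      (_ : Algebra (AdicCompletion (maximalIdeal C₁) C₁) R'') (_ : Algebra C₁ R'')
      (_ : IsScalarTower C₁ R R'') (_ : IsScalarTower C₁ (AdicCompletion (maximalIdeal C₁) C₁) R''),
      Module.FaithfullyFlat R R'' ∧
      (maximalIdeal (AdicCompletion (maximalIdeal C₁) C₁)).map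
        (algebraMap (AdicCompletion (maximalIdeal C₁) C₁) R'') ≤ maximalIdeal R'' := by
  refine ⟨Cover C₁ R, inferInstance, inferInstance, inferInstance, inferInstance, inferInstance,
    inferInstance, inferInstance, ?_, map_maximalIdeal_le C₁ R⟩
  haveI h1 : @Module.Flat R (Cover C₁ R) _ _ Algebra.toModule :=
    Module.Flat.trans R (R ⊗[C₁] AdicCompletion (maximalIdeal C₁) C₁) (Cover C₁ R)
  exact Module.FaithfullyFlat.of_flat_of_isLocalHom

end cover

end Groth.Agent.H15.HF
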