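import Groth.Agent.H15.HopfFib6

/-!
# Flat finitely presented groups over a local ring with closed fibre of multiplicative type:
reduction to the vanishing of an idempotent (SGA3 X 4.8, local core)
-/

set_option autoImplicit false
set_option linter.style.haveILetI false
set_option linter.unusedSectionVars false
universe u
open TensorProduct Coalgebra IsLocalRing

namespace Groth.Agent.H15.HF
open Groth.Agent.H26 Groth.Agent.H15.MTC SGA3b

attribute [local instance] Algebra.TensorProduct.rightAlgebra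

section transfer
variable {C₁ : Type u} [CommRing C₁] {Ch : Type u} [CommRing Ch] [Algebra C₁ Ch]
  {R : Type u} [CommRing R] [Algebra C₁ R]
  {R'' : Type u} [CommRing R''] [Algebra R R''] [Algebra Ch R''] [Algebra C₁ R'']
  [IsScalarTower C₁ R R''] [IsScalarTower C₁ Ch R'']
  {B₁ : Type u} [CommRing B₁] [HopfAlgebra C₁ B₁] {A : Type u} [CommRing A] [HopfAlgebra R A]

/-- transfer of an open and closed subgroup from `Ch ⊗ B₁` to `R'' ⊗ A` -/
theorem hasClopen_transfer (Ξ₁ : R ⊗[C₁] B₁ ≃ₐc[R] A) (J : Ideal Ch) (J'' : Ideal R'')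
    (hJ : J.map (algebraMap Ch R'') ≤ J'') (h : HasClopen Ch J (Ch ⊗[C₁] B₁)) :
    HasClopen R'' J'' (R'' ⊗[R] A) := by
  have h1 : HasClopen R'' J'' (R'' ⊗[Ch] (Ch ⊗[C₁] B₁)) := h.baseChange R'' J'' hJ
  letI : Algebra C₁ A := ((algebraMap R A).comp (algebraMap C₁ R)).toAlgebra
  haveI : IsScalarTower C₁ R A := IsScalarTower.of_algebraMap_eq fun _ => rfl
  let θ : B₁ →ₐ[C₁] A :=
    ((Ξ₁ : R ⊗[C₁] B₁ →ₐ[R] A).restrictScalars C₁).comp Algebra.TensorProduct.includeRight
  have hco : IsCoalgMapOver R θ.toLinearMap :=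
    IsCoalgMapOver.comp (S₂ := R) (isCoalgMapOver_of_coalgHom (Ξ₁ : R ⊗[C₁] B₁ →ₗc[R] A))
      (isCoalgMapOver_inc (R := C₁) R B₁)
  have hbc : IsBaseChange R θ.toLinearMap := by
    have h0 := (TensorProduct.isBaseChange C₁ B₁ R).comp (IsBaseChange.ofEquiv Ξ₁.toLinearEquiv)
    have h1 : θ.toLinearMap = (Ξ₁.toLinearEquiv.toLinearMap.restrictScalars C₁) ∘ₗ
        (TensorProduct.mk C₁ R B₁ 1) := LinearMap.ext fun _ => rfl
    rw [h1]
    exact h0
  let θ' : B₁ →ₐ[C₁] R'' ⊗[R] A :=
    ((Algebra.TensorProduct.includeRight : A →ₐ[R] R'' ⊗[R] A).restrictScalars C₁).comp θ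
  have hco' : IsCoalgMapOver R'' θ'.toLinearMap :=
    IsCoalgMapOver.comp (isCoalgMapOver_inc (R := R) R'' A) hco
  have hbc' : IsBaseChange R'' θ'.toLinearMap := by
    have h0 := hbc.comp (TensorProduct.isBaseChange R A R'')
    have h1 : θ'.toLinearMap = ((TensorProduct.mk R R'' A 1).restrictScalars C₁) ∘ₗ
        θ.toLinearMap := LinearMap.ext fun _ => rfl
    rw [h1]
    exact h0
  obtain ⟨Ξ'⟩ := nonempty_equiv_of_chart_tower Ch θ' hco' hbc'
  exact h1.of_equiv Ξ'

end transfer

section main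
variable (R : Type u) [CommRing R] [IsLocalRing R] (A : Type u) [CommRing A] [HopfAlgebra R A]
  [Module.Flat R A]

/-- **local core of SGA3 X 4.8**: a flat finitely presented group over a local ring whose closed
fibre is of multiplicative type is of multiplicative type, as soon as idempotents in the ideal of
the closed fibre killed by the counit vanish after every local base change. -/
theorem isMultTypeConst_of_isLocalRing_of_idem (hfp : Algebra.FinitePresentation R A)
    (hs : IsMultType (ResidueField R) (ResidueField R ⊗[R] A))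
    (hz : ∀ (S : Type u) [CommRing S] [IsLocalRing S] [Algebra R S] (e : S ⊗[R] A),
      IsIdempotentElem e → e ∈ (maximalIdeal S).map (algebraMap S (S ⊗[R] A)) →
      Coalgebra.counit (R := S) e = 0 → e = 0) : IsMultTypeConst R A := by
  haveI := hfp
  obtain ⟨C₁, _, _, _, _, B₁, _, _, hloc, hft, hfl, ⟨Ξ₁⟩⟩ := exists_local_model R A
  haveI := hloc
  haveI := hfl
  have hκ := isMultType_closedFibre_of_equiv Ξ₁ hs
  have hcl := hasClopen_completion C₁ B₁ hft hκ
  obtain ⟨R'', _, _, _, _, _, _, _, hff, hmax⟩ := exists_cover C₁ R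
  haveI := hff
  have hcl'' : HasClopen R'' (maximalIdeal R'') (R'' ⊗[R] A) :=
    hasClopen_transfer Ξ₁ _ _ hmax hcl
  have hiso : IsIsotrivial R'' (R'' ⊗[R] A) := hcl''.isIsotrivial (hz R'')
  obtain ⟨T, _, _, -, -, hffT, M, _, ⟨e⟩⟩ := hiso
  haveI := hffT
  letI : Algebra R T := ((algebraMap R'' T).comp (algebraMap R R'')).toAlgebra
  haveI : IsScalarTower R R'' T := IsScalarTower.of_algebraMap_eq fun _ => rfl
  haveI : Module.FaithfullyFlat R T := Module.FaithfullyFlat.trans R R'' T
  have h1 : HasDChart R'' (R'' ⊗[R] A) T M := HasDChart.of_equiv e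
  have h2 : HasDChart R A T M := HasDChart.of_baseChange R'' h1
  exact ⟨T, inferInstance, inferInstance, inferInstance, M, inferInstance,
    (h2.baseChange T).nonempty_equiv⟩

end main

end Groth.Agent.H15.HF
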