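import Groth.Agent.H15.HopfFib7
import Groth.Agent.H15.HopfFib2

/-!
# Vanishing of idempotents in the augmentation ideal: base change and the connected case
-/

set_option autoImplicit false
set_option linter.style.haveILetI false
set_option linter.unusedSectionVars false
universe u
open TensorProduct Coalgebra IsLocalRing

namespace Groth.Agent.H15.HF
open Groth.Agent.H26 Groth.Agent.H15.MTC SGA3b

attribute [local instance] Algebra.TensorProduct.rightAlgebra

section idemvanish
variable (R : Type u) [CommRing R] (A : Type u) [CommRing A] [HopfAlgebra R A]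

/-- after every base change to a local ring, idempotents lying in the ideal of the closed fibre and
killed by the counit vanish -/
def IdemVanish : Prop :=
  ∀ (S : Type u) [CommRing S] [IsLocalRing S] [Algebra R S] (e : S ⊗[R] A),
    IsIdempotentElem e → e ∈ (maximalIdeal S).map (algebraMap S (S ⊗[R] A)) →
    Coalgebra.counit (R := S) e = 0 → e = 0

variable {R A}

lemma counit_cancelBaseChange (R₁ : Type u) [CommRing R₁] [Algebra R R₁] (S : Type u)
    [CommRing S] [Algebra R S] [Algebra R₁ S] [IsScalarTower R R₁ S]
    (x : S ⊗[R₁] (R₁ ⊗[R] A)) :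
    Coalgebra.counit (R := S) (Algebra.TensorProduct.cancelBaseChange R R₁ S S A x) =
      Coalgebra.counit (R := S) x := by
  induction x with
  | zero => simp
  | add x y hx hy => simp only [map_add, hx, hy]
  | tmul s y =>
    induction y with
    | zero => simp
    | add x y hx hy => simp only [tmul_add, map_add, hx, hy]
    | tmul r a =>
      rw [Algebra.TensorProduct.cancelBaseChange_tmul, TensorProduct.counit_tmul,
        TensorProduct.counit_tmul, TensorProduct.counit_tmul]
      simp only [CommSemiring.counit_apply]
      rw [smul_assoc]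

/-- the vanishing of idempotents is stable under base change -/
theorem IdemVanish.baseChange (h : IdemVanish R A) (R₁ : Type u) [CommRing R₁] [Algebra R R₁] :
    IdemVanish R₁ (R₁ ⊗[R] A) := by
  intro S _ _ _ e he hem hce
  letI : Algebra R S := ((algebraMap R₁ S).comp (algebraMap R R₁)).toAlgebra
  haveI : IsScalarTower R R₁ S := IsScalarTower.of_algebraMap_eq fun _ => rfl
  let Φ : S ⊗[R₁] (R₁ ⊗[R] A) ≃ₐ[S] S ⊗[R] A :=
    Algebra.TensorProduct.cancelBaseChange R R₁ S S A
  have h1 : Φ e = 0 := by
    apply h S (Φ e) (he.map Φ)
    · have h2 : ((maximalIdeal S).map (algebraMap S (S ⊗[R₁] (R₁ ⊗[R] A)))).map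
          ((Φ : S ⊗[R₁] (R₁ ⊗[R] A) →ₐ[S] S ⊗[R] A) : _ →+* _) =
          (maximalIdeal S).map (algebraMap S (S ⊗[R] A)) := by
        rw [Ideal.map_map]
        congr 1
        ext s
        exact (Φ : S ⊗[R₁] (R₁ ⊗[R] A) →ₐ[S] S ⊗[R] A).commutes s
      rw [← h2]
      exact Ideal.mem_map_of_mem _ hem
    · rw [counit_cancelBaseChange, hce]
  have := congrArg Φ.symm h1
  rwa [AlgEquiv.symm_apply_apply, map_zero] at this

end idemvanish

section conn
variable {R : Type u} [CommRing R] {A : Type u} [CommRing A] [HopfAlgebra R A]

lemma counit_eq_augBC (S : Type u) [CommRing S] [Algebra R S] (x : S ⊗[R] A) :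
    Coalgebra.counit (R := S) x = augBC (Bialgebra.counitAlgHom R A) S x := by
  induction x with
  | zero => simp
  | add x y hx hy => simp only [map_add, hx, hy]
  | tmul s a =>
    rw [TensorProduct.counit_tmul, augBC_tmul, CommSemiring.counit_apply, Algebra.smul_def,
      mul_comm]
    rfl

/-- connected fibres: idempotents of the augmentation ideal vanish -/
theorem idemVanish_of_fibres_connected
    (hconn : ∀ (p : Ideal R) [p.IsPrime],
      ConnectedSpace (PrimeSpectrum (p.ResidueField ⊗[R] A))) : IdemVanish R A := by
  intro S _ _ _ e he _ hce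
  apply idem_eq_zero_of_geom (Bialgebra.counitAlgHom R A) e he
  · rw [← counit_eq_augBC, hce]
  · intro K _ _ x hx hεx
    exact idem_eq_zero_of_fibres_connected_field (Bialgebra.counitAlgHom R A) hconn K x hx hεx

end conn

end Groth.Agent.H15.HF
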