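import Groth.Agent.H15.HopfFib8

/-!
# Multiplicative type and towers of base changes
-/

set_option autoImplicit false
set_option linter.style.haveILetI false
set_option linter.unusedSectionVars false
universe u
open TensorProduct Coalgebra IsLocalRing

namespace Groth.Agent.H15.HF
open Groth.Agent.H26 Groth.Agent.H15.MTC SGA3b

attribute [local instance] Algebra.TensorProduct.rightAlgebra

section tower
variable {R : Type u} [CommRing R] {A : Type u} [CommRing A] [HopfAlgebra R A]
  (R₁ : Type u) [CommRing R₁] [Algebra R R₁] (K : Type u) [CommRing K] [Algebra R K]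
  [Algebra R₁ K] [IsScalarTower R R₁ K]

/-- constant multiplicative type passes from `R₁ ⊗ A` to `K ⊗ A` along `R → R₁ → K` -/
theorem isMultTypeConst_of_tower (h : IsMultTypeConst R₁ (R₁ ⊗[R] A)) :
    IsMultTypeConst K (K ⊗[R] A) := by
  obtain ⟨T, _, _, hff, M, _, ⟨e⟩⟩ := h
  haveI := hff
  letI : Algebra R T := ((algebraMap R₁ T).comp (algebraMap R R₁)).toAlgebra
  haveI : IsScalarTower R R₁ T := IsScalarTower.of_algebraMap_eq fun _ => rfl
  have h1 : HasDChart R₁ (R₁ ⊗[R] A) T M := HasDChart.of_equiv e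
  have h2 : HasDChart R A T M := HasDChart.of_baseChange R₁ h1
  haveI : IsScalarTower R T (K ⊗[R₁] T) := IsScalarTower.of_algebraMap_eq fun r => by
    change (algebraMap R K r) ⊗ₜ[R₁] (1 : T) =
      (1 : K) ⊗ₜ[R₁] (algebraMap R₁ T (algebraMap R R₁ r))
    rw [Algebra.algebraMap_eq_smul_one (algebraMap R R₁ r), tmul_smul, smul_tmul',
      Algebra.smul_def, mul_one, ← IsScalarTower.algebraMap_apply]
  have h3 : HasDChart R A (K ⊗[R₁] T) M := h2.map (K ⊗[R₁] T)
  have h4 : HasDChart K (K ⊗[R] A) (K ⊗[R₁] T) M := h3.baseChange K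
  exact ⟨K ⊗[R₁] T, inferInstance, inferInstance, inferInstance, M, inferInstance,
    (h4.baseChange (K ⊗[R₁] T)).nonempty_equiv⟩

/-- constant multiplicative type of `K ⊗ A` gives that of `K ⊗[R₁] (R₁ ⊗ A)` -/
theorem isMultTypeConst_tower' (h : IsMultTypeConst K (K ⊗[R] A)) :
    IsMultTypeConst K (K ⊗[R₁] (R₁ ⊗[R] A)) := by
  obtain ⟨T, _, _, hff, M, _, ⟨e⟩⟩ := h
  haveI := hff
  letI : Algebra R T := ((algebraMap K T).comp (algebraMap R K)).toAlgebra
  haveI : IsScalarTower R K T := IsScalarTower.of_algebraMap_eq fun _ => rfl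
  letI : Algebra R₁ T := ((algebraMap K T).comp (algebraMap R₁ K)).toAlgebra
  haveI : IsScalarTower R₁ K T := IsScalarTower.of_algebraMap_eq fun _ => rfl
  haveI : IsScalarTower R R₁ T := IsScalarTower.of_algebraMap_eq fun r => by
    change algebraMap K T (algebraMap R K r) = algebraMap K T (algebraMap R₁ K (algebraMap R R₁ r))
    rw [← IsScalarTower.algebraMap_apply R R₁ K]
  have h1 : HasDChart K (K ⊗[R] A) T M := HasDChart.of_equiv e
  have h2 : HasDChart R A T M := HasDChart.of_baseChange K h1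
  have h3 : HasDChart R₁ (R₁ ⊗[R] A) T M := h2.baseChange R₁
  have h4 : HasDChart K (K ⊗[R₁] (R₁ ⊗[R] A)) T M := h3.baseChange K
  exact ⟨T, inferInstance, inferInstance, inferInstance, M, inferInstance,
    (h4.baseChange T).nonempty_equiv⟩

end tower

end Groth.Agent.H15.HF
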