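import Groth.Agent.H15.HopfApprox4
import Mathlib.Algebra.Colimit.TensorProduct

/-!
# Noetherian approximation without flatness: vanishing at a finite stage
-/

set_option autoImplicit false
set_option linter.style.haveILetI false
set_option linter.unusedSectionVars false
universe u
open TensorProduct

namespace Groth.Agent.H15.NF
open Groth.Agent.H15.HA

section vanish
variable {C₀ : Type*} [CommRing C₀] {R : Type*} [CommRing R] [Algebra C₀ R]
  (N₀ : Type*) [AddCommGroup N₀] [Module C₀ N₀]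

/-- an element of `C ⊗ N₀` dying in `R ⊗ N₀` dies in `C' ⊗ N₀` for a finitely generated
extension `C'` of `C` -/
theorem exists_fg_rTensor_eq_zero (C : Subalgebra C₀ R) (hC : C.FG) (x : ↥C ⊗[C₀] N₀)
    (hx : LinearMap.rTensor N₀ C.val.toLinearMap x = 0) :
    ∃ C' : Subalgebra C₀ R, C'.FG ∧ ∃ h : C ≤ C',
      LinearMap.rTensor N₀ (Subalgebra.inclusion h).toLinearMap x = 0 := by
  obtain ⟨J, hJfg, hle, y, hy⟩ :=
    Submodule.exists_fg_le_eq_rTensor_inclusion (I := Subalgebra.toSubmodule C) (M := N₀) x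
  have h0 : J.subtype.rTensor N₀ y = J.subtype.rTensor N₀ 0 := by
    rw [map_zero, ← hx, hy, ← LinearMap.rTensor_comp_apply]
    rfl
  obtain ⟨N', hN'fg, hJN', h1⟩ := Submodule.FG.exists_rTensor_fg_inclusion_eq hJfg h0
  obtain ⟨s, hs⟩ := hN'fg
  have hN'C' : N' ≤ Subalgebra.toSubmodule (C ⊔ Algebra.adjoin C₀ (s : Set R)) := by
    rw [← hs, Submodule.span_le]
    intro r hr
    exact (le_sup_right : Algebra.adjoin C₀ (s : Set R) ≤ C ⊔ Algebra.adjoin C₀ (s : Set R))
      (Algebra.subset_adjoin hr)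
  refine ⟨C ⊔ Algebra.adjoin C₀ (s : Set R), hC.sup ⟨s, rfl⟩, le_sup_left, ?_⟩
  rw [hy, ← LinearMap.rTensor_comp_apply]
  have h2 : (Subalgebra.inclusion (le_sup_left : C ≤ C ⊔ Algebra.adjoin C₀ (s : Set R))).toLinearMap
      ∘ₗ (J.inclusion hle) = (Submodule.inclusion hN'C') ∘ₗ (J.inclusion hJN') := by
    ext z
    rfl
  rw [h2, LinearMap.rTensor_comp_apply, h1, map_zero, map_zero]

end vanish

end Groth.Agent.H15.NF
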