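import Mathlib.RingTheory.Localization.LocalizationLocalization
import Mathlib.RingTheory.Localization.Away.Basic
import Mathlib.RingTheory.Flat.Localization
import Mathlib.RingTheory.Flat.Stability
import Mathlib.RingTheory.TensorProduct.Maps

/-!
# Localization away from an element and base change; flatness at primes from flatness of a
principal open subset
-/

set_option autoImplicit false
set_option linter.style.haveILetI false
set_option linter.unusedSectionVars false
universe u
open TensorProduct

namespace Groth.Agent.H15.NF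

section away
variable (R : Type u) [CommRing R] (S : Type u) [CommRing S] [Algebra R S]
  {B : Type u} [CommRing B] [Algebra R B] (g : B)
  (L : Type u) [CommRing L] [Algebra B L] [Algebra R L] [IsScalarTower R B L]
  [IsLocalization.Away g L]
  (Lh : Type u) [CommRing Lh] [Algebra (S ⊗[R] B) Lh] [Algebra S Lh]
  [IsScalarTower S (S ⊗[R] B) Lh] [Algebra R Lh] [IsScalarTower R (S ⊗[R] B) Lh]
  [IsScalarTower R S Lh]
  [IsLocalization.Away ((1 : S) ⊗ₜ[R] g : S ⊗[R] B) Lh]

/-- `B_g → (S ⊗ B)_{1 ⊗ g}` -/
noncomputable def awayψ : L →ₐ[R] Lh :=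
  IsLocalization.Away.liftAlgHom (A := R) (S := L) g
    (f := (IsScalarTower.toAlgHom R (S ⊗[R] B) Lh).comp
        (Algebra.TensorProduct.includeRight : B →ₐ[R] S ⊗[R] B))
    (IsLocalization.Away.algebraMap_isUnit ((1 : S) ⊗ₜ[R] g : S ⊗[R] B))

lemma awayψ_algebraMap (b : B) :
    awayψ R S g L Lh (algebraMap B L b) = algebraMap (S ⊗[R] B) Lh ((1 : S) ⊗ₜ[R] b) :=
  IsLocalization.Away.lift_eq (S := L) g
    (g := ((IsScalarTower.toAlgHom R (S ⊗[R] B) Lh).comp
        (Algebra.TensorProduct.includeRight : B →ₐ[R] S ⊗[R] B)).toRingHom)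
    (IsLocalization.Away.algebraMap_isUnit ((1 : S) ⊗ₜ[R] g : S ⊗[R] B)) b

/-- `S ⊗ B_g → (S ⊗ B)_{1 ⊗ g}` -/
noncomputable def awayTo : S ⊗[R] L →ₐ[S] Lh :=
  Algebra.TensorProduct.lift (Algebra.ofId S Lh) (awayψ R S g L Lh) (fun _ _ => Commute.all _ _)

lemma isUnit_tmul_algebraMap : IsUnit ((Algebra.TensorProduct.map (AlgHom.id S S)
    (IsScalarTower.toAlgHom R B L)).toRingHom ((1 : S) ⊗ₜ[R] g)) := by
  have h := (IsLocalization.Away.algebraMap_isUnit (S := L) g).map
      (Algebra.TensorProduct.includeRight : L →ₐ[R] S ⊗[R] L)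
  exact h

/-- `(S ⊗ B)_{1 ⊗ g} → S ⊗ B_g` -/
noncomputable def awayFrom : Lh →+* S ⊗[R] L :=
  IsLocalization.Away.lift ((1 : S) ⊗ₜ[R] g : S ⊗[R] B) (isUnit_tmul_algebraMap R S g L)

lemma awayTo_tmul_algebraMap (s : S) (b : B) :
    awayTo R S g L Lh (s ⊗ₜ[R] algebraMap B L b) = algebraMap (S ⊗[R] B) Lh (s ⊗ₜ[R] b) := by
  rw [awayTo, Algebra.TensorProduct.lift_tmul, awayψ_algebraMap]
  change algebraMap S Lh s * algebraMap (S ⊗[R] B) Lh ((1 : S) ⊗ₜ[R] b) = _
  rw [IsScalarTower.algebraMap_apply S (S ⊗[R] B) Lh, ← map_mul,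
    Algebra.TensorProduct.algebraMap_apply, Algebra.TensorProduct.tmul_mul_tmul]
  simp

lemma awayFrom_algebraMap (y : S ⊗[R] B) :
    awayFrom R S g L Lh (algebraMap (S ⊗[R] B) Lh y) =
      Algebra.TensorProduct.map (AlgHom.id S S) (IsScalarTower.toAlgHom R B L) y :=
  IsLocalization.Away.lift_eq (S := Lh) ((1 : S) ⊗ₜ[R] g : S ⊗[R] B)
    (isUnit_tmul_algebraMap R S g L) y

lemma awayTo_awayFrom (x : Lh) : awayTo R S g L Lh (awayFrom R S g L Lh x) = x := by
  have h : ((awayTo R S g L Lh : S ⊗[R] L →ₐ[S] Lh) : S ⊗[R] L →+* Lh).comp (awayFrom R S g L Lh) =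
      RingHom.id Lh := by
    apply IsLocalization.ringHom_ext (Submonoid.powers ((1 : S) ⊗ₜ[R] g : S ⊗[R] B))
    apply RingHom.ext
    intro y
    change awayTo R S g L Lh (awayFrom R S g L Lh (algebraMap _ _ y)) = algebraMap _ _ y
    rw [awayFrom_algebraMap]
    induction y with
    | zero => simp
    | add x y hx hy => rw [map_add, map_add, map_add, hx, hy]
    | tmul s b => exact awayTo_tmul_algebraMap R S g L Lh s b
  exact RingHom.congr_fun h x

lemma awayFrom_awayTo (x : S ⊗[R] L) : awayFrom R S g L Lh (awayTo R S g L Lh x) = x := by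
  have h1 : ∀ l : L, awayFrom R S g L Lh (awayTo R S g L Lh ((1 : S) ⊗ₜ[R] l)) =
      (1 : S) ⊗ₜ[R] l := by
    have h : ((awayFrom R S g L Lh).comp
        ((awayTo R S g L Lh : S ⊗[R] L →ₐ[S] Lh) : S ⊗[R] L →+* Lh)).comp
        (Algebra.TensorProduct.includeRight : L →ₐ[R] S ⊗[R] L).toRingHom =
        (Algebra.TensorProduct.includeRight : L →ₐ[R] S ⊗[R] L).toRingHom := by
      apply IsLocalization.ringHom_ext (Submonoid.powers g)
      apply RingHom.ext
      intro b
      change awayFrom R S g L Lh (awayTo R S g L Lh ((1 : S) ⊗ₜ[R] algebraMap B L b)) =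
        (1 : S) ⊗ₜ[R] algebraMap B L b
      rw [awayTo_tmul_algebraMap, awayFrom_algebraMap]
      rfl
    exact fun l => RingHom.congr_fun h l
  have h2 : ∀ s : S, awayFrom R S g L Lh (awayTo R S g L Lh (s ⊗ₜ[R] (1 : L))) =
      s ⊗ₜ[R] (1 : L) := by
    intro s
    have : (1 : L) = algebraMap B L 1 := (map_one _).symm
    rw [this, awayTo_tmul_algebraMap, awayFrom_algebraMap]
    rfl
  induction x with
  | zero => simp
  | add x y hx hy => rw [map_add, map_add, hx, hy]
  | tmul s l =>
    have : s ⊗ₜ[R] l = (s ⊗ₜ[R] (1 : L)) * ((1 : S) ⊗ₜ[R] l) := by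
      rw [Algebra.TensorProduct.tmul_mul_tmul, mul_one, one_mul]
    rw [this, map_mul, map_mul, h1, h2]

/-- localization away from an element commutes with base change -/
noncomputable def awayTensorEquiv : S ⊗[R] L ≃ₗ[S] Lh :=
  { (awayTo R S g L Lh).toLinearMap with
    invFun := awayFrom R S g L Lh
    left_inv := awayFrom_awayTo R S g L Lh
    right_inv := awayTo_awayFrom R S g L Lh }

theorem flat_away_tmul (h : Module.Flat R (Localization.Away g)) :
    Module.Flat S (Localization.Away ((1 : S) ⊗ₜ[R] g : S ⊗[R] B)) :=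
  Module.Flat.of_linearEquiv (awayTensorEquiv R S g (Localization.Away g)
    (Localization.Away ((1 : S) ⊗ₜ[R] g : S ⊗[R] B))).symm

theorem flat_tensor_away (h : Module.Flat S (Localization.Away ((1 : S) ⊗ₜ[R] g : S ⊗[R] B))) :
    Module.Flat S (S ⊗[R] Localization.Away g) :=
  Module.Flat.of_linearEquiv (awayTensorEquiv R S g (Localization.Away g)
    (Localization.Away ((1 : S) ⊗ₜ[R] g : S ⊗[R] B)))

theorem flat_away_of_flat_tensor (h : Module.Flat S (S ⊗[R] Localization.Away g)) :
    Module.Flat S (Localization.Away ((1 : S) ⊗ₜ[R] g : S ⊗[R] B)) :=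
  Module.Flat.of_linearEquiv (awayTensorEquiv R S g (Localization.Away g)
    (Localization.Away ((1 : S) ⊗ₜ[R] g : S ⊗[R] B))).symm

end away

section atprime
variable {S : Type u} [CommRing S] {H : Type u} [CommRing H] [Algebra S H]

/-- flatness of a principal open subset containing the points over `V(J)` gives flatness at
these points -/
theorem flat_atPrime_of_flat_away (J : Ideal S) (g : H) (hg : g - 1 ∈ J.map (algebraMap S H))
    (hfl : Module.Flat S (Localization.Away g)) (q : Ideal H) [q.IsPrime]
    (hq : J.map (algebraMap S H) ≤ q) : Module.Flat S (Localization.AtPrime q) := by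
  have hgq : g ∉ q := by
    intro hc
    have h1 : (1 : H) ∈ q := by
      have : (1 : H) = g - (g - 1) := by ring
      rw [this]
      exact q.sub_mem hc (hq hg)
    exact (Ideal.IsPrime.ne_top inferInstance) (q.eq_top_of_isUnit_mem h1 isUnit_one)
  have hle : Submonoid.powers g ≤ q.primeCompl := by
    rintro x ⟨n, rfl⟩
    exact fun hc => hgq (Ideal.IsPrime.mem_of_pow_mem inferInstance n hc)
  letI : Algebra (Localization.Away g) (Localization.AtPrime q) :=
    IsLocalization.localizationAlgebraOfSubmonoidLe (Localization.Away g) (Localization.AtPrime q)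
      (Submonoid.powers g) q.primeCompl hle
  haveI : IsScalarTower H (Localization.Away g) (Localization.AtPrime q) :=
    IsLocalization.localization_isScalarTower_of_submonoid_le (Localization.Away g)
      (Localization.AtPrime q) (Submonoid.powers g) q.primeCompl hle
  haveI : IsLocalization (q.primeCompl.map (algebraMap H (Localization.Away g)))
      (Localization.AtPrime q) :=
    IsLocalization.isLocalization_of_submonoid_le (Localization.Away g) (Localization.AtPrime q)
      (Submonoid.powers g) q.primeCompl hle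
  haveI : Module.Flat (Localization.Away g) (Localization.AtPrime q) :=
    IsLocalization.flat _ (q.primeCompl.map (algebraMap H (Localization.Away g)))
  haveI : IsScalarTower S (Localization.Away g) (Localization.AtPrime q) :=
    IsScalarTower.of_algebraMap_eq fun s => by
      rw [IsScalarTower.algebraMap_apply S H (Localization.AtPrime q),
        IsScalarTower.algebraMap_apply H (Localization.Away g) (Localization.AtPrime q),
        ← IsScalarTower.algebraMap_apply S H (Localization.Away g)]
  exact Module.Flat.trans S (Localization.Away g) (Localization.AtPrime q)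

end atprime

end Groth.Agent.H15.NF
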