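import Groth.Agent.H1.FlatLocusExists
import Mathlib.RingTheory.Localization.LocalizationLocalization

/-!
# Flatness near a closed subset: a finitely presented algebra flat at the points over `V(I)`
is flat over a principal open subset containing them
-/

set_option autoImplicit false
set_option linter.style.haveILetI false
set_option linter.unusedSectionVars false
universe u
open TensorProduct

namespace Groth.Agent.H15.NF

section gt
variable {R : Type u} [CommRing R] {A : Type u} [CommRing A] [Algebra R A]

/-- the two forms of the localization at a prime -/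
noncomputable def atPrimeEquiv (q : Ideal A) [q.IsPrime] :
    LocalizedModule q.primeCompl A ≃ₗ[R] Localization.AtPrime q :=
  (IsLocalizedModule.iso q.primeCompl (Algebra.linearMap A (Localization.AtPrime q))).restrictScalars R

theorem exists_flat_away [Algebra.FinitePresentation R A] (I : Ideal R)
    (hfl : ∀ (q : Ideal A) [q.IsPrime], I.map (algebraMap R A) ≤ q →
      Module.Flat R (Localization.AtPrime q)) :
    ∃ g : A, g - 1 ∈ I.map (algebraMap R A) ∧ Module.Flat R (Localization.Away g) := by
  have hopen : IsOpen (Groth.Agent.H1.FlatLocus.flatLocus R (S := A) A) :=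
    Groth.Agent.H1.FlatLocus.isOpen_flatLocus_of_finitePresentation
  obtain ⟨J, hJ⟩ := (PrimeSpectrum.isClosed_iff_zeroLocus_ideal _).mp hopen.isClosed_compl
  have hdisj : PrimeSpectrum.zeroLocus ((J ⊔ I.map (algebraMap R A) : Ideal A) : Set A) = ∅ := by
    rw [PrimeSpectrum.zeroLocus_sup, ← hJ]
    ext q
    simp only [Set.mem_inter_iff, Set.mem_compl_iff, PrimeSpectrum.mem_zeroLocus,
      Set.mem_empty_iff_false, iff_false, not_and]
    intro hq hI
    apply hq
    haveI := hfl q.asIdeal hI
    exact Module.Flat.of_linearEquiv (atPrimeEquiv (R := R) q.asIdeal)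
  rw [PrimeSpectrum.zeroLocus_empty_iff_eq_top] at hdisj
  have h1 : (1 : A) ∈ J ⊔ I.map (algebraMap R A) := by rw [hdisj]; trivial
  obtain ⟨g, hg, m, hm, hgm⟩ := Submodule.mem_sup.mp h1
  refine ⟨g, ?_, ?_⟩
  · have : g - 1 = -m := by rw [← hgm]; ring
    rw [this]
    exact neg_mem hm
  · have hU : ∀ (q : Ideal A) [q.IsPrime], g ∉ q → Module.Flat R (Localization.AtPrime q) := by
      intro q _ hgq
      have hq : (⟨q, inferInstance⟩ : PrimeSpectrum A) ∈
          Groth.Agent.H1.FlatLocus.flatLocus R (S := A) A := by
        by_contra hc
        have h2 : (⟨q, inferInstance⟩ : PrimeSpectrum A) ∈ PrimeSpectrum.zeroLocus (J : Set A) := by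
          rw [← hJ]
          exact hc
        exact hgq (h2 hg)
      haveI : Module.Flat R (LocalizedModule q.primeCompl A) := hq
      exact Module.Flat.of_linearEquiv (atPrimeEquiv (R := R) q).symm
    refine Module.flat_of_isLocalized_maximal (R := R) (Localization.Away g) (Localization.Away g)
      (fun P _ => Localization.AtPrime P) (fun P _ => Algebra.linearMap _ _) ?_
    intro P hP
    haveI : P.IsPrime := hP.isPrime
    have hgP : g ∉ P.comap (algebraMap A (Localization.Away g)) := by
      intro hc
      exact hP.ne_top (P.eq_top_of_isUnit_mem hc (IsLocalization.Away.algebraMap_isUnit g))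
    haveI := hU _ hgP
    exact Module.Flat.of_linearEquiv
      ((IsLocalization.localizationLocalizationAtPrimeIsoLocalization (Submonoid.powers g)
        P).toLinearEquiv.restrictScalars R).symm

end gt

end Groth.Agent.H15.NF
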