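import Groth.Agent.H15.HopfNF8
import Groth.Agent.H15.HopfNF9
import Groth.Agent.H15.HopfNF10
import Groth.Agent.H15.HopfFib4

/-!
# Tools for the local model of a Hopf algebra flat along the closed fibre
-/

set_option autoImplicit false
set_option linter.style.haveILetI false
set_option linter.unusedSectionVars false
universe u
open TensorProduct

namespace Groth.Agent.H15.NF
open Groth.Agent.H26 Groth.Agent.H15.MTC Groth.Agent.H15.HA

section rep
variable {C : Type u} [CommRing C] {R : Type u} [CommRing R] [Algebra C R]
  {B : Type u} [AddCommGroup B] [Module C B]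
  {A : Type u} [CommRing A] [Algebra R A] [Module C A] [IsScalarTower C R A]

/-- elements of `I A` are combinations of elements of `B` with coefficients in `I` -/
theorem exists_list_rep {θ : B →ₗ[C] A} (hθ : IsBaseChange R θ) (I : Ideal R) (a : A)
    (ha : a ∈ I.map (algebraMap R A)) :
    ∃ l : List (R × B), (∀ i ∈ l, i.1 ∈ I) ∧ a = (l.map fun i => i.1 • θ i.2).sum := by
  classical
  have ha' : a ∈ (I • (⊤ : Submodule R A)) := by
    rw [Ideal.smul_top_eq_map]
    exact ha
  refine Submodule.smul_induction_on (p := fun a => ∃ l : List (R × B), (∀ i ∈ l, i.1 ∈ I) ∧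
    a = (l.map fun i => i.1 • θ i.2).sum) ha' ?_ ?_
  · intro r hr n _
    obtain ⟨S, hS⟩ := exists_rep hθ n
    refine ⟨S.toList.map fun j => (r * j.1, j.2), ?_, ?_⟩
    · intro i hi
      obtain ⟨j, -, rfl⟩ := List.mem_map.mp hi
      exact I.mul_mem_right _ hr
    · rw [hS, Finset.smul_sum, List.map_map, ← Finset.sum_map_toList]
      congr 1
      apply List.map_congr_left
      intro j _
      simp [mul_smul]
  · rintro x y ⟨l₁, h₁, rfl⟩ ⟨l₂, h₂, rfl⟩
    refine ⟨l₁ ++ l₂, ?_, ?_⟩
    · intro i hi
      rcases List.mem_append.mp hi with h | h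
      · exact h₁ i h
      · exact h₂ i h
    · rw [List.map_append, List.sum_append]

end rep

section toequiv
variable {S : Type u} [CommRing S] {B : Type u} [CommRing B] [Bialgebra S B]
  {C : Type u} [CommRing C] [Bialgebra S C]

/-- a chart over the identity base change is a bialgebra isomorphism, with the same underlying
map -/
theorem exists_bialgEquiv_of_chart (φ : B →ₐ[S] C) (hco : IsCoalgMapOver S φ.toLinearMap)
    (hbc : IsBaseChange S φ.toLinearMap) : ∃ e : B ≃ₐc[S] C, ∀ b, e b = φ b := by
  have hbij : Function.Bijective φ := by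
    have h1 : ∀ b, φ b = hbc.equiv ((TensorProduct.lid S B).symm b) := by
      intro b
      rw [TensorProduct.lid_symm_apply, IsBaseChange.equiv_tmul, one_smul]
      rfl
    have h2 : (φ : B → C) = hbc.equiv ∘ (TensorProduct.lid S B).symm := funext h1
    rw [h2]
    exact hbc.equiv.bijective.comp (TensorProduct.lid S B).symm.bijective
  let ψ : B →ₐc[S] C := BialgHom.ofAlgHom φ
    (by
      ext b
      exact hco.counit b)
    (by
      ext b
      have h1 := hco.comul b
      change TensorProduct.map φ.toLinearMap φ.toLinearMap (Coalgebra.comul b) =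
        Coalgebra.comul (φ b)
      change Coalgebra.comul (φ b) = _ at h1
      rw [h1]
      generalize Coalgebra.comul (R := S) b = y
      induction y with
      | zero => simp
      | add x y hx hy => rw [map_add, map_add, hx, hy]
      | tmul a b => simp)
  exact ⟨BialgEquiv.ofBijective ψ hbij, fun b => rfl⟩

end toequiv

section transport
variable {R : Type u} [CommRing R] {H : Type u} [CommRing H] [Algebra R H]
  {H' : Type u} [CommRing H'] [Algebra R H']

/-- flatness of a principal open subset is invariant under isomorphisms -/
theorem flat_away_of_algEquiv (e : H ≃ₐ[R] H') (x : H)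
    (h : Module.Flat R (Localization.Away (e x))) : Module.Flat R (Localization.Away x) := by
  have hmap : Submonoid.map e (Submonoid.powers x) = Submonoid.powers (e x) :=
    Submonoid.map_powers e x
  exact Module.Flat.of_linearEquiv
    (IsLocalization.algEquivOfAlgEquiv (Localization.Away x) (Localization.Away (e x)) e
      hmap).toLinearEquiv

end transport

section stage
variable {T : Type u} [CommRing T] {R : Type u} [CommRing R] [Algebra T R]

/-- descent of flatness to a finitely generated subalgebra -/
theorem exists_flat_stage' (L : Type u) [CommRing L] [Algebra T L]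
    [Algebra.FinitePresentation T L] (h : Module.Flat R (R ⊗[T] L)) :
    ∃ C : Subalgebra T R, C.FG ∧ Module.Flat ↥C (↥C ⊗[T] L) := by
  obtain ⟨C, hC⟩ := (Groth.Agent.S4848.result (A₀ := T) (fun C : FGSub T R => ↥C.1)
    (fun i j h => Subalgebra.inclusion (show i.1 ≤ j.1 from h)) R
    (isDirectedColimitRing_fgSub T R) (B₀ := L) L).mp h
  exact ⟨C.1, C.2, hC⟩

end stage

end Groth.Agent.H15.NF
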