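import Groth.Agent.H15.HopfNF11

/-!
# A Noetherian model of a Hopf algebra over a local ring, flat along the closed fibre:
the element `g`
-/

set_option autoImplicit false
set_option linter.style.haveILetI false
set_option linter.unusedSectionVars false
universe u
open TensorProduct IsLocalRing

namespace Groth.Agent.H15.NF
open Groth.Agent.H26 Groth.Agent.H15.MTC Groth.Agent.H15.HA

section modelg
variable (R : Type u) [CommRing R] [IsLocalRing R] (A : Type u) [CommRing A] [HopfAlgebra R A]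

set_option maxHeartbeats 1000000 in
theorem exists_model_with_g (hfp : Algebra.FinitePresentation R A)
    (hfl : ∀ (q : Ideal A) [q.IsPrime], (maximalIdeal R).map (algebraMap R A) ≤ q →
      Module.Flat R (Localization.AtPrime q)) :
    ∃ (T : Type u) (_ : CommRing T) (_ : Algebra T R) (B : Type u) (_ : CommRing B)
      (_ : HopfAlgebra T B), Algebra.FiniteType ℤ T ∧ Algebra.FinitePresentation T B ∧
      ∃ (Ξ : R ⊗[T] B ≃ₐc[R] A) (g : B),
        g - 1 ∈ ((maximalIdeal R).comap (algebraMap T R)).map (algebraMap T B) ∧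
        Module.Flat R (Localization.Away (Ξ ((1 : R) ⊗ₜ[T] g))) := by
  classical
  haveI := hfp
  obtain ⟨C, _, _, B, _, _, hftC, hfpB, ⟨Ξ⟩⟩ := exists_hopf_model' R A
  haveI := hfpB
  letI : Algebra C A := ((algebraMap R A).comp (algebraMap C R)).toAlgebra
  haveI : IsScalarTower C R A := IsScalarTower.of_algebraMap_eq fun _ => rfl
  let θ : B →ₐ[C] A :=
    ((Ξ : R ⊗[C] B →ₐ[R] A).restrictScalars C).comp Algebra.TensorProduct.includeRight
  have hco : IsCoalgMapOver R θ.toLinearMap :=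
    IsCoalgMapOver.comp (S₂ := R) (isCoalgMapOver_of_coalgHom (Ξ : R ⊗[C] B →ₗc[R] A))
      (isCoalgMapOver_inc (R := C) R B)
  have hbc : IsBaseChange R θ.toLinearMap := by
    have h0 := (TensorProduct.isBaseChange C B R).comp (IsBaseChange.ofEquiv Ξ.toLinearEquiv)
    have h1 : θ.toLinearMap = (Ξ.toLinearEquiv.toLinearMap.restrictScalars C) ∘ₗ
        (TensorProduct.mk C R B 1) := LinearMap.ext fun _ => rfl
    rw [h1]
    exact h0
  obtain ⟨gA, hgA, hflatA⟩ := exists_flat_away (maximalIdeal R) hfl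
  obtain ⟨l, hl, hrep⟩ := exists_list_rep hbc (maximalIdeal R) (gA - 1) hgA
  let F : Finset R := (l.map Prod.fst).toFinset
  let C₂ : Subalgebra C R := Algebra.adjoin C (F : Set R)
  have hmem : ∀ i ∈ l, i.1 ∈ C₂ := fun i hi =>
    Algebra.subset_adjoin (Finset.mem_coe.mpr (List.mem_toFinset.mpr (List.mem_map_of_mem hi)))
  have hftC₂ : Algebra.FiniteType ℤ ↥C₂ :=
    Algebra.FiniteType.trans hftC ((Subalgebra.fg_iff_finiteType C₂).mp ⟨F, rfl⟩)
  let l₂ : List (↥C₂ ⊗[C] B) :=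
    l.attach.map fun i => (⟨i.1.1, hmem i.1 i.2⟩ : ↥C₂) ⊗ₜ[C] i.1.2
  let g₂ : ↥C₂ ⊗[C] B := 1 + l₂.sum
  have hco₂ : IsCoalgMapOver R (liftAlg ↥C₂ θ).toLinearMap := isCoalgMapOver_liftAlg ↥C₂ hco
  have hbc₂ : IsBaseChange R (liftAlg ↥C₂ θ).toLinearMap := isBaseChange_liftAlg ↥C₂ hbc
  have hθg : liftAlg ↥C₂ θ g₂ = gA := by
    have h1 : liftAlg ↥C₂ θ l₂.sum = gA - 1 := by
      rw [map_list_sum, hrep, List.map_map]
      have h2 : (l.map fun i => i.1 • θ.toLinearMap i.2) =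
          (l.attach.map Subtype.val).map fun i => i.1 • θ.toLinearMap i.2 := by
        rw [List.attach_map_subtype_val]
      rw [h2, List.map_map]
      congr 1
      apply List.map_congr_left
      intro i _
      simp only [Function.comp_apply, liftAlg_tmul]
      rfl
    change liftAlg ↥C₂ θ (1 + l₂.sum) = gA
    rw [map_add, map_one, h1]
    ring
  obtain ⟨Ξ₂, hΞ₂⟩ := exists_bialgEquiv_of_chart (liftAlg R (liftAlg ↥C₂ θ))
    (isCoalgMapOver_liftAlg R hco₂) (isBaseChange_liftAlg R hbc₂)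
  have hΞg : Ξ₂ ((1 : R) ⊗ₜ[↥C₂] g₂) = gA := by
    rw [hΞ₂, liftAlg_tmul, one_smul, hθg]
  refine ⟨↥C₂, inferInstance, inferInstance, ↥C₂ ⊗[C] B, inferInstance, inferInstance, hftC₂,
    inferInstance, Ξ₂, g₂, ?_, ?_⟩
  · have h1 : g₂ - 1 = l₂.sum := by
      change 1 + l₂.sum - 1 = l₂.sum
      ring
    rw [h1]
    apply list_sum_mem
    intro x hx
    obtain ⟨i, -, rfl⟩ := List.mem_map.mp hx
    have h2 : (⟨i.1.1, hmem i.1 i.2⟩ : ↥C₂) ⊗ₜ[C] i.1.2 =
        algebraMap ↥C₂ (↥C₂ ⊗[C] B) ⟨i.1.1, hmem i.1 i.2⟩ * ((1 : ↥C₂) ⊗ₜ[C] i.1.2) := by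
      rw [Algebra.TensorProduct.algebraMap_apply, Algebra.TensorProduct.tmul_mul_tmul]
      simp
    rw [h2]
    apply Ideal.mul_mem_right
    apply Ideal.mem_map_of_mem
    rw [Ideal.mem_comap]
    exact hl i.1 i.2
  · rw [hΞg]
    exact hflatA

end modelg

end Groth.Agent.H15.NF
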