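import Groth.Agent.H15.HopfNF12

/-!
# A local Noetherian model of a Hopf algebra over a local ring, flat along the closed fibre
-/

set_option autoImplicit false
set_option linter.style.haveILetI false
set_option linter.unusedSectionVars false
universe u
open TensorProduct IsLocalRing

namespace Groth.Agent.H15.NF
open Groth.Agent.H26 Groth.Agent.H15.MTC Groth.Agent.H15.HA Groth.Agent.H15.HF

section localmodel
variable (R : Type u) [CommRing R] [IsLocalRing R] (A : Type u) [CommRing A] [HopfAlgebra R A]

set_option maxHeartbeats 1000000 in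
set_option synthInstance.maxHeartbeats 400000 in
/-- a finitely presented Hopf algebra over a local ring, flat at the points of the closed fibre,
is the base change of a Hopf algebra of finite type over a Noetherian local ring, flat over a
principal open subset containing the closed fibre -/
theorem exists_local_model' (hfp : Algebra.FinitePresentation R A)
    (hfl : ∀ (q : Ideal A) [q.IsPrime], (maximalIdeal R).map (algebraMap R A) ≤ q →
      Module.Flat R (Localization.AtPrime q)) :
    ∃ (D : Type u) (_ : CommRing D) (_ : IsLocalRing D) (_ : IsNoetherianRing D)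
      (_ : Algebra D R) (B₁ : Type u) (_ : CommRing B₁) (_ : HopfAlgebra D B₁),
      IsLocalHom (algebraMap D R) ∧ Algebra.FiniteType D B₁ ∧
      (∃ g : B₁, g - 1 ∈ (maximalIdeal D).map (algebraMap D B₁) ∧
        Module.Flat D (Localization.Away g)) ∧
      Nonempty (R ⊗[D] B₁ ≃ₐc[R] A) := by
  classical
  obtain ⟨T, _, _, B, _, _, hftT, hfpB, Ξ, g, hg, hflat⟩ := exists_model_with_g R A hfp hfl
  haveI := hfpB
  haveI : Algebra.FinitePresentation B (Localization.Away g) :=
    IsLocalization.Away.finitePresentation g
  haveI : Algebra.FinitePresentation T (Localization.Away g) :=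
    Algebra.FinitePresentation.trans T B (Localization.Away g)
  have h1 : Module.Flat R (Localization.Away ((1 : R) ⊗ₜ[T] g : R ⊗[T] B)) :=
    flat_away_of_algEquiv (Ξ : R ⊗[T] B ≃ₐ[R] A) _ hflat
  have h2 : Module.Flat R (R ⊗[T] Localization.Away g) := flat_tensor_away T R g h1
  obtain ⟨C₃, hC₃, hfl₃⟩ := exists_flat_stage' (Localization.Away g) h2
  have hftC₃ : Algebra.FiniteType ℤ ↥C₃ :=
    Algebra.FiniteType.trans hftT ((Subalgebra.fg_iff_finiteType C₃).mp hC₃)
  haveI : IsNoetherianRing ↥C₃ := Algebra.FiniteType.isNoetherianRing ℤ ↥C₃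
  let p₀ : Ideal ↥C₃ := (maximalIdeal R).comap (algebraMap ↥C₃ R)
  haveI : p₀.IsPrime := Ideal.comap_isPrime _ _
  have hunit : ∀ y : p₀.primeCompl, IsUnit (algebraMap ↥C₃ R y) := fun y => by
    have hy : (y : ↥C₃) ∉ p₀ := y.2
    exact IsLocalRing.notMem_maximalIdeal.mp hy
  letI : Algebra (Localization.AtPrime p₀) R :=
    (IsLocalization.lift (M := p₀.primeCompl) (S := Localization.AtPrime p₀) hunit).toAlgebra
  haveI : IsScalarTower ↥C₃ (Localization.AtPrime p₀) R := IsScalarTower.of_algebraMap_eq fun c =>
    (IsLocalization.lift_eq (M := p₀.primeCompl) (S := Localization.AtPrime p₀) hunit c).symm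
  haveI : IsNoetherianRing (Localization.AtPrime p₀) :=
    IsLocalization.isNoetherianRing p₀.primeCompl _ inferInstance
  have hloc : IsLocalHom (algebraMap (Localization.AtPrime p₀) R) := by
    constructor
    intro x hx
    obtain ⟨c, s, rfl⟩ := IsLocalization.exists_mk'_eq p₀.primeCompl x
    have h1 : algebraMap (Localization.AtPrime p₀) R (IsLocalization.mk' _ c s) *
        algebraMap ↥C₃ R s = algebraMap ↥C₃ R c := by
      rw [IsScalarTower.algebraMap_apply ↥C₃ (Localization.AtPrime p₀) R,
        IsScalarTower.algebraMap_apply ↥C₃ (Localization.AtPrime p₀) R c, ← map_mul,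
        IsLocalization.mk'_spec]
    have h2 : IsUnit (algebraMap ↥C₃ R c) := by
      rw [← h1]
      exact hx.mul (hunit s)
    have h3 : c ∈ p₀.primeCompl := by
      change c ∉ p₀
      intro hc
      exact (IsLocalRing.mem_maximalIdeal _).mp hc h2
    exact IsLocalization.AtPrime.isUnit_mk'_iff (Localization.AtPrime p₀) p₀ c s |>.mpr h3
  haveI := hloc
  haveI : IsScalarTower T (Localization.AtPrime p₀) R := IsScalarTower.of_algebraMap_eq fun t => by
    rw [IsScalarTower.algebraMap_apply T ↥C₃ (Localization.AtPrime p₀),
      ← IsScalarTower.algebraMap_apply ↥C₃ (Localization.AtPrime p₀) R]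
    rfl
  letI : Algebra T A := ((algebraMap R A).comp (algebraMap T R)).toAlgebra
  haveI : IsScalarTower T R A := IsScalarTower.of_algebraMap_eq fun _ => rfl
  letI : Algebra (Localization.AtPrime p₀) A :=
    ((algebraMap R A).comp (algebraMap (Localization.AtPrime p₀) R)).toAlgebra
  haveI : IsScalarTower (Localization.AtPrime p₀) R A := IsScalarTower.of_algebraMap_eq fun _ => rfl
  haveI : IsScalarTower T (Localization.AtPrime p₀) A := IsScalarTower.of_algebraMap_eq fun c => by
    change algebraMap R A (algebraMap T R c) =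
      algebraMap R A (algebraMap (Localization.AtPrime p₀) R (algebraMap T _ c))
    rw [← IsScalarTower.algebraMap_apply T (Localization.AtPrime p₀) R]
  let θ : B →ₐ[T] A :=
    ((Ξ : R ⊗[T] B →ₐ[R] A).restrictScalars T).comp Algebra.TensorProduct.includeRight
  have hco : IsCoalgMapOver R θ.toLinearMap :=
    IsCoalgMapOver.comp (S₂ := R) (isCoalgMapOver_of_coalgHom (Ξ : R ⊗[T] B →ₗc[R] A))
      (isCoalgMapOver_inc (R := T) R B)
  have hbc : IsBaseChange R θ.toLinearMap := by
    have h0 := (TensorProduct.isBaseChange T B R).comp (IsBaseChange.ofEquiv Ξ.toLinearEquiv)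
    have h1 : θ.toLinearMap = (Ξ.toLinearEquiv.toLinearMap.restrictScalars T) ∘ₗ
        (TensorProduct.mk T R B 1) := LinearMap.ext fun _ => rfl
    rw [h1]
    exact h0
  -- flatness
  have hflD : Module.Flat (Localization.AtPrime p₀)
      (Localization.AtPrime p₀ ⊗[T] Localization.Away g) := by
    haveI := hfl₃
    exact Module.Flat.of_linearEquiv
      (TensorProduct.AlgebraTensorModule.cancelBaseChange T ↥C₃ (Localization.AtPrime p₀)
        (Localization.AtPrime p₀) (Localization.Away g)).symm
  have hflD' : Module.Flat (Localization.AtPrime p₀)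
      (Localization.Away ((1 : Localization.AtPrime p₀) ⊗ₜ[T] g :
        Localization.AtPrime p₀ ⊗[T] B)) :=
    flat_away_of_flat_tensor T (Localization.AtPrime p₀) g hflD
  -- the ideal
  have hgD : ((1 : Localization.AtPrime p₀) ⊗ₜ[T] g : Localization.AtPrime p₀ ⊗[T] B) - 1 ∈
      (maximalIdeal (Localization.AtPrime p₀)).map
        (algebraMap (Localization.AtPrime p₀) (Localization.AtPrime p₀ ⊗[T] B)) := by
    have h3 : (((maximalIdeal R).comap (algebraMap T R)).map (algebraMap T B)).map
        ((Algebra.TensorProduct.includeRight : B →ₐ[T] Localization.AtPrime p₀ ⊗[T] B) :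
          B →+* Localization.AtPrime p₀ ⊗[T] B) ≤
        (maximalIdeal (Localization.AtPrime p₀)).map
          (algebraMap (Localization.AtPrime p₀) (Localization.AtPrime p₀ ⊗[T] B)) := by
      rw [Ideal.map_map, Ideal.map_le_iff_le_comap]
      intro t ht
      rw [Ideal.mem_comap] at ht
      rw [Ideal.mem_comap]
      have h4 : ((Algebra.TensorProduct.includeRight : B →ₐ[T] Localization.AtPrime p₀ ⊗[T] B) :
          B →+* Localization.AtPrime p₀ ⊗[T] B).comp (algebraMap T B) t =
          algebraMap (Localization.AtPrime p₀) (Localization.AtPrime p₀ ⊗[T] B)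
            (algebraMap T (Localization.AtPrime p₀) t) := by
        simp only [RingHom.comp_apply, AlgHom.coe_toRingHom,
          Algebra.TensorProduct.includeRight_apply, Algebra.TensorProduct.algebraMap_apply]
        rw [Algebra.algebraMap_eq_smul_one, tmul_smul, smul_tmul', ← Algebra.algebraMap_eq_smul_one]
        rfl
      rw [h4]
      apply Ideal.mem_map_of_mem
      rw [mem_maximalIdeal, mem_nonunits_iff]
      intro hu
      have h5 := hu.map (algebraMap (Localization.AtPrime p₀) R)
      rw [← IsScalarTower.algebraMap_apply T (Localization.AtPrime p₀) R] at h5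
      exact (mem_maximalIdeal _).mp ht h5
    have h6 : ((1 : Localization.AtPrime p₀) ⊗ₜ[T] g : Localization.AtPrime p₀ ⊗[T] B) - 1 =
        (Algebra.TensorProduct.includeRight : B →ₐ[T] Localization.AtPrime p₀ ⊗[T] B) (g - 1) := by
      rw [map_sub, map_one]
      rfl
    rw [h6]
    exact h3 (Ideal.mem_map_of_mem _ hg)
  exact ⟨Localization.AtPrime p₀, inferInstance, inferInstance, inferInstance, inferInstance,
    Localization.AtPrime p₀ ⊗[T] B, inferInstance, inferInstance, hloc, inferInstance,
    ⟨_, hgD, hflD'⟩, nonempty_equiv_of_chart_tower (Localization.AtPrime p₀) θ hco hbc⟩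

end localmodel

end Groth.Agent.H15.NF
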