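import Groth.Agent.H15.HopfNF13
import Groth.Agent.H15.HopfFib8

/-!
# Groups over a local ring, flat along the closed fibre of multiplicative type: the open and
closed subgroup after a faithfully flat local base change
-/

set_option autoImplicit false
set_option linter.style.haveILetI false
set_option linter.unusedSectionVars false
universe u
open TensorProduct Coalgebra IsLocalRing

namespace Groth.Agent.H15.NF
open Groth.Agent.H26 Groth.Agent.H15.MTC Groth.Agent.H15.HA Groth.Agent.H15.HF SGA3b

section ideal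
variable {T : Type u} [CommRing T] {D : Type u} [CommRing D] [Algebra T D]
  {B : Type u} [CommRing B] [Algebra T B]

/-- base change of the condition `g - 1 ∈ p B` -/
theorem tmul_sub_one_mem (p : Ideal T) (P : Ideal D) (hpP : p.map (algebraMap T D) ≤ P) (g : B)
    (hg : g - 1 ∈ p.map (algebraMap T B)) :
    ((1 : D) ⊗ₜ[T] g : D ⊗[T] B) - 1 ∈ P.map (algebraMap D (D ⊗[T] B)) := by
  have h3 : (p.map (algebraMap T B)).map
      ((Algebra.TensorProduct.includeRight : B →ₐ[T] D ⊗[T] B) : B →+* D ⊗[T] B) ≤
      P.map (algebraMap D (D ⊗[T] B)) := by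
    rw [Ideal.map_map]
    have h2 : ((Algebra.TensorProduct.includeRight : B →ₐ[T] D ⊗[T] B) : B →+* D ⊗[T] B).comp
        (algebraMap T B) = (algebraMap D (D ⊗[T] B)).comp (algebraMap T D) := by
      ext s
      simp only [RingHom.comp_apply, AlgHom.coe_toRingHom,
        Algebra.TensorProduct.includeRight_apply, Algebra.TensorProduct.algebraMap_apply]
      rw [Algebra.algebraMap_eq_smul_one, tmul_smul, smul_tmul', ← Algebra.algebraMap_eq_smul_one]
      rfl
    rw [h2, ← Ideal.map_map]
    exact Ideal.map_mono hpP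
  have h6 : ((1 : D) ⊗ₜ[T] g : D ⊗[T] B) - 1 =
      (Algebra.TensorProduct.includeRight : B →ₐ[T] D ⊗[T] B) (g - 1) := by
    rw [map_sub, map_one]
    rfl
  rw [h6]
  exact h3 (Ideal.mem_map_of_mem _ hg)

end ideal

section completion
variable (C₁ : Type u) [CommRing C₁] [IsLocalRing C₁] [IsNoetherianRing C₁]
  (B₁ : Type u) [CommRing B₁] [HopfAlgebra C₁ B₁]

/-- over the completion of a Noetherian local ring, a group of finite type, flat along its closed
fibre of multiplicative type, has an open and closed isotrivial subgroup of multiplicative type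
with the same closed fibre -/
theorem hasClopen_completion' (hft : Algebra.FiniteType C₁ B₁)
    (hκ : IsMultType (ResidueField C₁) (ResidueField C₁ ⊗[C₁] B₁)) (g : B₁)
    (hg : g - 1 ∈ (maximalIdeal C₁).map (algebraMap C₁ B₁))
    (hflat : Module.Flat C₁ (Localization.Away g)) :
    HasClopen (AdicCompletion (maximalIdeal C₁) C₁)
      (maximalIdeal (AdicCompletion (maximalIdeal C₁) C₁))
      (AdicCompletion (maximalIdeal C₁) C₁ ⊗[C₁] B₁) := by
  haveI := hft
  haveI : IsNoetherianRing (AdicCompletion (maximalIdeal C₁) C₁) :=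
    Groth.Agent.H20.isNoetherianRing_adicCompletion _
  have hft' : Algebra.FiniteType (AdicCompletion (maximalIdeal C₁) C₁)
      (AdicCompletion (maximalIdeal C₁) C₁ ⊗[C₁] B₁) := inferInstance
  have hle : (maximalIdeal C₁).map (algebraMap C₁ (AdicCompletion (maximalIdeal C₁) C₁)) ≤
      maximalIdeal (AdicCompletion (maximalIdeal C₁) C₁) := by
    rw [Ideal.map_le_iff_le_comap]
    intro x hx
    exact map_nonunit (algebraMap C₁ (AdicCompletion (maximalIdeal C₁) C₁)) x hx
  have hg' := tmul_sub_one_mem (D := AdicCompletion (maximalIdeal C₁) C₁) (maximalIdeal C₁)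
    (maximalIdeal (AdicCompletion (maximalIdeal C₁) C₁)) hle g hg
  have hflat' := flat_away_tmul C₁ (AdicCompletion (maximalIdeal C₁) C₁) g hflat
  have hfl : ∀ (q : Ideal (AdicCompletion (maximalIdeal C₁) C₁ ⊗[C₁] B₁)) [q.IsPrime],
      Ideal.map (algebraMap (AdicCompletion (maximalIdeal C₁) C₁)
        (AdicCompletion (maximalIdeal C₁) C₁ ⊗[C₁] B₁))
        (maximalIdeal (AdicCompletion (maximalIdeal C₁) C₁)) ≤ q →
      Module.Flat (AdicCompletion (maximalIdeal C₁) C₁) (Localization.AtPrime q) := fun q _ hq =>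
    flat_atPrime_of_flat_away _ _ hg' hflat' q hq
  have hmt := isMultType_closedFibre_baseChange (Ch := AdicCompletion (maximalIdeal C₁) C₁) hκ
  have h0 : IsIsotrivial (ResidueField (AdicCompletion (maximalIdeal C₁) C₁))
      (ResidueField (AdicCompletion (maximalIdeal C₁) C₁) ⊗[AdicCompletion (maximalIdeal C₁) C₁]
        (AdicCompletion (maximalIdeal C₁) C₁ ⊗[C₁] B₁)) :=
    Groth.Agent.H15.MTHens.isIsotrivial_of_henselian _ _ inferInstance hmt
  obtain ⟨e, he, heI, hH, hiso⟩ := Groth.Agent.H15.MTI.exists_clopen_subgroup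
    (AdicCompletion (maximalIdeal C₁) C₁) (maximalIdeal (AdicCompletion (maximalIdeal C₁) C₁))
    (AdicCompletion (maximalIdeal C₁) C₁ ⊗[C₁] B₁) hft' hfl h0
  exact HasClopen.of_hopfIdeal e he heI hiso

end completion

section main
variable (R : Type u) [CommRing R] [IsLocalRing R] (A : Type u) [CommRing A] [HopfAlgebra R A]

/-- the open and closed subgroup of multiplicative type, after a faithfully flat local base
change -/
theorem exists_cover_hasClopen (hfp : Algebra.FinitePresentation R A)
    (hfl : ∀ (q : Ideal A) [q.IsPrime], (maximalIdeal R).map (algebraMap R A) ≤ q →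
      Module.Flat R (Localization.AtPrime q))
    (hs : IsMultType (ResidueField R) (ResidueField R ⊗[R] A)) :
    ∃ (R'' : Type u) (_ : CommRing R'') (_ : IsLocalRing R'') (_ : Algebra R R''),
      Module.FaithfullyFlat R R'' ∧ HasClopen R'' (maximalIdeal R'') (R'' ⊗[R] A) := by
  obtain ⟨C₁, _, _, _, _, B₁, _, _, hloc, hft, ⟨g, hg, hflat⟩, ⟨Ξ₁⟩⟩ :=
    exists_local_model' R A hfp hfl
  haveI := hloc
  have hκ := isMultType_closedFibre_of_equiv Ξ₁ hs
  have hcl := hasClopen_completion' C₁ B₁ hft hκ g hg hflat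
  obtain ⟨R'', _, _, _, _, _, _, _, hff, hmax⟩ := exists_cover C₁ R
  exact ⟨R'', inferInstance, inferInstance, inferInstance, hff,
    hasClopen_transfer Ξ₁ _ _ hmax hcl⟩

/-- **local core of SGA3 X 4.8, without global flatness** -/
theorem isMultTypeConst_of_isLocalRing_of_idem' (hfp : Algebra.FinitePresentation R A)
    (hfl : ∀ (q : Ideal A) [q.IsPrime], (maximalIdeal R).map (algebraMap R A) ≤ q →
      Module.Flat R (Localization.AtPrime q))
    (hs : IsMultType (ResidueField R) (ResidueField R ⊗[R] A))
    (hz : IdemVanish R A) : IsMultTypeConst R A := by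
  obtain ⟨R'', _, _, _, hff, hcl''⟩ := exists_cover_hasClopen R A hfp hfl hs
  haveI := hff
  have hiso : IsIsotrivial R'' (R'' ⊗[R] A) := hcl''.isIsotrivial (hz R'')
  obtain ⟨T, _, _, -, -, hffT, M, _, ⟨e⟩⟩ := hiso
  haveI := hffT
  letI : Algebra R T := ((algebraMap R'' T).comp (algebraMap R R'')).toAlgebra
  haveI : IsScalarTower R R'' T := IsScalarTower.of_algebraMap_eq fun _ => rfl
  haveI : Module.FaithfullyFlat R T := Module.FaithfullyFlat.trans R R'' T
  have h1 : HasDChart R'' (R'' ⊗[R] A) T M := HasDChart.of_equiv e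
  have h2 : HasDChart R A T M := HasDChart.of_baseChange R'' h1
  exact ⟨T, inferInstance, inferInstance, inferInstance, M, inferInstance,
    (h2.baseChange T).nonempty_equiv⟩

end main

end Groth.Agent.H15.NF
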