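import Groth.Agent.H15.IsoF4

/-! A group of multiplicative type and of finite type over a field is isotrivial: main theorem. -/

set_option autoImplicit false
set_option linter.style.haveILetI false
universe u
open TensorProduct Coalgebra

namespace Groth.Agent.H15.IsoF
open Groth.Agent.H26 Groth.Agent.H15.MTC

section core

variable {k : Type u} [Field k] {A : Type u} [CommRing A] [HopfAlgebra k A]
  {K : Type u} [Field K] [Algebra k K] {N : Type u} [CommGroup N]

/-- preimages of the group-like generators over a field containing their coordinates -/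
theorem exists_preimage (F : IntermediateField k K) (L' : A →ₐ[k] MonoidAlgebra K N)
    (hbc : IsBaseChange K L'.toLinearMap) {κ : Type*} (b : Module.Basis κ k A) (n : N)
    (hmemF : ∀ i, (hbc.basis b).repr (MonoidAlgebra.single n 1) i ∈ F) :
    ∃ x : F ⊗[k] A, liftAlg F L' x = MonoidAlgebra.single n 1 ∧
      ∀ i, ((Algebra.TensorProduct.basis F b).repr x i : K) =
        (hbc.basis b).repr (MonoidAlgebra.single n 1) i := by
  classical
  set cf := (hbc.basis b).repr (MonoidAlgebra.single n 1) with hcf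
  refine ⟨∑ i ∈ cf.support, (⟨cf i, hmemF i⟩ : F) ⊗ₜ[k] b i, ?_, ?_⟩
  · simp only [map_sum, liftAlg_tmul]
    have h1 := (hbc.basis b).linearCombination_repr (MonoidAlgebra.single n (1 : K))
    rw [Finsupp.linearCombination_apply, Finsupp.sum] at h1
    rw [← h1]
    apply Finset.sum_congr rfl
    intro i _
    simp only [IsBaseChange.basis_apply]
    rfl
  · intro i
    simp only [map_sum, Finsupp.coe_finsetSum, Finset.sum_apply,
      Algebra.TensorProduct.basis_repr_tmul, Module.Basis.repr_self, Finsupp.mapRange_single,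
      map_one, Finsupp.smul_single, smul_eq_mul, mul_one]
    by_cases hi : i ∈ cf.support
    · rw [Finset.sum_eq_single i]
      · simp
      · intro j _ hji
        simp [Finsupp.single_apply, hji]
      · intro hi'
        exact absurd hi hi'
    · rw [Finsupp.notMem_support_iff.mp hi]
      rw [Finset.sum_eq_zero]
      · rfl
      · intro j hj
        have : j ≠ i := fun h => hi (h ▸ hj)
        simp [Finsupp.single_apply, this]

/-- diagonalisable over a field containing the coordinates of the generators -/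
theorem isDiagFT_of_coords (F : IntermediateField k K) (L' : A →ₐ[k] MonoidAlgebra K N)
    (hco : IsCoalgMapOver K L'.toLinearMap) (hbc : IsBaseChange K L'.toLinearMap)
    {κ : Type*} (b : Module.Basis κ k A) (S₀ : Set N) (hS₀ : Submonoid.closure S₀ = ⊤)
    (hNfg : Group.FG N)
    (hmemF : ∀ n ∈ S₀, ∀ i, (hbc.basis b).repr (MonoidAlgebra.single n 1) i ∈ F) :
    SGA3b.IsDiagFT F (F ⊗[k] A) := by
  apply isDiagFT_of_chart (liftAlg F L') (isCoalgMapOver_liftAlg F hco)
    (isBaseChange_liftAlg F hbc) S₀ hS₀ hNfg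
  intro n hn
  obtain ⟨x, hx, -⟩ := exists_preimage F L' hbc b n (hmemF n hn)
  exact ⟨x, hx⟩

/-- derivations kill the coordinates of the generators -/
theorem derivation_coord_eq_zero {ι : Type u} [Fintype ι] {c : ι → Chart k A}
    (hc : ∀ (J : Ideal k) (x : k),
      (∀ i, algebraMap k (c i).R' x ∈ J.map (algebraMap k (c i).R')) → x ∈ J)
    (F : IntermediateField k K) (L' : A →ₐ[k] MonoidAlgebra K N)
    (hco : IsCoalgMapOver K L'.toLinearMap) (hbc : IsBaseChange K L'.toLinearMap)
    {κ : Type*} (b : Module.Basis κ k A) (n : N)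
    (hmemF : ∀ i, (hbc.basis b).repr (MonoidAlgebra.single n 1) i ∈ F)
    (D : Derivation k F F) (i : κ) :
    D ⟨(hbc.basis b).repr (MonoidAlgebra.single n 1) i, hmemF i⟩ = 0 := by
  obtain ⟨x, hx, hrepr⟩ := exists_preimage F L' hbc b n hmemF
  have hgl : IsGroupLikeElem F x :=
    isGroupLikeElem_of_chart (liftAlg F L') (isCoalgMapOver_liftAlg F hco)
      (isBaseChange_liftAlg F hbc) (by
        rw [hx]
        exact MonoidAlgebra.isGroupLikeElem_single_one n)
  have h1 := derivation_repr_eq_zero hc D b hgl i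
  have h2 : (Algebra.TensorProduct.basis F b).repr x i =
      ⟨(hbc.basis b).repr (MonoidAlgebra.single n 1) i, hmemF i⟩ := Subtype.ext (hrepr i)
  rw [h2] at h1
  exact h1

theorem isotrivial_of_chart {ι : Type u} [Fintype ι] {c : ι → Chart k A}
    (hc : ∀ (J : Ideal k) (x : k),
      (∀ i, algebraMap k (c i).R' x ∈ J.map (algebraMap k (c i).R')) → x ∈ J)
    (hNfg : Group.FG N) (L' : A →ₐ[k] MonoidAlgebra K N)
    (hco : IsCoalgMapOver K L'.toLinearMap) (hbc : IsBaseChange K L'.toLinearMap) :
    ∃ (k' : Type u) (_ : Field k') (_ : Algebra k k'), Module.Finite k k' ∧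
      Algebra.IsSeparable k k' ∧ SGA3b.IsDiagFT k' (k' ⊗[k] A) := by
  classical
  obtain ⟨S₀, hS₀⟩ := (Monoid.fg_def.mp (Group.fg_iff_monoid_fg.mp hNfg))
  let b := Module.Free.chooseBasis k A
  let coord : N → (Module.Free.ChooseBasisIndex k A →₀ K) :=
    fun n => (hbc.basis b).repr (MonoidAlgebra.single n 1)
  let Sset : Finset K := S₀.biUnion (fun n => (coord n).support.image (coord n))
  have hmemF : ∀ n ∈ S₀, ∀ i, coord n i ∈ IntermediateField.adjoin k (Sset : Set K) := by
    intro n hn i
    by_cases hi : i ∈ (coord n).support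
    · apply IntermediateField.subset_adjoin
      simp only [Sset, Finset.coe_biUnion, Finset.coe_image, Set.mem_iUnion, Set.mem_image,
        Finset.mem_coe]
      exact ⟨n, hn, i, hi, rfl⟩
    · rw [Finsupp.notMem_support_iff.mp hi]
      exact zero_mem _
  have hD : ∀ D : Derivation k (IntermediateField.adjoin k (Sset : Set K))
      (IntermediateField.adjoin k (Sset : Set K)),
      ∀ s (hs : s ∈ (Sset : Set K)), D ⟨s, IntermediateField.subset_adjoin k _ hs⟩ = 0 := by
    intro D s hs
    have hs' := hs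
    simp only [Sset, Finset.coe_biUnion, Finset.coe_image, Set.mem_iUnion, Set.mem_image,
      Finset.mem_coe] at hs'
    obtain ⟨n, hn, i, hi, rfl⟩ := hs'
    exact derivation_coord_eq_zero hc _ L' hco hbc b n (hmemF n hn) D i
  obtain ⟨hfin, hsep⟩ := finite_separable_of_derivations Sset hD
  exact ⟨IntermediateField.adjoin k (Sset : Set K), inferInstance, inferInstance, hfin, hsep,
    isDiagFT_of_coords _ L' hco hbc b (S₀ : Set N) hS₀ hNfg hmemF⟩

end core

theorem isotrivial_of_field (k : Type u) [Field k] (A : Type u) [CommRing A] [HopfAlgebra k A]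
    (hft : Algebra.FiniteType k A) (h : SGA3b.IsMultType k A) :
    ∃ (k' : Type u) (_ : Field k') (_ : Algebra k k'), Module.Finite k k' ∧
      Algebra.IsSeparable k k' ∧ SGA3b.IsDiagFT k' (k' ⊗[k] A) := by
  obtain ⟨ι, hι, c, hc⟩ := exists_atlas k A h
  obtain ⟨R', hR', hA', N, hN, L, hFF, hL⟩ := exists_ff_chart_of_isLocalRing k A h
  haveI : Nontrivial R' := by
    haveI : Nontrivial (R' ⊗[k] k) := inferInstance
    exact (TensorProduct.rid k R').symm.toEquiv.nontrivial
  obtain ⟨m, hm⟩ := Ideal.exists_maximal R'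
  letI : Field (R' ⧸ m) := Ideal.Quotient.field m
  have hK0 : HasDChart k A R' N := ⟨L, hL.coalg, hL.bc⟩
  have hK : HasDChart k A (R' ⧸ m) N := hK0.map (R' ⧸ m)
  have hNfg : Group.FG N := by
    obtain ⟨e⟩ := (hK.baseChange (R' ⧸ m)).nonempty_equiv
    haveI : Algebra.FiniteType k A := hft
    have h1 : Algebra.FiniteType (R' ⧸ m) ((R' ⧸ m) ⊗[k] A) := inferInstance
    have h2 : Algebra.FiniteType (R' ⧸ m) (MonoidAlgebra (R' ⧸ m) N) :=
      h1.equiv (e : (R' ⧸ m) ⊗[k] A ≃ₐ[R' ⧸ m] MonoidAlgebra (R' ⧸ m) N)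
    exact MonoidAlgebra.finiteType_iff_group_fg.mp h2
  obtain ⟨L', hco, hbc⟩ := hK
  exact isotrivial_of_chart hc hNfg L' hco hbc

end Groth.Agent.H15.IsoF
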