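import Groth.Agent.H15.MTFlat3
import Groth.Agent.H15.IsoF5

/-!
# Flat affine groups over an Artinian local ring with closed fibre of multiplicative type
-/

set_option autoImplicit false
set_option linter.style.haveILetI false
universe u
open TensorProduct Coalgebra

namespace Groth.Agent.H15.MTF
open Groth.Agent.H26 Groth.Agent.H15.GLD Groth.Agent.H15.MTC

attribute [local instance] Algebra.TensorProduct.rightAlgebra

section const
variable {R : Type u} [CommRing R] {A : Type u} [CommRing A] [HopfAlgebra R A]

/-- constant multiplicative type is stable under base change -/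
theorem isMultTypeConst_baseChange (h : SGA3b.IsMultTypeConst R A) (L : Type u) [CommRing L]
    [Algebra R L] : SGA3b.IsMultTypeConst L (L ⊗[R] A) := by
  obtain ⟨R', _, _, hff, M, _, ⟨e⟩⟩ := h
  haveI := hff
  have h1 : HasDChart R A R' M := HasDChart.of_equiv e
  have h2 : HasDChart R A (L ⊗[R] R') M := h1.map (L ⊗[R] R')
  have h3 : HasDChart L (L ⊗[R] A) (L ⊗[R] R') M := h2.baseChange L
  have h4 : HasDChart (L ⊗[R] R') ((L ⊗[R] R') ⊗[L] (L ⊗[R] A)) (L ⊗[R] R') M :=
    h3.baseChange (L ⊗[R] R')
  exact ⟨L ⊗[R] R', inferInstance, inferInstance, inferInstance, M, inferInstance, h4.nonempty_equiv⟩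

theorem isMultType_of_isMultTypeConst (h : SGA3b.IsMultTypeConst R A) : SGA3b.IsMultType R A := by
  refine ⟨{1}, by rw [Ideal.span_singleton_one], ?_⟩
  intro f _
  exact isMultTypeConst_baseChange h _

theorem isMultType_of_isIsotrivial (h : SGA3b.IsIsotrivial R A) : SGA3b.IsMultType R A := by
  obtain ⟨R', _, _, -, -, hff, hd⟩ := h
  exact isMultType_of_isMultTypeConst ⟨R', inferInstance, inferInstance, hff, hd⟩

end const

section artin
variable (A : Type u) [CommRing A] [IsArtinianRing A] [IsLocalRing A]
  (C : Type u) [CommRing C] [HopfAlgebra A C] [Module.Flat A C]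

theorem isIsotrivial_of_isArtinian_of_fibre (hft : Algebra.FiniteType A C)
    (h0 : SGA3b.IsMultType (IsLocalRing.ResidueField A) (IsLocalRing.ResidueField A ⊗[A] C)) :
    SGA3b.IsMultType A C ∧ SGA3b.IsIsotrivial A C := by
  have hft0 : Algebra.FiniteType (IsLocalRing.ResidueField A) (IsLocalRing.ResidueField A ⊗[A] C) :=
    inferInstance
  obtain ⟨k', _, _, hfin, hsep, M, _, -, ⟨e₀⟩⟩ :=
    Groth.Agent.H15.IsoF.isotrivial_of_field (IsLocalRing.ResidueField A) _ hft0 h0
  letI : Algebra A k' :=
    ((algebraMap (IsLocalRing.ResidueField A) k').comp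
      (algebraMap A (IsLocalRing.ResidueField A))).toAlgebra
  haveI : IsScalarTower A (IsLocalRing.ResidueField A) k' :=
    IsScalarTower.of_algebraMap_eq fun _ => rfl
  haveI : Algebra.FormallyEtale (IsLocalRing.ResidueField A) k' :=
    Algebra.FormallyEtale.of_isSeparable _ _
  haveI : Algebra.FinitePresentation (IsLocalRing.ResidueField A) k' := by
    have : Algebra.FiniteType (IsLocalRing.ResidueField A) k' := inferInstance
    exact Algebra.FinitePresentation.of_finiteType.mp this
  haveI : Algebra.Etale (IsLocalRing.ResidueField A) k' := {}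
  haveI : Module.FaithfullyFlat (IsLocalRing.ResidueField A) k' := inferInstance
  have h1 : HasDChart (IsLocalRing.ResidueField A) (IsLocalRing.ResidueField A ⊗[A] C) k' M :=
    HasDChart.of_equiv e₀
  have h2 : HasDChart A C k' M := HasDChart.of_baseChange (IsLocalRing.ResidueField A) h1
  have hker : IsNilpotent (RingHom.ker (algebraMap A (IsLocalRing.ResidueField A))) := by
    have h3 : RingHom.ker (algebraMap A (IsLocalRing.ResidueField A)) =
        IsLocalRing.maximalIdeal A := IsLocalRing.ker_residue
    rw [h3, ← IsLocalRing.jacobson_eq_maximalIdeal (⊥ : Ideal A) bot_ne_top]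
    exact IsArtinianRing.isNilpotent_jacobson_bot
  obtain ⟨S, _, _, hSet, hSff, hSfin, ⟨e⟩⟩ := exists_etale_lift_split_flat
    (R := A) (A := C) (Rb := IsLocalRing.ResidueField A) (Rb' := k')
    IsLocalRing.residue_surjective hker h2
  have hiso : SGA3b.IsIsotrivial A C :=
    ⟨S, inferInstance, inferInstance, hSet, hSfin hfin, hSff inferInstance, M, inferInstance, ⟨e⟩⟩
  exact ⟨isMultType_of_isIsotrivial hiso, hiso⟩

end artin

end Groth.Agent.H15.MTF
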