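import Groth.Agent.H15.MultType
import Mathlib.RingTheory.Jacobson.Ring
import Mathlib.RingTheory.Filtration
import Mathlib.RingTheory.Localization.Away.AdjoinRoot
import Mathlib.FieldTheory.Finite.Basic

/-!
# Schematic density of the torsion subgroups of a group of multiplicative type

For `G = Spec A` of multiplicative type and of finite type over `R`, the kernels `ₙG` of the `n`-th
power maps are schematically dense: `MT.dense_of_isMultType`, `MT.iInf_eq_bot_of_dense`.
The proof reduces (Zariski locally, by faithfully flat descent, and by restricting the coefficients to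
a finitely generated subring) to a group algebra `S₀[M]` over a finitely generated `ℤ`-algebra, where
the closed points have finite residue fields, hence are torsion points, and Krull's intersection
theorem applies.
-/

set_option autoImplicit false
set_option linter.style.haveILetI false
universe u
open TensorProduct WithConv Coalgebra

namespace Groth.Agent.H15.MT

section ga2
variable (S : Type u) [CommRing S] (M : Type u) [CommGroup M]

/-- the ideal generated by the `[g^n] - 1`. -/
noncomputable def powIdeal (n : ℕ) : Ideal (MonoidAlgebra S M) :=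
  Ideal.span (Set.range fun g : M => MonoidAlgebra.single (g ^ n) (1 : S) - 1)

theorem powConv_single' (n : ℕ) (m : M) (r : S) :
    SGA3b.powConv S (MonoidAlgebra S M) n (MonoidAlgebra.single m r) =
      MonoidAlgebra.single (m ^ n) r := by
  have h1 : MonoidAlgebra.single m r = r • MonoidAlgebra.single m (1 : S) := by
    rw [MonoidAlgebra.smul_single, smul_eq_mul, mul_one]
  rw [h1, map_smul, powConv_single, MonoidAlgebra.smul_single, smul_eq_mul, mul_one]

theorem torsionIdeal_monoidAlgebra_eq (n : ℕ) :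
    SGA3b.torsionIdeal S (MonoidAlgebra S M) n = powIdeal S M n := by
  apply le_antisymm
  · unfold SGA3b.torsionIdeal
    rw [Ideal.map_le_iff_le_comap]
    have key : ∀ x : MonoidAlgebra S M, SGA3b.powConv S (MonoidAlgebra S M) n x -
        algebraMap S (MonoidAlgebra S M) (counit (R := S) x) ∈ powIdeal S M n := by
      intro x
      induction x using MonoidAlgebra.induction_linear with
      | zero => simp
      | add x y hx hy =>
        have : SGA3b.powConv S (MonoidAlgebra S M) n (x + y) -
            algebraMap S (MonoidAlgebra S M) (counit (R := S) (x + y)) =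
            (SGA3b.powConv S (MonoidAlgebra S M) n x -
              algebraMap S (MonoidAlgebra S M) (counit (R := S) x)) +
            (SGA3b.powConv S (MonoidAlgebra S M) n y -
              algebraMap S (MonoidAlgebra S M) (counit (R := S) y)) := by
          rw [map_add, map_add, map_add]; ring
        rw [this]
        exact add_mem hx hy
      | single m r =>
        rw [powConv_single']
        have : MonoidAlgebra.single (m ^ n) r -
            algebraMap S (MonoidAlgebra S M) (counit (R := S) (MonoidAlgebra.single m r)) =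
            r • (MonoidAlgebra.single (m ^ n) (1 : S) - 1) := by
          rw [smul_sub, MonoidAlgebra.smul_single, smul_eq_mul, mul_one,
            MonoidAlgebra.counit_single, Algebra.algebraMap_eq_smul_one]
          simp
        rw [this]
        exact Submodule.smul_of_tower_mem _ r (Ideal.subset_span ⟨m, rfl⟩)
    intro x hx
    have hx' : counit (R := S) x = 0 := hx
    have := key x
    rw [hx', map_zero, sub_zero] at this
    exact this
  · unfold powIdeal
    rw [Ideal.span_le]
    rintro _ ⟨g, rfl⟩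
    have h1 : MonoidAlgebra.single (g ^ n) (1 : S) - 1 =
        SGA3b.powConv S (MonoidAlgebra S M) n (MonoidAlgebra.single g 1 - 1) := by
      rw [map_sub, map_one, powConv_single]
    change MonoidAlgebra.single (g ^ n) (1 : S) - 1 ∈ _
    rw [h1]
    apply Ideal.mem_map_of_mem
    simp [RingHom.mem_ker, MonoidAlgebra.one_def]

/-- the subgroup of `n`-th powers. -/
def powSubgroup (n : ℕ) : Subgroup M := (powMonoidHom n : M →* M).range

/-- the projection `S[M] → S[M / M^n]`. -/
noncomputable def quotMap (n : ℕ) : MonoidAlgebra S M →+* MonoidAlgebra S (M ⧸ powSubgroup M n) :=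
  MonoidAlgebra.mapDomainRingHom S (QuotientGroup.mk' (powSubgroup M n))

theorem powIdeal_le_ker (n : ℕ) : powIdeal S M n ≤ RingHom.ker (quotMap S M n) := by
  unfold powIdeal
  rw [Ideal.span_le]
  rintro _ ⟨g, rfl⟩
  change quotMap S M n (MonoidAlgebra.single (g ^ n) (1 : S) - 1) = 0
  have : (QuotientGroup.mk' (powSubgroup M n)) (g ^ n) = 1 := by
    rw [QuotientGroup.mk'_apply, QuotientGroup.eq_one_iff]
    exact ⟨g, rfl⟩
  rw [map_sub, map_one]
  simp only [quotMap, MonoidAlgebra.mapDomainRingHom_apply, MonoidAlgebra.mapDomain_single]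
  rw [this, MonoidAlgebra.one_def, sub_self]

theorem ker_le_powIdeal (n : ℕ) : RingHom.ker (quotMap S M n) ≤ powIdeal S M n := by
  let L : MonoidAlgebra S (M ⧸ powSubgroup M n) →ₗ[S] MonoidAlgebra S M :=
    MonoidAlgebra.mapDomainLinearMap S S (Quotient.out)
  have key : ∀ x : MonoidAlgebra S M, x - L (quotMap S M n x) ∈ powIdeal S M n := by
    intro x
    induction x using MonoidAlgebra.induction_linear with
    | zero => simp
    | add x y hx hy =>
      have : x + y - L (quotMap S M n (x + y)) =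
          (x - L (quotMap S M n x)) + (y - L (quotMap S M n y)) := by
        rw [map_add, map_add]; abel
      rw [this]
      exact add_mem hx hy
    | single m r =>
      have h1 : L (quotMap S M n (MonoidAlgebra.single m r)) =
          MonoidAlgebra.single (Quotient.out (QuotientGroup.mk' (powSubgroup M n) m)) r := by
        simp only [quotMap, MonoidAlgebra.mapDomainRingHom_apply, MonoidAlgebra.mapDomain_single, L,
          MonoidAlgebra.mapDomainLinearMap_single]
      obtain ⟨⟨h, g, rfl⟩, hh⟩ := QuotientGroup.mk_out_eq_mul (powSubgroup M n) m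
      rw [h1]
      change MonoidAlgebra.single m r - MonoidAlgebra.single
        (Quotient.out (QuotientGroup.mk (s := powSubgroup M n) m)) r ∈ _
      rw [hh]
      have h2 : MonoidAlgebra.single m r - MonoidAlgebra.single (m * (powMonoidHom n) g) r =
          - (MonoidAlgebra.single m r * (MonoidAlgebra.single (g ^ n) (1 : S) - 1)) := by
        rw [mul_sub, MonoidAlgebra.single_mul_single, mul_one, mul_one]
        simp
      rw [h2]
      exact neg_mem (Ideal.mul_mem_left _ _ (Ideal.subset_span ⟨g, rfl⟩))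
  intro x hx
  have hx' : quotMap S M n x = 0 := hx
  have := key x
  rwa [hx', map_zero, sub_zero] at this

theorem ker_quotMap (n : ℕ) : RingHom.ker (quotMap S M n) = powIdeal S M n :=
  le_antisymm (ker_le_powIdeal S M n) (powIdeal_le_ker S M n)

variable {S} in
theorem mapRingHom_injective {S₀ : Type u} [CommRing S₀] (N : Type u) [CommGroup N]
    (ι : S₀ →+* S) (hι : Function.Injective ι) :
    Function.Injective (MonoidAlgebra.mapRingHom N ι) := by
  intro x y hxy
  rw [← MonoidAlgebra.coeff_inj]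
  ext m
  apply hι
  rw [← MonoidAlgebra.coeff_mapRingHom, ← MonoidAlgebra.coeff_mapRingHom, hxy]

variable {S} in
theorem mem_powIdeal_of_map_mem {S₀ : Type u} [CommRing S₀] (ι : S₀ →+* S)
    (hι : Function.Injective ι) (n : ℕ) (z : MonoidAlgebra S₀ M)
    (h : MonoidAlgebra.mapRingHom M ι z ∈ powIdeal S M n) : z ∈ powIdeal S₀ M n := by
  rw [← ker_quotMap] at h ⊢
  have h' : quotMap S M n (MonoidAlgebra.mapRingHom M ι z) = 0 := h
  change quotMap S₀ M n z = 0
  apply mapRingHom_injective _ ι hι
  rw [map_zero, ← h']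
  have := MonoidAlgebra.mapRingHom_comp_mapDomainRingHom (M := M) ι
    (QuotientGroup.mk' (powSubgroup M n))
  exact congrArg (fun φ => φ z) this

end ga2

/-- `ℤ` is a Jacobson ring. -/
theorem int_isJacobsonRing : IsJacobsonRing ℤ := by
  rw [isJacobsonRing_iff_prime_eq]
  intro P hP
  by_cases h0 : P = ⊥
  · subst h0
    rw [eq_bot_iff]
    intro x hx
    rw [Ideal.mem_jacobson_bot] at hx
    have h1 := hx x
    rw [Int.isUnit_iff] at h1
    have hx2 : x * x = 0 := by
      rcases h1 with h1 | h1
      · linarith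
      · nlinarith [mul_self_nonneg x]
    simpa using hx2
  · haveI := IsPrime.to_maximal_ideal h0
    exact Ideal.jacobson_eq_self_of_isMaximal

/-- a field which is a finitely generated `ℤ`-module is finite. -/
theorem finite_of_field_of_finite_int (K : Type u) [Field K] {inst : Module ℤ K}
    (h : @Module.Finite ℤ K _ _ inst) : Finite K := by
  obtain rfl : inst = AddCommGroup.toIntModule K := Subsingleton.elim _ _
  obtain ⟨p, hp⟩ := CharP.exists K
  have hp0 : p ≠ 0 := by
    rintro rfl
    haveI : CharZero K := CharP.charP_to_charZero K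
    haveI : Algebra.IsIntegral ℤ K := Algebra.IsIntegral.of_finite ℤ K
    exact Int.not_isField (isField_of_isIntegral_of_isField
      (FaithfulSMul.algebraMap_injective ℤ K) (Field.toIsField K))
  haveI : AddGroup.FG K := Module.Finite.iff_addGroup_fg.mp h
  refine AddCommGroup.finite_of_fg_isAddTorsion (G := K) fun x => ?_
  rw [isOfFinAddOrder_iff_nsmul_eq_zero]
  refine ⟨p, Nat.pos_of_ne_zero hp0, ?_⟩
  rw [nsmul_eq_mul, CharP.cast_eq_zero K p, zero_mul]

/-- the binomial estimate: if `c ∈ I` and `u ≡ 1 mod I` then `u^(c^e) ≡ 1 mod I^(e+1)`. -/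
theorem pow_pow_sub_one_mem {B : Type u} [CommRing B] (I : Ideal B) (c : ℕ) (hc : (c : B) ∈ I)
    (u : B) (hu : u - 1 ∈ I) (e : ℕ) : u ^ (c ^ e) - 1 ∈ I ^ (e + 1) := by
  induction e with
  | zero => simpa using hu
  | succ e ih =>
    set v := u ^ (c ^ e) with hv
    have h1 : u ^ (c ^ (e + 1)) - 1 = (∑ i ∈ Finset.range c, v ^ i) * (v - 1) := by
      rw [geom_sum_mul, hv, ← pow_mul, pow_succ]
    have hv1 : v - 1 ∈ I := Ideal.pow_le_self (Nat.succ_ne_zero e) ih
    have h2 : (∑ i ∈ Finset.range c, v ^ i) ∈ I := by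
      rw [← Ideal.Quotient.eq_zero_iff_mem, map_sum]
      have hv' : Ideal.Quotient.mk I v = 1 := by
        rw [← sub_eq_zero, ← map_one (Ideal.Quotient.mk I), ← map_sub,
          Ideal.Quotient.eq_zero_iff_mem]
        exact hv1
      simp only [map_pow, hv', one_pow, Finset.sum_const, Finset.card_range, nsmul_eq_mul, mul_one]
      rw [← map_natCast (Ideal.Quotient.mk I), Ideal.Quotient.eq_zero_iff_mem]
      exact hc
    rw [h1, pow_succ' I (e + 1)]
    exact Ideal.mul_mem_mul h2 ih

/-- the Noetherian core: over a finitely generated `ℤ`-algebra, the torsion subgroups of a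
diagonalisable group of finite type are schematically dense. -/
theorem core (S₀ : Type u) [CommRing S₀] [Algebra.FiniteType ℤ S₀] (M : Type u) [CommGroup M]
    [Group.FG M] (a y : MonoidAlgebra S₀ M)
    (h : ∀ n : ℕ, 0 < n → ∃ j : ℕ, a ^ j * y ∈ powIdeal S₀ M n) : ∃ j : ℕ, a ^ j * y = 0 := by
  haveI := int_isJacobsonRing
  haveI : Monoid.FG M := Group.fg_iff_monoid_fg.mp inferInstance
  haveI : Algebra.FiniteType ℤ (MonoidAlgebra S₀ M) :=
    Algebra.FiniteType.trans (S := S₀) inferInstance inferInstance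
  let B := Localization.Away a
  haveI : Algebra.FinitePresentation (MonoidAlgebra S₀ M) B :=
    IsLocalization.Away.finitePresentation a
  haveI : Algebra.FiniteType (MonoidAlgebra S₀ M) B := inferInstance
  haveI hBft : Algebra.FiniteType ℤ B :=
    Algebra.FiniteType.trans (S := MonoidAlgebra S₀ M) inferInstance inferInstance
  haveI : IsNoetherianRing B := Algebra.FiniteType.isNoetherianRing ℤ B
  set y' : B := algebraMap _ B y with hy'
  suffices hy0 : y' = 0 by
    rw [hy', IsLocalization.map_eq_zero_iff (Submonoid.powers a)] at hy0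
    obtain ⟨⟨_, j, rfl⟩, hj⟩ := hy0
    exact ⟨j, hj⟩
  by_contra hne
  -- the annihilator of `y'`
  let J : Ideal B := LinearMap.ker (LinearMap.toSpanSingleton B B y')
  have hJ : ∀ r : B, r ∈ J ↔ r * y' = 0 := by
    intro r
    simp [J, LinearMap.mem_ker, LinearMap.toSpanSingleton_apply]
  have hJtop : J ≠ ⊤ := by
    intro htop
    have : (1 : B) ∈ J := htop ▸ Submodule.mem_top
    rw [hJ, one_mul] at this
    exact hne this
  obtain ⟨𝔪, h𝔪, hJ𝔪⟩ := Ideal.exists_le_maximal J hJtop
  letI : Field (B ⧸ 𝔪) := Ideal.Quotient.field 𝔪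
  haveI : Algebra.FiniteType ℤ (B ⧸ 𝔪) :=
    Algebra.FiniteType.of_surjective (Ideal.Quotient.mkₐ ℤ 𝔪) (Ideal.Quotient.mkₐ_surjective ℤ 𝔪)
  haveI : Finite (B ⧸ 𝔪) := finite_of_field_of_finite_int (B ⧸ 𝔪)
    (finite_of_finite_type_of_isJacobsonRing ℤ (B ⧸ 𝔪))
  set c := Nat.card (B ⧸ 𝔪) with hc
  set N := Nat.card (B ⧸ 𝔪)ˣ with hN
  have hcpos : 0 < c := Nat.card_pos
  have hNpos : 0 < N := Nat.card_pos
  have hc𝔪 : (c : B) ∈ 𝔪 := by
    rw [← Ideal.Quotient.eq_zero_iff_mem, map_natCast, hc]
    have := card_nsmul_eq_zero' (G := B ⧸ 𝔪) (x := 1)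
    simpa [nsmul_eq_mul] using this
  -- the images of the group elements
  have hu : ∀ g : M, (algebraMap (MonoidAlgebra S₀ M) B (MonoidAlgebra.single g 1)) ^ N - 1 ∈ 𝔪 := by
    intro g
    have hunit : IsUnit (MonoidAlgebra.single g (1 : S₀)) := by
      refine IsUnit.of_mul_eq_one (MonoidAlgebra.single g⁻¹ (1 : S₀)) ?_
      rw [MonoidAlgebra.single_mul_single, mul_inv_cancel, mul_one, MonoidAlgebra.one_def]
    have hunit' : IsUnit (Ideal.Quotient.mk 𝔪
        (algebraMap (MonoidAlgebra S₀ M) B (MonoidAlgebra.single g 1))) :=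
      (hunit.map _).map _
    obtain ⟨w, hw⟩ := hunit'
    rw [← Ideal.Quotient.eq_zero_iff_mem, map_sub, map_pow, map_one, ← hw, ← Units.val_pow_eq_pow_val,
      hN, pow_card_eq_one', Units.val_one, sub_self]
  have hmem : ∀ e : ℕ, y' ∈ 𝔪 ^ (e + 1) := by
    intro e
    obtain ⟨j, hj⟩ := h (N * c ^ e) (Nat.mul_pos hNpos (pow_pos hcpos e))
    have h1 : Ideal.map (algebraMap (MonoidAlgebra S₀ M) B) (powIdeal S₀ M (N * c ^ e)) ≤
        𝔪 ^ (e + 1) := by
      unfold powIdeal
      rw [Ideal.map_span, Ideal.span_le]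
      rintro _ ⟨_, ⟨g, rfl⟩, rfl⟩
      have h2 : algebraMap (MonoidAlgebra S₀ M) B (MonoidAlgebra.single (g ^ (N * c ^ e)) 1 - 1) =
          ((algebraMap (MonoidAlgebra S₀ M) B (MonoidAlgebra.single g 1)) ^ N) ^ (c ^ e) - 1 := by
        rw [map_sub, map_one, ← pow_mul, ← map_pow, MonoidAlgebra.single_pow, one_pow]
      rw [SetLike.mem_coe, h2]
      exact pow_pow_sub_one_mem 𝔪 c hc𝔪 _ (hu g) e
    have h3 : algebraMap (MonoidAlgebra S₀ M) B (a ^ j * y) ∈ 𝔪 ^ (e + 1) :=
      h1 (Ideal.mem_map_of_mem _ hj)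
    rw [map_mul, map_pow] at h3
    have hau : IsUnit (algebraMap (MonoidAlgebra S₀ M) B a ^ j) :=
      (IsLocalization.Away.algebraMap_isUnit a).pow j
    exact (Ideal.unit_mul_mem_iff_mem _ hau).mp h3
  have hinf : y' ∈ (⨅ i : ℕ, 𝔪 ^ i • ⊤ : Submodule B B) := by
    rw [Submodule.mem_iInf]
    intro i
    rw [smul_eq_mul, Ideal.mul_top]
    exact Ideal.pow_le_pow_right (Nat.le_succ i) (hmem i)
  obtain ⟨⟨r, hr⟩, hr2⟩ := (Ideal.mem_iInf_smul_pow_eq_bot_iff 𝔪 y').mp hinf
  have h4 : (1 - r) ∈ J := by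
    rw [hJ, sub_mul, one_mul, sub_eq_zero]
    exact hr2.symm
  have h5 : (1 : B) ∈ 𝔪 := by
    have := add_mem (hJ𝔪 h4) hr
    simpa using this
  exact h𝔪.ne_top ((Ideal.eq_top_iff_one _).mpr h5)

/-- lifting an element of the group algebra to a subring containing its coefficients. -/
theorem exists_lift {S : Type u} [CommRing S] (M : Type u) [CommGroup M] (T : Subalgebra ℤ S)
    (x : MonoidAlgebra S M) (hx : ∀ m, x.coeff m ∈ T) :
    ∃ x₀ : MonoidAlgebra T M, MonoidAlgebra.mapRingHom M T.val.toRingHom x₀ = x := by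
  classical
  refine ⟨MonoidAlgebra.ofCoeff (Finsupp.onFinset x.coeff.support (fun m => ⟨x.coeff m, hx m⟩) ?_), ?_⟩
  · intro m hm
    rw [Finsupp.mem_support_iff]
    intro h0
    apply hm
    exact Subtype.ext h0
  · rw [← MonoidAlgebra.coeff_inj]
    ext m
    rw [MonoidAlgebra.coeff_mapRingHom]
    simp

/-- schematic density of the torsion subgroups in a diagonalisable group of finite type over an
arbitrary base ring. -/
theorem dense_monoidAlgebra (S : Type u) [CommRing S] (M : Type u) [CommGroup M]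
    [Group.FG M] (a y : MonoidAlgebra S M)
    (h : ∀ n : ℕ, 0 < n → ∃ j : ℕ, a ^ j * y ∈ powIdeal S M n) : ∃ j : ℕ, a ^ j * y = 0 := by
  classical
  let s : Finset S := (a.coeff.support.image a.coeff) ∪ (y.coeff.support.image y.coeff)
  let T : Subalgebra ℤ S := Algebra.adjoin ℤ (s : Set S)
  have hcoef : ∀ (x : MonoidAlgebra S M), (x.coeff.support.image x.coeff : Set S) ⊆ s →
      ∀ m, x.coeff m ∈ T := by
    intro x hxs m
    by_cases hm : x.coeff m = 0
    · rw [hm]; exact T.zero_mem
    · apply Algebra.subset_adjoin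
      apply hxs
      rw [Finset.coe_image]
      exact ⟨m, by simpa using hm, rfl⟩
  obtain ⟨a₀, ha₀⟩ := exists_lift M T a (hcoef a (by simp [s]))
  obtain ⟨y₀, hy₀⟩ := exists_lift M T y (hcoef y (by simp [s]))
  haveI : Algebra.FiniteType ℤ T :=
    (Subalgebra.fg_iff_finiteType T).mp (Subalgebra.fg_adjoin_finset s)
  have hinj : Function.Injective T.val.toRingHom := Subtype.val_injective
  have key := core T M a₀ y₀ (fun n hn => by
    obtain ⟨j, hj⟩ := h n hn
    refine ⟨j, mem_powIdeal_of_map_mem M T.val.toRingHom hinj n _ ?_⟩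
    rw [map_mul, map_pow, ha₀, hy₀]
    exact hj)
  obtain ⟨j, hj⟩ := key
  refine ⟨j, ?_⟩
  rw [← ha₀, ← hy₀, ← map_pow, ← map_mul, hj, map_zero]

/-- schematic density of the torsion subgroups, in elementary form. -/
def Dense (R : Type u) [CommRing R] (A : Type u) [CommRing A] [HopfAlgebra R A] : Prop :=
  ∀ a y : A, (∀ n : ℕ, 0 < n → ∃ j : ℕ, a ^ j * y ∈ SGA3b.torsionIdeal R A n) →
    ∃ j : ℕ, a ^ j * y = 0

section dense
variable {R : Type u} [CommRing R] {A B : Type u} [CommRing A] [CommRing B] [HopfAlgebra R A]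
  [HopfAlgebra R B]

theorem map_mem_torsionIdeal (f : A →ₐc[R] B) (n : ℕ) (x : A) (hx : x ∈ SGA3b.torsionIdeal R A n) :
    f x ∈ SGA3b.torsionIdeal R B n := by
  have : SGA3b.torsionIdeal R A n ≤ Ideal.comap (f : A →ₐ[R] B) (SGA3b.torsionIdeal R B n) := by
    unfold SGA3b.torsionIdeal
    rw [Ideal.map_le_iff_le_comap]
    intro z hz
    have hz' : counit (R := R) z = 0 := hz
    simp only [Ideal.mem_comap]
    change f (SGA3b.powConv R A n z) ∈ _
    rw [powConv_apply]
    apply Ideal.mem_map_of_mem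
    change counit (R := R) (f z) = 0
    have : counit (R := R) (f z) = counit (R := R) z := by simp
    rw [this, hz']
  exact this hx

theorem Dense.of_equiv (e : A ≃ₐc[R] B) (h : Dense R B) : Dense R A := by
  intro a y hay
  obtain ⟨j, hj⟩ := h (e a) (e y) (fun n hn => by
    obtain ⟨j, hj⟩ := hay n hn
    refine ⟨j, ?_⟩
    have := map_mem_torsionIdeal (e : A →ₐc[R] B) n _ hj
    simpa using this)
  refine ⟨j, e.injective ?_⟩
  rw [map_mul, map_pow, map_zero]
  exact hj

theorem tmul_mem_torsionIdeal_bc (S : Type u) [CommRing S] [Algebra R S] (n : ℕ) (x : A)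
    (hx : x ∈ SGA3b.torsionIdeal R A n) :
    (1 : S) ⊗ₜ[R] x ∈ SGA3b.torsionIdeal S (S ⊗[R] A) n := by
  have : SGA3b.torsionIdeal R A n ≤
      Ideal.comap (Algebra.TensorProduct.includeRight : A →ₐ[R] S ⊗[R] A)
        (SGA3b.torsionIdeal S (S ⊗[R] A) n) := by
    unfold SGA3b.torsionIdeal
    rw [Ideal.map_le_iff_le_comap]
    intro z hz
    have hz' : counit (R := R) z = 0 := hz
    simp only [Ideal.mem_comap, Algebra.TensorProduct.includeRight_apply]
    rw [← powConv_tmul]
    apply Ideal.mem_map_of_mem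
    change counit (R := S) ((1 : S) ⊗ₜ[R] z) = 0
    rw [TensorProduct.counit_tmul, hz', zero_smul]
  exact this hx

theorem Dense.of_faithfullyFlat (S : Type u) [CommRing S] [Algebra R S]
    [Module.FaithfullyFlat R S] (h : Dense S (S ⊗[R] A)) : Dense R A := by
  intro a y hay
  obtain ⟨j, hj⟩ := h ((1 : S) ⊗ₜ[R] a) ((1 : S) ⊗ₜ[R] y) (fun n hn => by
    obtain ⟨j, hj⟩ := hay n hn
    refine ⟨j, ?_⟩
    have := tmul_mem_torsionIdeal_bc S n _ hj
    simpa [Algebra.TensorProduct.tmul_pow] using this)
  refine ⟨j, ?_⟩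
  have hinj := Module.FaithfullyFlat.tensorProduct_mk_injective (A := R) (B := S) A
  apply hinj
  simpa [Algebra.TensorProduct.tmul_pow] using hj

end dense

theorem dense_monoidAlgebra' (S : Type u) [CommRing S] (M : Type u) [CommGroup M]
    [Group.FG M] : Dense S (MonoidAlgebra S M) := by
  intro a y hay
  apply dense_monoidAlgebra
  intro n hn
  rw [← torsionIdeal_monoidAlgebra_eq]
  exact hay n hn

theorem dense_of_const (S : Type u) [CommRing S] (B : Type u) [CommRing B] [HopfAlgebra S B]
    (hft : Algebra.FiniteType S B) (h : SGA3b.IsMultTypeConst S B) : Dense S B := by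
  obtain ⟨S', _, _, hff, M, _, ⟨e⟩⟩ := h
  haveI := hff
  apply Dense.of_faithfullyFlat S'
  rcases subsingleton_or_nontrivial S' with hS' | hS'
  · haveI : Subsingleton (S' ⊗[S] B) := Module.subsingleton S' _
    intro a y _
    exact ⟨0, Subsingleton.elim _ _⟩
  · have hft' : Algebra.FiniteType S' (S' ⊗[S] B) := inferInstance
    have hft'' : Algebra.FiniteType S' (MonoidAlgebra S' M) :=
      hft'.equiv (e : (S' ⊗[S] B) ≃ₐ[S'] MonoidAlgebra S' M)
    haveI hfg : Group.FG M := MonoidAlgebra.finiteType_iff_group_fg.mp hft''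
    exact Dense.of_equiv e (dense_monoidAlgebra' S' M)

theorem dense_of_isMultType (R : Type u) [CommRing R] (A : Type u) [CommRing A] [HopfAlgebra R A]
    (hft : Algebra.FiniteType R A) (h : SGA3b.IsMultType R A) : Dense R A := by
  obtain ⟨s, hs, hloc⟩ := h
  obtain ⟨t, hts, ht⟩ := (Ideal.span_eq_top_iff_finite s).mp hs
  intro a y hay
  have hf : ∀ f ∈ s, ∃ j k : ℕ, f ^ k • (a ^ j * y) = 0 := by
    intro f hf
    have hD : Dense (Localization.Away f) (Localization.Away f ⊗[R] A) :=
      dense_of_const _ _ inferInstance (hloc f hf)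
    obtain ⟨j, hj⟩ := hD ((1 : Localization.Away f) ⊗ₜ[R] a) ((1 : Localization.Away f) ⊗ₜ[R] y)
      (fun n hn => by
        obtain ⟨j, hj⟩ := hay n hn
        refine ⟨j, ?_⟩
        have := tmul_mem_torsionIdeal_bc (Localization.Away f) n _ hj
        simpa [Algebra.TensorProduct.tmul_pow] using this)
    have h2 : TensorProduct.mk R (Localization.Away f) A 1 (a ^ j * y) = 0 := by
      simpa [Algebra.TensorProduct.tmul_pow] using hj
    rw [IsLocalizedModule.eq_zero_iff (Submonoid.powers f)] at h2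
    obtain ⟨⟨_, k, rfl⟩, hk⟩ := h2
    exact ⟨j, k, hk⟩
  choose! jf kf hjk using hf
  refine ⟨t.sup jf, ?_⟩
  have := Submodule.mem_of_span_eq_top_of_smul_pow_mem (⊥ : Submodule R A) (t : Set R) ht
    (a ^ (t.sup jf) * y) ?_
  · simpa using this
  rintro ⟨f, hft'⟩
  refine ⟨kf f, ?_⟩
  have hle : jf f ≤ t.sup jf := Finset.le_sup hft'
  have h3 : a ^ (t.sup jf) * y = a ^ (t.sup jf - jf f) * (a ^ (jf f) * y) := by
    rw [← mul_assoc, ← pow_add, Nat.sub_add_cancel hle]
  change f ^ kf f • (a ^ (t.sup jf) * y) ∈ _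
  rw [h3, ← mul_smul_comm, hjk f (hts hft'), mul_zero]
  exact Submodule.zero_mem _

theorem iInf_eq_bot_of_dense (R : Type u) [CommRing R] (A : Type u) [CommRing A] [HopfAlgebra R A]
    (h : Dense R A) (a : A) :
    ⨅ n : {n : ℕ // 0 < n}, Ideal.map (algebraMap A (Localization.Away a))
      (SGA3b.torsionIdeal R A n.1) = ⊥ := by
  rw [eq_bot_iff]
  intro x hx
  rw [Submodule.mem_iInf] at hx
  obtain ⟨y, ⟨_, k, rfl⟩, rfl⟩ := IsLocalization.exists_mk'_eq (Submonoid.powers a) x
  have hy : ∀ n : ℕ, 0 < n → ∃ j : ℕ, a ^ j * y ∈ SGA3b.torsionIdeal R A n := by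
    intro n hn
    have h1 := hx ⟨n, hn⟩
    have h2 : algebraMap A (Localization.Away a) y ∈
        Ideal.map (algebraMap A (Localization.Away a)) (SGA3b.torsionIdeal R A n) := by
      have := Ideal.mul_mem_right (algebraMap A (Localization.Away a) (a ^ k)) _ h1
      rwa [IsLocalization.mk'_spec] at this
    rw [IsLocalization.mem_map_algebraMap_iff (Submonoid.powers a)] at h2
    obtain ⟨⟨⟨i, hi⟩, ⟨_, j2, rfl⟩⟩, h3⟩ := h2
    simp only at h3
    rw [← map_mul, IsLocalization.eq_iff_exists (Submonoid.powers a)] at h3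
    obtain ⟨⟨_, j1, rfl⟩, h4⟩ := h3
    refine ⟨j1 + j2, ?_⟩
    have h5 : a ^ (j1 + j2) * y = a ^ j1 * (y * a ^ j2) := by ring
    rw [h5, h4]
    exact Ideal.mul_mem_left _ _ hi
  obtain ⟨j, hj⟩ := h a y hy
  have h0 : algebraMap A (Localization.Away a) y = 0 := by
    rw [IsLocalization.map_eq_zero_iff (Submonoid.powers a)]
    exact ⟨⟨a ^ j, j, rfl⟩, hj⟩
  rw [Ideal.mem_bot, IsLocalization.mk'_eq_zero_iff]
  exact ⟨⟨a ^ j, j, rfl⟩, hj⟩

end Groth.Agent.H15.MT
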