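import Groth.Agent.H15.MTHens2
import Groth.Agent.H15.MultDense
import Groth.Agent.H15.FFDescElem
import Groth.Agent.H15.MTFlat4

/-!
# Descent of elements along a faithfully flat base change, checked on the torsion subgroups

For a group of multiplicative type and of finite type `Spec A` the torsion subgroups are
schematically dense after any base change; hence an element `x` of `T ⊗ A` which descends modulo
every torsion ideal descends.
-/

set_option autoImplicit false
set_option linter.style.haveILetI false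
universe u
open TensorProduct Coalgebra

namespace Groth.Agent.H15.MTHens
open Groth.Agent.H26 Groth.Agent.H15.MTC Groth.Agent.H15.MT

section descent
variable {R : Type u} [CommRing R] {A : Type u} [CommRing A] [HopfAlgebra R A]

/-- the base change of a torsion ideal lies in the torsion ideal of the base change -/
theorem map_includeRight_torsionIdeal_le (T : Type u) [CommRing T] [Algebra R T] (n : ℕ) :
    Ideal.map (Algebra.TensorProduct.includeRight : A →ₐ[R] T ⊗[R] A) (SGA3b.torsionIdeal R A n) ≤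
      SGA3b.torsionIdeal T (T ⊗[R] A) n := by
  rw [Ideal.map_le_iff_le_comap]
  intro a ha
  rw [Ideal.mem_comap]
  exact tmul_mem_torsionIdeal_bc T n a ha

variable (T : Type u) [CommRing T] [Algebra R T]

/-- first coface map -/
noncomputable def g₁ : T ⊗[R] A →ₐ[R] (T ⊗[R] T) ⊗[R] A :=
  Algebra.TensorProduct.map (Algebra.TensorProduct.includeLeft : T →ₐ[R] T ⊗[R] T) (AlgHom.id R A)

/-- second coface map -/
noncomputable def g₂ : T ⊗[R] A →ₐ[R] (T ⊗[R] T) ⊗[R] A :=
  Algebra.TensorProduct.map (Algebra.TensorProduct.includeRight : T →ₐ[R] T ⊗[R] T) (AlgHom.id R A)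

lemma g₁_tmul (t : T) (a : A) : g₁ (R := R) (A := A) T (t ⊗ₜ[R] a) = (t ⊗ₜ[R] (1 : T)) ⊗ₜ[R] a := by
  simp [g₁]

lemma g₂_tmul (t : T) (a : A) : g₂ (R := R) (A := A) T (t ⊗ₜ[R] a) = ((1 : T) ⊗ₜ[R] t) ⊗ₜ[R] a := by
  simp [g₂]

lemma assoc_g₁ (x : T ⊗[R] A) :
    TensorProduct.assoc R T T A (g₁ (R := R) (A := A) T x) = Groth.Agent.H15.FFD.d₂ R T A x := by
  induction x using TensorProduct.induction_on with
  | zero => simp
  | tmul t a => rw [g₁_tmul, TensorProduct.assoc_tmul, Groth.Agent.H15.FFD.d₂_tmul]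
  | add x y hx hy => rw [map_add, map_add, map_add, hx, hy]

lemma assoc_g₂ (x : T ⊗[R] A) :
    TensorProduct.assoc R T T A (g₂ (R := R) (A := A) T x) = (1 : T) ⊗ₜ[R] x := by
  induction x using TensorProduct.induction_on with
  | zero => simp
  | tmul t a => rw [g₂_tmul, TensorProduct.assoc_tmul]
  | add x y hx hy => rw [map_add, map_add, tmul_add, hx, hy]

lemma g_mem (g : T ⊗[R] A →ₐ[R] (T ⊗[R] T) ⊗[R] A)
    (hg : ∀ a : A, g ((1 : T) ⊗ₜ[R] a) = (1 : T ⊗[R] T) ⊗ₜ[R] a) (n : ℕ) (z : T ⊗[R] A)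
    (hz : z ∈ Ideal.map (Algebra.TensorProduct.includeRight : A →ₐ[R] T ⊗[R] A)
      (SGA3b.torsionIdeal R A n)) :
    g z ∈ SGA3b.torsionIdeal (T ⊗[R] T) ((T ⊗[R] T) ⊗[R] A) n := by
  apply map_includeRight_torsionIdeal_le (T ⊗[R] T) n
  have hle : Ideal.map (Algebra.TensorProduct.includeRight : A →ₐ[R] T ⊗[R] A)
      (SGA3b.torsionIdeal R A n) ≤ Ideal.comap g
      (Ideal.map (Algebra.TensorProduct.includeRight : A →ₐ[R] (T ⊗[R] T) ⊗[R] A)
        (SGA3b.torsionIdeal R A n)) := by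
    rw [Ideal.map_le_iff_le_comap]
    intro a ha
    rw [Ideal.mem_comap, Ideal.mem_comap]
    change g ((1 : T) ⊗ₜ[R] a) ∈ _
    rw [hg]
    exact Ideal.mem_map_of_mem _ ha
  exact hle hz

/-- **Descent through the torsion subgroups.** -/
theorem exists_descent [Module.FaithfullyFlat R T] (hft : Algebra.FiniteType R A)
    (hmt : SGA3b.IsMultTypeConst R A) (x : T ⊗[R] A)
    (hx : ∀ n : ℕ, 0 < n → ∃ b : A, x - (1 : T) ⊗ₜ[R] b ∈
      Ideal.map (Algebra.TensorProduct.includeRight : A →ₐ[R] T ⊗[R] A)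
        (SGA3b.torsionIdeal R A n)) :
    ∃ a : A, (1 : T) ⊗ₜ[R] a = x := by
  have hft' : Algebra.FiniteType (T ⊗[R] T) ((T ⊗[R] T) ⊗[R] A) := inferInstance
  have hmt' : SGA3b.IsMultType (T ⊗[R] T) ((T ⊗[R] T) ⊗[R] A) :=
    Groth.Agent.H15.MTF.isMultType_of_isMultTypeConst
      (Groth.Agent.H15.MTF.isMultTypeConst_baseChange hmt (T ⊗[R] T))
  have hdense := dense_of_isMultType (T ⊗[R] T) ((T ⊗[R] T) ⊗[R] A) hft' hmt'
  have hy : g₁ (R := R) (A := A) T x - g₂ (R := R) (A := A) T x = 0 := by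
    obtain ⟨j, hj⟩ := hdense 1 (g₁ (R := R) (A := A) T x - g₂ (R := R) (A := A) T x) (by
      intro n hn
      refine ⟨0, ?_⟩
      rw [pow_zero, one_mul]
      obtain ⟨b, hb⟩ := hx n hn
      have e1 : g₁ (R := R) (A := A) T x - g₂ (R := R) (A := A) T x =
          g₁ (R := R) (A := A) T (x - (1 : T) ⊗ₜ[R] b) -
            g₂ (R := R) (A := A) T (x - (1 : T) ⊗ₜ[R] b) := by
        rw [map_sub, map_sub, g₁_tmul, g₂_tmul]
        ring
      rw [e1]
      apply Ideal.sub_mem
      · exact g_mem T _ (fun a => by rw [g₁_tmul]; rfl) n _ hb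
      · exact g_mem T _ (fun a => by rw [g₂_tmul]; rfl) n _ hb)
    rw [one_pow, one_mul] at hj
    exact hj
  apply Groth.Agent.H15.FFD.exists_of_eq R T A x
  rw [← assoc_g₁, ← assoc_g₂, sub_eq_zero.mp hy]

end descent

end Groth.Agent.H15.MTHens
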