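import Groth.Agent.H15.HopfTors1
import Groth.Agent.H15.MTHens3

/-!
# Finite torsion subgroups: idempotents of the augmentation ideal vanish (SGA3 X 4.8 (b)), II
-/

set_option autoImplicit false
set_option linter.style.haveILetI false
set_option linter.unusedSectionVars false
universe u
open TensorProduct Coalgebra IsLocalRing

namespace Groth.Agent.H15.HF
open Groth.Agent.H26 Groth.Agent.H15.MTC Groth.Agent.H15.MT SGA3b

section geomMT
variable {R : Type u} [CommRing R] {A : Type u} [CommRing A] [HopfAlgebra R A]

/-- fibres of multiplicative type are geometrically so -/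
theorem isMultTypeConst_field_of_fibres
    (hfib : ∀ (p : Ideal R) [p.IsPrime], IsMultType p.ResidueField (p.ResidueField ⊗[R] A))
    (K : Type u) [Field K] [Algebra R K] : IsMultTypeConst K (K ⊗[R] A) := by
  set p : Ideal R := RingHom.ker (algebraMap R K) with hp
  haveI : p.IsPrime := RingHom.ker_isPrime _
  let f : R →ₐ[R] K := Algebra.ofId R K
  have hf₁ : p ≤ RingHom.ker f := le_of_eq rfl
  have hf₂ : p.primeCompl ≤ (IsUnit.submonoid K).comap f := by
    intro a ha
    rw [Submonoid.mem_comap, IsUnit.mem_submonoid_iff, isUnit_iff_ne_zero]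
    exact ha
  letI : Algebra p.ResidueField K := (Ideal.ResidueField.liftₐ p f hf₁ hf₂).toRingHom.toAlgebra
  haveI : IsScalarTower R p.ResidueField K := IsScalarTower.of_algebraMap_eq fun r => by
    change algebraMap R K r = Ideal.ResidueField.liftₐ p f hf₁ hf₂ (algebraMap R p.ResidueField r)
    rw [Ideal.ResidueField.liftₐ_algebraMap]
    rfl
  exact isMultTypeConst_of_tower p.ResidueField K
    (Groth.Agent.H15.MTHens.isMultTypeConst_of_isLocalRing p.ResidueField _ (hfib p))

end geomMT

section tors
variable {R : Type u} [CommRing R] {A : Type u} [CommRing A] [HopfAlgebra R A]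

/-- finite torsion subgroups and fibres of multiplicative type: idempotents in the ideal of the
closed fibre vanish -/
theorem idemVanish_of_torsion_finite (hft : Algebra.FiniteType R A)
    (hfib : ∀ (p : Ideal R) [p.IsPrime], IsMultType p.ResidueField (p.ResidueField ⊗[R] A))
    (hfin : ∀ n : ℕ, 0 < n → Module.Finite R (A ⧸ torsionIdeal R A n)) : IdemVanish R A := by
  haveI := hft
  intro S _ _ _ e he hem _
  have h1 : ∀ n : ℕ, 0 < n → e ∈ (torsionIdeal R A n).map
      (Algebra.TensorProduct.includeRight : A →ₐ[R] S ⊗[R] A) := by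
    intro n hn
    haveI := hfin n hn
    let q : S ⊗[R] A →ₐ[S] S ⊗[R] (A ⧸ torsionIdeal R A n) :=
      Algebra.TensorProduct.map (AlgHom.id S S) (Ideal.Quotient.mkₐ R (torsionIdeal R A n))
    have hq : q e = 0 := by
      apply idem_eq_zero_of_finite (S := S) (q e) (he.map q)
      have h2 : (maximalIdeal S).map (algebraMap S (S ⊗[R] A)) ≤
          Ideal.comap q ((maximalIdeal S).map
            (algebraMap S (S ⊗[R] (A ⧸ torsionIdeal R A n)))) := by
        rw [Ideal.map_le_iff_le_comap]
        intro s hs
        rw [Ideal.mem_comap, Ideal.mem_comap, q.commutes]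
        exact Ideal.mem_map_of_mem _ hs
      exact h2 hem
    have hk := Algebra.TensorProduct.lTensor_ker (A := S)
      (Ideal.Quotient.mkₐ R (torsionIdeal R A n)) (Ideal.Quotient.mkₐ_surjective R _)
    have hker : RingHom.ker (Ideal.Quotient.mkₐ R (torsionIdeal R A n)) = torsionIdeal R A n := by
      ext a
      rw [RingHom.mem_ker, Ideal.Quotient.mkₐ_eq_mk, Ideal.Quotient.eq_zero_iff_mem]
    rw [hker] at hk
    rw [← hk, RingHom.mem_ker]
    exact hq
  suffices h : IsNilpotent e by
    obtain ⟨n, hn⟩ := h
    rcases n with _ | n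
    · rw [pow_zero] at hn
      rw [← mul_one e, hn, mul_zero]
    · rwa [he.pow_succ_eq] at hn
  apply isNilpotent_of_fibres
  intro K _ _ _ _
  set g : S ⊗[R] A →ₐ[R] K ⊗[R] A :=
    Algebra.TensorProduct.map (IsScalarTower.toAlgHom R S K) (AlgHom.id R A) with hg
  have hconst : IsMultTypeConst K (K ⊗[R] A) := isMultTypeConst_field_of_fibres hfib K
  have hD : Dense K (K ⊗[R] A) := dense_of_const K _ inferInstance hconst
  have hx : ∀ n : ℕ, 0 < n → g e ∈ torsionIdeal K (K ⊗[R] A) n := by
    intro n hn
    apply Groth.Agent.H15.MTHens.map_includeRight_torsionIdeal_le K n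
    have h3 : (torsionIdeal R A n).map
        (Algebra.TensorProduct.includeRight : A →ₐ[R] S ⊗[R] A) ≤
        Ideal.comap g ((torsionIdeal R A n).map
          (Algebra.TensorProduct.includeRight : A →ₐ[R] K ⊗[R] A)) := by
      rw [Ideal.map_le_iff_le_comap]
      intro a ha
      rw [Ideal.mem_comap, Ideal.mem_comap]
      have h4 : g ((Algebra.TensorProduct.includeRight : A →ₐ[R] S ⊗[R] A) a) =
          (Algebra.TensorProduct.includeRight : A →ₐ[R] K ⊗[R] A) a := by
        simp [hg]
      rw [h4]
      exact Ideal.mem_map_of_mem _ ha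
    exact h3 (h1 n hn)
  obtain ⟨j, hj⟩ := hD 1 (g e) (fun n hn => ⟨0, by simpa using hx n hn⟩)
  simpa using hj

end tors

end Groth.Agent.H15.HF
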