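import Groth.Agent.H15.MTDiag2

set_option autoImplicit false
set_option linter.style.haveILetI false
universe u
open TensorProduct Coalgebra

namespace Groth.Agent.H15.MTC
open Groth.Agent.H26 Groth.Agent.H15.GLD

attribute [local instance] Algebra.TensorProduct.rightAlgebra

section liftalg
variable {R : Type*} [CommRing R] {A : Type*} [CommRing A] [Bialgebra R A]
  (T : Type*) [CommRing T] [Algebra R T]
  {K : Type*} [CommRing K] [Algebra R K] [Algebra T K] [IsScalarTower R T K]
  {B : Type*} [CommRing B] [Bialgebra K B] [Algebra R B] [Algebra T B]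
  [IsScalarTower R T B] [IsScalarTower T K B] [IsScalarTower R K B]

/-- the `T`-algebra map `T ⊗ A → B` induced by an `R`-algebra map `A → B` -/
noncomputable def liftAlg (φ : A →ₐ[R] B) : T ⊗[R] A →ₐ[T] B :=
  Algebra.TensorProduct.lift (Algebra.ofId T B) φ (fun _ _ => Commute.all _ _)

@[simp] lemma liftAlg_tmul (φ : A →ₐ[R] B) (t : T) (a : A) :
    liftAlg T φ (t ⊗ₜ[R] a) = t • φ a := by
  simp [liftAlg, Algebra.ofId_apply, Algebra.smul_def]

lemma liftAlg_toLinearMap (φ : A →ₐ[R] B) :
    (liftAlg T φ).toLinearMap = φ.toLinearMap.liftBaseChange T := by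
  ext a
  simp

lemma isCoalgMapOver_liftAlg {φ : A →ₐ[R] B} (h : IsCoalgMapOver K φ.toLinearMap) :
    IsCoalgMapOver K (liftAlg T φ).toLinearMap := by
  rw [liftAlg_toLinearMap]
  exact IsCoalgMapOver.liftBaseChange h

lemma isBaseChange_liftAlg {φ : A →ₐ[R] B} (h : IsBaseChange K φ.toLinearMap) :
    IsBaseChange K (liftAlg T φ).toLinearMap := by
  apply IsBaseChange.of_comp (TensorProduct.isBaseChange R A T)
  have : ((liftAlg T φ).toLinearMap : T ⊗[R] A →ₗ[R] B) ∘ₗ (TensorProduct.mk R T A 1) =
      φ.toLinearMap := by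
    ext a
    simp
  rw [this]
  exact h

end liftalg

section chartbc
variable {R : Type u} [CommRing R] {A : Type u} [CommRing A] [HopfAlgebra R A]

/-- the chart map before extension of scalars -/
noncomputable def Chart.bcPre (c : Chart R A) (T : Type u) [CommRing T] [Algebra R T] :
    A →ₐ[R] MonoidAlgebra (T ⊗[R] c.R') c.N :=
  ((mapCoeff (S := c.R') (S' := T ⊗[R] c.R') c.N).restrictScalars R).comp c.L

lemma Chart.bcPre_coalg (c : Chart R A) (T : Type u) [CommRing T] [Algebra R T] :
    IsCoalgMapOver (T ⊗[R] c.R') (c.bcPre T).toLinearMap :=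
  IsCoalgMapOver.comp (isCoalgMapOver_mapCoeff c.N) c.isChart.coalg

lemma Chart.bcPre_bc (c : Chart R A) (T : Type u) [CommRing T] [Algebra R T] :
    IsBaseChange (T ⊗[R] c.R') (c.bcPre T).toLinearMap := by
  have h0 := c.isChart.bc.comp (isBaseChange_mapCoeff (S := c.R') (S' := T ⊗[R] c.R') c.N)
  have h1 : (c.bcPre T).toLinearMap =
      ((mapCoeff (S := c.R') (S' := T ⊗[R] c.R') c.N).toLinearMap.restrictScalars R).comp
        c.L.toLinearMap := LinearMap.ext fun _ => rfl
  rw [h1]
  exact h0

/-- base change of a chart -/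
noncomputable def Chart.baseChange (c : Chart R A) (T : Type u) [CommRing T] [Algebra R T] :
    Chart T (T ⊗[R] A) where
  R' := T ⊗[R] c.R'
  N := c.N
  L := liftAlg T (c.bcPre T)
  isChart := ⟨isCoalgMapOver_liftAlg T (c.bcPre_coalg T), isBaseChange_liftAlg T (c.bcPre_bc T)⟩
  flat := by
    haveI := c.flat
    infer_instance

/-- joint faithfulness of an atlas is stable under base change -/
theorem atlas_baseChange {ι : Type u} [Fintype ι] {c : ι → Chart R A}
    (hc : ∀ (K : Ideal R) (x : R),
      (∀ i, algebraMap R (c i).R' x ∈ K.map (algebraMap R (c i).R')) → x ∈ K)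
    (T : Type u) [CommRing T] [Algebra R T] (K : Ideal T) (x : T)
    (hx : ∀ i, algebraMap T ((c i).baseChange T).R' x ∈
      K.map (algebraMap T ((c i).baseChange T).R')) : x ∈ K := by
  rw [← Ideal.Quotient.eq_zero_iff_mem]
  apply eq_zero_of_forall_tmul_eq_zero hc (P := T ⧸ K)
  intro i
  let ρ : T ⊗[R] (c i).R' →ₐ[R] (c i).R' ⊗[R] (T ⧸ K) :=
    (Algebra.TensorProduct.comm R (T ⧸ K) (c i).R').toAlgHom.comp
      (Algebra.TensorProduct.map (Ideal.Quotient.mkₐ R K) (AlgHom.id R (c i).R'))
  have hρ : ∀ t : T, ρ (algebraMap T (T ⊗[R] (c i).R') t) =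
      (1 : (c i).R') ⊗ₜ[R] (Ideal.Quotient.mk K t) := by
    intro t
    simp [ρ, Algebra.TensorProduct.algebraMap_apply]
  have hle : K.map (algebraMap T (T ⊗[R] (c i).R')) ≤ RingHom.ker ρ.toRingHom := by
    rw [Ideal.map_le_iff_le_comap]
    intro k hk
    rw [Ideal.mem_comap, RingHom.mem_ker]
    change ρ _ = 0
    rw [hρ, Ideal.Quotient.eq_zero_iff_mem.mpr hk, tmul_zero]
  have h1 : ρ (algebraMap T (T ⊗[R] (c i).R') x) = 0 := hle (hx i)
  rw [hρ] at h1
  exact h1

end chartbc

section toequiv
variable {S : Type*} [CommRing S] {B : Type*} [CommRing B] [Bialgebra S B]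
  {C : Type*} [CommRing C] [Bialgebra S C]

/-- a chart over the identity base change is a bialgebra isomorphism -/
theorem nonempty_bialgEquiv_of_chart (φ : B →ₐ[S] C) (hco : IsCoalgMapOver S φ.toLinearMap)
    (hbc : IsBaseChange S φ.toLinearMap) : Nonempty (B ≃ₐc[S] C) := by
  have hbij : Function.Bijective φ := by
    have h1 : ∀ b, φ b = hbc.equiv ((TensorProduct.lid S B).symm b) := by
      intro b
      rw [TensorProduct.lid_symm_apply, IsBaseChange.equiv_tmul, one_smul]
      rfl
    have h2 : (φ : B → C) = hbc.equiv ∘ (TensorProduct.lid S B).symm := funext h1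
    rw [h2]
    exact hbc.equiv.bijective.comp (TensorProduct.lid S B).symm.bijective
  let ψ : B →ₐc[S] C := BialgHom.ofAlgHom φ
    (by
      ext b
      exact hco.counit b)
    (by
      ext b
      have h1 := hco.comul b
      change TensorProduct.map φ.toLinearMap φ.toLinearMap (Coalgebra.comul b) = Coalgebra.comul (φ b)
      change Coalgebra.comul (φ b) = _ at h1
      rw [h1]
      generalize Coalgebra.comul (R := S) b = y
      induction y with
      | zero => simp
      | add x y hx hy => rw [map_add, map_add, hx, hy]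
      | tmul a b => simp)
  exact ⟨BialgEquiv.ofBijective ψ hbij⟩

end toequiv

section coreatlas
variable {R : Type u} [CommRing R] {A : Type u} [CommRing A] [HopfAlgebra R A]

theorem nonempty_equiv_of_atlas {ι : Type u} [Fintype ι] (c : ι → Chart R A)
    (hc : ∀ (K : Ideal R) (x : R),
      (∀ i, algebraMap R (c i).R' x ∈ K.map (algebraMap R (c i).R')) → x ∈ K)
    (I : Ideal R) (hI : ∀ x ∈ I, IsNilpotent x) (M : Type u) [CommGroup M]
    (e : (R ⧸ I) ⊗[R] A ≃ₐc[R ⧸ I] MonoidAlgebra (R ⧸ I) M) :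
    Nonempty (A ≃ₐc[R] MonoidAlgebra R M) := by
  classical
  have hγ : ∀ m : M, ∃ g : A, IsGroupLikeElem R g ∧
      (1 : R ⧸ I) ⊗ₜ[R] g = e.symm (MonoidAlgebra.single m 1) := fun m =>
    exists_lift_groupLike hc I hI _ (by
      rw [isGroupLikeElem_map_equiv]
      exact MonoidAlgebra.isGroupLikeElem_single_one m)
  choose γ hγgl hγe using hγ
  let χ : M →* GroupLike R A :=
    { toFun := fun m => ⟨γ m, hγgl m⟩
      map_one' := by
        apply GroupLike.val_injective
        apply groupLike_lift_unique hc I hI (hγgl 1) IsGroupLikeElem.one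
        rw [hγe, ← MonoidAlgebra.one_def, map_one]
        rfl
      map_mul' := fun a b => by
        apply GroupLike.val_injective
        apply groupLike_lift_unique hc I hI (hγgl (a * b)) ((hγgl a).mul (hγgl b))
        have h1 : (MonoidAlgebra.single (a * b) 1 : MonoidAlgebra (R ⧸ I) M) =
            MonoidAlgebra.single a 1 * MonoidAlgebra.single b 1 := by
          rw [MonoidAlgebra.single_mul_single, one_mul]
        rw [hγe, h1, map_mul, ← hγe, ← hγe, Algebra.TensorProduct.tmul_mul_tmul, one_mul] }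
  have hχ : ∀ m, (1 : R ⧸ I) ⊗ₜ[R] ((χ m).val : A) = e.symm (MonoidAlgebra.single m 1) := hγe
  have hinj : Function.Injective (liftHom χ) := by
    apply liftHom_injective hc χ
    intro u hu i
    apply coeff_one_eq_zero_of_ann_le (c i) I hI _ (χ u).isGroupLikeElem_val
    intro r hr
    rw [LinearMap.mem_ker, LinearMap.toSpanSingleton_apply] at hr
    have h1 : (1 : R ⧸ I) ⊗ₜ[R] (r • ((χ u).val - 1 : A)) = 0 := by rw [hr, tmul_zero]
    rw [TensorProduct.tmul_smul, tmul_sub, hχ] at h1
    have h2 : ((1 : R ⧸ I) ⊗ₜ[R] (1 : A)) = e.symm 1 := by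
      rw [map_one]; rfl
    rw [← algebraMap_smul (R ⧸ I) r, h2, ← map_sub, ← map_smul] at h1
    have h3 := (EmbeddingLike.map_eq_zero_iff (f := e.symm)).mp h1
    have h4 := congrArg (fun y => y.coeff u) h3
    simp only [MonoidAlgebra.coeff_smul, Finsupp.smul_apply, MonoidAlgebra.coeff_sub,
      Finsupp.sub_apply, MonoidAlgebra.coeff_single, Finsupp.single_apply, MonoidAlgebra.one_def,
      MonoidAlgebra.coeff_zero, Finsupp.zero_apply, if_neg (Ne.symm hu), if_true, sub_zero,
      smul_eq_mul, mul_one, Ideal.Quotient.algebraMap_eq] at h4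
    exact Ideal.Quotient.eq_zero_iff_mem.mp h4
  have hsurj : Function.Surjective (liftHom χ) := by
    intro a
    have h1 : (LinearMap.range (liftHom χ).toLinearMap).mkQ a = 0 := by
      apply eq_zero_of_forall_tmul_eq_zero hc
      intro i
      obtain ⟨t, ht⟩ := chart_exists_tensor I e hI (c i) χ hχ a
      have h2 : (1 : (c i).R') ⊗ₜ[R] ((LinearMap.range (liftHom χ).toLinearMap).mkQ a) =
          LinearMap.lTensor (c i).R' (LinearMap.range (liftHom χ).toLinearMap).mkQ
            ((1 : (c i).R') ⊗ₜ[R] a) := rfl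
      rw [h2, ← ht, ← LinearMap.comp_apply, ← LinearMap.lTensor_comp, LinearMap.range_mkQ_comp,
        LinearMap.lTensor_zero, LinearMap.zero_apply]
    rw [Submodule.mkQ_apply, Submodule.Quotient.mk_eq_zero] at h1
    obtain ⟨x, hx⟩ := h1
    exact ⟨x, hx⟩
  exact ⟨(BialgEquiv.ofBijective (liftHom χ) ⟨hinj, hsurj⟩).symm⟩


end coreatlas

section dchart

/-- `A` becomes the group algebra `K[M]` after base change to `K`, via a chart. -/
def HasDChart (R : Type u) [CommRing R] (A : Type u) [CommRing A] [HopfAlgebra R A]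
    (K : Type u) [CommRing K] [Algebra R K] (M : Type u) [CommGroup M] : Prop :=
  ∃ l : A →ₐ[R] MonoidAlgebra K M, IsCoalgMapOver K l.toLinearMap ∧ IsBaseChange K l.toLinearMap

variable {R : Type u} [CommRing R] {A : Type u} [CommRing A] [HopfAlgebra R A]
  {K : Type u} [CommRing K] [Algebra R K] {M : Type u} [CommGroup M]

/-- F1 -/
theorem HasDChart.of_equiv (e : K ⊗[R] A ≃ₐc[K] MonoidAlgebra K M) : HasDChart R A K M := by
  refine ⟨((e : K ⊗[R] A →ₐ[K] MonoidAlgebra K M).restrictScalars R).comp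
    Algebra.TensorProduct.includeRight, ?_, ?_⟩
  · have h1 := IsCoalgMapOver.comp (S₂ := K)
      (isCoalgMapOver_of_coalgHom (e : K ⊗[R] A →ₗc[K] MonoidAlgebra K M))
      (isCoalgMapOver_inc (R := R) K A)
    exact h1
  · have h1 := (TensorProduct.isBaseChange R A K).comp (IsBaseChange.ofEquiv e.toLinearEquiv)
    exact h1

/-- F2 -/
theorem HasDChart.map (h : HasDChart R A K M) (K' : Type u) [CommRing K'] [Algebra R K']
    [Algebra K K'] [IsScalarTower R K K'] : HasDChart R A K' M := by
  obtain ⟨l, hco, hbc⟩ := h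
  refine ⟨((mapCoeff (S := K) (S' := K') M).restrictScalars R).comp l, ?_, ?_⟩
  · exact IsCoalgMapOver.comp (isCoalgMapOver_mapCoeff M) hco
  · have h0 := hbc.comp (isBaseChange_mapCoeff (S := K) (S' := K') M)
    have h1 : (((mapCoeff (S := K) (S' := K') M).restrictScalars R).comp l).toLinearMap =
        ((mapCoeff (S := K) (S' := K') M).toLinearMap.restrictScalars R).comp l.toLinearMap :=
      LinearMap.ext fun _ => rfl
    rw [h1]
    exact h0

/-- F3 -/
theorem HasDChart.baseChange (h : HasDChart R A K M) (T : Type u) [CommRing T] [Algebra R T]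
    [Algebra T K] [IsScalarTower R T K] : HasDChart T (T ⊗[R] A) K M := by
  obtain ⟨l, hco, hbc⟩ := h
  exact ⟨liftAlg T l, isCoalgMapOver_liftAlg T hco, isBaseChange_liftAlg T hbc⟩

/-- F6 for the inclusion -/
theorem HasDChart.of_baseChange (R₁ : Type u) [CommRing R₁] [Algebra R R₁] [Algebra R₁ K]
    [IsScalarTower R R₁ K] (h : HasDChart R₁ (R₁ ⊗[R] A) K M) : HasDChart R A K M := by
  obtain ⟨l, hco, hbc⟩ := h
  refine ⟨(l.restrictScalars R).comp Algebra.TensorProduct.includeRight, ?_, ?_⟩
  · exact IsCoalgMapOver.comp hco (isCoalgMapOver_inc (R := R) R₁ A)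
  · have h0 := (TensorProduct.isBaseChange R A R₁).comp hbc
    have h1 : ((l.restrictScalars R).comp Algebra.TensorProduct.includeRight).toLinearMap =
        (l.toLinearMap.restrictScalars R).comp (TensorProduct.mk R R₁ A 1) :=
      LinearMap.ext fun _ => rfl
    rw [h1]
    exact h0

/-- F4 -/
theorem HasDChart.nonempty_equiv {S : Type u} [CommRing S] {B : Type u} [CommRing B]
    [HopfAlgebra S B] (h : HasDChart S B S M) : Nonempty (B ≃ₐc[S] MonoidAlgebra S M) := by
  obtain ⟨l, hco, hbc⟩ := h
  exact nonempty_bialgEquiv_of_chart l hco hbc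

/-- flexible form of the core theorem -/
theorem nonempty_equiv_of_atlas_of_dchart {ι : Type u} [Fintype ι] (c : ι → Chart R A)
    (hc : ∀ (K : Ideal R) (x : R),
      (∀ i, algebraMap R (c i).R' x ∈ K.map (algebraMap R (c i).R')) → x ∈ K)
    (hsurj : Function.Surjective (algebraMap R K))
    (hnil : ∀ x ∈ RingHom.ker (algebraMap R K), IsNilpotent x) (h : HasDChart R A K M) :
    Nonempty (A ≃ₐc[R] MonoidAlgebra R M) := by
  let ρ : (R ⧸ RingHom.ker (algebraMap R K)) ≃+* K := RingHom.quotientKerEquivOfSurjective hsurj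
  letI : Algebra K (R ⧸ RingHom.ker (algebraMap R K)) := ρ.symm.toRingHom.toAlgebra
  haveI : IsScalarTower R K (R ⧸ RingHom.ker (algebraMap R K)) := by
    refine IsScalarTower.of_algebraMap_eq fun t => ?_
    change _ = ρ.symm (algebraMap R K t)
    rw [RingEquiv.eq_symm_apply]
    rfl
  have h1 : HasDChart R A (R ⧸ RingHom.ker (algebraMap R K)) M := h.map _
  have h2 := (h1.baseChange (R ⧸ RingHom.ker (algebraMap R K))).nonempty_equiv
  obtain ⟨e⟩ := h2
  exact nonempty_equiv_of_atlas c hc _ hnil M e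

end dchart

end Groth.Agent.H15.MTC
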