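import Groth.Agent.H15.MTTf8
import Groth.Agent.H15.IsoF5
import Groth.Agent.H15.MTBC
import Mathlib.RingTheory.HopfAlgebra.Quotient

/-!
# Schematic density of the torsion subgroups in a commutative group of finite type over a field
with an open subgroup of multiplicative type
-/

set_option autoImplicit false
set_option linter.style.haveILetI false
universe u
open TensorProduct WithConv Coalgebra

namespace Groth.Agent.H15.MTT

section concrete2
variable {k : Type u} [Field k] {C : Type u} [CommRing C] [HopfAlgebra k C] [IsCocomm k C]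

/-- multiplication by `1 - e` descends to the quotient by `(e)` -/
noncomputable def retr (e : C) (he : IsIdempotentElem e) : (C ⧸ Ideal.span {e}) →ₗ[k] C :=
  Submodule.liftQ ((Ideal.span {e}).restrictScalars k) (LinearMap.mulLeft k (1 - e)) (by
    intro c hc
    obtain ⟨z, rfl⟩ := Ideal.mem_span_singleton'.mp hc
    rw [LinearMap.mem_ker, LinearMap.mulLeft_apply]
    calc (1 - e) * (z * e) = z * (e - e * e) := by ring
      _ = 0 := by rw [he.eq, sub_self, mul_zero])

omit [IsCocomm k C] in
lemma retr_mk (e : C) (he : IsIdempotentElem e) (c : C) :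
    retr (k := k) e he (Ideal.Quotient.mk (Ideal.span {e}) c) = (1 - e) * c := rfl

open Groth.Agent.H15.MT Groth.Agent.H15.MTC in
theorem dense_of_open_multType (hft : Algebra.FiniteType k C) (e : C) (he : IsIdempotentElem e)
    [(Ideal.span {e}).IsHopfIdeal k] (hG : SGA3b.IsMultType k (C ⧸ Ideal.span {e})) :
    Dense k C := by
  have hftQ : Algebra.FiniteType k (C ⧸ Ideal.span {e}) :=
    hft.of_surjective (Ideal.Quotient.mkₐ k (Ideal.span {e})) (Ideal.Quotient.mkₐ_surjective k _)
  obtain ⟨k', _, _, _, _, M, _, hMfg, ⟨E'⟩⟩ :=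
    Groth.Agent.H15.IsoF.isotrivial_of_field k (C ⧸ Ideal.span {e}) hftQ hG
  haveI := hMfg
  have hD1 : HasDChart k (C ⧸ Ideal.span {e}) k' M := HasDChart.of_equiv E'
  have hD2 : HasDChart k (C ⧸ Ideal.span {e}) (AlgebraicClosure k') M :=
    hD1.map (AlgebraicClosure k')
  have hD3 : HasDChart (AlgebraicClosure k')
      ((AlgebraicClosure k') ⊗[k] (C ⧸ Ideal.span {e})) (AlgebraicClosure k') M :=
    hD2.baseChange (AlgebraicClosure k')
  obtain ⟨E⟩ := hD3.nonempty_equiv
  apply Dense.of_faithfullyFlat (AlgebraicClosure k')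
  haveI : Algebra.FiniteType (AlgebraicClosure k') ((AlgebraicClosure k') ⊗[k] C) :=
    Algebra.FiniteType.baseChange (AlgebraicClosure k')
  haveI : IsNoetherianRing ((AlgebraicClosure k') ⊗[k] C) :=
    Algebra.FiniteType.isNoetherianRing (AlgebraicClosure k') _
  let π : (AlgebraicClosure k') ⊗[k] C →ₐc[AlgebraicClosure k']
      (AlgebraicClosure k') ⊗[k] (C ⧸ Ideal.span {e}) :=
    Bialgebra.TensorProduct.map (BialgHom.id (AlgebraicClosure k') (AlgebraicClosure k'))
      (Bialgebra.Quotient.mkBialgHom (R := k) (Ideal.span {e}))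
  have heI : e ∈ Ideal.span {e} := Ideal.subset_span rfl
  have hεe : counit (R := k) e = 0 :=
    Submodule.IsCoideal.counit_eq_zero (I := (Ideal.span {e}).restrictScalars k) heI
  refine dense_of_open_subgroup E π ((1 : AlgebraicClosure k') ⊗ₜ[k] e) ?_ ?_ ?_ ?_ ?_
  · change ((1 : AlgebraicClosure k') ⊗ₜ[k] e) * ((1 : AlgebraicClosure k') ⊗ₜ[k] e) = _
    rw [Algebra.TensorProduct.tmul_mul_tmul, one_mul, he.eq]
  · rw [TensorProduct.counit_tmul, hεe, zero_smul]
  · change (1 : AlgebraicClosure k') ⊗ₜ[k] (Ideal.Quotient.mk (Ideal.span {e}) e) = 0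
    rw [Ideal.Quotient.eq_zero_iff_mem.mpr heI, tmul_zero]
  · intro x hx
    let x0 : C →ₐ[k] AlgebraicClosure k' :=
      (x.restrictScalars k).comp Algebra.TensorProduct.includeRight
    have hx0 : ∀ a ∈ Ideal.span {e}, x0 a = 0 := by
      intro a ha
      obtain ⟨c, rfl⟩ := Ideal.mem_span_singleton'.mp ha
      have : x0 e = 0 := hx
      rw [map_mul, this, mul_zero]
    let xb : (AlgebraicClosure k') ⊗[k] (C ⧸ Ideal.span {e}) →ₐ[AlgebraicClosure k']
        AlgebraicClosure k' :=
      Algebra.TensorProduct.lift (Algebra.ofId (AlgebraicClosure k') (AlgebraicClosure k'))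
        (Ideal.Quotient.liftₐ (Ideal.span {e}) x0 hx0) (fun _ _ => Commute.all _ _)
    refine ⟨xb, ?_⟩
    apply Algebra.TensorProduct.ext'
    intro a c
    change x (a ⊗ₜ c) = xb (a ⊗ₜ[k] (Ideal.Quotient.mk (Ideal.span {e}) c))
    change _ = Algebra.TensorProduct.lift (Algebra.ofId _ _) _ _ _
    rw [Algebra.TensorProduct.lift_tmul]
    change _ = a * x ((1 : AlgebraicClosure k') ⊗ₜ[k] c)
    rw [← smul_eq_mul, ← map_smul, TensorProduct.smul_tmul', smul_eq_mul, mul_one]
  · intro z hz
    have key : ∀ w : (AlgebraicClosure k') ⊗[k] C,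
        LinearMap.lTensor (AlgebraicClosure k') (retr (k := k) e he) (π w) =
          (1 - (1 : AlgebraicClosure k') ⊗ₜ[k] e) * w := by
      intro w
      induction w using TensorProduct.induction_on with
      | zero => simp
      | add a b ha hb => rw [map_add, map_add, ha, hb, mul_add]
      | tmul a c =>
        change LinearMap.lTensor (AlgebraicClosure k') (retr (k := k) e he)
          (a ⊗ₜ[k] (Ideal.Quotient.mk (Ideal.span {e}) c)) = _
        rw [LinearMap.lTensor_tmul, retr_mk]
        have h1 : (1 - (1 : AlgebraicClosure k') ⊗ₜ[k] e) * (a ⊗ₜ[k] c) =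
            a ⊗ₜ[k] c - a ⊗ₜ[k] (e * c) := by
          rw [sub_mul, one_mul, Algebra.TensorProduct.tmul_mul_tmul, one_mul]
        rw [h1, ← tmul_sub]
        congr 1
        ring
    rw [← key, hz, map_zero]

end concrete2

end Groth.Agent.H15.MTT
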