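import Groth.Agent.H15.HopfNF14
import Groth.Agent.H15.MTTf9
import Groth.Agent.H15.HopfTors2

/-!
# Open and closed isotrivial subgroups with a given idempotent; kernels of surjective bialgebra
maps are Hopf ideals
-/

set_option autoImplicit false
set_option linter.style.haveILetI false
set_option linter.unusedSectionVars false
universe u
open TensorProduct Coalgebra IsLocalRing

namespace Groth.Agent.H15.NF
open Groth.Agent.H26 Groth.Agent.H15.MTC Groth.Agent.H15.HA Groth.Agent.H15.HF SGA3b

attribute [local instance] Algebra.TensorProduct.rightAlgebra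

section clopenidem
variable (S : Type u) [CommRing S] (H : Type u) [CommRing H] [HopfAlgebra S H]

/-- `e` is the idempotent of an open and closed isotrivial subgroup of multiplicative type -/
def IsClopenIdem (e : H) : Prop :=
  ∃ (G : Type u) (_ : CommRing G) (_ : HopfAlgebra S G) (π : H →ₐc[S] G),
    Function.Surjective π ∧ (∀ x, π x = 0 ↔ x ∈ Ideal.span {e}) ∧ IsIsotrivial S G

variable {S H}

theorem _root_.Groth.Agent.H15.HF.HasClopen.exists_idem {J : Ideal S} (h : HasClopen S J H) :
    ∃ e : H, IsIdempotentElem e ∧ e ∈ J.map (algebraMap S H) ∧ IsClopenIdem S H e := h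

theorem IsClopenIdem.isIsotrivial {e : H} (h : IsClopenIdem S H e) (he0 : e = 0) :
    IsIsotrivial S H := by
  obtain ⟨G, _, _, π, hsurj, hker, hiso⟩ := h
  have hinj : Function.Injective π := by
    rw [injective_iff_map_eq_zero]
    intro x hx
    have := (hker x).mp hx
    rw [he0, Ideal.mem_span_singleton'] at this
    obtain ⟨z, hz⟩ := this
    rw [← hz, mul_zero]
  exact Groth.Agent.H15.MTI.isIsotrivial_of_bialgEquiv (BialgEquiv.ofBijective π ⟨hinj, hsurj⟩) hiso

theorem IsClopenIdem.of_equiv {H' : Type u} [CommRing H'] [HopfAlgebra S H'] (Ξ : H ≃ₐc[S] H')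
    {e : H} (h : IsClopenIdem S H e) : IsClopenIdem S H' (Ξ e) := by
  obtain ⟨G, _, _, π, hsurj, hker, hiso⟩ := h
  refine ⟨G, inferInstance, inferInstance, π.comp (Ξ.symm : H' →ₐc[S] H), ?_, ?_, hiso⟩
  · intro g
    obtain ⟨x, rfl⟩ := hsurj g
    exact ⟨Ξ x, by simp⟩
  · intro x
    have h1 : (π.comp (Ξ.symm : H' →ₐc[S] H)) x = π (Ξ.symm x) := rfl
    rw [h1, hker, Ideal.mem_span_singleton', Ideal.mem_span_singleton']
    constructor
    · rintro ⟨a, ha⟩
      refine ⟨Ξ a, ?_⟩
      have := congrArg Ξ ha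
      rw [map_mul, BialgEquiv.apply_symm_apply] at this
      exact this
    · rintro ⟨a, ha⟩
      refine ⟨Ξ.symm a, ?_⟩
      rw [← ha, map_mul, BialgEquiv.symm_apply_apply]

theorem IsClopenIdem.baseChange {e : H} (h : IsClopenIdem S H e) (S' : Type u) [CommRing S']
    [Algebra S S'] : IsClopenIdem S' (S' ⊗[S] H) ((1 : S') ⊗ₜ[S] e) := by
  obtain ⟨G, _, _, π, hsurj, hker, hiso⟩ := h
  let π' : S' ⊗[S] H →ₐc[S'] S' ⊗[S] G := Bialgebra.TensorProduct.map (BialgHom.id S' S') π
  have hπ' : ∀ x, π' x = Algebra.TensorProduct.map (AlgHom.id S S') (π : H →ₐ[S] G) x := by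
    intro x
    induction x with
    | zero => simp
    | add x y hx hy => rw [map_add, map_add, hx, hy]
    | tmul a c => rfl
  refine ⟨S' ⊗[S] G, inferInstance, inferInstance, π', ?_, ?_, isIsotrivial_baseChange hiso S'⟩
  · intro y
    induction y with
    | zero => exact ⟨0, map_zero _⟩
    | add x y hx hy =>
      obtain ⟨a, ha⟩ := hx
      obtain ⟨b, hb⟩ := hy
      exact ⟨a + b, by rw [map_add, ha, hb]⟩
    | tmul s g =>
      obtain ⟨x, rfl⟩ := hsurj g
      exact ⟨s ⊗ₜ x, rfl⟩
  · intro x
    rw [hπ']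
    have hk := Algebra.TensorProduct.lTensor_ker (A := S') (π : H →ₐ[S] G) hsurj
    have hkπ : RingHom.ker (π : H →ₐ[S] G) = Ideal.span {e} := by
      ext y
      rw [RingHom.mem_ker]
      exact hker y
    rw [hkπ, Ideal.map_span, Set.image_singleton] at hk
    rw [← RingHom.mem_ker, hk]
    rfl

end clopenidem

section kernel
variable {S : Type u} [CommRing S] {H : Type u} [CommRing H] [HopfAlgebra S H]
  {G : Type u} [CommRing G] [HopfAlgebra S G] (π : H →ₐc[S] G)
  (hsurj : Function.Surjective π) (I : Ideal H) (hker : ∀ x, π x = 0 ↔ x ∈ I)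
include hsurj hker

/-- the linear isomorphism `H ⧸ I ≃ G` -/
noncomputable def quotLinearEquiv : (H ⧸ I.restrictScalars S) ≃ₗ[S] G :=
  LinearEquiv.ofBijective
    ((I.restrictScalars S).liftQ (π : H →ₗ[S] G) (fun x hx => (hker x).mpr hx))
    ⟨by
      rw [← LinearMap.ker_eq_bot, Submodule.ker_liftQ_eq_bot']
      ext x
      rw [LinearMap.mem_ker]
      exact (hker x).symm, by
      intro g
      obtain ⟨x, rfl⟩ := hsurj g
      exact ⟨Submodule.Quotient.mk x, rfl⟩⟩

lemma quotLinearEquiv_mk (x : H) :
    quotLinearEquiv π hsurj I hker (Submodule.Quotient.mk x) = π x := rfl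

/-- the kernel of a surjective bialgebra map is a Hopf ideal -/
theorem isHopfIdeal_of_ker : I.IsHopfIdeal S := by
  refine { counit_eq_zero := ?_, map_mkQ_comul_eq_zero := ?_, antipode_mem := ?_ }
  · intro x hx
    have h1 := CoalgHomClass.counit_comp_apply π x
    rw [(hker x).mpr hx, map_zero] at h1
    exact h1.symm
  · intro x hx
    apply (TensorProduct.congr (quotLinearEquiv π hsurj I hker)
      (quotLinearEquiv π hsurj I hker)).injective
    rw [map_zero]
    have h1 : ∀ y : H ⊗[S] H, TensorProduct.congr (quotLinearEquiv π hsurj I hker)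
        (quotLinearEquiv π hsurj I hker)
        (TensorProduct.map (I.restrictScalars S).mkQ (I.restrictScalars S).mkQ y) =
        TensorProduct.map (π : H →ₗ[S] G) (π : H →ₗ[S] G) y := by
      intro y
      induction y with
      | zero => simp
      | add a b ha hb => simp only [map_add, ha, hb]
      | tmul a b => rfl
    rw [h1]
    have h2 := CoalgHomClass.map_comp_comul_apply π x
    rw [(hker x).mpr hx, map_zero] at h2
    exact h2
  · intro x hx
    rw [← hker]
    have h1 := Groth.Agent.H15.MTHens.antipode_bialgHom_apply π x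
    rw [← h1, (hker x).mpr hx, map_zero]

end kernel

end Groth.Agent.H15.NF
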