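import Groth.Agent.H15.HopfNF15

/-!
# Schematic density of the torsion subgroups from an open and closed subgroup of multiplicative
type; the case of finite torsion subgroups over a local ring (SGA3 X 4.8 (b), local form)
-/

set_option autoImplicit false
set_option linter.style.haveILetI false
set_option linter.unusedSectionVars false
universe u
open TensorProduct Coalgebra IsLocalRing

namespace Groth.Agent.H15.NF
open Groth.Agent.H26 Groth.Agent.H15.MTC Groth.Agent.H15.HA Groth.Agent.H15.HF SGA3b
open Groth.Agent.H15.MT

attribute [local instance] Algebra.TensorProduct.rightAlgebra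

section quot
variable {S : Type u} [CommRing S] {H : Type u} [CommRing H] [HopfAlgebra S H]
  {G : Type u} [CommRing G] [HopfAlgebra S G] (π : H →ₐc[S] G)
  (hsurj : Function.Surjective π) (I : Ideal H) (hker : ∀ x, π x = 0 ↔ x ∈ I)
  [I.IsHopfIdeal S]
include hsurj hker

/-- the quotient by the kernel of a surjective bialgebra map is the target -/
theorem nonempty_quotBialgEquiv : Nonempty ((H ⧸ I) ≃ₐc[S] G) := by
  let φ : (H ⧸ I) →ₐ[S] G :=
    Ideal.Quotient.liftₐ I (π : H →ₐ[S] G) (fun x hx => (hker x).mpr hx)
  have hφ : ∀ x : H, φ (Ideal.Quotient.mk I x) = π x := fun x => rfl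
  have hbij : Function.Bijective φ := by
    constructor
    · rw [injective_iff_map_eq_zero]
      intro y hy
      obtain ⟨x, rfl⟩ := Ideal.Quotient.mk_surjective y
      rw [hφ] at hy
      exact Ideal.Quotient.eq_zero_iff_mem.mpr ((hker x).mp hy)
    · intro g
      obtain ⟨x, rfl⟩ := hsurj g
      exact ⟨Ideal.Quotient.mk I x, rfl⟩
  let ψ : (H ⧸ I) →ₐc[S] G := BialgHom.ofAlgHom φ
    (by
      apply AlgHom.ext
      intro y
      obtain ⟨x, rfl⟩ := Ideal.Quotient.mk_surjective y
      change Coalgebra.counit (R := S) (φ (Ideal.Quotient.mk I x)) =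
        Coalgebra.counit (R := S) (Ideal.Quotient.mk I x)
      rw [hφ, Bialgebra.Quotient.counit_mk]
      exact CoalgHomClass.counit_comp_apply π x)
    (by
      apply AlgHom.ext
      intro y
      obtain ⟨x, rfl⟩ := Ideal.Quotient.mk_surjective y
      change TensorProduct.map φ.toLinearMap φ.toLinearMap
        (Coalgebra.comul (R := S) (Ideal.Quotient.mk I x)) =
        Coalgebra.comul (R := S) (φ (Ideal.Quotient.mk I x))
      rw [hφ, Bialgebra.Quotient.comul_mk, ← CoalgHomClass.map_comp_comul_apply π x]
      generalize Coalgebra.comul (R := S) x = y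
      induction y with
      | zero => simp
      | add a b ha hb => simp only [map_add, ha, hb]
      | tmul a b => rfl)
  exact ⟨BialgEquiv.ofBijective ψ hbij⟩

end quot

section dense
variable {k : Type u} [Field k] {H : Type u} [CommRing H] [HopfAlgebra k H] [IsCocomm k H]

/-- schematic density of the torsion subgroups, from an open and closed subgroup of
multiplicative type -/
theorem dense_of_isClopenIdem (hft : Algebra.FiniteType k H) (e : H) (he : IsIdempotentElem e)
    (h : IsClopenIdem k H e) : Dense k H := by
  obtain ⟨G, _, _, π, hsurj, hker, hiso⟩ := h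
  haveI : (Ideal.span {e}).IsHopfIdeal k := isHopfIdeal_of_ker π hsurj _ hker
  obtain ⟨E⟩ := nonempty_quotBialgEquiv π hsurj (Ideal.span {e}) hker
  have hiso' : IsIsotrivial k (H ⧸ Ideal.span {e}) :=
    Groth.Agent.H15.MTI.isIsotrivial_of_bialgEquiv E hiso
  have hmt : IsMultType k (H ⧸ Ideal.span {e}) := by
    apply Groth.Agent.H15.MTF.isMultType_of_isMultTypeConst
    obtain ⟨T, _, _, -, -, hff, hd⟩ := hiso'
    exact ⟨T, inferInstance, inferInstance, hff, hd⟩
  exact Groth.Agent.H15.MTT.dense_of_open_multType hft e he hmt

end dense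

end Groth.Agent.H15.NF
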