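import Groth.Agent.H15.HopfNF16

/-!
# Finite torsion subgroups over a local ring (SGA3 X 4.8 (b), local form, without global flatness)
-/

set_option autoImplicit false
set_option linter.style.haveILetI false
set_option linter.unusedSectionVars false
universe u
open TensorProduct Coalgebra IsLocalRing

namespace Groth.Agent.H15.NF
open Groth.Agent.H26 Groth.Agent.H15.MTC Groth.Agent.H15.HA Groth.Agent.H15.HF SGA3b
open Groth.Agent.H15.MT

attribute [local instance] Algebra.TensorProduct.rightAlgebra

section tors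
variable {R : Type u} [CommRing R] {A : Type u} [CommRing A] [HopfAlgebra R A]

/-- an idempotent in the ideal of the closed fibre lies in the ideals of the finite torsion
subgroups -/
theorem mem_map_torsionIdeal_of_idem (S : Type u) [CommRing S] [IsLocalRing S] [Algebra R S]
    (e : S ⊗[R] A) (he : IsIdempotentElem e)
    (hem : e ∈ (maximalIdeal S).map (algebraMap S (S ⊗[R] A))) (n : ℕ)
    (hfin : Module.Finite R (A ⧸ torsionIdeal R A n)) :
    e ∈ (torsionIdeal R A n).map (Algebra.TensorProduct.includeRight : A →ₐ[R] S ⊗[R] A) := by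
  haveI := hfin
  let q : S ⊗[R] A →ₐ[S] S ⊗[R] (A ⧸ torsionIdeal R A n) :=
    Algebra.TensorProduct.map (AlgHom.id S S) (Ideal.Quotient.mkₐ R (torsionIdeal R A n))
  have hq : q e = 0 := by
    apply idem_eq_zero_of_finite (S := S) (q e) (he.map q)
    have h2 : (maximalIdeal S).map (algebraMap S (S ⊗[R] A)) ≤
        Ideal.comap q ((maximalIdeal S).map
          (algebraMap S (S ⊗[R] (A ⧸ torsionIdeal R A n)))) := by
      rw [Ideal.map_le_iff_le_comap]
      intro s hs
      rw [Ideal.mem_comap, Ideal.mem_comap, q.commutes]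
      exact Ideal.mem_map_of_mem _ hs
    exact h2 hem
  have hk := Algebra.TensorProduct.lTensor_ker (A := S)
    (Ideal.Quotient.mkₐ R (torsionIdeal R A n)) (Ideal.Quotient.mkₐ_surjective R _)
  have hker : RingHom.ker (Ideal.Quotient.mkₐ R (torsionIdeal R A n)) = torsionIdeal R A n := by
    ext a
    rw [RingHom.mem_ker, Ideal.Quotient.mkₐ_eq_mk, Ideal.Quotient.eq_zero_iff_mem]
  rw [hker] at hk
  rw [← hk, RingHom.mem_ker]
  exact hq

/-- base change of the ideals of the torsion subgroups to a field -/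
theorem map_mem_torsionIdeal_field (S : Type u) [CommRing S] [Algebra R S] (K : Type u) [Field K]
    [Algebra R K] [Algebra S K] [IsScalarTower R S K] (n : ℕ) (x : S ⊗[R] A)
    (hx : x ∈ (torsionIdeal R A n).map
      (Algebra.TensorProduct.includeRight : A →ₐ[R] S ⊗[R] A)) :
    Algebra.TensorProduct.map (IsScalarTower.toAlgHom R S K) (AlgHom.id R A) x ∈
      torsionIdeal K (K ⊗[R] A) n := by
  set g : S ⊗[R] A →ₐ[R] K ⊗[R] A :=
    Algebra.TensorProduct.map (IsScalarTower.toAlgHom R S K) (AlgHom.id R A) with hg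
  apply Groth.Agent.H15.MTHens.map_includeRight_torsionIdeal_le K n
  have h3 : (torsionIdeal R A n).map
      (Algebra.TensorProduct.includeRight : A →ₐ[R] S ⊗[R] A) ≤
      Ideal.comap g ((torsionIdeal R A n).map
        (Algebra.TensorProduct.includeRight : A →ₐ[R] K ⊗[R] A)) := by
    rw [Ideal.map_le_iff_le_comap]
    intro a ha
    rw [Ideal.mem_comap, Ideal.mem_comap]
    have h4 : g ((Algebra.TensorProduct.includeRight : A →ₐ[R] S ⊗[R] A) a) =
        (Algebra.TensorProduct.includeRight : A →ₐ[R] K ⊗[R] A) a := by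
      simp [hg]
    rw [h4]
    exact Ideal.mem_map_of_mem _ ha
  exact h3 hx

end tors

section fibreequiv
variable {R : Type u} [CommRing R] {C : Type u} [CommRing C] [HopfAlgebra R C]
  (S : Type u) [CommRing S] [Algebra R S] (K : Type u) [CommRing K] [Algebra R K] [Algebra S K]
  [IsScalarTower R S K]

/-- `K ⊗[S] (S ⊗[R] C) ≃ K ⊗[R] C` as bialgebras, with its formula -/
theorem exists_fibre_equiv :
    ∃ Ξ : K ⊗[S] (S ⊗[R] C) ≃ₐc[K] K ⊗[R] C, ∀ x : S ⊗[R] C,
      Ξ ((1 : K) ⊗ₜ[S] x) =
        Algebra.TensorProduct.map (IsScalarTower.toAlgHom R S K) (AlgHom.id R C) x := by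
  haveI : IsScalarTower R S (K ⊗[R] C) := IsScalarTower.of_algebraMap_eq fun r => by
    rw [Algebra.TensorProduct.algebraMap_apply, Algebra.TensorProduct.algebraMap_apply,
      ← IsScalarTower.algebraMap_apply]
  let θ : C →ₐ[R] K ⊗[R] C := Algebra.TensorProduct.includeRight
  have hco : IsCoalgMapOver K θ.toLinearMap := isCoalgMapOver_inc (R := R) K C
  have hbc : IsBaseChange K θ.toLinearMap := TensorProduct.isBaseChange R C K
  have h1 : IsCoalgMapOver K (liftAlg S θ).toLinearMap := isCoalgMapOver_liftAlg S hco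
  have h2 : IsBaseChange K (liftAlg S θ).toLinearMap := isBaseChange_liftAlg S hbc
  obtain ⟨Ξ, hΞ⟩ := exists_bialgEquiv_of_chart (liftAlg K (liftAlg S θ))
    (isCoalgMapOver_liftAlg K h1) (isBaseChange_liftAlg K h2)
  refine ⟨Ξ, fun x => ?_⟩
  rw [hΞ, liftAlg_tmul, one_smul]
  induction x with
  | zero => simp
  | add x y hx hy => rw [map_add, map_add, hx, hy]
  | tmul s c =>
    rw [liftAlg_tmul, Algebra.TensorProduct.map_tmul]
    change s • ((1 : K) ⊗ₜ[R] c) = (algebraMap S K s) ⊗ₜ[R] c
    rw [Algebra.smul_def, Algebra.TensorProduct.algebraMap_apply,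
      Algebra.TensorProduct.tmul_mul_tmul, mul_one, one_mul]

end fibreequiv

end Groth.Agent.H15.NF
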