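import Groth.Agent.H15.HopfNF17

/-!
# SGA3 X 4.8 (b) over a local ring: commutative groups, flat along the closed fibre of
multiplicative type, with finite torsion subgroups
-/

set_option autoImplicit false
set_option linter.style.haveILetI false
set_option linter.unusedSectionVars false
universe u
open TensorProduct Coalgebra IsLocalRing

namespace Groth.Agent.H15.NF
open Groth.Agent.H26 Groth.Agent.H15.MTC Groth.Agent.H15.HA Groth.Agent.H15.HF SGA3b
open Groth.Agent.H15.MT

section main
variable (R : Type u) [CommRing R] [IsLocalRing R] (C : Type u) [CommRing C] [HopfAlgebra R C]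
  [Coalgebra.IsCocomm R C]

theorem isMultTypeConst_of_isLocalRing_of_torsion_finite (hfp : Algebra.FinitePresentation R C)
    (hfl : ∀ (q : Ideal C) [q.IsPrime], (maximalIdeal R).map (algebraMap R C) ≤ q →
      Module.Flat R (Localization.AtPrime q))
    (hs : IsMultType (ResidueField R) (ResidueField R ⊗[R] C))
    (hfin : ∀ n : ℕ, 0 < n → Module.Finite R (C ⧸ torsionIdeal R C n)) :
    IsMultTypeConst R C := by
  haveI := hfp
  obtain ⟨R'', _, _, _, hff, hcl''⟩ := exists_cover_hasClopen R C hfp hfl hs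
  haveI := hff
  obtain ⟨e, he, hem, hclo⟩ := hcl''.exists_idem
  have h1 : ∀ n : ℕ, 0 < n → e ∈ (torsionIdeal R C n).map
      (Algebra.TensorProduct.includeRight : C →ₐ[R] R'' ⊗[R] C) := fun n hn =>
    mem_map_torsionIdeal_of_idem R'' e he hem n (hfin n hn)
  have hnil : IsNilpotent e := by
    apply isNilpotent_of_fibres
    intro K _ _ _ _
    obtain ⟨Ξ, hΞ⟩ := exists_fibre_equiv (R := R) (C := C) R'' K
    have hK1 : IsClopenIdem K (K ⊗[R''] (R'' ⊗[R] C)) ((1 : K) ⊗ₜ[R''] e) := hclo.baseChange K
    have hK2 := hK1.of_equiv Ξ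
    rw [hΞ] at hK2
    have hftK : Algebra.FiniteType K (K ⊗[R] C) := inferInstance
    have hD : Dense K (K ⊗[R] C) := dense_of_isClopenIdem hftK _
      (he.map (Algebra.TensorProduct.map (IsScalarTower.toAlgHom R R'' K) (AlgHom.id R C))) hK2
    have hx : ∀ n : ℕ, 0 < n →
        Algebra.TensorProduct.map (IsScalarTower.toAlgHom R R'' K) (AlgHom.id R C) e ∈
          torsionIdeal K (K ⊗[R] C) n := fun n hn =>
      map_mem_torsionIdeal_field R'' K n e (h1 n hn)
    obtain ⟨j, hj⟩ := hD 1 _ (fun n hn => ⟨0, by simpa using hx n hn⟩)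
    simpa using hj
  have he0 : e = 0 := by
    obtain ⟨n, hn⟩ := hnil
    rcases n with _ | n
    · rw [pow_zero] at hn
      rw [← mul_one e, hn, mul_zero]
    · rwa [he.pow_succ_eq] at hn
  have hiso : IsIsotrivial R'' (R'' ⊗[R] C) := hclo.isIsotrivial he0
  obtain ⟨T, _, _, -, -, hffT, M, _, ⟨E⟩⟩ := hiso
  haveI := hffT
  letI : Algebra R T := ((algebraMap R'' T).comp (algebraMap R R'')).toAlgebra
  haveI : IsScalarTower R R'' T := IsScalarTower.of_algebraMap_eq fun _ => rfl
  haveI : Module.FaithfullyFlat R T := Module.FaithfullyFlat.trans R R'' T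
  have h1 : HasDChart R'' (R'' ⊗[R] C) T M := HasDChart.of_equiv E
  have h2 : HasDChart R C T M := HasDChart.of_baseChange R'' h1
  exact ⟨T, inferInstance, inferInstance, inferInstance, M, inferInstance,
    (h2.baseChange T).nonempty_equiv⟩

end main

end Groth.Agent.H15.NF
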