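import Groth.Agent.H15.HopfFib11
import Groth.Agent.H15.MultDense

/-!
# Finite torsion subgroups: idempotents of the augmentation ideal vanish (SGA3 X 4.8 (b))
-/

set_option autoImplicit false
set_option linter.style.haveILetI false
set_option linter.unusedSectionVars false
universe u
open TensorProduct Coalgebra IsLocalRing

namespace Groth.Agent.H15.HF
open Groth.Agent.H26 Groth.Agent.H15.MTC Groth.Agent.H15.MT SGA3b

section nak
variable {S : Type*} [CommRing S] [IsLocalRing S] {F : Type*} [CommRing F] [Algebra S F]
  [Module.Finite S F]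

/-- Nakayama: an idempotent of a finite algebra over a local ring lying in the ideal of the closed
fibre vanishes -/
theorem idem_eq_zero_of_finite (e : F) (he : IsIdempotentElem e)
    (hem : e ∈ (maximalIdeal S).map (algebraMap S F)) : e = 0 := by
  let N : Submodule S F := LinearMap.range (LinearMap.mulLeft S e)
  have hNfg : N.FG := by
    have h1 : (⊤ : Submodule S F).FG := Module.Finite.fg_top
    have h2 := h1.map (LinearMap.mulLeft S e)
    rwa [Submodule.map_top] at h2
  have hmulN : ∀ (f x : F), x ∈ N → f * x ∈ N := by
    rintro f x ⟨y, rfl⟩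
    refine ⟨f * y, ?_⟩
    simp only [LinearMap.mulLeft_apply]
    ring
  have hle : N ≤ (maximalIdeal S) • N := by
    rintro x ⟨y, rfl⟩
    simp only [LinearMap.mulLeft_apply]
    have hx : e * (e * y) = e * y := by rw [← mul_assoc, he.eq]
    rw [← hx]
    have hem' : e ∈ (maximalIdeal S • ⊤ : Submodule S F) := by
      rw [Ideal.smul_top_eq_map]
      exact hem
    have hxN : e * y ∈ N := ⟨y, rfl⟩
    generalize e * y = x at hxN
    refine Submodule.smul_induction_on hem' ?_ ?_
    · intro m hm f _
      rw [smul_mul_assoc]
      exact Submodule.smul_mem_smul hm (hmulN f x hxN)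
    · intro a b ha hb
      rw [add_mul]
      exact Submodule.add_mem _ ha hb
  have hN : N = ⊥ :=
    Submodule.eq_bot_of_le_smul_of_le_jacobson_bot (maximalIdeal S) N hNfg hle
      (maximalIdeal_le_jacobson ⊥)
  have heN : e ∈ N := ⟨e, by simp only [LinearMap.mulLeft_apply]; exact he.eq⟩
  rw [hN, Submodule.mem_bot] at heN
  exact heN

end nak

section fibres
variable {R : Type u} [CommRing R] {A : Type u} [CommRing A] [Algebra R A]
  {S : Type u} [CommRing S] [Algebra R S]

/-- an element of `S ⊗ A` vanishing in all the fibres over the residue fields of `S ⊗ A` is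
nilpotent -/
theorem isNilpotent_of_fibres (x : S ⊗[R] A)
    (h : ∀ (K : Type u) [Field K] [Algebra R K] [Algebra S K] [IsScalarTower R S K],
      Algebra.TensorProduct.map (IsScalarTower.toAlgHom R S K) (AlgHom.id R A) x = 0) :
    IsNilpotent x := by
  rw [nilpotent_iff_mem_prime]
  intro Q hQ
  haveI := hQ
  let g : S ⊗[R] A →ₐ[R] Q.ResidueField ⊗[R] A :=
    Algebra.TensorProduct.map (IsScalarTower.toAlgHom R S Q.ResidueField) (AlgHom.id R A)
  have h1 : g x = 0 := h Q.ResidueField
  let hh : Q.ResidueField ⊗[R] A →ₐ[R] Q.ResidueField :=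
    Algebra.TensorProduct.lift (AlgHom.id R Q.ResidueField)
      ((IsScalarTower.toAlgHom R (S ⊗[R] A) Q.ResidueField).comp
        Algebra.TensorProduct.includeRight) (fun _ _ => Commute.all _ _)
  have hhg : ∀ x : S ⊗[R] A, hh (g x) = algebraMap (S ⊗[R] A) Q.ResidueField x := by
    intro x
    induction x with
    | zero => simp
    | add x y hx hy => simp only [map_add, hx, hy]
    | tmul s a =>
      rw [Algebra.TensorProduct.map_tmul, Algebra.TensorProduct.lift_tmul]
      simp only [IsScalarTower.coe_toAlgHom', AlgHom.id_apply, AlgHom.comp_apply,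
        Algebra.TensorProduct.includeRight_apply]
      rw [IsScalarTower.algebraMap_apply S (S ⊗[R] A) Q.ResidueField, ← map_mul,
        Algebra.TensorProduct.algebraMap_apply, Algebra.TensorProduct.tmul_mul_tmul, mul_one,
        one_mul]
      rfl
  have h2 := hhg x
  rw [h1, map_zero] at h2
  exact Ideal.algebraMap_residueField_eq_zero.mp h2.symm

end fibres

end Groth.Agent.H15.HF
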