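import Groth.Agent.H3.HenselQF2
import Groth.Agent.H3.IsolatedFinite
import Groth.Agent.H15.HopfTors1

/-!
# The finite part of an algebra of finite type with finite closed fibre over a henselian local
ring; uniqueness of the corresponding idempotent
-/

set_option autoImplicit false
set_option linter.style.haveILetI false
set_option linter.unusedSectionVars false
universe u
open TensorProduct IsLocalRing

namespace Groth.Agent.H15.NF

section finitepart
variable (R : Type u) [CommRing R] [HenselianLocalRing R]
  (D : Type u) [CommRing D] [Algebra R D] [Algebra.FiniteType R D]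

/-- every prime over the maximal ideal is quasi-finite when the closed fibre is finite -/
theorem quasiFiniteAt_of_finite_fibre
    (hfib : Module.Finite R (D ⧸ (maximalIdeal R).map (algebraMap R D)))
    (q : Ideal D) [q.IsPrime] [q.LiesOver (maximalIdeal R)] : Algebra.QuasiFiniteAt R q := by
  set m := maximalIdeal R with hm
  have hsurj : Function.Surjective (algebraMap R m.ResidueField) :=
    Ideal.algebraMap_residueField_surjective m
  -- the fibre is a finite module
  let g : D →ₗ[R] m.ResidueField ⊗[R] D := TensorProduct.mk R m.ResidueField D 1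
  have hg : Function.Surjective g := by
    intro x
    induction x using TensorProduct.induction_on with
    | zero => exact ⟨0, map_zero _⟩
    | add x y hx hy =>
      obtain ⟨a, rfl⟩ := hx
      obtain ⟨b, rfl⟩ := hy
      exact ⟨a + b, map_add _ _ _⟩
    | tmul a d =>
      obtain ⟨r, rfl⟩ := hsurj a
      refine ⟨r • d, ?_⟩
      change (1 : m.ResidueField) ⊗ₜ[R] (r • d) = _
      rw [tmul_smul, smul_tmul', Algebra.smul_def, mul_one]
  have hker : (m.map (algebraMap R D)).restrictScalars R ≤ LinearMap.ker g := by
    intro x hx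
    rw [Submodule.restrictScalars_mem] at hx
    rw [LinearMap.mem_ker]
    refine Submodule.span_induction (p := fun x _ => g x = 0) ?_ ?_ ?_ ?_ hx
    · rintro _ ⟨r, hr, rfl⟩
      change (1 : m.ResidueField) ⊗ₜ[R] (algebraMap R D r) = 0
      rw [Algebra.algebraMap_eq_smul_one, tmul_smul, smul_tmul', Algebra.smul_def, mul_one,
        (Ideal.algebraMap_residueField_eq_zero).mpr hr, zero_tmul]
    · exact map_zero _
    · intro x y _ _ hx hy
      rw [map_add, hx, hy, add_zero]
    · intro a x _ hx
      change g (a * x) = 0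
      have h1 : g (a * x) = (1 : m.ResidueField) ⊗ₜ[R] a * g x := by
        change (1 : m.ResidueField) ⊗ₜ[R] (a * x) = (1 : m.ResidueField) ⊗ₜ[R] a *
          (1 : m.ResidueField) ⊗ₜ[R] x
        rw [Algebra.TensorProduct.tmul_mul_tmul, one_mul]
      rw [h1, hx, mul_zero]
  let g' : (D ⧸ m.map (algebraMap R D)) →ₗ[R] m.ResidueField ⊗[R] D :=
    ((m.map (algebraMap R D)).restrictScalars R).liftQ g hker
  have hg' : Function.Surjective g' := by
    intro x
    obtain ⟨d, rfl⟩ := hg x
    exact ⟨Submodule.Quotient.mk d, rfl⟩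
  haveI : Module.Finite R (m.ResidueField ⊗[R] D) := Module.Finite.of_surjective g' hg'
  haveI hfinK : Module.Finite m.ResidueField (m.Fiber D) :=
    Module.Finite.of_restrictScalars_finite R m.ResidueField (m.ResidueField ⊗[R] D)
  let q' : Ideal (m.Fiber D) :=
    (PrimeSpectrum.primesOverOrderIsoFiber R D m ⟨q, ‹_›, ‹_›⟩).asIdeal
  have hq' : q = q'.comap Algebra.TensorProduct.includeRight.toRingHom :=
    congr($((PrimeSpectrum.primesOverOrderIsoFiber R D m).symm_apply_apply
      ⟨q, ‹_›, ‹_›⟩).1).symm
  haveI : Algebra.QuasiFiniteAt m.ResidueField q' := inferInstance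
  exact Algebra.QuasiFiniteAt.of_quasiFiniteAt_residueField m q q' hq'.symm

/-- **the finite part**: an algebra of finite type over a henselian local ring whose closed fibre
is finite splits off a finite algebra carrying the whole closed fibre -/
theorem exists_finite_part
    (hfib : Module.Finite R (D ⧸ (maximalIdeal R).map (algebraMap R D))) :
    ∃ f : D, IsIdempotentElem f ∧ Module.Finite R (D ⧸ Ideal.span ({1 - f} : Set D)) ∧
      1 - f ∈ (maximalIdeal R).map (algebraMap R D) := by
  classical
  have hfin := Groth.Agent.H3.finite_quasiFiniteAt_primesOver R D (maximalIdeal R)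
  obtain ⟨e, hei, hefg, heF⟩ := Groth.Agent.H3.exists_idempotent_of_finset R D hfin.toFinset (by
    intro q hq
    rw [Set.Finite.mem_toFinset] at hq
    exact hq)
  refine ⟨e, hei, Groth.Agent.H3.finite_quotient_of_idemSub_fg hefg, ?_⟩
  have htop : (maximalIdeal R).map (algebraMap R D) ⊔ Ideal.span {e} = ⊤ := by
    by_contra hne
    obtain ⟨M, hM, hle⟩ := Ideal.exists_le_maximal _ hne
    haveI := hM.isPrime
    have hMm : M.LiesOver (maximalIdeal R) := by
      constructor
      have h1 : maximalIdeal R ≤ Ideal.under R M := by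
        rw [Ideal.under]
        exact Ideal.map_le_iff_le_comap.mp (le_sup_left.trans hle)
      exact (maximalIdeal.isMaximal R).eq_of_le (Ideal.IsPrime.under R _).ne_top h1
    haveI := hMm
    have hmem : M ∈ hfin.toFinset := by
      rw [Set.Finite.mem_toFinset]
      exact ⟨inferInstance, hMm, quasiFiniteAt_of_finite_fibre R D hfib M⟩
    exact heF M hmem (hle (Ideal.mem_sup_right (Ideal.subset_span rfl)))
  have h1 : (1 : D) ∈ (maximalIdeal R).map (algebraMap R D) ⊔ Ideal.span {e} := by
    rw [htop]; trivial
  obtain ⟨x, hx, y, hy, hxy⟩ := Submodule.mem_sup.mp h1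
  obtain ⟨z, rfl⟩ := Ideal.mem_span_singleton'.mp hy
  have h2 : 1 - e = (1 - e) * x := by
    have := hei.eq
    linear_combination (-(1 - e)) * hxy - z * this
  rw [h2]
  exact Ideal.mul_mem_left _ _ hx

end finitepart

section uniq
variable {S : Type u} [CommRing S] [IsLocalRing S] {E : Type u} [CommRing E] [Algebra S E]

theorem mul_one_sub_eq_zero_of_finite (f g : E) (hf : IsIdempotentElem f)
    (hg : IsIdempotentElem g)
    (hfin : Module.Finite S (E ⧸ Ideal.span ({1 - f} : Set E)))
    (hgm : 1 - g ∈ (maximalIdeal S).map (algebraMap S E)) : f * (1 - g) = 0 := by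
  haveI := hfin
  let π : E →ₐ[S] (E ⧸ Ideal.span ({1 - f} : Set E)) := Ideal.Quotient.mkₐ S _
  have hx : IsIdempotentElem (1 - g) := hg.one_sub
  have hπx : IsIdempotentElem (π (1 - g)) := hx.map π
  have hmem : π (1 - g) ∈ (maximalIdeal S).map (algebraMap S (E ⧸ Ideal.span ({1 - f} : Set E))) := by
    have h2 : (maximalIdeal S).map (algebraMap S E) ≤
        Ideal.comap π ((maximalIdeal S).map
          (algebraMap S (E ⧸ Ideal.span ({1 - f} : Set E)))) := by
      rw [Ideal.map_le_iff_le_comap]
      intro s hs
      rw [Ideal.mem_comap, Ideal.mem_comap, π.commutes]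
      exact Ideal.mem_map_of_mem _ hs
    exact h2 hgm
  have h0 := Groth.Agent.H15.HF.idem_eq_zero_of_finite (S := S) (π (1 - g)) hπx hmem
  have h1 : (1 - g) ∈ Ideal.span ({1 - f} : Set E) := by
    rw [← Ideal.Quotient.eq_zero_iff_mem]
    exact h0
  obtain ⟨y, hy⟩ := Ideal.mem_span_singleton'.mp h1
  rw [← hy]
  have := hf.eq
  linear_combination (-y) * this

/-- uniqueness of the idempotent cutting out the finite part -/
theorem idem_eq_of_finite (f g : E) (hf : IsIdempotentElem f) (hg : IsIdempotentElem g)
    (hffin : Module.Finite S (E ⧸ Ideal.span ({1 - f} : Set E)))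
    (hgfin : Module.Finite S (E ⧸ Ideal.span ({1 - g} : Set E)))
    (hfm : 1 - f ∈ (maximalIdeal S).map (algebraMap S E))
    (hgm : 1 - g ∈ (maximalIdeal S).map (algebraMap S E)) : f = g := by
  have h1 := mul_one_sub_eq_zero_of_finite f g hf hg hffin hgm
  have h2 := mul_one_sub_eq_zero_of_finite g f hg hf hgfin hfm
  linear_combination h1 - h2

end uniq

end Groth.Agent.H15.NF
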