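import Groth.Agent.H15.HopfNF1
import Groth.Agent.H1.FlatLocusColim

/-!
# Noetherian approximation without flatness: the directed system of stages, compactness
-/

set_option autoImplicit false
set_option linter.style.haveILetI false
set_option linter.unusedSectionVars false
universe u
open TensorProduct

namespace Groth.Agent.H15.NF
open Groth.Agent.H15.HA

section sys
variable {C₀ : Type u} [CommRing C₀] {R : Type u} [CommRing R] [Algebra C₀ R]
  {N₀ : Type u} [CommRing N₀] [Algebra C₀ N₀]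
  {A' : Type u} [CommRing A'] [Algebra R A'] [Algebra C₀ A'] [IsScalarTower C₀ R A']
  (ν : N₀ →ₐ[C₀] A')

instance (C : Subalgebra C₀ R) : IsScalarTower ↥C R A' :=
  IsScalarTower.of_algebraMap_eq fun _ => rfl

instance (C : Subalgebra C₀ R) : IsScalarTower C₀ ↥C A' :=
  IsScalarTower.of_algebraMap_eq fun x => by
    change algebraMap C₀ A' x = algebraMap R A' (algebraMap C₀ R x)
    rw [← IsScalarTower.algebraMap_apply]

/-- the algebra structure of `A'` over a stage -/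
@[reducible] noncomputable def stageAlgebra (C : Subalgebra C₀ R) : Algebra (↥C ⊗[C₀] N₀) A' :=
  (stageMap ν ↥C).toRingHom.toAlgebra

lemma equiv_rTensor (hν : IsBaseChange R ν.toLinearMap) (C : Subalgebra C₀ R)
    (x : ↥C ⊗[C₀] N₀) :
    hν.equiv (LinearMap.rTensor N₀ C.val.toLinearMap x) = stageMap ν ↥C x := by
  induction x with
  | zero => simp
  | add x y hx hy => rw [map_add, map_add, map_add, hx, hy]
  | tmul c n =>
    rw [LinearMap.rTensor_tmul, IsBaseChange.equiv_tmul, stageMap_tmul]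
    rfl

lemma stageMap_map {C C' : Subalgebra C₀ R} (h : C ≤ C') (x : ↥C ⊗[C₀] N₀) :
    stageMap ν ↥C' (Algebra.TensorProduct.map (Subalgebra.inclusion h) (AlgHom.id C₀ N₀) x) =
      stageMap ν ↥C x := by
  induction x with
  | zero => simp
  | add x y hx hy => rw [map_add, map_add, map_add, hx, hy]
  | tmul c n =>
    rw [Algebra.TensorProduct.map_tmul, stageMap_tmul, stageMap_tmul]
    rfl

theorem isDirectedColimitRing_stage (hν : IsBaseChange R ν.toLinearMap) :
    letI : ∀ C : FGSub C₀ R, Algebra (↥C.1 ⊗[C₀] N₀) A' := fun C => stageAlgebra ν C.1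
    FlatCA.IsDirectedColimitRing (fun C : FGSub C₀ R => ↥C.1 ⊗[C₀] N₀)
      (fun i j h => (Algebra.TensorProduct.map (Subalgebra.inclusion (show i.1 ≤ j.1 from h))
        (AlgHom.id C₀ N₀)).toRingHom) A' := by
  classical
  letI : ∀ C : FGSub C₀ R, Algebra (↥C.1 ⊗[C₀] N₀) A' := fun C => stageAlgebra ν C.1
  refine ⟨⟨fun a b => ⟨⟨a.1 ⊔ b.1, a.2.sup b.2⟩, (le_sup_left : a.1 ≤ a.1 ⊔ b.1),
    (le_sup_right : b.1 ≤ a.1 ⊔ b.1)⟩⟩, ⟨⟨⊥, Subalgebra.fg_bot⟩⟩, ?_, ?_, ?_, ?_, ?_⟩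
  · intro i
    apply RingHom.ext
    intro x
    induction x with
    | zero => simp
    | add x y hx hy => rw [map_add, hx, hy, map_add]
    | tmul c n => rfl
  · intro i j k hij hjk
    apply RingHom.ext
    intro x
    induction x with
    | zero => simp
    | add x y hx hy => rw [map_add, hx, hy, map_add]
    | tmul c n => rfl
  · intro i j h
    apply RingHom.ext
    intro x
    exact stageMap_map ν h x
  · intro a
    obtain ⟨S, hS⟩ := exists_rep hν a
    let C : Subalgebra C₀ R := Algebra.adjoin C₀ ((S.image Prod.fst : Finset R) : Set R)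
    have hmem : ∀ i ∈ S, i.1 ∈ C := fun i hi =>
      Algebra.subset_adjoin (Finset.mem_coe.mpr (Finset.mem_image_of_mem _ hi))
    refine ⟨⟨C, ⟨S.image Prod.fst, rfl⟩⟩,
      ∑ i ∈ S.attach, (⟨i.1.1, hmem i.1 i.2⟩ : ↥C) ⊗ₜ[C₀] i.1.2, ?_⟩
    change stageMap ν ↥C _ = a
    rw [map_sum, hS, ← Finset.sum_attach S]
    refine Finset.sum_congr rfl fun i _ => ?_
    rw [stageMap_tmul]
    rfl
  · intro i x hx
    have hx' : stageMap ν ↥i.1 x = 0 := hx
    rw [← equiv_rTensor ν hν, LinearEquiv.map_eq_zero_iff] at hx'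
    obtain ⟨C', hC', h, h0⟩ := exists_fg_rTensor_eq_zero N₀ i.1 i.2 x hx'
    refine ⟨⟨C', hC'⟩, h, ?_⟩
    rw [← h0]
    rfl

/-- compactness: algebra maps from a finitely presented algebra to the colimit factor through
a stage -/
theorem exists_stage_lift (hν : IsBaseChange R ν.toLinearMap) (B₀ : Type u) [CommRing B₀]
    [Algebra C₀ B₀] [Algebra.FinitePresentation C₀ B₀] (f : B₀ →ₐ[C₀] A') :
    ∃ (C : Subalgebra C₀ R) (_ : C.FG) (ψ : B₀ →ₐ[C₀] ↥C ⊗[C₀] N₀),
      ∀ b, stageMap ν ↥C (ψ b) = f b := by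
  letI : ∀ C : FGSub C₀ R, Algebra (↥C.1 ⊗[C₀] N₀) A' := fun C => stageAlgebra ν C.1
  haveI : ∀ C : FGSub C₀ R, IsScalarTower C₀ (↥C.1 ⊗[C₀] N₀) A' := fun C =>
    IsScalarTower.of_algebraMap_eq fun z => by
      change algebraMap C₀ A' z = stageMap ν ↥C.1 (algebraMap C₀ (↥C.1 ⊗[C₀] N₀) z)
      rw [IsScalarTower.algebraMap_apply C₀ ↥C.1 (↥C.1 ⊗[C₀] N₀), AlgHom.commutes,
        ← IsScalarTower.algebraMap_apply]
  obtain ⟨j, ψ, hψ⟩ := Groth.Agent.H1.FlatLocus.exists_algHom_of_isDirectedColimitRing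
    (Z := C₀) (fun C : FGSub C₀ R => ↥C.1 ⊗[C₀] N₀)
    (fun i j h => (Algebra.TensorProduct.map (Subalgebra.inclusion (show i.1 ≤ j.1 from h))
        (AlgHom.id C₀ N₀)).toRingHom)
    (fun i j h z => AlgHom.commutes _ z) A' (isDirectedColimitRing_stage ν hν) B₀ f
  exact ⟨j.1, j.2, ψ, hψ⟩

end sys

end Groth.Agent.H15.NF
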