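import Groth.Agent.H15.HopfNF19
import Groth.Agent.H15.HopfNF18

/-!
# Quotient lifts of bialgebra maps, faithfully flat descent of Hopf ideals and of bialgebra maps
-/

set_option autoImplicit false
set_option linter.style.haveILetI false
set_option linter.unusedSectionVars false
universe u
open TensorProduct Coalgebra IsLocalRing

namespace Groth.Agent.H15.NF
open Groth.Agent.H26 Groth.Agent.H15.MTC SGA3b

section quotlift
variable {S : Type u} [CommRing S] {H : Type u} [CommRing H] [HopfAlgebra S H]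
  {Z : Type u} [CommRing Z] [HopfAlgebra S Z] (I : Ideal H) [I.IsHopfIdeal S]

/-- a bialgebra map killing a Hopf ideal factors through the quotient -/
theorem exists_quotBialgHom (g : H →ₐc[S] Z) (hg : ∀ x ∈ I, g x = 0) :
    ∃ h : (H ⧸ I) →ₐc[S] Z, ∀ x : H, h (Ideal.Quotient.mk I x) = g x := by
  let φ : (H ⧸ I) →ₐ[S] Z := Ideal.Quotient.liftₐ I (g : H →ₐ[S] Z) hg
  have hφ : ∀ x : H, φ (Ideal.Quotient.mk I x) = g x := fun x => rfl
  let ψ : (H ⧸ I) →ₐc[S] Z := BialgHom.ofAlgHom φ
    (by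
      apply AlgHom.ext
      intro y
      obtain ⟨x, rfl⟩ := Ideal.Quotient.mk_surjective y
      change Coalgebra.counit (R := S) (φ (Ideal.Quotient.mk I x)) =
        Coalgebra.counit (R := S) (Ideal.Quotient.mk I x)
      rw [hφ, Bialgebra.Quotient.counit_mk]
      exact CoalgHomClass.counit_comp_apply g x)
    (by
      apply AlgHom.ext
      intro y
      obtain ⟨x, rfl⟩ := Ideal.Quotient.mk_surjective y
      change TensorProduct.map φ.toLinearMap φ.toLinearMap
        (Coalgebra.comul (R := S) (Ideal.Quotient.mk I x)) =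
        Coalgebra.comul (R := S) (φ (Ideal.Quotient.mk I x))
      rw [hφ, Bialgebra.Quotient.comul_mk, ← CoalgHomClass.map_comp_comul_apply g x]
      generalize Coalgebra.comul (R := S) x = y
      induction y with
      | zero => simp
      | add a b ha hb => simp only [map_add, ha, hb]
      | tmul a b => rfl)
  exact ⟨ψ, hφ⟩

end quotlift

section tm
variable (R : Type u) [CommRing R] (S : Type u) [CommRing S] [Algebra R S]
  (M : Type u) [AddCommGroup M] [Module R M]

lemma tmul₂_mk_eq (y : M ⊗[R] M) :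
    tmul₂ S (TensorProduct.mk R S M 1) y =
      TensorProduct.AlgebraTensorModule.distribBaseChange R S M M ((1 : S) ⊗ₜ[R] y) := by
  induction y with
  | zero => simp
  | add x y hx hy => rw [map_add, tmul_add, map_add, hx, hy]
  | tmul a b => simp [TensorProduct.AlgebraTensorModule.distribBaseChange_tmul]

theorem tmul₂_mk_injective [Module.FaithfullyFlat R S] :
    Function.Injective (tmul₂ S (TensorProduct.mk R S M 1)) := by
  intro x y hxy
  rw [tmul₂_mk_eq, tmul₂_mk_eq] at hxy
  have h1 := (TensorProduct.AlgebraTensorModule.distribBaseChange R S M M).injective hxy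
  exact Module.FaithfullyFlat.tensorProduct_mk_injective (A := R) (B := S) (M ⊗[R] M) h1

end tm

section hopfdesc
variable (R : Type u) [CommRing R] (S : Type u) [CommRing S] [Algebra R S]
  [Module.FaithfullyFlat R S] (C : Type u) [CommRing C] [HopfAlgebra R C] (K : Ideal C)

/-- membership in an ideal can be tested after a faithfully flat base change -/
theorem mem_of_tmul_mem_map (y : C)
    (hy : (1 : S) ⊗ₜ[R] y ∈ K.map (Algebra.TensorProduct.includeRight : C →ₐ[R] S ⊗[R] C)) :
    y ∈ K := by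
  have hk := Algebra.TensorProduct.lTensor_ker (A := S)
    (Ideal.Quotient.mkₐ R K) (Ideal.Quotient.mkₐ_surjective R _)
  have hker : RingHom.ker (Ideal.Quotient.mkₐ R K) = K := by
    ext a
    rw [RingHom.mem_ker, Ideal.Quotient.mkₐ_eq_mk, Ideal.Quotient.eq_zero_iff_mem]
  rw [hker] at hk
  rw [← hk, RingHom.mem_ker, Algebra.TensorProduct.map_tmul] at hy
  have h1 := Module.FaithfullyFlat.tensorProduct_mk_injective (A := R) (B := S) (C ⧸ K)
    (a₁ := Ideal.Quotient.mkₐ R K y) (a₂ := 0) (by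
      change (1 : S) ⊗ₜ[R] (Ideal.Quotient.mkₐ R K y) = (1 : S) ⊗ₜ[R] (0 : C ⧸ K)
      rw [tmul_zero]
      exact hy)
  exact Ideal.Quotient.eq_zero_iff_mem.mp h1

/-- **faithfully flat descent of Hopf ideals** -/
theorem isHopfIdeal_of_map
    (h : (K.map (Algebra.TensorProduct.includeRight : C →ₐ[R] S ⊗[R] C)).IsHopfIdeal S) :
    K.IsHopfIdeal R := by
  set K' := K.map (Algebra.TensorProduct.includeRight : C →ₐ[R] S ⊗[R] C) with hK'
  have hmem : ∀ x ∈ K, (1 : S) ⊗ₜ[R] x ∈ K' := fun x hx =>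
    Ideal.mem_map_of_mem (Algebra.TensorProduct.includeRight : C →ₐ[R] S ⊗[R] C) hx
  have hinc := isCoalgMapOver_inc (R := R) S C
  refine { counit_eq_zero := ?_, map_mkQ_comul_eq_zero := ?_, antipode_mem := ?_ }
  · intro x hx
    have h1 : Coalgebra.counit (R := S) ((1 : S) ⊗ₜ[R] x) = 0 :=
      h.counit_eq_zero (hmem x hx)
    have h2 := hinc.counit x
    change Coalgebra.counit (R := S) ((1 : S) ⊗ₜ[R] x) = _ at h2
    rw [h1] at h2
    exact (FaithfulSMul.algebraMap_injective R S) (h2.symm.trans (map_zero _).symm)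
  · intro x hx
    set I := K.restrictScalars R with hI
    set I' := K'.restrictScalars S with hI'
    -- the comparison map
    let θ₀ : S ⊗[R] C →ₗ[S] S ⊗[R] (C ⧸ I) :=
      TensorProduct.AlgebraTensorModule.map (LinearMap.id : S →ₗ[S] S) I.mkQ
    have hθ₀l : ∀ y, θ₀ y = LinearMap.lTensor S I.mkQ y := fun y => rfl
    have hθ₀ : I' ≤ LinearMap.ker θ₀ := by
      intro y hy
      rw [hI', Submodule.restrictScalars_mem, hK'] at hy
      have hy' : y ∈ (K.map (Algebra.TensorProduct.includeRight :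
          C →ₐ[R] S ⊗[R] C)).restrictScalars R := hy
      rw [Ideal.map_includeRight_eq] at hy'
      obtain ⟨z, rfl⟩ := hy'
      rw [LinearMap.mem_ker, hθ₀l, ← LinearMap.comp_apply, ← LinearMap.lTensor_comp]
      have : I.mkQ ∘ₗ I.subtype = 0 := by
        ext c
        simp
      rw [this, LinearMap.lTensor_zero, LinearMap.zero_apply]
    let θ : (S ⊗[R] C) ⧸ I' →ₗ[S] S ⊗[R] (C ⧸ I) := I'.liftQ θ₀ hθ₀
    have hθ : ∀ y, θ (I'.mkQ y) = θ₀ y := fun y => rfl
    -- the key vanishing
    have h1 : TensorProduct.map I'.mkQ I'.mkQ (Coalgebra.comul (R := S) ((1 : S) ⊗ₜ[R] x)) = 0 :=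
      h.map_mkQ_comul_eq_zero (hmem x hx)
    have h2 : TensorProduct.map θ₀ θ₀ (Coalgebra.comul (R := S) ((1 : S) ⊗ₜ[R] x)) = 0 := by
      have h3 : ∀ w : (S ⊗[R] C) ⊗[S] (S ⊗[R] C), TensorProduct.map θ₀ θ₀ w =
          TensorProduct.map θ θ (TensorProduct.map I'.mkQ I'.mkQ w) := by
        intro w
        induction w with
        | zero => simp
        | add a b ha hb => simp only [map_add, ha, hb]
        | tmul a b => rfl
      rw [h3, h1, map_zero]
    have h4 := hinc.comul x
    change Coalgebra.comul (R := S) ((1 : S) ⊗ₜ[R] x) = _ at h4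
    rw [h4] at h2
    apply tmul₂_mk_injective R S (C ⧸ I)
    rw [map_zero, ← h2]
    generalize Coalgebra.comul (R := R) x = y
    induction y with
    | zero => simp
    | add a b ha hb => simp only [map_add, ha, hb]
    | tmul a b =>
      rw [TensorProduct.map_tmul, tmul₂_tmul, tmul₂_tmul, TensorProduct.map_tmul]
      rfl
  · intro x hx
    have h1 : HopfAlgebra.antipode S ((1 : S) ⊗ₜ[R] x) ∈ K' := h.antipode_mem (hmem x hx)
    rw [TensorProduct.antipode_def, TensorProduct.AlgebraTensorModule.map_tmul] at h1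
    have h2 : HopfAlgebra.antipode S (1 : S) = 1 := by
      simp
    rw [h2] at h1
    exact mem_of_tmul_mem_map R S C K _ h1

end hopfdesc

section build
variable {R S A B : Type u} [CommRing R] [CommRing S] [Algebra R S] [Module.FaithfullyFlat R S]
  [CommRing A] [HopfAlgebra R A] [CommRing B] [HopfAlgebra R B]

/-- a bialgebra map over a faithfully flat `S` whose values on `B` are defined over `R` is a base
change -/
theorem exists_bialgHom_of_descend_ff (φ : S ⊗[R] B →ₐc[S] S ⊗[R] A)
    (h : ∀ b : B, ∃ a : A, (1 : S) ⊗ₜ[R] a = φ ((1 : S) ⊗ₜ[R] b)) :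
    ∃ f : B →ₐc[R] A, ∀ b : B, (1 : S) ⊗ₜ[R] f b = φ ((1 : S) ⊗ₜ[R] b) := by
  have hinj : Function.Injective (Algebra.TensorProduct.includeRight : A →ₐ[R] S ⊗[R] A) :=
    Module.FaithfullyFlat.tensorProduct_mk_injective (A := R) (B := S) A
  let θ : B →ₐ[R] S ⊗[R] A :=
    ((φ : S ⊗[R] B →ₐ[S] S ⊗[R] A).restrictScalars R).comp Algebra.TensorProduct.includeRight
  have hθ : ∀ b, θ b ∈ (Algebra.TensorProduct.includeRight : A →ₐ[R] S ⊗[R] A).range := by
    intro b
    obtain ⟨a, ha⟩ := h b
    exact ⟨a, ha⟩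
  let f₀ : B →ₐ[R] A :=
    (AlgEquiv.ofInjective _ hinj).symm.toAlgHom.comp (θ.codRestrict _ hθ)
  have hf₀ : ∀ b, (1 : S) ⊗ₜ[R] f₀ b = φ ((1 : S) ⊗ₜ[R] b) := by
    intro b
    have h1 : (AlgEquiv.ofInjective _ hinj) (f₀ b) = θ.codRestrict _ hθ b :=
      AlgEquiv.apply_symm_apply _ _
    have h2 := congrArg Subtype.val h1
    exact h2
  have hco : IsCoalgMapOver S θ.toLinearMap := by
    have h1 : IsCoalgMapOver S (((φ : S ⊗[R] B →ₗc[S] S ⊗[R] A) :
        S ⊗[R] B →ₗ[S] S ⊗[R] A).restrictScalars R ∘ₗ TensorProduct.mk R S B 1) :=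
      IsCoalgMapOver.comp (S₂ := S)
        (isCoalgMapOver_of_coalgHom (φ : S ⊗[R] B →ₗc[S] S ⊗[R] A))
        (isCoalgMapOver_inc (R := R) S B)
    exact h1
  have hθf : θ.toLinearMap = (TensorProduct.mk R S A 1) ∘ₗ f₀.toLinearMap := by
    ext b
    exact (hf₀ b).symm
  refine ⟨BialgHom.ofAlgHom f₀ ?_ ?_, hf₀⟩
  · ext b
    have h1 := hco.counit b
    have h2 := (isCoalgMapOver_inc (R := R) S A).counit (f₀ b)
    rw [hθf] at h1
    simp only [LinearMap.comp_apply, AlgHom.toLinearMap_apply] at h1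
    rw [h2] at h1
    exact (FaithfulSMul.algebraMap_injective R S) h1
  · ext b
    have h1 := hco.comul b
    have h2 := (isCoalgMapOver_inc (R := R) S A).comul (f₀ b)
    rw [hθf] at h1
    simp only [LinearMap.comp_apply, AlgHom.toLinearMap_apply] at h1
    rw [h2, Groth.Agent.H15.MTQ.tmul₂_comp_map] at h1
    exact (tmul₂_mk_injective R S A h1).symm

end build

end Groth.Agent.H15.NF
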