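import Groth.Agent.H15.MTLift2

set_option autoImplicit false
set_option linter.style.haveILetI false
universe u
open TensorProduct Coalgebra

namespace Groth.Agent.H15.MTC
open Groth.Agent.H26 Groth.Agent.H15.GLD

section comp
variable {R : Type u} [CommRing R] {A : Type u} [CommRing A] [HopfAlgebra R A]
  {ι : Type u} [Fintype ι] (c : ι → Chart R A)

/-- the component maps of `S ⊗ (S ⊗ A)` for the product ring `S` -/
noncomputable def compMap (i j : ι) :
    ProdRing c ⊗[R] (ProdRing c ⊗[R] A) →ₗ[R] (c i).R' ⊗[R] ((c j).R' ⊗[R] A) :=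
  TensorProduct.map (LinearMap.proj i) (LinearMap.rTensor A (LinearMap.proj j))

/-- joint injectivity of the component maps -/
theorem eq_zero_of_compMap_eq_zero (y : ProdRing c ⊗[R] (ProdRing c ⊗[R] A))
    (h : ∀ i j, compMap c i j y = 0) : y = 0 := by
  classical
  let σ : ∀ i j, (c i).R' ⊗[R] ((c j).R' ⊗[R] A) →ₗ[R] ProdRing c ⊗[R] (ProdRing c ⊗[R] A) :=
    fun i j => TensorProduct.map (LinearMap.single R (fun i => (c i).R') i)
      (LinearMap.rTensor A (LinearMap.single R (fun i => (c i).R') j))
  have key : ∀ y, y = ∑ i, ∑ j, σ i j (compMap c i j y) := by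
    intro y
    induction y using TensorProduct.induction_on with
    | zero => simp
    | add x y hx hy =>
      conv_lhs => rw [hx, hy]
      simp only [map_add, Finset.sum_add_distrib]
    | tmul s w =>
      induction w using TensorProduct.induction_on with
      | zero => simp
      | add x y hx hy =>
        rw [tmul_add]
        conv_lhs => rw [hx, hy]
        simp only [map_add, Finset.sum_add_distrib]
      | tmul s' a =>
        simp only [compMap, σ, TensorProduct.map_tmul, LinearMap.rTensor_tmul, LinearMap.proj_apply,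
          LinearMap.coe_single]
        simp_rw [← TensorProduct.tmul_sum, ← TensorProduct.sum_tmul]
        rw [Finset.univ_sum_single, Finset.univ_sum_single]
  rw [key y]
  simp [h]

end comp

section E
variable {R : Type u} [CommRing R] {A : Type u} [CommRing A] [HopfAlgebra R A]
  {ι : Type u} [Fintype ι] {c : ι → Chart R A}

/-- joint injectivity on `A ⊗ A` -/
theorem eq_zero_of_forall_tmul₂_eq_zero
    (hc : ∀ (K : Ideal R) (x : R),
      (∀ i, algebraMap R (c i).R' x ∈ K.map (algebraMap R (c i).R')) → x ∈ K)
    (y : A ⊗[R] A) (h : ∀ i, tmul₂ (c i).R' (c i).L.toLinearMap y = 0) : y = 0 := by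
  apply eq_zero_of_forall_tmul_eq_zero hc
  intro i
  let e := (c i).isChart.bc.equiv
  have key : ∀ y : A ⊗[R] A, tmul₂ (c i).R' (c i).L.toLinearMap y =
      TensorProduct.congr e e
        (TensorProduct.AlgebraTensorModule.distribBaseChange R (c i).R' A A ((1 : (c i).R') ⊗ₜ[R] y)) := by
    intro y
    induction y with
    | zero => simp
    | add x y hx hy => rw [map_add, tmul_add, map_add, map_add, hx, hy]
    | tmul a b =>
      simp [e, TensorProduct.AlgebraTensorModule.distribBaseChange_tmul, IsBaseChange.equiv_tmul]
  have h1 := h i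
  rw [key] at h1
  have h2 := (TensorProduct.congr e e).injective (h1.trans (map_zero _).symm)
  exact (TensorProduct.AlgebraTensorModule.distribBaseChange R (c i).R' A A).injective
    (h2.trans (map_zero _).symm)

/-- (E): lifting of group-like elements modulo a nil ideal, for a Hopf algebra with an atlas. -/
theorem exists_groupLike_lift_of_atlas
    (hc : ∀ (K : Ideal R) (x : R),
      (∀ i, algebraMap R (c i).R' x ∈ K.map (algebraMap R (c i).R')) → x ∈ K)
    (I : Ideal R) (hI : ∀ x ∈ I, IsNilpotent x) (a : A)
    (h1 : Coalgebra.comul (R := R) a - a ⊗ₜ[R] a ∈ (I • ⊤ : Submodule R (A ⊗[R] A)))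
    (h2 : Coalgebra.counit (R := R) a - 1 ∈ I) :
    ∃ g : A, IsGroupLikeElem R g ∧ g - a ∈ (I • ⊤ : Submodule R A) := by
  classical
  have hG : ∀ i, ∃ G : MonoidAlgebra (c i).R' (c i).N, IsGroupLikeElem (c i).R' G ∧
      ∀ ν, (G - (c i).L a).coeff ν ∈ Ideal.map (algebraMap R (c i).R') I := by
    intro i
    obtain ⟨k1, k2⟩ := chart_glmod (c i).isChart.coalg I a h1 h2
    exact exists_groupLike_lift _ (map_nil _ I hI) _ k1 k2
  choose G hGgl hGcong using hG
  let gt : ∀ i, (c i).R' ⊗[R] A := fun i => (c i).isChart.bc.equiv.symm (G i)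
  let x : ProdRing c ⊗[R] A :=
    ∑ i, LinearMap.rTensor A (LinearMap.single R (fun i => (c i).R') i) (gt i)
  have hprojx : ∀ j, LinearMap.rTensor A (LinearMap.proj j : ProdRing c →ₗ[R] (c j).R') x = gt j := by
    intro j
    simp only [x, map_sum]
    rw [Finset.sum_eq_single j]
    · rw [← LinearMap.comp_apply, ← LinearMap.rTensor_comp, LinearMap.proj_comp_single_same,
        LinearMap.rTensor_id, LinearMap.id_apply]
    · intro i _ hij
      rw [← LinearMap.comp_apply, ← LinearMap.rTensor_comp, LinearMap.proj_comp_single_ne _ _ _ _ (Ne.symm hij),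
        LinearMap.rTensor_zero, LinearMap.zero_apply]
    · intro h; exact absurd (Finset.mem_univ j) h
  have hdesc : (1 : ProdRing c) ⊗ₜ[R] x = FFD.d₂ R (ProdRing c) A x := by
    rw [← sub_eq_zero]
    apply eq_zero_of_compMap_eq_zero c
    intro i j
    rw [map_sub, sub_eq_zero]
    have hl : compMap c i j ((1 : ProdRing c) ⊗ₜ[R] x) = (1 : (c i).R') ⊗ₜ[R] gt j := by
      simp only [compMap, TensorProduct.map_tmul, hprojx]
      rfl
    have hr : compMap c i j (FFD.d₂ R (ProdRing c) A x) =
        LinearMap.lTensor (c i).R' (TensorProduct.mk R (c j).R' A 1) (gt i) := by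
      have key : ∀ (k : ι) (w : (c k).R' ⊗[R] A),
          compMap c i j (FFD.d₂ R (ProdRing c) A
            (LinearMap.rTensor A (LinearMap.single R (fun i => (c i).R') k) w)) =
          if k = i then LinearMap.lTensor (c i).R' (TensorProduct.mk R (c j).R' A 1)
            (LinearMap.rTensor A (LinearMap.proj i ∘ₗ LinearMap.single R (fun i => (c i).R') k) w)
          else 0 := by
        intro k w
        induction w using TensorProduct.induction_on with
        | zero => simp
        | add u v hu hv =>
          rw [map_add, map_add, map_add, hu, hv]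
          split_ifs <;> simp
        | tmul s b =>
          simp only [LinearMap.rTensor_tmul, FFD.d₂_tmul, compMap, TensorProduct.map_tmul,
            LinearMap.proj_apply, LinearMap.coe_single, LinearMap.comp_apply,
            LinearMap.lTensor_tmul, TensorProduct.mk_apply]
          by_cases hki : k = i
          · subst hki
            simp
          · rw [if_neg hki, Pi.single_eq_of_ne' hki, zero_tmul]
      simp only [x, map_sum, key]
      rw [Finset.sum_ite_eq' Finset.univ i, if_pos (Finset.mem_univ i),
        LinearMap.proj_comp_single_same, LinearMap.rTensor_id, LinearMap.id_apply]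
    rw [hl, hr]
    exact cocycle (c i) (c j) I hI a (G i) (hGgl i) (hGcong i) (G j) (hGgl j) (hGcong j)
  haveI := prodRing_faithfullyFlat hc
  obtain ⟨g, hg⟩ := FFD.exists_of_eq R (ProdRing c) A x hdesc
  have hgi : ∀ i, (1 : (c i).R') ⊗ₜ[R] g = gt i := by
    intro i
    have := congrArg (LinearMap.rTensor A (LinearMap.proj i : ProdRing c →ₗ[R] (c i).R')) hg
    rw [hprojx] at this
    rw [← this]
    simp
  have hLg : ∀ i, (c i).L g = G i := by
    intro i
    have := congrArg (c i).isChart.bc.equiv (hgi i)
    simpa [gt, IsBaseChange.equiv_tmul] using this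
  refine ⟨g, ⟨?_, ?_⟩, ?_⟩
  · -- counit
    have : Coalgebra.counit (R := R) g - 1 ∈ (⊥ : Ideal R) := by
      apply hc
      intro i
      rw [Ideal.map_bot, Ideal.mem_bot, map_sub, map_one, sub_eq_zero]
      have h3 := (c i).isChart.coalg.counit g
      rw [AlgHom.toLinearMap_apply, hLg, (hGgl i).counit_eq_one] at h3
      exact h3.symm
    exact sub_eq_zero.mp (by simpa using this)
  · -- comul
    rw [← sub_eq_zero]
    apply eq_zero_of_forall_tmul₂_eq_zero hc
    intro i
    rw [map_sub, sub_eq_zero, ← (c i).isChart.coalg.comul, tmul₂_tmul, AlgHom.toLinearMap_apply,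
      hLg]
    exact (hGgl i).comul_eq_tmul_self
  · -- congruence
    let P := A ⧸ (I • ⊤ : Submodule R A)
    have hp : (Submodule.mkQ (I • ⊤ : Submodule R A)) (g - a) = 0 := by
      apply eq_zero_of_forall_tmul_eq_zero hc
      intro i
      have h3 : G i - (c i).L a ∈ (I • ⊤ : Submodule R (MonoidAlgebra (c i).R' (c i).N)) :=
        mem_smul_top_of_coeff_mem I _ (hGcong i)
      have h4 := map_mem_smul_top I ((c i).isChart.bc.equiv.symm.toLinearMap.restrictScalars R) h3
      have h5 : (c i).isChart.bc.equiv.symm ((c i).L a) = (1 : (c i).R') ⊗ₜ[R] a :=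
        (c i).isChart.bc.equiv_symm_apply a
      have h6 : (1 : (c i).R') ⊗ₜ[R] (g - a) ∈ (I • ⊤ : Submodule R ((c i).R' ⊗[R] A)) := by
        rw [tmul_sub, hgi]
        simpa [map_sub, gt, h5] using h4
      have h7 := map_mem_smul_top I
        (LinearMap.lTensor (c i).R' (Submodule.mkQ (I • ⊤ : Submodule R A))) h6
      rw [LinearMap.lTensor_tmul] at h7
      -- `I • ⊤ = ⊥` in `R' ⊗ (A / I A)`
      have h8 : (I • ⊤ : Submodule R ((c i).R' ⊗[R] P)) = ⊥ := by
        rw [eq_bot_iff]
        rw [Submodule.smul_le]
        intro r hr w hw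
        clear hw
        rw [Submodule.mem_bot]
        induction w using TensorProduct.induction_on with
        | zero => simp
        | add u v hu hv => rw [smul_add, hu, hv, add_zero]
        | tmul s q =>
          induction q using Submodule.Quotient.induction_on with
          | H b =>
            rw [TensorProduct.smul_tmul', TensorProduct.smul_tmul, ← Submodule.Quotient.mk_smul,
              (Submodule.Quotient.mk_eq_zero _).mpr
                (Submodule.smul_mem_smul hr Submodule.mem_top), tmul_zero]
      rw [h8, Submodule.mem_bot] at h7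
      exact h7
    exact (Submodule.Quotient.mk_eq_zero _).mp hp

end E

end Groth.Agent.H15.MTC
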