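import Groth.Agent.H15.HopfNF20
import Groth.Agent.H15.IsoF8
import Groth.Agent.S5262

/-!
# Homomorphisms of finite groups of multiplicative type descend along a local homomorphism of
henselian local rings inducing a surjection on residue fields
-/

set_option autoImplicit false
set_option linter.style.haveILetI false
set_option linter.unusedSectionVars false
universe u
open TensorProduct Coalgebra IsLocalRing

namespace Groth.Agent.H15.NF
open Groth.Agent.H26 Groth.Agent.H15.MTC SGA3b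

section main
variable (R : Type u) [CommRing R] [HenselianLocalRing R]
  (S : Type u) [CommRing S] [HenselianLocalRing S] [Algebra R S] [IsLocalHom (algebraMap R S)]
  (B : Type u) [CommRing B] [HopfAlgebra R B] [Module.Finite R B]
  (C : Type u) [CommRing C] [HopfAlgebra R C] [Module.Finite R C]

theorem exists_bialgHom_of_baseChange_henselian
    (hres : Function.Surjective (algebraMap (ResidueField R) (ResidueField S)))
    (hB : IsMultType R B) (hC : IsMultType R C)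
    (ψ' : S ⊗[R] C →ₐc[S] S ⊗[R] B) :
    ∃ ψ : C →ₐc[R] B, ∀ c : C, ψ' ((1 : S) ⊗ₜ[R] c) = (1 : S) ⊗ₜ[R] ψ c := by
  -- notation
  let k := ResidueField R
  let k' := ResidueField S
  obtain ⟨ΞC, hΞC⟩ := exists_fibre_equiv (R := R) (C := C) S k'
  obtain ⟨ΞB, hΞB⟩ := exists_fibre_equiv (R := R) (C := B) S k'
  obtain ⟨ΘC, hΘC⟩ := exists_fibre_equiv (R := R) (C := C) k k'
  obtain ⟨ΘB, hΘB⟩ := exists_fibre_equiv (R := R) (C := B) k k'
  let ψ₀' : k' ⊗[S] (S ⊗[R] C) →ₐc[k'] k' ⊗[S] (S ⊗[R] B) :=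
    Bialgebra.TensorProduct.map (BialgHom.id k' k') ψ'
  let ψ₂ : k' ⊗[k] (k ⊗[R] C) →ₐc[k'] k' ⊗[k] (k ⊗[R] B) :=
    (ΘB.symm : k' ⊗[R] B →ₐc[k'] k' ⊗[k] (k ⊗[R] B)).comp
      ((ΞB : k' ⊗[S] (S ⊗[R] B) →ₐc[k'] k' ⊗[R] B).comp
        (ψ₀'.comp ((ΞC.symm : k' ⊗[R] C →ₐc[k'] k' ⊗[S] (S ⊗[R] C)).comp
          (ΘC : k' ⊗[k] (k ⊗[R] C) →ₐc[k'] k' ⊗[R] C))))
  have hψ₂ : ∀ c : C, ψ₂ ((1 : k') ⊗ₜ[k] ((1 : k) ⊗ₜ[R] c)) =
      ΘB.symm (ΞB ((1 : k') ⊗ₜ[S] ψ' ((1 : S) ⊗ₜ[R] c))) := by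
    intro c
    have h1 : ΘC ((1 : k') ⊗ₜ[k] ((1 : k) ⊗ₜ[R] c)) = (1 : k') ⊗ₜ[R] c := by
      rw [hΘC, Algebra.TensorProduct.map_tmul, map_one]
      rfl
    have h2 : ΞC ((1 : k') ⊗ₜ[S] ((1 : S) ⊗ₜ[R] c)) = (1 : k') ⊗ₜ[R] c := by
      rw [hΞC, Algebra.TensorProduct.map_tmul, map_one]
      rfl
    change ΘB.symm (ΞB (ψ₀' (ΞC.symm (ΘC ((1 : k') ⊗ₜ[k] ((1 : k) ⊗ₜ[R] c)))))) = _
    rw [h1, ← h2, BialgEquiv.symm_apply_apply]
    rfl
  -- descend to `k`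
  obtain ⟨φ₀, hφ₀⟩ := Groth.Agent.H15.IsoF.exists_bialgHom_of_descend (k := k) (k' := k')
    (A := k ⊗[R] B) (B := k ⊗[R] C) ψ₂ (by
      intro b
      have hall : ∀ y : k' ⊗[k] (k ⊗[R] B), ∃ a : k ⊗[R] B, (1 : k') ⊗ₜ[k] a = y := by
        intro y
        induction y using TensorProduct.induction_on with
        | zero => exact ⟨0, tmul_zero _ _⟩
        | add x y hx hy =>
          obtain ⟨a, rfl⟩ := hx
          obtain ⟨b, rfl⟩ := hy
          exact ⟨a + b, tmul_add _ _ _⟩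
        | tmul t y =>
          obtain ⟨r, rfl⟩ := hres t
          refine ⟨r • y, ?_⟩
          rw [tmul_smul, smul_tmul', Algebra.smul_def, mul_one]
      exact hall _)
  -- lift to `R`
  obtain ⟨ψ, hψ⟩ := (Groth.Agent.S5262.result R B hB C hC).2 φ₀
  refine ⟨ψ, ?_⟩
  -- compare over `S`
  haveI : Module.Finite S (S ⊗[R] B) := inferInstance
  haveI : Module.Finite S (S ⊗[R] C) := inferInstance
  have hBS : IsMultType S (S ⊗[R] B) :=
    Groth.Agent.H15.MTF.isMultType_of_isMultTypeConst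
      (Groth.Agent.H15.MTF.isMultTypeConst_baseChange
        (Groth.Agent.H15.MTHens.isMultTypeConst_of_isLocalRing R B hB) S)
  have hCS : IsMultType S (S ⊗[R] C) :=
    Groth.Agent.H15.MTF.isMultType_of_isMultTypeConst
      (Groth.Agent.H15.MTF.isMultTypeConst_baseChange
        (Groth.Agent.H15.MTHens.isMultTypeConst_of_isLocalRing R C hC) S)
  let ψS : S ⊗[R] C →ₐc[S] S ⊗[R] B := Bialgebra.TensorProduct.map (BialgHom.id S S) ψ
  have hψS : ∀ c : C, ψS ((1 : S) ⊗ₜ[R] c) = (1 : S) ⊗ₜ[R] ψ c := fun c => rfl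
  have heq : ψ' = ψS := by
    apply (Groth.Agent.S5262.result S (S ⊗[R] B) hBS (S ⊗[R] C) hCS).1
    intro x
    induction x using TensorProduct.induction_on with
    | zero => simp
    | add x y hx hy => rw [map_add, map_add, tmul_add, tmul_add, hx, hy]
    | tmul s c =>
      have hs : (s ⊗ₜ[R] c : S ⊗[R] C) = s • ((1 : S) ⊗ₜ[R] c) := by
        rw [smul_tmul', smul_eq_mul, mul_one]
      rw [hs, map_smul, map_smul, tmul_smul, tmul_smul]
      congr 1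
      -- the case of `1 ⊗ c`
      have h3 : ΞB ((1 : k') ⊗ₜ[S] ((1 : S) ⊗ₜ[R] ψ c)) = (1 : k') ⊗ₜ[R] ψ c := by
        rw [hΞB, Algebra.TensorProduct.map_tmul, map_one]
        rfl
      have h4 : ΘB ((1 : k') ⊗ₜ[k] ((1 : k) ⊗ₜ[R] ψ c)) = (1 : k') ⊗ₜ[R] ψ c := by
        rw [hΘB, Algebra.TensorProduct.map_tmul, map_one]
        rfl
      have key : ΘB.symm (ΞB ((1 : k') ⊗ₜ[S] ψ' ((1 : S) ⊗ₜ[R] c))) =
          ΘB.symm (ΞB ((1 : k') ⊗ₜ[S] ψS ((1 : S) ⊗ₜ[R] c))) := by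
        rw [← hψ₂ c, ← hφ₀, hψ c, hψS c, h3, ← h4, BialgEquiv.symm_apply_apply]
      exact ΞB.injective (ΘB.symm.injective key)
  intro c
  rw [heq, hψS]

end main

end Groth.Agent.H15.NF
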