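import Groth.Agent.H15.MTQuot

/-! The `n`-torsion subgroup of a group of multiplicative type: charts. -/

set_option autoImplicit false
set_option linter.style.haveILetI false
universe u
open TensorProduct Coalgebra

namespace Groth.Agent.H15.MTQ
open Groth.Agent.H26 Groth.Agent.H15.MTC Groth.Agent.H15.MT

variable {R : Type u} [CommRing R] {A : Type u} [CommRing A] [HopfAlgebra R A]
  {R' : Type u} [CommRing R'] [Algebra R R'] {M : Type u} [CommGroup M]

/-- the bialgebra map `R' ⊗ A → R'[M]` of a chart -/
noncomputable def chartBialgHom (l : A →ₐ[R] MonoidAlgebra R' M)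
    (hco : IsCoalgMapOver R' l.toLinearMap) : R' ⊗[R] A →ₐc[R'] MonoidAlgebra R' M :=
  BialgHom.ofAlgHom (liftAlg R' l)
    (by
      refine AlgHom.ext fun b => ?_
      exact (isCoalgMapOver_liftAlg R' hco).counit b)
    (by
      refine AlgHom.ext fun b => ?_
      have h1 := (isCoalgMapOver_liftAlg R' hco).comul b
      change TensorProduct.map (liftAlg R' l).toLinearMap (liftAlg R' l).toLinearMap
        (Coalgebra.comul b) = Coalgebra.comul ((liftAlg R' l) b)
      change Coalgebra.comul ((liftAlg R' l) b) = _ at h1
      rw [h1]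
      generalize Coalgebra.comul (R := R') b = y
      induction y with
      | zero => simp
      | add x y hx hy => rw [map_add, map_add, hx, hy]
      | tmul a b => simp)

lemma chartBialgHom_tmul (l : A →ₐ[R] MonoidAlgebra R' M)
    (hco : IsCoalgMapOver R' l.toLinearMap) (r : R') (a : A) :
    chartBialgHom l hco (r ⊗ₜ[R] a) = r • l a :=
  liftAlg_tmul R' l r a

/-- charts commute with the power maps -/
lemma chart_powConv (l : A →ₐ[R] MonoidAlgebra R' M)
    (hco : IsCoalgMapOver R' l.toLinearMap) (n : ℕ) (a : A) :
    l (SGA3b.powConv R A n a) = SGA3b.powConv R' (MonoidAlgebra R' M) n (l a) := by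
  have h1 : l (SGA3b.powConv R A n a) =
      chartBialgHom l hco ((1 : R') ⊗ₜ[R] SGA3b.powConv R A n a) := by
    rw [chartBialgHom_tmul, one_smul]
  have h2 : l a = chartBialgHom l hco ((1 : R') ⊗ₜ[R] a) := by
    rw [chartBialgHom_tmul, one_smul]
  rw [h1, h2, ← powConv_tmul, powConv_apply]

/-- every element of `R'[M]` is congruent to a scalar modulo the span of the image of the
augmentation ideal -/
lemma sub_counit_mem_chart (l : A →ₐ[R] MonoidAlgebra R' M)
    (hco : IsCoalgMapOver R' l.toLinearMap) (hbc : IsBaseChange R' l.toLinearMap)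
    (y : MonoidAlgebra R' M) :
    y - algebraMap R' (MonoidAlgebra R' M) (Coalgebra.counit (R := R') y) ∈
      Submodule.span R' (l '' {a : A | Coalgebra.counit (R := R) a = 0}) := by
  refine hbc.inductionOn y (fun y => y - algebraMap R' (MonoidAlgebra R' M)
    (Coalgebra.counit (R := R') y) ∈
      Submodule.span R' (l '' {a : A | Coalgebra.counit (R := R) a = 0})) ?_ ?_ ?_ ?_
  · simp
  · intro a
    change l a - algebraMap R' (MonoidAlgebra R' M) (Coalgebra.counit (R := R') (l a)) ∈ _
    have h0 : Coalgebra.counit (R := R') (l a) = algebraMap R R' (Coalgebra.counit (R := R) a) :=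
      hco.counit a
    have h1 : l a - algebraMap R' (MonoidAlgebra R' M) (Coalgebra.counit (R := R') (l a)) =
        l (a - algebraMap R A (Coalgebra.counit (R := R) a)) := by
      rw [map_sub, AlgHom.commutes, h0, ← IsScalarTower.algebraMap_apply]
    rw [h1]
    apply Submodule.subset_span
    refine ⟨_, ?_, rfl⟩
    simp
  · intro s n hn
    have : s • n - algebraMap R' (MonoidAlgebra R' M) (Coalgebra.counit (R := R') (s • n)) =
        s • (n - algebraMap R' (MonoidAlgebra R' M) (Coalgebra.counit (R := R') n)) := by
      rw [map_smul, smul_sub, smul_eq_mul, map_mul, Algebra.smul_def, Algebra.smul_def]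
    rw [this]
    exact Submodule.smul_mem _ _ hn
  · intro n₁ n₂ h₁ h₂
    have : n₁ + n₂ - algebraMap R' (MonoidAlgebra R' M) (Coalgebra.counit (R := R') (n₁ + n₂)) =
        (n₁ - algebraMap R' (MonoidAlgebra R' M) (Coalgebra.counit (R := R') n₁)) +
        (n₂ - algebraMap R' (MonoidAlgebra R' M) (Coalgebra.counit (R := R') n₂)) := by
      rw [map_add, map_add]; abel
    rw [this]
    exact add_mem h₁ h₂

/-- the chart of the `n`-torsion subgroup -/
theorem hasDChart_torsion (l : A →ₐ[R] MonoidAlgebra R' M)
    (hco : IsCoalgMapOver R' l.toLinearMap) (hbc : IsBaseChange R' l.toLinearMap)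
    (n : ℕ) (J : Ideal A) [J.IsHopfIdeal R] (hJ : J = SGA3b.torsionIdeal R A n) :
    HasDChart R (A ⧸ J) R' (M ⧸ (powMonoidHom n : M →* M).range) := by
  apply hasDChart_quotient l hco hbc J
  · -- the chart of `J` dies in the quotient
    set q := MonoidAlgebra.mapDomainBialgHom R' (QuotientGroup.mk' (powMonoidHom n : M →* M).range)
      with hq
    have hexp : ∀ x : M ⧸ (powMonoidHom n : M →* M).range, x ^ n = 1 := by
      intro x
      obtain ⟨m, rfl⟩ := QuotientGroup.mk'_surjective _ x
      rw [← map_pow, QuotientGroup.mk'_apply, QuotientGroup.eq_one_iff]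
      exact ⟨m, rfl⟩
    have hT := torsionIdeal_monoidAlgebra_eq_bot R' (M ⧸ (powMonoidHom n : M →* M).range) n hexp
    rw [torsionIdeal_eq_bot_iff] at hT
    have hle : J ≤ Ideal.comap
        (((q : MonoidAlgebra R' M →ₐ[R'] MonoidAlgebra R'
          (M ⧸ (powMonoidHom n : M →* M).range)).restrictScalars R).comp l) ⊥ := by
      rw [hJ]
      unfold SGA3b.torsionIdeal
      rw [Ideal.map_le_iff_le_comap]
      intro a ha
      have ha' : Coalgebra.counit (R := R) a = 0 := ha
      rw [Ideal.mem_comap, Ideal.mem_comap, Ideal.mem_bot]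
      change q (l (SGA3b.powConv R A n a)) = 0
      rw [chart_powConv l hco, powConv_apply]
      apply hT
      have h3 : Coalgebra.counit (R := R') (q (l a)) = Coalgebra.counit (R := R') (l a) :=
        CoalgHomClass.counit_comp_apply q (l a)
      have h4 : Coalgebra.counit (R := R') (l a) =
          algebraMap R R' (Coalgebra.counit (R := R) a) := hco.counit a
      rw [h3, h4, ha', map_zero]
    intro a ha
    have := hle ha
    rw [Ideal.mem_comap, Ideal.mem_bot] at this
    exact this
  · rintro _ ⟨m, rfl⟩
    change (MonoidAlgebra.single (m ^ n) (1 : R') - 1 : MonoidAlgebra R' M) ∈ _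
    have h1 : (MonoidAlgebra.single (m ^ n) (1 : R') - 1 : MonoidAlgebra R' M) =
        SGA3b.powConv R' (MonoidAlgebra R' M) n (MonoidAlgebra.single m 1 - 1) := by
      rw [map_sub, map_one, powConv_single]
    rw [h1]
    have h2 := sub_counit_mem_chart l hco hbc (MonoidAlgebra.single m (1 : R') - 1)
    have h3 : Coalgebra.counit (R := R') (MonoidAlgebra.single m (1 : R') - 1 :
        MonoidAlgebra R' M) = 0 := by
      simp [MonoidAlgebra.one_def]
    rw [h3, map_zero, sub_zero] at h2
    generalize (MonoidAlgebra.single m (1 : R') - 1 : MonoidAlgebra R' M) = y₀ at h2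
    induction h2 using Submodule.span_induction with
    | mem x hx =>
      obtain ⟨a, ha, rfl⟩ := hx
      rw [← chart_powConv l hco]
      apply Submodule.subset_span
      refine ⟨_, ?_, rfl⟩
      rw [hJ]
      exact Ideal.mem_map_of_mem _ ha
    | zero => rw [map_zero]; exact zero_mem _
    | add x y _ _ hx hy => rw [map_add]; exact add_mem hx hy
    | smul r x _ hx => rw [map_smul]; exact Submodule.smul_mem _ _ hx

end Groth.Agent.H15.MTQ
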