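import Groth.Agent.H15.HopfNF21
import Groth.Agent.S5242

/-!
# The finite torsion subgroups of the open and closed subgroup of multiplicative type, over a
henselian local base: descent from a faithfully flat local extension
-/

set_option autoImplicit false
set_option linter.style.haveILetI false
set_option linter.unusedSectionVars false
universe u
open TensorProduct Coalgebra IsLocalRing

namespace Groth.Agent.H15.NF
open Groth.Agent.H26 Groth.Agent.H15.MTC Groth.Agent.H15.HA Groth.Agent.H15.HF SGA3b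
open Groth.Agent.H15.MT

section tors
variable {R : Type u} [CommRing R] {A : Type u} [CommRing A] [HopfAlgebra R A]

/-- the torsion ideal commutes with base change -/
theorem torsionIdeal_baseChange_eq (S : Type u) [CommRing S] [Algebra R S] (n : ℕ) :
    torsionIdeal S (S ⊗[R] A) n =
      (torsionIdeal R A n).map (Algebra.TensorProduct.includeRight : A →ₐ[R] S ⊗[R] A) := by
  apply le_antisymm
  · have h1 := torsionIdeal_bc_le_ker (R := R) (A := A) S n
    have hk := Algebra.TensorProduct.lTensor_ker (A := S)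
      (Ideal.Quotient.mkₐ R (torsionIdeal R A n)) (Ideal.Quotient.mkₐ_surjective R _)
    have hker : RingHom.ker (Ideal.Quotient.mkₐ R (torsionIdeal R A n)) = torsionIdeal R A n := by
      ext a
      rw [RingHom.mem_ker, Ideal.Quotient.mkₐ_eq_mk, Ideal.Quotient.eq_zero_iff_mem]
    rw [hker] at hk
    rw [← hk]
    exact h1
  · exact Groth.Agent.H15.MTHens.map_includeRight_torsionIdeal_le S n

/-- a surjective bialgebra map maps the torsion ideal onto the torsion ideal -/
theorem torsionIdeal_le_map_of_surjective {B : Type u} [CommRing B] [HopfAlgebra R B]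
    (π : A →ₐc[R] B) (hπ : Function.Surjective π) (n : ℕ) :
    torsionIdeal R B n ≤ (torsionIdeal R A n).map (π : A →ₐ[R] B) := by
  unfold torsionIdeal
  rw [Ideal.map_le_iff_le_comap]
  intro y hy
  have hy' : counit (R := R) y = 0 := hy
  obtain ⟨x, rfl⟩ := hπ y
  rw [Ideal.mem_comap]
  have h1 : powConv R B n (π x) = (π : A →ₐ[R] B) (powConv R A n x) := (powConv_apply π n x).symm
  rw [h1]
  apply Ideal.mem_map_of_mem
  apply Ideal.mem_map_of_mem
  change counit (R := R) x = 0
  have : counit (R := R) (π x) = counit (R := R) x := by simp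
  rw [← this, hy']

end tors

section spansup
variable {X : Type u} [CommRing X]

lemma sup_span_eq_of_sub_mem (J : Ideal X) (a b : X) (h : a - b ∈ J) :
    J ⊔ Ideal.span {a} = J ⊔ Ideal.span {b} := by
  apply le_antisymm
  · rw [sup_le_iff]
    refine ⟨le_sup_left, ?_⟩
    rw [Ideal.span_le, Set.singleton_subset_iff]
    have : a = (a - b) + b := by ring
    rw [this]
    exact Ideal.add_mem _ (Ideal.mem_sup_left h) (Ideal.mem_sup_right (Ideal.subset_span rfl))
  · rw [sup_le_iff]
    refine ⟨le_sup_left, ?_⟩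
    rw [Ideal.span_le, Set.singleton_subset_iff]
    have : b = -(a - b) + a := by ring
    rw [this]
    exact Ideal.add_mem _ (Ideal.mem_sup_left (J.neg_mem h))
      (Ideal.mem_sup_right (Ideal.subset_span rfl))

end spansup

section transport
variable {S : Type u} [CommRing S] {Y G : Type u} [CommRing Y] [HopfAlgebra S Y] [CommRing G]
  [HopfAlgebra S G]

theorem isMultTypeConst_of_bialgEquiv (Ω : Y ≃ₐc[S] G) (h : IsMultTypeConst S G) :
    IsMultTypeConst S Y := by
  obtain ⟨S', _, _, hff, M, _, ⟨E⟩⟩ := h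
  obtain ⟨l, hco, hbc⟩ := HasDChart.of_equiv E
  have h1 : HasDChart S Y S' M := by
    refine ⟨l.comp (Ω : Y →ₐ[S] G), ?_, ?_⟩
    · exact IsCoalgMapOver.comp (S₁ := S) (S₂ := S') hco
        (isCoalgMapOver_of_coalgHom (Ω : Y →ₗc[S] G))
    · exact IsBaseChange.comp_equiv (S := S') Ω.toLinearEquiv l.toLinearMap hbc
  exact ⟨S', inferInstance, inferInstance, hff, M, inferInstance, (h1.baseChange S').nonempty_equiv⟩

/-- descent of multiplicative type along a faithfully flat extension -/
theorem isMultTypeConst_of_baseChange {R : Type u} [CommRing R] [Algebra R S]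
    [Module.FaithfullyFlat R S] {Z : Type u} [CommRing Z] [HopfAlgebra R Z]
    (h : IsMultTypeConst S (S ⊗[R] Z)) : IsMultTypeConst R Z := by
  obtain ⟨S', _, _, hff, M, _, ⟨E⟩⟩ := h
  haveI := hff
  letI : Algebra R S' := ((algebraMap S S').comp (algebraMap R S)).toAlgebra
  haveI : IsScalarTower R S S' := IsScalarTower.of_algebraMap_eq fun _ => rfl
  haveI : Module.FaithfullyFlat R S' := Module.FaithfullyFlat.trans R S S'
  have h1 : HasDChart S (S ⊗[R] Z) S' M := HasDChart.of_equiv E
  have h2 : HasDChart R Z S' M := HasDChart.of_baseChange S h1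
  exact ⟨S', inferInstance, inferInstance, inferInstance, M, inferInstance,
    (h2.baseChange S').nonempty_equiv⟩

end transport

section torsform
variable (R : Type u) [CommRing R] [HenselianLocalRing R]
  (S : Type u) [CommRing S] [IsLocalRing S] [Algebra R S] [IsLocalHom (algebraMap R S)]
  [Module.FaithfullyFlat R S]
  (C : Type u) [CommRing C] [HopfAlgebra R C]

/-- the extension of the maximal ideal of `R` lies in the maximal ideal of `S` -/
lemma map_maximalIdeal_le : (maximalIdeal R).map (algebraMap R S) ≤ maximalIdeal S := by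
  rw [Ideal.map_le_iff_le_comap]
  intro x hx
  exact map_nonunit (algebraMap R S) x hx

theorem exists_torsion_form (hft : Algebra.FiniteType R C) (n : ℕ) (hn : 0 < n)
    (hfib : Module.Finite R ((C ⧸ torsionIdeal R C n) ⧸
      (maximalIdeal R).map (algebraMap R (C ⧸ torsionIdeal R C n))))
    (e' : S ⊗[R] C) (he' : IsIdempotentElem e')
    (hem : e' ∈ (maximalIdeal S).map (algebraMap S (S ⊗[R] C)))
    (hcl : IsClopenIdem S (S ⊗[R] C) e') :
    ∃ K : Ideal C, ∃ _ : K.IsHopfIdeal R, Module.Finite R (C ⧸ K) ∧ IsMultType R (C ⧸ K) ∧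
      K.map (Algebra.TensorProduct.includeRight : C →ₐ[R] S ⊗[R] C) =
        (torsionIdeal R C n).map (Algebra.TensorProduct.includeRight : C →ₐ[R] S ⊗[R] C) ⊔
          Ideal.span {e'} := by
  classical
  haveI := hft
  set J := torsionIdeal R C n with hJ
  set incl : C →ₐ[R] S ⊗[R] C := Algebra.TensorProduct.includeRight with hincl
  set J' := J.map incl with hJ'
  -- the finite part of `D = C / J`
  obtain ⟨f, hf, hffin, hfm⟩ := exists_finite_part R (C ⧸ J) hfib
  obtain ⟨ft, rfl⟩ := Ideal.Quotient.mk_surjective f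
  set K : Ideal C := J ⊔ Ideal.span {1 - ft} with hK
  -- finiteness of `C / K`
  have hKfin : Module.Finite R (C ⧸ K) := by
    haveI := hffin
    let β : (C ⧸ J) →ₐ[R] C ⧸ K :=
      Ideal.Quotient.liftₐ J (Ideal.Quotient.mkₐ R K) (fun x hx =>
        Ideal.Quotient.eq_zero_iff_mem.mpr (Ideal.mem_sup_left hx))
    have hβ : ∀ x : C, β (Ideal.Quotient.mk J x) = Ideal.Quotient.mk K x := fun x => rfl
    let γ : ((C ⧸ J) ⧸ Ideal.span ({1 - Ideal.Quotient.mk J ft} : Set (C ⧸ J))) →ₐ[R] C ⧸ K :=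
      Ideal.Quotient.liftₐ _ β (by
        intro x hx
        obtain ⟨y, rfl⟩ := Ideal.mem_span_singleton'.mp hx
        rw [map_mul]
        have : β (1 - Ideal.Quotient.mk J ft) = 0 := by
          rw [← map_one (Ideal.Quotient.mk J), ← map_sub, hβ]
          exact Ideal.Quotient.eq_zero_iff_mem.mpr
            (Ideal.mem_sup_right (Ideal.subset_span rfl))
        rw [this, mul_zero])
    apply Module.Finite.of_surjective γ.toLinearMap
    intro y
    obtain ⟨x, rfl⟩ := Ideal.Quotient.mk_surjective y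
    exact ⟨Ideal.Quotient.mk _ (Ideal.Quotient.mk J x), rfl⟩
  -- the torsion ideal over `S`
  have hJ'eq : torsionIdeal S (S ⊗[R] C) n = J' := torsionIdeal_baseChange_eq S n
  -- the open and closed subgroup over `S` and its torsion quotient
  obtain ⟨G, _, _, π, hπsurj, hπker, hiso⟩ := hcl
  have hGmt : IsMultType S G := Groth.Agent.H15.MTF.isMultType_of_isIsotrivial hiso
  haveI : Coalgebra.IsCocomm S G := Groth.Agent.H3.CartRing.isCocomm_of_isMultType S G hGmt
  have hGft : Algebra.FiniteType S G :=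
    Algebra.FiniteType.of_surjective (π : S ⊗[R] C →ₐ[S] G) hπsurj
  haveI : (torsionIdeal S G n).IsHopfIdeal S :=
    Groth.Agent.H15.MTHens.isHopfIdeal_torsionIdeal S G n
  obtain ⟨hGnmt, hGnfin⟩ := Groth.Agent.S5242.result S G hGft hGmt n hn (torsionIdeal S G n) rfl
  let Pq : S ⊗[R] C →ₐc[S] G ⧸ torsionIdeal S G n :=
    (Bialgebra.Quotient.mkBialgHom (R := S) (torsionIdeal S G n)).comp π
  have hPq : ∀ x, Pq x = Ideal.Quotient.mk (torsionIdeal S G n) (π x) := fun x => rfl
  have hPqsurj : Function.Surjective Pq := by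
    intro y
    obtain ⟨g, rfl⟩ := Ideal.Quotient.mk_surjective y
    obtain ⟨x, rfl⟩ := hπsurj g
    exact ⟨x, rfl⟩
  have hPqker : ∀ x, Pq x = 0 ↔ x ∈ J' ⊔ Ideal.span {e'} := by
    intro x
    rw [hPq, Ideal.Quotient.eq_zero_iff_mem]
    constructor
    · intro hx
      have h1 := torsionIdeal_le_map_of_surjective π hπsurj n hx
      obtain ⟨t, ht, hte⟩ := (Ideal.mem_map_iff_of_surjective (π : S ⊗[R] C →ₐ[S] G) hπsurj).mp h1
      have h2 : π (x - t) = 0 := by
        rw [map_sub, sub_eq_zero]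
        exact hte.symm
      have h3 : x = t + (x - t) := by ring
      rw [h3]
      refine Ideal.add_mem _ (Ideal.mem_sup_left ?_) (Ideal.mem_sup_right ((hπker _).mp h2))
      rw [← hJ'eq]
      exact ht
    · intro hx
      obtain ⟨a, ha, b, hb, rfl⟩ := Submodule.mem_sup.mp hx
      rw [map_add]
      refine Ideal.add_mem _ ?_ ?_
      · rw [← hJ'eq] at ha
        exact map_mem_torsionIdeal π n a ha
      · rw [(hπker b).mpr hb]
        exact Ideal.zero_mem _
  -- comparison of the two idempotents in `E = S ⊗ (C / J)`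
  let P : S ⊗[R] C →ₐ[S] S ⊗[R] (C ⧸ J) :=
    Algebra.TensorProduct.map (AlgHom.id S S) (Ideal.Quotient.mkₐ R J)
  have hPsurj : Function.Surjective P :=
    Algebra.TensorProduct.map_surjective (AlgHom.id S S) (Ideal.Quotient.mkₐ R J)
      Function.surjective_id (Ideal.Quotient.mkₐ_surjective R J)
  have hPker : RingHom.ker P = J' := by
    have hk := Algebra.TensorProduct.lTensor_ker (A := S)
      (Ideal.Quotient.mkₐ R J) (Ideal.Quotient.mkₐ_surjective R _)
    have hker : RingHom.ker (Ideal.Quotient.mkₐ R J) = J := by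
      ext a
      rw [RingHom.mem_ker, Ideal.Quotient.mkₐ_eq_mk, Ideal.Quotient.eq_zero_iff_mem]
    rw [hker] at hk
    exact hk
  set f' : S ⊗[R] (C ⧸ J) := (1 : S) ⊗ₜ[R] Ideal.Quotient.mk J ft with hf'
  set g' : S ⊗[R] (C ⧸ J) := P (1 - e') with hg'
  have hPe : P e' = 1 - g' := by
    rw [hg', map_sub, map_one, sub_sub_cancel]
  have hf'idem : IsIdempotentElem f' :=
    hf.map (Algebra.TensorProduct.includeRight : (C ⧸ J) →ₐ[R] S ⊗[R] (C ⧸ J))
  have hg'idem : IsIdempotentElem g' := (he'.one_sub).map P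
  have hone : (1 : S ⊗[R] (C ⧸ J)) - f' = (1 : S) ⊗ₜ[R] (1 - Ideal.Quotient.mk J ft) := by
    rw [tmul_sub, hf']
    rfl
  have hf'fin : Module.Finite S ((S ⊗[R] (C ⧸ J)) ⧸ Ideal.span ({1 - f'} : Set (S ⊗[R] (C ⧸ J)))) := by
    haveI := hffin
    let Q1 : S ⊗[R] (C ⧸ J) →ₐ[S]
        S ⊗[R] ((C ⧸ J) ⧸ Ideal.span ({1 - Ideal.Quotient.mk J ft} : Set (C ⧸ J))) :=
      Algebra.TensorProduct.map (AlgHom.id S S) (Ideal.Quotient.mkₐ R _)
    have hQ1surj : Function.Surjective Q1 :=
      Algebra.TensorProduct.map_surjective (AlgHom.id S S) (Ideal.Quotient.mkₐ R _)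
        Function.surjective_id (Ideal.Quotient.mkₐ_surjective R _)
    have hQ1ker : RingHom.ker Q1 = Ideal.span ({1 - f'} : Set (S ⊗[R] (C ⧸ J))) := by
      have hk := Algebra.TensorProduct.lTensor_ker (A := S)
        (Ideal.Quotient.mkₐ R (Ideal.span ({1 - Ideal.Quotient.mk J ft} : Set (C ⧸ J))))
        (Ideal.Quotient.mkₐ_surjective R _)
      have hker : RingHom.ker (Ideal.Quotient.mkₐ R
          (Ideal.span ({1 - Ideal.Quotient.mk J ft} : Set (C ⧸ J)))) =
          Ideal.span ({1 - Ideal.Quotient.mk J ft} : Set (C ⧸ J)) := by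
        ext a
        rw [RingHom.mem_ker, Ideal.Quotient.mkₐ_eq_mk, Ideal.Quotient.eq_zero_iff_mem]
      rw [hker, Ideal.map_span, Set.image_singleton] at hk
      rw [hone]
      exact hk
    let eq1 := (Ideal.quotientEquivAlgOfEq S hQ1ker.symm).trans
      (Ideal.quotientKerAlgEquivOfSurjective hQ1surj)
    exact Module.Finite.equiv eq1.symm.toLinearEquiv
  have hf'm : 1 - f' ∈ (maximalIdeal S).map (algebraMap S (S ⊗[R] (C ⧸ J))) := by
    have h1 : Ideal.Quotient.mk J ft - 1 ∈ (maximalIdeal R).map (algebraMap R (C ⧸ J)) := by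
      have := neg_mem hfm
      rwa [neg_sub] at this
    have h2 := tmul_sub_one_mem (D := S) (maximalIdeal R) (maximalIdeal S)
      (map_maximalIdeal_le R S) (Ideal.Quotient.mk J ft) h1
    have := neg_mem h2
    rwa [neg_sub] at this
  have hg'm : 1 - g' ∈ (maximalIdeal S).map (algebraMap S (S ⊗[R] (C ⧸ J))) := by
    rw [← hPe]
    have h2 : (maximalIdeal S).map (algebraMap S (S ⊗[R] C)) ≤
        Ideal.comap P ((maximalIdeal S).map (algebraMap S (S ⊗[R] (C ⧸ J)))) := by
      rw [Ideal.map_le_iff_le_comap]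
      intro s hs
      rw [Ideal.mem_comap, Ideal.mem_comap, P.commutes]
      exact Ideal.mem_map_of_mem _ hs
    exact h2 hem
  have hg'fin : Module.Finite S ((S ⊗[R] (C ⧸ J)) ⧸ Ideal.span ({1 - g'} : Set (S ⊗[R] (C ⧸ J)))) := by
    haveI := hGnfin
    let ρ : S ⊗[R] C →ₐ[S] (S ⊗[R] (C ⧸ J)) ⧸ Ideal.span ({1 - g'} : Set (S ⊗[R] (C ⧸ J))) :=
      (Ideal.Quotient.mkₐ S _).comp P
    have hρ : ∀ x, ρ x = Ideal.Quotient.mk _ (P x) := fun x => rfl
    have hle : ∀ x ∈ RingHom.ker (Pq : S ⊗[R] C →ₐ[S] G ⧸ torsionIdeal S G n), ρ x = 0 := by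
      intro x hx
      have hx' : Pq x = 0 := hx
      rw [hPqker] at hx'
      obtain ⟨a, ha, b, hb, rfl⟩ := Submodule.mem_sup.mp hx'
      rw [map_add]
      have h1 : ρ a = 0 := by
        rw [hρ]
        have : P a = 0 := by
          rw [← hPker] at ha
          exact ha
        rw [this, map_zero]
      have h2 : ρ b = 0 := by
        obtain ⟨y, rfl⟩ := Ideal.mem_span_singleton'.mp hb
        rw [hρ, map_mul, hPe, Ideal.Quotient.eq_zero_iff_mem]
        exact Ideal.mul_mem_left _ _ (Ideal.subset_span rfl)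
      rw [h1, h2, add_zero]
    let σ : (G ⧸ torsionIdeal S G n) →ₐ[S]
        (S ⊗[R] (C ⧸ J)) ⧸ Ideal.span ({1 - g'} : Set (S ⊗[R] (C ⧸ J))) :=
      (Ideal.Quotient.liftₐ _ ρ hle).comp
        (Ideal.quotientKerAlgEquivOfSurjective
          (f := (Pq : S ⊗[R] C →ₐ[S] G ⧸ torsionIdeal S G n)) hPqsurj).symm.toAlgHom
    apply Module.Finite.of_surjective σ.toLinearMap
    intro y
    obtain ⟨z, rfl⟩ := Ideal.Quotient.mk_surjective y
    obtain ⟨x, rfl⟩ := hPsurj z
    refine ⟨Pq x, ?_⟩
    change (Ideal.Quotient.liftₐ _ ρ hle) ((Ideal.quotientKerAlgEquivOfSurjective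
          (f := (Pq : S ⊗[R] C →ₐ[S] G ⧸ torsionIdeal S G n)) hPqsurj).symm (Pq x)) = _
    have h1 : (Ideal.quotientKerAlgEquivOfSurjective
          (f := (Pq : S ⊗[R] C →ₐ[S] G ⧸ torsionIdeal S G n)) hPqsurj).symm (Pq x) =
        Ideal.Quotient.mk _ x := by
      rw [AlgEquiv.symm_apply_eq]
      rfl
    rw [h1]
    rfl
  have key : f' = g' :=
    idem_eq_of_finite (S := S) f' g' hf'idem hg'idem hf'fin hg'fin hf'm hg'm
  -- the extension of `K`
  have hKmap : K.map incl = J' ⊔ Ideal.span {e'} := by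
    rw [hK, Ideal.map_sup, Ideal.map_span, Set.image_singleton]
    apply sup_span_eq_of_sub_mem
    change incl (1 - ft) - e' ∈ J'
    rw [← hPker, RingHom.mem_ker, map_sub, hPe, ← key]
    have : P (incl (1 - ft)) = 1 - f' := by
      rw [hone]
      rfl
    rw [this, sub_self]
  -- Hopf ideals
  have hK'ker : ∀ x, Pq x = 0 ↔ x ∈ K.map incl := by
    intro x
    rw [hPqker, hKmap]
  haveI hK'hopf : (K.map incl).IsHopfIdeal S := isHopfIdeal_of_ker Pq hPqsurj (K.map incl) hK'ker
  haveI hKhopf : K.IsHopfIdeal R := isHopfIdeal_of_map R S C K hK'hopf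
  refine ⟨K, hKhopf, hKfin, ?_, hKmap⟩
  -- multiplicative type
  obtain ⟨Ω1⟩ := nonempty_quotBialgEquiv Pq hPqsurj (K.map incl) hK'ker
  let ν : S ⊗[R] C →ₐc[S] S ⊗[R] (C ⧸ K) :=
    Bialgebra.TensorProduct.map (BialgHom.id S S) (Bialgebra.Quotient.mkBialgHom (R := R) K)
  have hν : ∀ x, ν x = Algebra.TensorProduct.map (AlgHom.id S S) (Ideal.Quotient.mkₐ R K) x := by
    intro x
    induction x with
    | zero => simp
    | add a b ha hb => rw [map_add, map_add, ha, hb]
    | tmul a b => rfl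
  have hνsurj : Function.Surjective ν := by
    intro y
    obtain ⟨x, hx⟩ := Algebra.TensorProduct.map_surjective (AlgHom.id S S) (Ideal.Quotient.mkₐ R K)
      Function.surjective_id (Ideal.Quotient.mkₐ_surjective R K) y
    exact ⟨x, (hν x).trans hx⟩
  have hνker : ∀ x, ν x = 0 ↔ x ∈ K.map incl := by
    intro x
    have hk := Algebra.TensorProduct.lTensor_ker (A := S)
      (Ideal.Quotient.mkₐ R K) (Ideal.Quotient.mkₐ_surjective R _)
    have hker : RingHom.ker (Ideal.Quotient.mkₐ R K) = K := by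
      ext a
      rw [RingHom.mem_ker, Ideal.Quotient.mkₐ_eq_mk, Ideal.Quotient.eq_zero_iff_mem]
    rw [hker] at hk
    have hk' : RingHom.ker (Algebra.TensorProduct.map (AlgHom.id S S) (Ideal.Quotient.mkₐ R K)) =
        K.map incl := hk
    rw [hν, ← hk']
    rfl
  obtain ⟨Ω2⟩ := nonempty_quotBialgEquiv ν hνsurj (K.map incl) hνker
  have h1 : IsMultTypeConst S (S ⊗[R] (C ⧸ K)) :=
    isMultTypeConst_of_bialgEquiv (Ω2.symm.trans Ω1)
      (Groth.Agent.H15.MTHens.isMultTypeConst_of_isLocalRing S _ hGnmt)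
  exact Groth.Agent.H15.MTF.isMultType_of_isMultTypeConst (isMultTypeConst_of_baseChange h1)

end torsform

end Groth.Agent.H15.NF
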