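import Groth.Agent.H15.HopfNF22

/-!
# Homomorphisms from a group of multiplicative type over a henselian Noetherian local ring:
base change to the completion is bijective (SGA3 X 4.3 bis)
-/

set_option autoImplicit false
set_option linter.style.haveILetI false
set_option linter.unusedSectionVars false
universe u
open TensorProduct Coalgebra IsLocalRing

namespace Groth.Agent.H15.NF
open Groth.Agent.H26 Groth.Agent.H15.MTC Groth.Agent.H15.HA Groth.Agent.H15.HF SGA3b
open Groth.Agent.H15.MT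

section factor
variable {S : Type u} [CommRing S] {X Y Z : Type u} [CommRing X] [CommRing Y] [CommRing Z]
  [HopfAlgebra S X] [HopfAlgebra S Y] [HopfAlgebra S Z]

/-- factorisation of a bialgebra map through a surjective bialgebra map -/
theorem exists_bialgHom_factor (ν : X →ₐc[S] Y) (hν : Function.Surjective ν) (g : X →ₐc[S] Z)
    (hg : ∀ x, ν x = 0 → g x = 0) : ∃ h : Y →ₐc[S] Z, ∀ x, h (ν x) = g x := by
  have hle : ∀ x ∈ RingHom.ker (ν : X →ₐ[S] Y), (g : X →ₐ[S] Z) x = 0 := fun x hx => hg x hx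
  let h₀ : Y →ₐ[S] Z :=
    (Ideal.Quotient.liftₐ _ (g : X →ₐ[S] Z) hle).comp
      (Ideal.quotientKerAlgEquivOfSurjective (f := (ν : X →ₐ[S] Y)) hν).symm.toAlgHom
  have hh₀ : ∀ x, h₀ (ν x) = g x := by
    intro x
    change (Ideal.Quotient.liftₐ _ (g : X →ₐ[S] Z) hle)
      ((Ideal.quotientKerAlgEquivOfSurjective (f := (ν : X →ₐ[S] Y)) hν).symm (ν x)) = _
    have h1 : (Ideal.quotientKerAlgEquivOfSurjective (f := (ν : X →ₐ[S] Y)) hν).symm (ν x) =
        Ideal.Quotient.mk _ x := by
      rw [AlgEquiv.symm_apply_eq]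
      rfl
    rw [h1]
    rfl
  let ψ : Y →ₐc[S] Z := BialgHom.ofAlgHom h₀
    (by
      apply AlgHom.ext
      intro y
      obtain ⟨x, rfl⟩ := hν y
      change Coalgebra.counit (R := S) (h₀ (ν x)) = Coalgebra.counit (R := S) (ν x)
      rw [hh₀]
      exact (CoalgHomClass.counit_comp_apply g x).trans (CoalgHomClass.counit_comp_apply ν x).symm)
    (by
      apply AlgHom.ext
      intro y
      obtain ⟨x, rfl⟩ := hν y
      change TensorProduct.map h₀.toLinearMap h₀.toLinearMap (Coalgebra.comul (R := S) (ν x)) =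
        Coalgebra.comul (R := S) (h₀ (ν x))
      rw [hh₀, ← CoalgHomClass.map_comp_comul_apply g x, ← CoalgHomClass.map_comp_comul_apply ν x]
      generalize Coalgebra.comul (R := S) x = w
      induction w with
      | zero => simp
      | add a b ha hb => simp only [map_add, ha, hb]
      | tmul a b =>
        change h₀ (ν a) ⊗ₜ[S] h₀ (ν b) = g a ⊗ₜ[S] g b
        rw [hh₀, hh₀])
  exact ⟨ψ, hh₀⟩

end factor

section fibfin
variable (R : Type u) [CommRing R] [IsLocalRing R] (C : Type u) [CommRing C] [HopfAlgebra R C]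

/-- the closed fibre of the torsion subscheme is finite when the closed fibre of the group is of
multiplicative type -/
theorem finite_fibre_quot_torsionIdeal (hft : Algebra.FiniteType R C)
    (hs : IsMultType (ResidueField R) (ResidueField R ⊗[R] C)) (n : ℕ) (hn : 0 < n) :
    Module.Finite R ((C ⧸ torsionIdeal R C n) ⧸
      (maximalIdeal R).map (algebraMap R (C ⧸ torsionIdeal R C n))) := by
  haveI := hft
  set k := ResidueField R with hk
  have hftk : Algebra.FiniteType k (k ⊗[R] C) := inferInstance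
  haveI h1 : Module.Finite k ((k ⊗[R] C) ⧸ torsionIdeal k (k ⊗[R] C) n) :=
    Groth.Agent.H15.MTI.finite_quot_torsionIdeal_of_isMultType k (k ⊗[R] C) hftk hs n hn
  let q : k ⊗[R] C →ₐ[k] k ⊗[R] (C ⧸ torsionIdeal R C n) :=
    Algebra.TensorProduct.map (AlgHom.id k k) (Ideal.Quotient.mkₐ R (torsionIdeal R C n))
  have hqsurj : Function.Surjective q :=
    Algebra.TensorProduct.map_surjective (AlgHom.id k k) (Ideal.Quotient.mkₐ R _)
      Function.surjective_id (Ideal.Quotient.mkₐ_surjective R _)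
  have hle : ∀ x ∈ torsionIdeal k (k ⊗[R] C) n, q x = 0 := fun x hx =>
    torsionIdeal_bc_le_ker (R := R) (A := C) k n hx
  let q' : ((k ⊗[R] C) ⧸ torsionIdeal k (k ⊗[R] C) n) →ₐ[k] k ⊗[R] (C ⧸ torsionIdeal R C n) :=
    Ideal.Quotient.liftₐ _ q hle
  haveI h2 : Module.Finite k (k ⊗[R] (C ⧸ torsionIdeal R C n)) := by
    apply Module.Finite.of_surjective q'.toLinearMap
    intro y
    obtain ⟨x, rfl⟩ := hqsurj y
    exact ⟨Ideal.Quotient.mk _ x, rfl⟩
  haveI h3 : Module.Finite R (k ⊗[R] (C ⧸ torsionIdeal R C n)) := Module.Finite.trans k _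
  let θ := Algebra.TensorProduct.quotIdealMapEquivQuotTensor (A := R) (C ⧸ torsionIdeal R C n)
    (maximalIdeal R)
  haveI h4 : Module.Finite R ((R ⧸ maximalIdeal R) ⊗[R] (C ⧸ torsionIdeal R C n)) := h3
  exact Module.Finite.equiv (θ.symm.toLinearEquiv.restrictScalars R)

end fibfin

section bcmk
variable (R : Type u) [CommRing R] (S : Type u) [CommRing S] [Algebra R S]
  (C : Type u) [CommRing C] [HopfAlgebra R C] (K : Ideal C) [K.IsHopfIdeal R]

/-- the base change of the quotient map by a Hopf ideal -/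
theorem exists_baseChange_mk :
    ∃ ν : S ⊗[R] C →ₐc[S] S ⊗[R] (C ⧸ K), Function.Surjective ν ∧
      (∀ x, ν x = 0 ↔ x ∈ K.map (Algebra.TensorProduct.includeRight : C →ₐ[R] S ⊗[R] C)) ∧
      ∀ (s : S) (c : C), ν (s ⊗ₜ[R] c) = s ⊗ₜ[R] Ideal.Quotient.mk K c := by
  let ν : S ⊗[R] C →ₐc[S] S ⊗[R] (C ⧸ K) :=
    Bialgebra.TensorProduct.map (BialgHom.id S S) (Bialgebra.Quotient.mkBialgHom (R := R) K)
  have hν : ∀ x, ν x = Algebra.TensorProduct.map (AlgHom.id S S) (Ideal.Quotient.mkₐ R K) x := by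
    intro x
    induction x with
    | zero => simp
    | add a b ha hb => rw [map_add, map_add, ha, hb]
    | tmul a b => rfl
  refine ⟨ν, ?_, ?_, fun s c => rfl⟩
  · intro y
    obtain ⟨x, hx⟩ := Algebra.TensorProduct.map_surjective (AlgHom.id S S) (Ideal.Quotient.mkₐ R K)
      Function.surjective_id (Ideal.Quotient.mkₐ_surjective R K) y
    exact ⟨x, (hν x).trans hx⟩
  · intro x
    have hk := Algebra.TensorProduct.lTensor_ker (A := S)
      (Ideal.Quotient.mkₐ R K) (Ideal.Quotient.mkₐ_surjective R _)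
    have hker : RingHom.ker (Ideal.Quotient.mkₐ R K) = K := by
      ext a
      rw [RingHom.mem_ker, Ideal.Quotient.mkₐ_eq_mk, Ideal.Quotient.eq_zero_iff_mem]
    rw [hker] at hk
    have hk' : RingHom.ker (Algebra.TensorProduct.map (AlgHom.id S S) (Ideal.Quotient.mkₐ R K)) =
        K.map (Algebra.TensorProduct.includeRight : C →ₐ[R] S ⊗[R] C) := hk
    rw [hν, ← hk']
    rfl

end bcmk

section main
variable (A : Type u) [CommRing A] [IsNoetherianRing A] [HenselianLocalRing A]
  (B : Type u) [CommRing B] [HopfAlgebra A B]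
  (C : Type u) [CommRing C] [HopfAlgebra A C]

local notation "Â" => AdicCompletion (maximalIdeal A) A

theorem exists_bialgHom_of_completion (hGft : Algebra.FiniteType A B) (hG : IsMultType A B)
    (hHft : Algebra.FiniteType A C)
    (hfl : ∀ (q : Ideal C) [q.IsPrime], (maximalIdeal A).map (algebraMap A C) ≤ q →
      Module.Flat A (Localization.AtPrime q))
    (hs : IsMultType (ResidueField A) (ResidueField A ⊗[A] C))
    (φ' : Â ⊗[A] C →ₐc[Â] Â ⊗[A] B) :
    ∃ φ : C →ₐc[A] B, ∀ c : C, φ' ((1 : Â) ⊗ₜ[A] c) = (1 : Â) ⊗ₜ[A] φ c := by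
  haveI := hGft
  haveI := hHft
  haveI : IsNoetherianRing Â := Groth.Agent.H20.isNoetherianRing_adicCompletion _
  haveI : Module.FaithfullyFlat A Â := Module.FaithfullyFlat.of_flat_of_isLocalHom
  haveI : HenselianLocalRing Â :=
    ⟨fun f hf a₀ h₁ h₂ => HenselianRing.is_henselian (I := maximalIdeal Â) f hf a₀ h₁ (h₂.map _)⟩
  haveI : Algebra.FinitePresentation A C := Algebra.FinitePresentation.of_finiteType.mp hHft
  obtain ⟨g, hg, hflat⟩ := exists_flat_away (R := A) (A := C) (maximalIdeal A) hfl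
  have hcl := hasClopen_completion' A C hHft hs g hg hflat
  obtain ⟨e', he', hem, hcl'⟩ := hcl.exists_idem
  haveI hBcocomm : Coalgebra.IsCocomm A B := Groth.Agent.H3.CartRing.isCocomm_of_isMultType A B hG
  have hBconst : IsMultTypeConst A B := Groth.Agent.H15.MTHens.isMultTypeConst_of_isLocalRing A B hG
  have hres : Function.Surjective (algebraMap (ResidueField A) (ResidueField Â)) := by
    intro y
    obtain ⟨x, hx⟩ := (AdicCompletion.residueField_map_bijective_of_fg
      (R := A) (maximalIdeal A).fg_of_isNoetherianRing).2 y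
    obtain ⟨a, rfl⟩ := residue_surjective x
    exact ⟨residue A a, hx⟩
  -- key: values descend
  have key : ∀ c : C, ∃ b : B, (1 : Â) ⊗ₜ[A] b = φ' ((1 : Â) ⊗ₜ[A] c) := by
    intro c
    apply Groth.Agent.H15.MTHens.exists_descent (T := Â) hGft hBconst
    intro n hn
    have hfib := finite_fibre_quot_torsionIdeal A C hHft hs n hn
    obtain ⟨K, hKhopf, hKfin, hKmt, hKmap⟩ :=
      exists_torsion_form A Â C hHft n hn hfib e' he' hem hcl'
    haveI := hKhopf
    haveI := hKfin
    haveI : (torsionIdeal A B n).IsHopfIdeal A :=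
      Groth.Agent.H15.MTHens.isHopfIdeal_torsionIdeal A B n
    obtain ⟨hBnmt, hBnfin⟩ := Groth.Agent.S5242.result A B hGft hG n hn (torsionIdeal A B n) rfl
    haveI := hBnfin
    obtain ⟨ν, hνsurj, hνker, hνt⟩ := exists_baseChange_mk A Â C K
    obtain ⟨μ, hμsurj, hμker, hμt⟩ := exists_baseChange_mk A Â B (torsionIdeal A B n)
    let gg : Â ⊗[A] C →ₐc[Â] Â ⊗[A] (B ⧸ torsionIdeal A B n) := μ.comp φ'
    have hgg : ∀ x, gg x = μ (φ' x) := fun x => rfl
    have hge : gg e' = 0 := by
      apply idem_eq_zero_of_finite (S := Â) (gg e') (he'.map gg)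
      have h2 : (maximalIdeal Â).map (algebraMap Â (Â ⊗[A] C)) ≤
          Ideal.comap (gg : Â ⊗[A] C →ₐ[Â] Â ⊗[A] (B ⧸ torsionIdeal A B n))
            ((maximalIdeal Â).map (algebraMap Â (Â ⊗[A] (B ⧸ torsionIdeal A B n)))) := by
        rw [Ideal.map_le_iff_le_comap]
        intro s hs
        rw [Ideal.mem_comap, Ideal.mem_comap, AlgHom.commutes]
        exact Ideal.mem_map_of_mem _ hs
      exact h2 hem
    have hgker : ∀ x, ν x = 0 → gg x = 0 := by
      intro x hx
      rw [hνker, hKmap] at hx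
      obtain ⟨a, ha, b, hb, rfl⟩ := Submodule.mem_sup.mp hx
      rw [map_add]
      have h1 : gg a = 0 := by
        rw [hgg, hμker, ← torsionIdeal_baseChange_eq]
        apply map_mem_torsionIdeal φ' n a
        rw [torsionIdeal_baseChange_eq]
        exact ha
      have h2 : gg b = 0 := by
        obtain ⟨y, rfl⟩ := Ideal.mem_span_singleton'.mp hb
        rw [map_mul, hge, mul_zero]
      rw [h1, h2, add_zero]
    obtain ⟨ψ', hψ'⟩ := exists_bialgHom_factor ν hνsurj gg hgker
    obtain ⟨ψ, hψ⟩ := exists_bialgHom_of_baseChange_henselian A Â (B ⧸ torsionIdeal A B n) (C ⧸ K)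
      hres hBnmt hKmt ψ'
    obtain ⟨b, hb⟩ := Ideal.Quotient.mk_surjective (ψ (Ideal.Quotient.mk K c))
    refine ⟨b, ?_⟩
    rw [← hμker, map_sub, sub_eq_zero, hμt, hb, ← hψ, ← hνt, hψ']
    rfl
  obtain ⟨φ, hφ⟩ := exists_bialgHom_of_descend_ff φ' key
  exact ⟨φ, fun c => (hφ c).symm⟩

end main

end Groth.Agent.H15.NF
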