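import Groth.Agent.H15.HopfNF2

/-!
# Noetherian approximation without flatness: raw Hopf structures
-/

set_option autoImplicit false
set_option linter.style.haveILetI false
set_option linter.unusedSectionVars false
universe u
open TensorProduct

namespace Groth.Agent.H15.NF
open Groth.Agent.H26 Groth.Agent.H15.MTC Groth.Agent.H15.HA

/-- a comultiplication, counit and antipode, with no axioms -/
structure RawHopf (C : Type u) (B : Type u) [CommRing C] [CommRing B] [Algebra C B] where
  δ : B →ₐ[C] B ⊗[C] B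
  ε : B →ₐ[C] C
  σ : B →ₐ[C] B

namespace RawHopf

section defs
variable {C : Type u} {B : Type u} [CommRing C] [CommRing B] [Algebra C B] (X : RawHopf C B)

noncomputable def assL : B →ₐ[C] B ⊗[C] (B ⊗[C] B) :=
  (Algebra.TensorProduct.assoc C C C B B B).toAlgHom.comp
    ((Algebra.TensorProduct.map X.δ (AlgHom.id C B)).comp X.δ)

noncomputable def assR : B →ₐ[C] B ⊗[C] (B ⊗[C] B) :=
  (Algebra.TensorProduct.map (AlgHom.id C B) X.δ).comp X.δ

noncomputable def cuL : B →ₐ[C] B :=
  (Algebra.TensorProduct.lid C B).toAlgHom.comp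
    ((Algebra.TensorProduct.map X.ε (AlgHom.id C B)).comp X.δ)

noncomputable def cuR : B →ₐ[C] B :=
  (Algebra.TensorProduct.rid C C B).toAlgHom.comp
    ((Algebra.TensorProduct.map (AlgHom.id C B) X.ε).comp X.δ)

noncomputable def anL : B →ₐ[C] B :=
  (Algebra.TensorProduct.lmul' C).comp
    ((Algebra.TensorProduct.map X.σ (AlgHom.id C B)).comp X.δ)

noncomputable def anR : B →ₐ[C] B :=
  (Algebra.TensorProduct.lmul' C).comp
    ((Algebra.TensorProduct.map (AlgHom.id C B) X.σ).comp X.δ)

noncomputable def unit : B →ₐ[C] B := (Algebra.ofId C B).comp X.ε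

lemma assL_apply (b : B) : X.assL b = Algebra.TensorProduct.assoc C C C B B B
    (Algebra.TensorProduct.map X.δ (AlgHom.id C B) (X.δ b)) := rfl
lemma assR_apply (b : B) : X.assR b = Algebra.TensorProduct.map (AlgHom.id C B) X.δ (X.δ b) := rfl
lemma cuL_apply (b : B) : X.cuL b = Algebra.TensorProduct.lid C B
    (Algebra.TensorProduct.map X.ε (AlgHom.id C B) (X.δ b)) := rfl
lemma cuR_apply (b : B) : X.cuR b = Algebra.TensorProduct.rid C C B
    (Algebra.TensorProduct.map (AlgHom.id C B) X.ε (X.δ b)) := rfl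
lemma anL_apply (b : B) : X.anL b = Algebra.TensorProduct.lmul' C
    (Algebra.TensorProduct.map X.σ (AlgHom.id C B) (X.δ b)) := rfl
lemma anR_apply (b : B) : X.anR b = Algebra.TensorProduct.lmul' C
    (Algebra.TensorProduct.map (AlgHom.id C B) X.σ (X.δ b)) := rfl
lemma unit_apply (b : B) : X.unit b = algebraMap C B (X.ε b) := rfl

/-- the Hopf algebra axioms -/
structure IsHopf : Prop where
  ass : X.assL = X.assR
  cuL : X.cuL = AlgHom.id C B
  cuR : X.cuR = AlgHom.id C B
  anL : X.anL = X.unit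
  anR : X.anR = X.unit

end defs

section nat
variable {C : Type u} [CommRing C] {C' : Type u} [CommRing C'] [Algebra C C']
  {B : Type u} [CommRing B] [Algebra C B]
  {B' : Type u} [CommRing B'] [Algebra C B'] [Algebra C' B'] [IsScalarTower C C' B']
  (X : RawHopf C B) (X' : RawHopf C' B')

/-- a map of raw Hopf structures along a change of base ring -/
structure IsRawMap (θ : B →ₐ[C] B') : Prop where
  comul : ∀ b, tmul₂ C' θ.toLinearMap (X.δ b) = X'.δ (θ b)
  counit : ∀ b, algebraMap C C' (X.ε b) = X'.ε (θ b)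
  antipode : ∀ b, θ (X.σ b) = X'.σ (θ b)

variable {X X'} {θ : B →ₐ[C] B'} (h : IsRawMap X X' θ)
include h

/-- the triple tensor power of `θ` -/
noncomputable abbrev _root_.Groth.Agent.H15.NF.tmul₃ (θ : B →ₐ[C] B') :
    B ⊗[C] (B ⊗[C] B) →ₗ[C] B' ⊗[C'] (B' ⊗[C'] B') :=
  tmulMap C' θ.toLinearMap (tmul₂ C' θ.toLinearMap)

omit h in
lemma nat_assoc (y : B ⊗[C] B) (b₂ : B) :
    tmul₃ (C' := C') θ (Algebra.TensorProduct.assoc C C C B B B (y ⊗ₜ[C] b₂)) =
      Algebra.TensorProduct.assoc C' C' C' B' B' B' (tmul₂ C' θ.toLinearMap y ⊗ₜ[C'] θ b₂) := by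
  induction y with
  | zero => simp
  | add x y hx hy => rw [add_tmul, map_add, map_add, hx, hy, map_add, add_tmul, map_add]
  | tmul u v => simp

lemma nat_assL (b : B) : tmul₃ (C' := C') θ (X.assL b) = X'.assL (θ b) := by
  rw [assL_apply, assL_apply, ← h.comul]
  generalize X.δ b = x
  induction x with
  | zero => simp
  | add x y hx hy => simp only [map_add, hx, hy]
  | tmul b₁ b₂ =>
    rw [Algebra.TensorProduct.map_tmul, nat_assoc, tmul₂_tmul, Algebra.TensorProduct.map_tmul,
      h.comul]
    rfl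

lemma nat_assR (b : B) : tmul₃ (C' := C') θ (X.assR b) = X'.assR (θ b) := by
  rw [assR_apply, assR_apply, ← h.comul]
  generalize X.δ b = x
  induction x with
  | zero => simp
  | add x y hx hy => simp only [map_add, hx, hy]
  | tmul b₁ b₂ =>
    rw [Algebra.TensorProduct.map_tmul, tmulMap_tmul, tmul₂_tmul, Algebra.TensorProduct.map_tmul,
      h.comul]
    rfl

lemma nat_cuL (b : B) : θ (X.cuL b) = X'.cuL (θ b) := by
  rw [cuL_apply, cuL_apply, ← h.comul]
  generalize X.δ b = x
  induction x with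
  | zero => simp
  | add x y hx hy => simp only [map_add, hx, hy]
  | tmul b₁ b₂ =>
    rw [Algebra.TensorProduct.map_tmul, tmul₂_tmul, Algebra.TensorProduct.map_tmul]
    change θ (X.ε b₁ • b₂) = X'.ε (θ b₁) • θ b₂
    rw [map_smul, ← h.counit, algebraMap_smul]

lemma nat_cuR (b : B) : θ (X.cuR b) = X'.cuR (θ b) := by
  rw [cuR_apply, cuR_apply, ← h.comul]
  generalize X.δ b = x
  induction x with
  | zero => simp
  | add x y hx hy => simp only [map_add, hx, hy]
  | tmul b₁ b₂ =>
    rw [Algebra.TensorProduct.map_tmul, tmul₂_tmul, Algebra.TensorProduct.map_tmul]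
    change θ (X.ε b₂ • b₁) = X'.ε (θ b₂) • θ b₁
    rw [map_smul, ← h.counit, algebraMap_smul]

lemma nat_anL (b : B) : θ (X.anL b) = X'.anL (θ b) := by
  rw [anL_apply, anL_apply, ← h.comul]
  generalize X.δ b = x
  induction x with
  | zero => simp
  | add x y hx hy => simp only [map_add, hx, hy]
  | tmul b₁ b₂ =>
    rw [Algebra.TensorProduct.map_tmul, tmul₂_tmul, Algebra.TensorProduct.map_tmul,
      Algebra.TensorProduct.lmul'_apply_tmul, Algebra.TensorProduct.lmul'_apply_tmul, map_mul,
      h.antipode]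
    rfl

lemma nat_anR (b : B) : θ (X.anR b) = X'.anR (θ b) := by
  rw [anR_apply, anR_apply, ← h.comul]
  generalize X.δ b = x
  induction x with
  | zero => simp
  | add x y hx hy => simp only [map_add, hx, hy]
  | tmul b₁ b₂ =>
    rw [Algebra.TensorProduct.map_tmul, tmul₂_tmul, Algebra.TensorProduct.map_tmul,
      Algebra.TensorProduct.lmul'_apply_tmul, Algebra.TensorProduct.lmul'_apply_tmul, map_mul,
      h.antipode]
    rfl

lemma nat_unit (b : B) : θ (X.unit b) = X'.unit (θ b) := by
  rw [unit_apply, unit_apply, ← h.counit, θ.commutes, ← IsScalarTower.algebraMap_apply]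

end nat

end RawHopf

end Groth.Agent.H15.NF
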