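import Groth.Agent.H15.HopfNF3

/-!
# Noetherian approximation without flatness: Hopf algebras as raw structures, base change
-/

set_option autoImplicit false
set_option linter.style.haveILetI false
set_option linter.unusedSectionVars false
universe u
open TensorProduct

namespace Groth.Agent.H15.NF
open Groth.Agent.H26 Groth.Agent.H15.MTC Groth.Agent.H15.HA

namespace RawHopf

section conv
variable (R : Type u) [CommRing R] (A : Type u) [CommRing A] [Algebra R A]

lemma map_eq_rTensor {B₁ B₂ : Type u} [CommRing B₁] [CommRing B₂] [Algebra R B₁] [Algebra R B₂]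
    (f : B₁ →ₐ[R] B₂) (x : B₁ ⊗[R] A) :
    Algebra.TensorProduct.map f (AlgHom.id R A) x = LinearMap.rTensor A f.toLinearMap x := by
  induction x with
  | zero => simp
  | add x y hx hy => rw [map_add, map_add, hx, hy]
  | tmul a b => rfl

lemma map_eq_lTensor {B₁ B₂ : Type u} [CommRing B₁] [CommRing B₂] [Algebra R B₁] [Algebra R B₂]
    (f : B₁ →ₐ[R] B₂) (x : A ⊗[R] B₁) :
    Algebra.TensorProduct.map (AlgHom.id R A) f x = LinearMap.lTensor A f.toLinearMap x := by
  induction x with
  | zero => simp
  | add x y hx hy => rw [map_add, map_add, hx, hy]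
  | tmul a b => rfl

lemma assoc_eq (x : (A ⊗[R] A) ⊗[R] A) :
    Algebra.TensorProduct.assoc R R R A A A x = TensorProduct.assoc R A A A x := by
  induction x with
  | zero => simp
  | add x y hx hy => rw [map_add, map_add, hx, hy]
  | tmul y c =>
    induction y with
    | zero => simp
    | add x y hx hy => rw [add_tmul, map_add, map_add, hx, hy]
    | tmul a b => rfl

end conv

section ofHopf
variable (R : Type u) [CommRing R] (A : Type u) [CommRing A] [HopfAlgebra R A]

/-- the raw structure of a Hopf algebra -/
noncomputable def ofHopf : RawHopf R A where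
  δ := Bialgebra.comulAlgHom R A
  ε := Bialgebra.counitAlgHom R A
  σ := HopfAlgebra.antipodeAlgHom R A

theorem isHopf_ofHopf : (ofHopf R A).IsHopf := by
  refine ⟨?_, ?_, ?_, ?_, ?_⟩
  · apply AlgHom.ext
    intro a
    rw [assL_apply, assR_apply, map_eq_rTensor, map_eq_lTensor, assoc_eq]
    exact Coalgebra.coassoc_apply (R := R) a
  · apply AlgHom.ext
    intro a
    rw [cuL_apply, map_eq_rTensor]
    change TensorProduct.lid R A (LinearMap.rTensor A (Coalgebra.counit (R := R) (A := A))
      (Coalgebra.comul (R := R) a)) = a
    rw [Coalgebra.rTensor_counit_comul]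
    simp
  · apply AlgHom.ext
    intro a
    rw [cuR_apply, map_eq_lTensor]
    change TensorProduct.rid R A (LinearMap.lTensor A (Coalgebra.counit (R := R) (A := A))
      (Coalgebra.comul (R := R) a)) = a
    rw [Coalgebra.lTensor_counit_comul]
    simp
  · apply AlgHom.ext
    intro a
    rw [anL_apply, map_eq_rTensor]
    change LinearMap.mul' R A (LinearMap.rTensor A (HopfAlgebra.antipode R (A := A))
      (Coalgebra.comul (R := R) a)) = algebraMap R A (Coalgebra.counit (R := R) a)
    rw [HopfAlgebra.mul_antipode_rTensor_comul_apply]
  · apply AlgHom.ext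
    intro a
    rw [anR_apply, map_eq_lTensor]
    change LinearMap.mul' R A (LinearMap.lTensor A (HopfAlgebra.antipode R (A := A))
      (Coalgebra.comul (R := R) a)) = algebraMap R A (Coalgebra.counit (R := R) a)
    rw [HopfAlgebra.mul_antipode_lTensor_comul_apply]

end ofHopf

section toHopf
variable {C : Type u} [CommRing C] {B : Type u} [CommRing B] [Algebra C B] (X : RawHopf C B)
  (h : X.IsHopf)
include h

/-- the coalgebra structure of a raw structure satisfying the axioms -/
@[reducible] noncomputable def coalgebra : Coalgebra C B where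
  comul := X.δ.toLinearMap
  counit := X.ε.toLinearMap
  coassoc := by
    ext b
    have h1 := AlgHom.congr_fun h.ass b
    rw [assL_apply, assR_apply, map_eq_rTensor, map_eq_lTensor, assoc_eq] at h1
    exact h1
  rTensor_counit_comp_comul := by
    ext b
    have h1 := AlgHom.congr_fun h.cuL b
    rw [cuL_apply, map_eq_rTensor] at h1
    apply (TensorProduct.lid C B).injective
    simp only [LinearMap.comp_apply]
    refine Eq.trans h1 ?_
    simp
  lTensor_counit_comp_comul := by
    ext b
    have h1 := AlgHom.congr_fun h.cuR b
    rw [cuR_apply, map_eq_lTensor] at h1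
    apply (TensorProduct.rid C B).injective
    simp only [LinearMap.comp_apply]
    refine Eq.trans h1 ?_
    simp

/-- the bialgebra structure -/
@[reducible] noncomputable def bialgebra : Bialgebra C B :=
  letI := X.coalgebra h
  Bialgebra.mk' C B (map_one X.ε) (fun {a b} => map_mul X.ε a b)
    (map_one X.δ) (fun {a b} => map_mul X.δ a b)

/-- the Hopf algebra structure -/
@[reducible] noncomputable def hopfAlgebra : HopfAlgebra C B :=
  letI := X.bialgebra h
  { antipode := X.σ.toLinearMap
    mul_antipode_rTensor_comul := by
      ext b
      have h1 := AlgHom.congr_fun h.anL b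
      rw [anL_apply, map_eq_rTensor] at h1
      exact h1
    mul_antipode_lTensor_comul := by
      ext b
      have h1 := AlgHom.congr_fun h.anR b
      rw [anR_apply, map_eq_lTensor] at h1
      exact h1 }

end toHopf

end RawHopf

end Groth.Agent.H15.NF
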