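import Groth.Agent.H15.HopfNF4

/-!
# Noetherian approximation without flatness: base change of raw structures, killing the defects
-/

set_option autoImplicit false
set_option linter.style.haveILetI false
set_option linter.unusedSectionVars false
universe u
open TensorProduct

namespace Groth.Agent.H15.NF
open Groth.Agent.H26 Groth.Agent.H15.MTC Groth.Agent.H15.HA

section finvanish
variable {C : Type u} [CommRing C] {R : Type u} [CommRing R] [Algebra C R]
  {N : Type u} [AddCommGroup N] [Module C N]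
  {N' : Type u} [AddCommGroup N'] [Module C N'] [Module R N'] [IsScalarTower C R N']

/-- finitely many elements dying after base change to `R` die after base change to a finitely
generated subalgebra -/
theorem exists_fg_forall_tmul_eq_zero {ν : N →ₗ[C] N'} (hν : IsBaseChange R ν) (S : Finset N)
    (hS : ∀ x ∈ S, ν x = 0) :
    ∃ C' : Subalgebra C R, C'.FG ∧ ∀ C'' : Subalgebra C R, C' ≤ C'' →
      ∀ x ∈ S, (1 : ↥C'') ⊗ₜ[C] x = 0 := by
  classical
  induction S using Finset.induction_on with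
  | empty => exact ⟨⊥, Subalgebra.fg_bot, fun _ _ x hx => absurd hx (Finset.notMem_empty x)⟩
  | insert a S _ ih =>
    obtain ⟨C₁, hC₁, h₁⟩ := ih fun x hx => hS x (Finset.mem_insert_of_mem hx)
    have ha : ν a = 0 := hS a (Finset.mem_insert_self a S)
    have ha' : (1 : R) ⊗ₜ[C] a = 0 := by
      apply hν.equiv.injective
      rw [IsBaseChange.equiv_tmul, one_smul, ha, map_zero]
    obtain ⟨C₂, hC₂, hle, h₂⟩ := exists_fg_rTensor_eq_zero N (⊥ : Subalgebra C R)
      Subalgebra.fg_bot ((1 : ↥(⊥ : Subalgebra C R)) ⊗ₜ[C] a) (by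
        rw [LinearMap.rTensor_tmul]
        exact ha')
    rw [LinearMap.rTensor_tmul] at h₂
    refine ⟨C₁ ⊔ C₂, hC₁.sup hC₂, fun C'' hC'' x hx => ?_⟩
    rcases Finset.mem_insert.mp hx with rfl | hx
    · have h3 := congrArg (LinearMap.rTensor N
        (Subalgebra.inclusion (le_sup_right.trans hC'' : C₂ ≤ C'')).toLinearMap) h₂
      rw [LinearMap.rTensor_tmul, map_zero] at h3
      exact h3
    · exact h₁ C'' (le_sup_left.trans hC'') x hx

end finvanish

namespace RawHopf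

section bc
variable {C : Type u} [CommRing C] {B : Type u} [CommRing B] [Algebra C B] (X : RawHopf C B)
  (T : Type u) [CommRing T] [Algebra C T]

/-- base change of a raw structure -/
noncomputable def baseChange : RawHopf T (T ⊗[C] B) where
  δ := Algebra.TensorProduct.lift (Algebra.ofId T _)
    ((tmul₂Alg (R := T) (Algebra.TensorProduct.includeRight : B →ₐ[C] T ⊗[C] B)).comp X.δ)
    (fun _ _ => Commute.all _ _)
  ε := Algebra.TensorProduct.lift (AlgHom.id T T) ((Algebra.ofId C T).comp X.ε)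
    (fun _ _ => Commute.all _ _)
  σ := Algebra.TensorProduct.map (AlgHom.id T T) X.σ

theorem isRawMap_includeRight :
    IsRawMap X (X.baseChange T) (Algebra.TensorProduct.includeRight : B →ₐ[C] T ⊗[C] B) := by
  refine ⟨fun b => ?_, fun b => ?_, fun b => ?_⟩
  · have h1 : (X.baseChange T).δ ((1 : T) ⊗ₜ[C] b) = _ :=
      Algebra.TensorProduct.lift_tmul _ _ (fun _ _ => Commute.all _ _) (1 : T) b
    change _ = (X.baseChange T).δ ((1 : T) ⊗ₜ[C] b)
    rw [h1, map_one, one_mul]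
    rfl
  · have h1 : (X.baseChange T).ε ((1 : T) ⊗ₜ[C] b) = _ :=
      Algebra.TensorProduct.lift_tmul _ _ (fun _ _ => Commute.all _ _) (1 : T) b
    change _ = (X.baseChange T).ε ((1 : T) ⊗ₜ[C] b)
    rw [h1, map_one, one_mul]
    rfl
  · rfl

end bc

section kill
variable {C : Type u} [CommRing C] {B : Type u} [CommRing B] [Algebra C B] (X : RawHopf C B)
  {R : Type u} [CommRing R] [Algebra C R] {A : Type u} [CommRing A] [HopfAlgebra R A]
  [Algebra C A] [IsScalarTower C R A]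

/-- two algebra maps out of a base change agreeing on generators agree -/
lemma algHom_eq_of_generators (T : Type u) [CommRing T] [Algebra C T] {D : Type u} [CommRing D]
    [Algebra T D] (f g : T ⊗[C] B →ₐ[T] D) (gs : Set B) (hgs : Algebra.adjoin C gs = ⊤)
    (h : ∀ b ∈ gs, f ((1 : T) ⊗ₜ[C] b) = g ((1 : T) ⊗ₜ[C] b)) : f = g := by
  have h1 := subalgebra_eq_top T (AlgHom.equalizer f g) gs hgs (fun b hb => h b hb)
  apply AlgHom.ext
  intro x
  have : x ∈ AlgHom.equalizer f g := by rw [h1]; trivial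
  exact this

/-- a linear map into a module over `T` kills `x` as soon as `1 ⊗ x = 0` in `T ⊗ N` -/
lemma eq_zero_of_tmul_eq_zero (T : Type u) [CommRing T] [Algebra C T] {N : Type u} [AddCommGroup N]
    [Module C N] {N' : Type u} [AddCommGroup N'] [Module C N'] [Module T N'] [IsScalarTower C T N']
    (l : N →ₗ[C] N') (x : N) (hx : (1 : T) ⊗ₜ[C] x = 0) : l x = 0 := by
  have h1 : LinearMap.liftBaseChange T l ((1 : T) ⊗ₜ[C] x) = l x := by
    rw [LinearMap.liftBaseChange_tmul, one_smul]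
  rw [← h1, hx, map_zero]

/-- killing the defect of an axiom on generators -/
lemma exists_fg_defect {D : Type u} [CommRing D] [Algebra C D] {D' : Type u} [AddCommGroup D']
    [Module C D'] [Module R D'] [IsScalarTower C R D'] (f g : B →ₐ[C] D) {ν : D →ₗ[C] D'}
    (hν : IsBaseChange R ν) (h : ∀ b, ν (f b) = ν (g b)) (gs : Finset B) :
    ∃ C' : Subalgebra C R, C'.FG ∧ ∀ C'' : Subalgebra C R, C' ≤ C'' →
      ∀ b ∈ gs, (1 : ↥C'') ⊗ₜ[C] (f b - g b) = 0 := by
  classical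
  obtain ⟨C₁, hC₁, h₁⟩ := exists_fg_forall_tmul_eq_zero hν (gs.image fun b => f b - g b) (by
    intro x hx
    obtain ⟨b, -, rfl⟩ := Finset.mem_image.mp hx
    rw [map_sub, h b, sub_self])
  exact ⟨C₁, hC₁, fun C'' hC'' b hb => h₁ C'' hC'' _ (Finset.mem_image_of_mem _ hb)⟩

/-- an axiom whose defect dies on generators holds after base change -/
lemma eq_of_defect (T : Type u) [CommRing T] [Algebra C T] {D : Type u} [CommRing D] [Algebra C D]
    {D' : Type u} [CommRing D'] [Algebra T D'] [Algebra C D'] [IsScalarTower C T D']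
    (f g : B →ₐ[C] D) (f' g' : T ⊗[C] B →ₐ[T] D') (l : D →ₗ[C] D')
    (hf : ∀ b, l (f b) = f' ((1 : T) ⊗ₜ[C] b)) (hg : ∀ b, l (g b) = g' ((1 : T) ⊗ₜ[C] b))
    (gs : Set B) (hgs : Algebra.adjoin C gs = ⊤)
    (h0 : ∀ b ∈ gs, (1 : T) ⊗ₜ[C] (f b - g b) = 0) : f' = g' := by
  apply algHom_eq_of_generators T f' g' gs hgs
  intro b hb
  have h1 := eq_zero_of_tmul_eq_zero T l _ (h0 b hb)
  rw [map_sub, hf, hg, sub_eq_zero] at h1
  exact h1

theorem exists_isHopf_baseChange (ι : B →ₐ[C] A) (hι : IsBaseChange R ι.toLinearMap)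
    (hX : IsRawMap X (ofHopf R A) ι) (hft : Algebra.FiniteType C B) :
    ∃ C' : Subalgebra C R, C'.FG ∧ (X.baseChange ↥C').IsHopf := by
  classical
  obtain ⟨gs, hgs⟩ := (Algebra.FiniteType.out : (⊤ : Subalgebra C B).FG)
  have hA := isHopf_ofHopf R A
  have hι₃ : IsBaseChange R (tmul₃ (C' := R) ι) :=
    isBaseChange_tmulMap R hι (isBaseChange_tmulMap R hι hι)
  obtain ⟨C₁, hC₁, h₁⟩ := exists_fg_defect X.assL X.assR hι₃
    (fun b => by rw [nat_assL hX, nat_assR hX, hA.ass]) gs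
  obtain ⟨C₂, hC₂, h₂⟩ := exists_fg_defect X.cuL (AlgHom.id C B) hι
    (fun b => by
      change ι (X.cuL b) = ι b
      rw [nat_cuL hX, hA.cuL]; rfl) gs
  obtain ⟨C₃, hC₃, h₃⟩ := exists_fg_defect X.cuR (AlgHom.id C B) hι
    (fun b => by
      change ι (X.cuR b) = ι b
      rw [nat_cuR hX, hA.cuR]; rfl) gs
  obtain ⟨C₄, hC₄, h₄⟩ := exists_fg_defect X.anL X.unit hι
    (fun b => by
      change ι (X.anL b) = ι (X.unit b)
      rw [nat_anL hX, nat_unit hX, hA.anL]) gs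
  obtain ⟨C₅, hC₅, h₅⟩ := exists_fg_defect X.anR X.unit hι
    (fun b => by
      change ι (X.anR b) = ι (X.unit b)
      rw [nat_anR hX, nat_unit hX, hA.anR]) gs
  have hle₁ : C₁ ≤ C₁ ⊔ C₂ ⊔ C₃ ⊔ C₄ ⊔ C₅ :=
    le_sup_left.trans (le_sup_left.trans (le_sup_left.trans le_sup_left))
  have hle₂ : C₂ ≤ C₁ ⊔ C₂ ⊔ C₃ ⊔ C₄ ⊔ C₅ :=
    le_sup_right.trans (le_sup_left.trans (le_sup_left.trans le_sup_left))
  have hle₃ : C₃ ≤ C₁ ⊔ C₂ ⊔ C₃ ⊔ C₄ ⊔ C₅ := le_sup_right.trans (le_sup_left.trans le_sup_left)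
  have hle₄ : C₄ ≤ C₁ ⊔ C₂ ⊔ C₃ ⊔ C₄ ⊔ C₅ := le_sup_right.trans le_sup_left
  have hle₅ : C₅ ≤ C₁ ⊔ C₂ ⊔ C₃ ⊔ C₄ ⊔ C₅ := le_sup_right
  have hfg : (C₁ ⊔ C₂ ⊔ C₃ ⊔ C₄ ⊔ C₅).FG := (((hC₁.sup hC₂).sup hC₃).sup hC₄).sup hC₅
  generalize C₁ ⊔ C₂ ⊔ C₃ ⊔ C₄ ⊔ C₅ = C' at *
  refine ⟨C', hfg, ?_⟩
  have hinc := X.isRawMap_includeRight ↥C'
  exact ⟨eq_of_defect ↥C' X.assL X.assR _ _
      (tmul₃ (C' := ↥C') (Algebra.TensorProduct.includeRight : B →ₐ[C] ↥C' ⊗[C] B))
      (nat_assL hinc) (nat_assR hinc) (gs : Set B) hgs (h₁ C' hle₁),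
    eq_of_defect ↥C' X.cuL (AlgHom.id C B) _ _
      (Algebra.TensorProduct.includeRight : B →ₐ[C] ↥C' ⊗[C] B).toLinearMap
      (nat_cuL hinc) (fun _ => rfl) (gs : Set B) hgs (h₂ C' hle₂),
    eq_of_defect ↥C' X.cuR (AlgHom.id C B) _ _
      (Algebra.TensorProduct.includeRight : B →ₐ[C] ↥C' ⊗[C] B).toLinearMap
      (nat_cuR hinc) (fun _ => rfl) (gs : Set B) hgs (h₃ C' hle₃),
    eq_of_defect ↥C' X.anL X.unit _ _
      (Algebra.TensorProduct.includeRight : B →ₐ[C] ↥C' ⊗[C] B).toLinearMap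
      (nat_anL hinc) (nat_unit hinc) (gs : Set B) hgs (h₄ C' hle₄),
    eq_of_defect ↥C' X.anR X.unit _ _
      (Algebra.TensorProduct.includeRight : B →ₐ[C] ↥C' ⊗[C] B).toLinearMap
      (nat_anR hinc) (nat_unit hinc) (gs : Set B) hgs (h₅ C' hle₅)⟩

end kill

end RawHopf

end Groth.Agent.H15.NF
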