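import Groth.Agent.H15.HopfNF5

/-!
# Noetherian approximation without flatness: a raw structure at a finite stage
-/

set_option autoImplicit false
set_option linter.style.haveILetI false
set_option linter.unusedSectionVars false
universe u
open TensorProduct

namespace Groth.Agent.H15.NF
open Groth.Agent.H26 Groth.Agent.H15.MTC Groth.Agent.H15.HA RawHopf

section stage
variable {C : Type u} [CommRing C] {B : Type u} [CommRing B] [Algebra C B] (X : RawHopf C B)
  {R : Type u} [CommRing R] [Algebra C R] {A : Type u} [CommRing A] [HopfAlgebra R A]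
  [Algebra C A] [IsScalarTower C R A]

/-- the base change of a raw structure compatible with `A` is compatible with `A` -/
theorem isRawMap_stageMap {ι : B →ₐ[C] A} (hX : IsRawMap X (ofHopf R A) ι)
    (C' : Subalgebra C R) :
    IsRawMap (X.baseChange ↥C') (ofHopf R A) (stageMap ι ↥C') := by
  have hinc := X.isRawMap_includeRight ↥C'
  have hone : ∀ b : B, stageMap ι ↥C' ((1 : ↥C') ⊗ₜ[C] b) = ι b := fun b => by
    rw [stageMap_tmul, one_smul]
  have hcomp : ((stageMap ι ↥C').toLinearMap.restrictScalars C) ∘ₗ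
      (Algebra.TensorProduct.includeRight : B →ₐ[C] ↥C' ⊗[C] B).toLinearMap = ι.toLinearMap := by
    ext b
    exact hone b
  have h1 : (tmul₂Alg (R := R) (stageMap ι ↥C')).comp (X.baseChange ↥C').δ =
      ((Bialgebra.comulAlgHom R A).restrictScalars ↥C').comp (stageMap ι ↥C') := by
    apply algHom_eq_of_generators ↥C' _ _ Set.univ (Algebra.adjoin_univ _ _)
    intro b _
    change tmul₂ R (stageMap ι ↥C').toLinearMap ((X.baseChange ↥C').δ ((1 : ↥C') ⊗ₜ[C] b)) =
      Coalgebra.comul (R := R) (stageMap ι ↥C' ((1 : ↥C') ⊗ₜ[C] b))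
    have h2 := hinc.comul b
    change _ = (X.baseChange ↥C').δ ((1 : ↥C') ⊗ₜ[C] b) at h2
    rw [← h2, tmul₂_tower', hcomp, hone]
    exact hX.comul b
  have h2 : (Algebra.ofId ↥C' R).comp (X.baseChange ↥C').ε =
      ((Bialgebra.counitAlgHom R A).restrictScalars ↥C').comp (stageMap ι ↥C') := by
    apply algHom_eq_of_generators ↥C' _ _ Set.univ (Algebra.adjoin_univ _ _)
    intro b _
    change algebraMap ↥C' R ((X.baseChange ↥C').ε ((1 : ↥C') ⊗ₜ[C] b)) =
      Coalgebra.counit (R := R) (stageMap ι ↥C' ((1 : ↥C') ⊗ₜ[C] b))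
    have h3 := hinc.counit b
    change _ = (X.baseChange ↥C').ε ((1 : ↥C') ⊗ₜ[C] b) at h3
    rw [← h3, hone, ← IsScalarTower.algebraMap_apply]
    exact hX.counit b
  have h3 : (stageMap ι ↥C').comp (X.baseChange ↥C').σ =
      ((HopfAlgebra.antipodeAlgHom R A).restrictScalars ↥C').comp (stageMap ι ↥C') := by
    apply algHom_eq_of_generators ↥C' _ _ Set.univ (Algebra.adjoin_univ _ _)
    intro b _
    change stageMap ι ↥C' ((X.baseChange ↥C').σ ((1 : ↥C') ⊗ₜ[C] b)) =
      HopfAlgebra.antipode R (stageMap ι ↥C' ((1 : ↥C') ⊗ₜ[C] b))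
    have h4 := hinc.antipode b
    change _ = (X.baseChange ↥C').σ ((1 : ↥C') ⊗ₜ[C] b) at h4
    rw [← h4, hone]
    change stageMap ι ↥C' ((1 : ↥C') ⊗ₜ[C] (X.σ b)) = _
    rw [hone]
    exact hX.antipode b
  exact ⟨fun x => AlgHom.congr_fun h1 x, fun x => AlgHom.congr_fun h2 x,
    fun x => AlgHom.congr_fun h3 x⟩

end stage

end Groth.Agent.H15.NF
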