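import Groth.Agent.H15.HopfNF6

/-!
# Noetherian approximation without flatness: existence of a raw structure at a finite stage
-/

set_option autoImplicit false
set_option linter.style.haveILetI false
set_option linter.unusedSectionVars false
universe u
open TensorProduct

namespace Groth.Agent.H15.NF
open Groth.Agent.H26 Groth.Agent.H15.MTC Groth.Agent.H15.HA RawHopf

section raw
variable {C₀ : Type u} [CommRing C₀] {R : Type u} [CommRing R] [Algebra C₀ R]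
  {B₀ : Type u} [CommRing B₀] [Algebra C₀ B₀]
  {A : Type u} [CommRing A] [HopfAlgebra R A] [Algebra C₀ A] [IsScalarTower C₀ R A]
  (ι₀ : B₀ →ₐ[C₀] A)

/-- the canonical map `T ⊗ (B₀ ⊗ B₀) → (T ⊗ B₀) ⊗[T] (T ⊗ B₀)` -/
noncomputable def kap (T : Type u) [CommRing T] [Algebra C₀ T] :
    T ⊗[C₀] (B₀ ⊗[C₀] B₀) →ₐ[T] (T ⊗[C₀] B₀) ⊗[T] (T ⊗[C₀] B₀) :=
  Algebra.TensorProduct.lift (Algebra.ofId T _)
    (tmul₂Alg (R := T) (Algebra.TensorProduct.includeRight : B₀ →ₐ[C₀] T ⊗[C₀] B₀))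
    (fun _ _ => Commute.all _ _)

lemma kap_tmul (T : Type u) [CommRing T] [Algebra C₀ T] (t : T) (n : B₀ ⊗[C₀] B₀) :
    kap (C₀ := C₀) (B₀ := B₀) T (t ⊗ₜ[C₀] n) = t • tmul₂ T
      (Algebra.TensorProduct.includeRight : B₀ →ₐ[C₀] T ⊗[C₀] B₀).toLinearMap n := by
  rw [kap, Algebra.TensorProduct.lift_tmul]
  exact (Algebra.smul_def t _).symm

lemma tmul₂_kap (C : Subalgebra C₀ R) (y : ↥C ⊗[C₀] (B₀ ⊗[C₀] B₀)) :
    tmul₂ R (stageMap ι₀ ↥C).toLinearMap (kap (C₀ := C₀) (B₀ := B₀) ↥C y) =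
      stageMap (tmul₂Alg (R := R) ι₀) ↥C y := by
  induction y with
  | zero => simp
  | add x y hx hy => rw [map_add, map_add, map_add, hx, hy]
  | tmul t n =>
    rw [kap_tmul, map_smul, stageMap_tmul, tmul₂_tower']
    congr 1
    induction n with
    | zero => simp
    | add x y hx hy => rw [map_add, map_add, hx, hy]
    | tmul b b' =>
      rw [tmul₂_tmul, tmul₂Alg_apply, tmul₂_tmul]
      simp

set_option maxHeartbeats 1000000 in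
theorem exists_raw_stage [Algebra.FinitePresentation C₀ B₀]
    (hι₀ : IsBaseChange R ι₀.toLinearMap) :
    ∃ (C : Subalgebra C₀ R) (_ : C.FG) (X : RawHopf ↥C (↥C ⊗[C₀] B₀)),
      IsRawMap X (ofHopf R A) (stageMap ι₀ ↥C) := by
  classical
  have hι₂ : IsBaseChange R (tmul₂Alg (R := R) ι₀).toLinearMap :=
    isBaseChange_tmulMap R hι₀ hι₀
  obtain ⟨Cδ, hCδ, ψδ, hψδ⟩ := exists_stage_lift (tmul₂Alg (R := R) ι₀) hι₂ B₀
    (((Bialgebra.comulAlgHom R A).restrictScalars C₀).comp ι₀)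
  obtain ⟨Cσ, hCσ, ψσ, hψσ⟩ := exists_stage_lift ι₀ hι₀ B₀
    (((HopfAlgebra.antipodeAlgHom R A).restrictScalars C₀).comp ι₀)
  obtain ⟨Cε, ψε, hψε⟩ := Groth.Agent.H1.FlatLocus.exists_algHom_of_isDirectedColimitRing
    (Z := C₀) (fun C : FGSub C₀ R => ↥C.1)
    (fun i j h => (Subalgebra.inclusion (show i.1 ≤ j.1 from h)).toRingHom)
    (fun i j h z => rfl) R (isDirectedColimitRing_fgSub C₀ R) B₀
    (((Bialgebra.counitAlgHom R A).restrictScalars C₀).comp ι₀)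
  have hleδ : Cδ ≤ Cδ ⊔ Cσ ⊔ Cε.1 := le_sup_left.trans le_sup_left
  have hleσ : Cσ ≤ Cδ ⊔ Cσ ⊔ Cε.1 := le_sup_right.trans le_sup_left
  have hleε : Cε.1 ≤ Cδ ⊔ Cσ ⊔ Cε.1 := le_sup_right
  have hfg : (Cδ ⊔ Cσ ⊔ Cε.1).FG := (hCδ.sup hCσ).sup Cε.2
  generalize Cδ ⊔ Cσ ⊔ Cε.1 = C at *
  let ψδ' : B₀ →ₐ[C₀] ↥C ⊗[C₀] (B₀ ⊗[C₀] B₀) :=
    (Algebra.TensorProduct.map (Subalgebra.inclusion hleδ) (AlgHom.id C₀ _)).comp ψδ
  let ψσ' : B₀ →ₐ[C₀] ↥C ⊗[C₀] B₀ :=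
    (Algebra.TensorProduct.map (Subalgebra.inclusion hleσ) (AlgHom.id C₀ _)).comp ψσ
  let ψε' : B₀ →ₐ[C₀] ↥C := (Subalgebra.inclusion hleε).comp ψε
  let X : RawHopf ↥C (↥C ⊗[C₀] B₀) :=
    { δ := Algebra.TensorProduct.lift (Algebra.ofId ↥C _)
        (((kap (C₀ := C₀) (B₀ := B₀) ↥C).restrictScalars C₀).comp ψδ') (fun _ _ => Commute.all _ _)
      ε := Algebra.TensorProduct.lift (AlgHom.id ↥C ↥C) ψε' (fun _ _ => Commute.all _ _)
      σ := Algebra.TensorProduct.lift (Algebra.ofId ↥C _) ψσ' (fun _ _ => Commute.all _ _) }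
  have hone : ∀ b : B₀, stageMap ι₀ ↥C ((1 : ↥C) ⊗ₜ[C₀] b) = ι₀ b := fun b => by
    rw [stageMap_tmul, one_smul]
  have hδ1 : ∀ b : B₀, X.δ ((1 : ↥C) ⊗ₜ[C₀] b) = kap (C₀ := C₀) (B₀ := B₀) ↥C (ψδ' b) := fun b => by
    refine (Algebra.TensorProduct.lift_tmul (Algebra.ofId ↥C _)
      (((kap (C₀ := C₀) (B₀ := B₀) ↥C).restrictScalars C₀).comp ψδ')
      (fun _ _ => Commute.all _ _) (1 : ↥C) b).trans ?_
    rw [map_one, one_mul]
    rfl
  have hε1 : ∀ b : B₀, X.ε ((1 : ↥C) ⊗ₜ[C₀] b) = ψε' b := fun b => by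
    refine (Algebra.TensorProduct.lift_tmul (AlgHom.id ↥C ↥C) ψε'
      (fun _ _ => Commute.all _ _) (1 : ↥C) b).trans ?_
    rw [map_one, one_mul]
  have hσ1 : ∀ b : B₀, X.σ ((1 : ↥C) ⊗ₜ[C₀] b) = ψσ' b := fun b => by
    refine (Algebra.TensorProduct.lift_tmul (Algebra.ofId ↥C _) ψσ'
      (fun _ _ => Commute.all _ _) (1 : ↥C) b).trans ?_
    rw [map_one, one_mul]
  have h1 : (tmul₂Alg (R := R) (stageMap ι₀ ↥C)).comp X.δ =
      ((Bialgebra.comulAlgHom R A).restrictScalars ↥C).comp (stageMap ι₀ ↥C) := by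
    apply algHom_eq_of_generators ↥C _ _ Set.univ (Algebra.adjoin_univ _ _)
    intro b _
    change tmul₂ R (stageMap ι₀ ↥C).toLinearMap (X.δ ((1 : ↥C) ⊗ₜ[C₀] b)) =
      Coalgebra.comul (R := R) (stageMap ι₀ ↥C ((1 : ↥C) ⊗ₜ[C₀] b))
    rw [hδ1, tmul₂_kap, hone]
    change stageMap (tmul₂Alg (R := R) ι₀) ↥C
      (Algebra.TensorProduct.map (Subalgebra.inclusion hleδ) (AlgHom.id C₀ _) (ψδ b)) = _
    rw [stageMap_map, hψδ]
    rfl
  have h2 : (Algebra.ofId ↥C R).comp X.ε =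
      ((Bialgebra.counitAlgHom R A).restrictScalars ↥C).comp (stageMap ι₀ ↥C) := by
    apply algHom_eq_of_generators ↥C _ _ Set.univ (Algebra.adjoin_univ _ _)
    intro b _
    change algebraMap ↥C R (X.ε ((1 : ↥C) ⊗ₜ[C₀] b)) =
      Coalgebra.counit (R := R) (stageMap ι₀ ↥C ((1 : ↥C) ⊗ₜ[C₀] b))
    rw [hε1, hone]
    exact hψε b
  have h3 : (stageMap ι₀ ↥C).comp X.σ =
      ((HopfAlgebra.antipodeAlgHom R A).restrictScalars ↥C).comp (stageMap ι₀ ↥C) := by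
    apply algHom_eq_of_generators ↥C _ _ Set.univ (Algebra.adjoin_univ _ _)
    intro b _
    change stageMap ι₀ ↥C (X.σ ((1 : ↥C) ⊗ₜ[C₀] b)) =
      HopfAlgebra.antipode R (stageMap ι₀ ↥C ((1 : ↥C) ⊗ₜ[C₀] b))
    rw [hσ1, hone]
    change stageMap ι₀ ↥C
      (Algebra.TensorProduct.map (Subalgebra.inclusion hleσ) (AlgHom.id C₀ _) (ψσ b)) = _
    rw [stageMap_map, hψσ]
    rfl
  exact ⟨C, hfg, X, fun x => AlgHom.congr_fun h1 x, fun x => AlgHom.congr_fun h2 x,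
    fun x => AlgHom.congr_fun h3 x⟩

end raw

end Groth.Agent.H15.NF
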