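import Groth.Agent.H15.HopfNF7

/-!
# Noetherian approximation of finitely presented Hopf algebras, without flatness
-/

set_option autoImplicit false
set_option linter.style.haveILetI false
set_option linter.unusedSectionVars false
universe u
open TensorProduct

namespace Groth.Agent.H15.NF
open Groth.Agent.H26 Groth.Agent.H15.MTC Groth.Agent.H15.HA RawHopf

section fromraw
variable {T : Type u} [CommRing T] {B : Type u} [CommRing B] [Algebra T B]
  {R : Type u} [CommRing R] [Algebra T R] {A : Type u} [CommRing A] [HopfAlgebra R A]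
  [Algebra T A] [IsScalarTower T R A]

/-- from a compatible raw structure to a Hopf model over a finitely generated extension -/
theorem exists_hopf_of_raw (X : RawHopf T B) (ι : B →ₐ[T] A) (hι : IsBaseChange R ι.toLinearMap)
    (hX : IsRawMap X (ofHopf R A) ι) (hfp : Algebra.FinitePresentation T B)
    (hT : Algebra.FiniteType ℤ T) :
    ∃ (C : Type u) (_ : CommRing C) (_ : Algebra C R) (B' : Type u) (_ : CommRing B')
      (_ : HopfAlgebra C B'), Algebra.FiniteType ℤ C ∧ Algebra.FinitePresentation C B' ∧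
        Nonempty (R ⊗[C] B' ≃ₐc[R] A) := by
  haveI := hfp
  have hftB : Algebra.FiniteType T B := inferInstance
  obtain ⟨C', hC', hH⟩ := X.exists_isHopf_baseChange ι hι hX hftB
  have hfpB : Algebra.FinitePresentation ↥C' (↥C' ⊗[T] B) := inferInstance
  have hX' := isRawMap_stageMap X hX C'
  have hbc₂ : IsBaseChange R (stageMap ι ↥C').toLinearMap := isBaseChange_stageMap ↥C' hι
  have hftC : Algebra.FiniteType ℤ ↥C' := by
    have h2 : Algebra.FiniteType T ↥C' := (Subalgebra.fg_iff_finiteType C').mp hC'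
    exact Algebra.FiniteType.trans hT h2
  letI := (X.baseChange ↥C').hopfAlgebra hH
  have hco₂ : IsCoalgMapOver R (stageMap ι ↥C').toLinearMap :=
    ⟨fun x => (hX'.comul x).symm, fun x => (hX'.counit x).symm⟩
  refine ⟨↥C', inferInstance, inferInstance, ↥C' ⊗[T] B, inferInstance,
    (X.baseChange ↥C').hopfAlgebra hH, hftC, hfpB, ?_⟩
  have hco : IsCoalgMapOver R (liftAlg R (stageMap ι ↥C')).toLinearMap :=
    isCoalgMapOver_liftAlg R hco₂
  have hbc : IsBaseChange R (liftAlg R (stageMap ι ↥C')).toLinearMap :=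
    isBaseChange_liftAlg R hbc₂
  exact nonempty_bialgEquiv_of_chart (liftAlg R (stageMap ι ↥C')) hco hbc

end fromraw

/-- **Noetherian approximation of Hopf algebras**: a finitely presented Hopf algebra over a ring
`R` is the base change of a finitely presented Hopf algebra over a `ℤ`-algebra of finite type. -/
theorem exists_hopf_model' (R : Type u) [CommRing R] (A : Type u) [CommRing A] [HopfAlgebra R A]
    [Algebra.FinitePresentation R A] :
    ∃ (C : Type u) (_ : CommRing C) (_ : Algebra C R) (B : Type u) (_ : CommRing B)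
      (_ : HopfAlgebra C B), Algebra.FiniteType ℤ C ∧ Algebra.FinitePresentation C B ∧
        Nonempty (R ⊗[C] B ≃ₐc[R] A) := by
  classical
  obtain ⟨C₀, B₀, _, _, hfg₀, hfp₀, ⟨e₀⟩⟩ := exists_noetherian_model R A
  haveI := hfp₀
  have hft₀ : Algebra.FiniteType ℤ C₀ := (Subalgebra.fg_iff_finiteType C₀).mp hfg₀
  let ι₀ : B₀ →ₐ[C₀] A :=
    ((e₀.symm : R ⊗[C₀] B₀ →ₐ[R] A).restrictScalars C₀).comp Algebra.TensorProduct.includeRight
  have hι₀ : IsBaseChange R ι₀.toLinearMap := by
    have h0 := (TensorProduct.isBaseChange C₀ B₀ R).comp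
      (IsBaseChange.ofEquiv e₀.symm.toLinearEquiv)
    have h1 : ι₀.toLinearMap = (e₀.symm.toLinearEquiv.toLinearMap.restrictScalars C₀) ∘ₗ
        (TensorProduct.mk C₀ R B₀ 1) := LinearMap.ext fun _ => rfl
    rw [h1]
    exact h0
  obtain ⟨C, hC, X, hX⟩ := exists_raw_stage ι₀ hι₀
  have hbc₁ : IsBaseChange R (stageMap ι₀ ↥C).toLinearMap := isBaseChange_stageMap ↥C hι₀
  have hftC : Algebra.FiniteType ℤ ↥C :=
    Algebra.FiniteType.trans hft₀ ((Subalgebra.fg_iff_finiteType C).mp hC)
  exact exists_hopf_of_raw X (stageMap ι₀ ↥C) hbc₁ hX inferInstance hftC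

end Groth.Agent.H15.NF
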