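import Groth.Agent.H15.MTKer4

/-! Descent of the idempotents cutting out the locus where the kernel has a given type. -/

set_option autoImplicit false
set_option linter.style.haveILetI false
universe u
open TensorProduct Coalgebra

namespace Groth.Agent.H15.MTQ
open Groth.Agent.H26 Groth.Agent.H15.MTC Groth.Agent.H15.MT

section idem

variable {R : Type u} [CommRing R] {K : Type u} [CommRing K] [Algebra R K]

/-- the quotient by the complement of an idempotent is flat -/
lemma flat_quot_idem (E : K) (hE : IsIdempotentElem E) [Module.Flat R K] :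
    Module.Flat R (K ⧸ Ideal.span {1 - E}) := by
  haveI : Module.Flat K (K ⧸ Ideal.span {1 - E}) := by
    let i : (K ⧸ Ideal.span {1 - E}) →ₗ[K] K :=
      Submodule.liftQ (Ideal.span {1 - E}) (LinearMap.mulLeft K E) (by
        intro x hx
        rw [LinearMap.mem_ker, LinearMap.mulLeft_apply]
        obtain ⟨y, rfl⟩ := Ideal.mem_span_singleton'.mp hx
        have : E * (y * (1 - E)) = y * (E - E * E) := by ring
        rw [this, hE.eq, sub_self, mul_zero])
    let r : K →ₗ[K] (K ⧸ Ideal.span {1 - E}) := Submodule.mkQ _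
    refine Module.Flat.of_retract i r ?_
    apply LinearMap.ext
    intro x
    obtain ⟨y, rfl⟩ := Submodule.Quotient.mk_surjective _ x
    change Submodule.Quotient.mk (E * y) = Submodule.Quotient.mk y
    rw [Submodule.Quotient.eq]
    have : E * y - y = (-y) * (1 - E) := by ring
    rw [this]
    exact Ideal.mem_span_singleton'.mpr ⟨-y, rfl⟩
  exact Module.Flat.trans R K _

end idem

section gliso

variable {R : Type u} [CommRing R] {Q : Type u} [CommRing Q] [HopfAlgebra R Q]

/-- two charts over a nonzero ring have isomorphic groups of characters -/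
theorem nonempty_mulEquiv_of_hasDChart (L : Type u) [CommRing L] [Algebra R L] [Nontrivial L]
    {M M' : Type u} [CommGroup M] [CommGroup M']
    (h : HasDChart R Q L M) (h' : HasDChart R Q L M') : Nonempty (M ≃* M') := by
  obtain ⟨𝔪, h𝔪⟩ := Ideal.exists_maximal L
  letI : Field (L ⧸ 𝔪) := Ideal.Quotient.field 𝔪
  obtain ⟨e⟩ := ((h.map (L ⧸ 𝔪)).baseChange (L ⧸ 𝔪)).nonempty_equiv
  obtain ⟨e'⟩ := ((h'.map (L ⧸ 𝔪)).baseChange (L ⧸ 𝔪)).nonempty_equiv
  let E : MonoidAlgebra (L ⧸ 𝔪) M ≃ₐc[L ⧸ 𝔪] MonoidAlgebra (L ⧸ 𝔪) M' := e.symm.trans e'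
  let u : M →* M' := MonoidAlgebra.mapDomainOfBialgHom (E : _ →ₐc[L ⧸ 𝔪] _)
  let v : M' →* M := MonoidAlgebra.mapDomainOfBialgHom (E.symm : _ →ₐc[L ⧸ 𝔪] _)
  have h1 : v.comp u = MonoidHom.id M := by
    rw [← MonoidAlgebra.mapDomainOfBialgHom_comp, BialgEquiv.symm_comp,
      MonoidAlgebra.mapDomainOfBialgHom_id]
  have h2 : u.comp v = MonoidHom.id M' := by
    rw [← MonoidAlgebra.mapDomainOfBialgHom_comp, BialgEquiv.comp_symm,
      MonoidAlgebra.mapDomainOfBialgHom_id]
  exact ⟨{ toFun := u, invFun := v,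
           left_inv := fun m => DFunLike.congr_fun h1 m,
           right_inv := fun m => DFunLike.congr_fun h2 m,
           map_mul' := map_mul u }⟩

/-- charts over two algebras mapping to a common nonzero algebra have isomorphic groups -/
theorem nonempty_mulEquiv_of_algHom (L : Type u) [CommRing L] [Algebra R L] [Nontrivial L]
    (K₁ K₂ : Type u) [CommRing K₁] [CommRing K₂] [Algebra R K₁] [Algebra R K₂]
    (ψ₁ : K₁ →ₐ[R] L) (ψ₂ : K₂ →ₐ[R] L)
    {M₁ M₂ : Type u} [CommGroup M₁] [CommGroup M₂]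
    (h₁ : HasDChart R Q K₁ M₁) (h₂ : HasDChart R Q K₂ M₂) : Nonempty (M₁ ≃* M₂) := by
  have c₁ : HasDChart R Q L M₁ := by
    letI : Algebra K₁ L := ψ₁.toRingHom.toAlgebra
    haveI : IsScalarTower R K₁ L := IsScalarTower.of_algebraMap_eq fun x => (ψ₁.commutes x).symm
    exact h₁.map L
  have c₂ : HasDChart R Q L M₂ := by
    letI : Algebra K₂ L := ψ₂.toRingHom.toAlgebra
    haveI : IsScalarTower R K₂ L := IsScalarTower.of_algebraMap_eq fun x => (ψ₂.commutes x).symm
    exact h₂.map L
  exact nonempty_mulEquiv_of_hasDChart L c₁ c₂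

end gliso

end Groth.Agent.H15.MTQ
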