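import Groth.Agent.H15.MTIso6
import Groth.Agent.H15.MTKer5

/-!
# Tori: an isotrivial group whose reduction modulo an ideal in the radical is a torus is a torus
-/

set_option autoImplicit false
set_option linter.style.haveILetI false
universe u
open TensorProduct Coalgebra

namespace Groth.Agent.H15.MTI
open Groth.Agent.H26 Groth.Agent.H15.MTC SGA3b

attribute [local instance] Algebra.TensorProduct.rightAlgebra

section torusconst
variable {R : Type u} [CommRing R] {A : Type u} [CommRing A] [HopfAlgebra R A]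

/-- constant-rank tori are stable under base change -/
theorem isTorusConst_baseChange (h : IsTorusConst R A) (L : Type u) [CommRing L]
    [Algebra R L] : IsTorusConst L (L ⊗[R] A) := by
  obtain ⟨R', _, _, hff, n, ⟨e⟩⟩ := h
  haveI := hff
  have h1 : HasDChart R A R' (ULift.{u} (Multiplicative (Fin n → ℤ))) :=
    HasDChart.of_equiv (e.trans (MonoidAlgebra.domCongrBialgEquiv R' R' MulEquiv.ulift.symm))
  have h2 : HasDChart R A (L ⊗[R] R') (ULift.{u} (Multiplicative (Fin n → ℤ))) :=
    h1.map (L ⊗[R] R')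
  have h3 : HasDChart L (L ⊗[R] A) (L ⊗[R] R') (ULift.{u} (Multiplicative (Fin n → ℤ))) :=
    h2.baseChange L
  obtain ⟨e4⟩ := (h3.baseChange (L ⊗[R] R')).nonempty_equiv
  exact ⟨L ⊗[R] R', inferInstance, inferInstance, inferInstance, n,
    ⟨e4.trans (MonoidAlgebra.domCongrBialgEquiv (L ⊗[R] R') (L ⊗[R] R') MulEquiv.ulift)⟩⟩

theorem isTorus_of_isTorusConst (h : IsTorusConst R A) : IsTorus R A := by
  refine ⟨{1}, by rw [Ideal.span_singleton_one], ?_⟩
  intro f _
  exact isTorusConst_baseChange h _

end torusconst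

section torus
variable (A : Type u) [CommRing A] (I : Ideal A) (C : Type u) [CommRing C] [HopfAlgebra A C]

/-- an isotrivial group whose reduction modulo an ideal in the radical is a torus is a torus -/
theorem isTorus_of_isIsotrivial_of_mod (hI : I ≤ Ideal.jacobson ⊥) (h : IsIsotrivial A C)
    (ht : IsTorus (A ⧸ I) ((A ⧸ I) ⊗[A] C)) : IsTorus A C := by
  obtain ⟨A', _, _, het, hfin, hff, M, _, ⟨E⟩⟩ := h
  haveI := hff
  apply isTorus_of_isTorusConst
  by_cases hA : Subsingleton A
  · -- the zero ring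
    haveI : Subsingleton (A' ⊗[A] C) := Module.subsingleton A _
    haveI : Subsingleton (MonoidAlgebra A' (Multiplicative (Fin 0 → ℤ))) :=
      Module.subsingleton A _
    refine ⟨A', inferInstance, inferInstance, hff, 0, ⟨?_⟩⟩
    exact BialgEquiv.ofBijective
      ((Bialgebra.unitBialgHom A' (MonoidAlgebra A' (Multiplicative (Fin 0 → ℤ)))).comp
        (Bialgebra.counitBialgHom A' (A' ⊗[A] C)))
      ⟨fun _ _ _ => Subsingleton.elim _ _, fun y => ⟨0, Subsingleton.elim _ _⟩⟩
  · haveI : Nontrivial A := not_subsingleton_iff_nontrivial.mp hA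
    have hIne : I ≠ ⊤ := by
      intro htop
      obtain ⟨𝔪, h𝔪⟩ := Ideal.exists_maximal A
      have h1 : (1 : A) ∈ Ideal.jacobson (⊥ : Ideal A) := hI (by rw [htop]; trivial)
      rw [Ideal.jacobson, Ideal.mem_sInf] at h1
      exact h𝔪.ne_top ((Ideal.eq_top_iff_one _).mpr (h1 ⟨bot_le, h𝔪⟩))
    haveI : Nontrivial (A ⧸ I) := Ideal.Quotient.nontrivial_iff.mpr hIne
    obtain ⟨s, hs, hst⟩ := ht
    obtain ⟨f, hfs, hfnil⟩ : ∃ f ∈ s, ¬ IsNilpotent f := by
      by_contra hcon
      push Not at hcon
      have h1 : Ideal.span s ≤ nilradical (A ⧸ I) := Ideal.span_le.mpr (fun f hf => hcon f hf)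
      rw [hs] at h1
      have h2 : IsNilpotent (1 : A ⧸ I) := h1 trivial
      obtain ⟨n, hn⟩ := h2
      rw [one_pow] at hn
      exact one_ne_zero hn
    obtain ⟨R', _, _, hff', n, ⟨Ef⟩⟩ := hst f hfs
    haveI := hff'
    haveI : Nontrivial (Localization.Away f) := by
      rw [← not_subsingleton_iff_nontrivial,
        IsLocalization.subsingleton_iff (M := Submonoid.powers f)]
      rintro ⟨k, hk⟩
      exact hfnil ⟨k, hk⟩
    haveI : Nontrivial R' :=
      (TensorProduct.rid (Localization.Away f) R').symm.toEquiv.nontrivial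
    letI : Algebra (A ⧸ I) R' :=
      ((algebraMap (Localization.Away f) R').comp
        (algebraMap (A ⧸ I) (Localization.Away f))).toAlgebra
    haveI : IsScalarTower (A ⧸ I) (Localization.Away f) R' :=
      IsScalarTower.of_algebraMap_eq (fun _ => rfl)
    letI : Algebra A R' := ((algebraMap (A ⧸ I) R').comp (algebraMap A (A ⧸ I))).toAlgebra
    haveI : IsScalarTower A (A ⧸ I) R' := IsScalarTower.of_algebraMap_eq (fun _ => rfl)
    have c2 : HasDChart A C R' (ULift.{u} (Multiplicative (Fin n → ℤ))) :=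
      ((HasDChart.of_equiv (Ef.trans
        (MonoidAlgebra.domCongrBialgEquiv R' R' MulEquiv.ulift.symm))).of_baseChange
          (Localization.Away f)).of_baseChange (A ⧸ I)
    have c1 : HasDChart A C A' M := HasDChart.of_equiv E
    obtain ⟨μ⟩ := Groth.Agent.H15.MTQ.nonempty_mulEquiv_of_algHom (A' ⊗[A] R') A' R'
      Algebra.TensorProduct.includeLeft Algebra.TensorProduct.includeRight c1 c2
    exact ⟨A', inferInstance, inferInstance, hff, n,
      ⟨E.trans (MonoidAlgebra.domCongrBialgEquiv A' A' (μ.trans MulEquiv.ulift))⟩⟩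

end torus

end Groth.Agent.H15.MTI
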