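import Groth.Agent.H15.HopfFib11
import Groth.Agent.H15.MTIso7

/-!
# Tori: connectedness of tori over fields, and tori among quasi-isotrivial groups
-/

set_option autoImplicit false
set_option linter.style.haveILetI false
set_option linter.unusedSectionVars false
universe u
open TensorProduct Coalgebra

namespace Groth.Agent.H15.HF
open Groth.Agent.H26 Groth.Agent.H15.MTC SGA3b

attribute [local instance] Algebra.TensorProduct.rightAlgebra

section torusmt
variable {R : Type u} [CommRing R] {A : Type u} [CommRing A] [HopfAlgebra R A]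

theorem isMultTypeConst_of_isTorusConst (h : IsTorusConst R A) : IsMultTypeConst R A := by
  obtain ⟨R', _, _, hff, n, ⟨e⟩⟩ := h
  exact ⟨R', inferInstance, inferInstance, hff, ULift.{u} (Multiplicative (Fin n → ℤ)),
    inferInstance, ⟨e.trans (MonoidAlgebra.domCongrBialgEquiv R' R' MulEquiv.ulift.symm)⟩⟩

theorem isMultType_of_isTorus (h : IsTorus R A) : IsMultType R A := by
  obtain ⟨s, hs, hst⟩ := h
  exact ⟨s, hs, fun f hf => isMultTypeConst_of_isTorusConst (hst f hf)⟩

end torusmt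

section field
variable (k : Type u) [Field k] (X : Type u) [CommRing X] [HopfAlgebra k X]

/-- a torus over a field has a chart of type `ℤ^n` over a nonzero algebra -/
theorem exists_chart_of_isTorus_field (h : IsTorus k X) :
    ∃ (n : ℕ) (T : Type u) (_ : CommRing T) (_ : Algebra k T), Nontrivial T ∧
      HasDChart k X T (ULift.{u} (Multiplicative (Fin n → ℤ))) := by
  obtain ⟨s, hs, hst⟩ := h
  obtain ⟨f, hfs, hf0⟩ : ∃ f ∈ s, f ≠ 0 := by
    by_contra hcon
    push Not at hcon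
    have h1 : Ideal.span s ≤ (⊥ : Ideal k) := Ideal.span_le.mpr (fun f hf => hcon f hf)
    rw [hs] at h1
    exact bot_ne_top (le_antisymm bot_le h1)
  obtain ⟨R', _, _, hff', n, ⟨Ef⟩⟩ := hst f hfs
  haveI := hff'
  haveI : Nontrivial (Localization.Away f) := by
    rw [← not_subsingleton_iff_nontrivial,
      IsLocalization.subsingleton_iff (M := Submonoid.powers f)]
    rintro ⟨m, hm⟩
    have hm' : f ^ m = 0 := hm
    exact pow_ne_zero m hf0 hm'
  haveI : Nontrivial R' :=
    (TensorProduct.rid (Localization.Away f) R').symm.toEquiv.nontrivial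
  letI : Algebra k R' :=
    ((algebraMap (Localization.Away f) R').comp (algebraMap k (Localization.Away f))).toAlgebra
  haveI : IsScalarTower k (Localization.Away f) R' := IsScalarTower.of_algebraMap_eq fun _ => rfl
  exact ⟨n, R', inferInstance, inferInstance, inferInstance,
    (HasDChart.of_equiv (Ef.trans
      (MonoidAlgebra.domCongrBialgEquiv R' R' MulEquiv.ulift.symm))).of_baseChange
        (Localization.Away f)⟩

/-- a torus over a field is connected -/
theorem connectedSpace_of_isTorus_field (h : IsTorus k X) :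
    ConnectedSpace (PrimeSpectrum X) := by
  obtain ⟨n, T, _, _, hT, hc⟩ := exists_chart_of_isTorus_field k X h
  obtain ⟨𝔫, h𝔫⟩ := Ideal.exists_maximal T
  letI : Field (T ⧸ 𝔫) := Ideal.Quotient.field 𝔫
  obtain ⟨e⟩ := ((hc.map (T ⧸ 𝔫)).baseChange (T ⧸ 𝔫)).nonempty_equiv
  let e' : (T ⧸ 𝔫) ⊗[k] X ≃ₐc[T ⧸ 𝔫] MonoidAlgebra (T ⧸ 𝔫) (Multiplicative (Fin n → ℤ)) :=
    e.trans (MonoidAlgebra.domCongrBialgEquiv (T ⧸ 𝔫) (T ⧸ 𝔫) MulEquiv.ulift)
  have hinj : Function.Injective
      ((Algebra.TensorProduct.includeRight : X →ₐ[k] (T ⧸ 𝔫) ⊗[k] X) : X →+* (T ⧸ 𝔫) ⊗[k] X) :=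
    Module.FaithfullyFlat.tensorProduct_mk_injective (A := k) (B := T ⧸ 𝔫) X
  let φ : X →+* MonoidAlgebra (T ⧸ 𝔫) (Multiplicative (Fin n → ℤ)) :=
    ((e' : (T ⧸ 𝔫) ⊗[k] X →ₐ[T ⧸ 𝔫] MonoidAlgebra (T ⧸ 𝔫) (Multiplicative (Fin n → ℤ))) :
      (T ⧸ 𝔫) ⊗[k] X →+* MonoidAlgebra (T ⧸ 𝔫) (Multiplicative (Fin n → ℤ))).comp
    ((Algebra.TensorProduct.includeRight : X →ₐ[k] (T ⧸ 𝔫) ⊗[k] X) : X →+* (T ⧸ 𝔫) ⊗[k] X)
  have hinj' : Function.Injective φ := by
    intro x y hxy
    exact hinj (e'.injective hxy)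
  haveI : IsDomain X := Function.Injective.isDomain φ hinj'
  infer_instance

end field

end Groth.Agent.H15.HF
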