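import Groth.Agent.H15.HopfTorus1

/-!
# A quasi-isotrivial group all of whose fibres are tori is a torus
-/

set_option autoImplicit false
set_option linter.style.haveILetI false
set_option linter.unusedSectionVars false
universe u
open TensorProduct Coalgebra

namespace Groth.Agent.H15.HF
open Groth.Agent.H26 Groth.Agent.H15.MTC SGA3b

attribute [local instance] Algebra.TensorProduct.rightAlgebra

section torus
variable (R : Type u) [CommRing R] (A : Type u) [CommRing A] [HopfAlgebra R A]

theorem isTorus_of_isQuasiIsotrivial_of_fibres (hq : IsQuasiIsotrivial R A)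
    (hfib : ∀ (p : Ideal R) [p.IsPrime], IsTorus p.ResidueField (p.ResidueField ⊗[R] A)) :
    IsTorus R A := by
  obtain ⟨s, hs, hloc⟩ := hq
  refine ⟨s, hs, fun f hf => ?_⟩
  obtain ⟨E, _, _, -, hff, M, _, ⟨e⟩⟩ := hloc f hf
  haveI := hff
  by_cases hE : Subsingleton E
  · haveI : Subsingleton (E ⊗[Localization.Away f] (Localization.Away f ⊗[R] A)) :=
      Module.subsingleton E _
    haveI : Subsingleton (MonoidAlgebra E (Multiplicative (Fin 0 → ℤ))) :=
      Module.subsingleton E _
    refine ⟨E, inferInstance, inferInstance, hff, 0, ⟨?_⟩⟩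
    exact BialgEquiv.ofBijective
      ((Bialgebra.unitBialgHom E (MonoidAlgebra E (Multiplicative (Fin 0 → ℤ)))).comp
        (Bialgebra.counitBialgHom E (E ⊗[Localization.Away f] (Localization.Away f ⊗[R] A))))
      ⟨fun _ _ _ => Subsingleton.elim _ _, fun y => ⟨0, Subsingleton.elim _ _⟩⟩
  · haveI : Nontrivial E := not_subsingleton_iff_nontrivial.mp hE
    letI : Algebra R E :=
      ((algebraMap (Localization.Away f) E).comp (algebraMap R (Localization.Away f))).toAlgebra
    haveI : IsScalarTower R (Localization.Away f) E := IsScalarTower.of_algebraMap_eq fun _ => rfl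
    have cE : HasDChart R A E M := (HasDChart.of_equiv e).of_baseChange (Localization.Away f)
    obtain ⟨𝔓, h𝔓⟩ := Ideal.exists_maximal E
    letI : Field (E ⧸ 𝔓) := Ideal.Quotient.field 𝔓
    set p : Ideal R := RingHom.ker (algebraMap R (E ⧸ 𝔓)) with hp
    haveI : p.IsPrime := RingHom.ker_isPrime _
    let g : R →ₐ[R] (E ⧸ 𝔓) := Algebra.ofId R (E ⧸ 𝔓)
    have hg₁ : p ≤ RingHom.ker g := le_of_eq rfl
    have hg₂ : p.primeCompl ≤ (IsUnit.submonoid (E ⧸ 𝔓)).comap g := by
      intro a ha
      rw [Submonoid.mem_comap, IsUnit.mem_submonoid_iff, isUnit_iff_ne_zero]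
      exact ha
    letI : Algebra p.ResidueField (E ⧸ 𝔓) :=
      (Ideal.ResidueField.liftₐ p g hg₁ hg₂).toRingHom.toAlgebra
    haveI : IsScalarTower R p.ResidueField (E ⧸ 𝔓) := IsScalarTower.of_algebraMap_eq fun r => by
      change algebraMap R (E ⧸ 𝔓) r =
        Ideal.ResidueField.liftₐ p g hg₁ hg₂ (algebraMap R p.ResidueField r)
      rw [Ideal.ResidueField.liftₐ_algebraMap]
      rfl
    obtain ⟨n, T, _, _, hT, cT⟩ := exists_chart_of_isTorus_field p.ResidueField _ (hfib p)
    letI : Algebra R T :=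
      ((algebraMap p.ResidueField T).comp (algebraMap R p.ResidueField)).toAlgebra
    haveI : IsScalarTower R p.ResidueField T := IsScalarTower.of_algebraMap_eq fun _ => rfl
    have cT' : HasDChart R A T (ULift.{u} (Multiplicative (Fin n → ℤ))) :=
      cT.of_baseChange p.ResidueField
    haveI : Module.FaithfullyFlat p.ResidueField T := inferInstance
    let ψ₁ : E →ₐ[R] (E ⧸ 𝔓) ⊗[p.ResidueField] T :=
      ((Algebra.TensorProduct.includeLeft :
        (E ⧸ 𝔓) →ₐ[p.ResidueField] (E ⧸ 𝔓) ⊗[p.ResidueField] T).restrictScalars R).comp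
        (Ideal.Quotient.mkₐ R 𝔓)
    let ψ₂ : T →ₐ[R] (E ⧸ 𝔓) ⊗[p.ResidueField] T :=
      (Algebra.TensorProduct.includeRight :
        T →ₐ[p.ResidueField] (E ⧸ 𝔓) ⊗[p.ResidueField] T).restrictScalars R
    obtain ⟨μ⟩ := Groth.Agent.H15.MTQ.nonempty_mulEquiv_of_algHom
      ((E ⧸ 𝔓) ⊗[p.ResidueField] T) E T ψ₁ ψ₂ cE cT'
    exact ⟨E, inferInstance, inferInstance, hff, n,
      ⟨e.trans (MonoidAlgebra.domCongrBialgEquiv E E (μ.trans MulEquiv.ulift))⟩⟩

end torus

end Groth.Agent.H15.HF
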