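import Groth.Agent.H15.MTAtlas
import Groth.Agent.H15.GLDiag

set_option autoImplicit false
set_option linter.style.haveILetI false
universe u
open TensorProduct Coalgebra

namespace Groth.Agent.H15.MTC
open Groth.Agent.H26 Groth.Agent.H15.GLD

section FA

/-- flat base change of the annihilator of an element -/
lemma mem_map_ann_of_smul_eq_zero {R : Type*} [CommRing R] {R' : Type*} [CommRing R']
    [Algebra R R'] [Module.Flat R R'] {B : Type*} [AddCommGroup B] [Module R B]
    {T : Type*} [AddCommGroup T] [Module R T] [Module R' T] [IsScalarTower R R' T]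
    (L : B →ₗ[R] T) (hL : IsBaseChange R' L) (b : B) (r' : R') (h : r' • L b = 0) :
    r' ∈ Ideal.map (algebraMap R R') (LinearMap.ker (LinearMap.toSpanSingleton R B b)) := by
  set g := LinearMap.toSpanSingleton R B b with hg
  have h0 : r' ⊗ₜ[R] b = (0 : R' ⊗[R] B) := by
    apply hL.equiv.injective
    rw [hL.equiv_tmul, map_zero, h]
  have hex := Module.Flat.lTensor_exact R' (LinearMap.exact_subtype_ker_map g)
  have h1 : (g.lTensor R') (r' ⊗ₜ[R] (1 : R)) = 0 := by
    rw [LinearMap.lTensor_tmul, hg, LinearMap.toSpanSingleton_apply, one_smul, h0]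
  obtain ⟨w, hw⟩ := (hex _).mp h1
  have key : ∀ w : R' ⊗[R] (LinearMap.ker g),
      (TensorProduct.rid R R') (((LinearMap.ker g).subtype.lTensor R') w) ∈
        Ideal.map (algebraMap R R') (LinearMap.ker g) := by
    intro w
    induction w using TensorProduct.induction_on with
    | zero => simp
    | add x y hx hy => rw [map_add, map_add]; exact Ideal.add_mem _ hx hy
    | tmul a c =>
      rw [LinearMap.lTensor_tmul, Submodule.subtype_apply, TensorProduct.rid_tmul,
        Algebra.smul_def]
      exact Ideal.mul_mem_right _ _ (Ideal.mem_map_of_mem _ c.2)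
  have := key w
  rw [hw, TensorProduct.rid_tmul, one_smul] at this
  exact this

end FA

section fgsub

lemma exists_fg_le_of_mem_map {R : Type*} [CommRing R] {R' : Type*} [CommRing R'] (φ : R →+* R')
    (I : Ideal R) (x : R') (hx : x ∈ Ideal.map φ I) :
    ∃ I₀ : Ideal R, I₀ ≤ I ∧ I₀.FG ∧ x ∈ Ideal.map φ I₀ := by
  classical
  rw [Ideal.map, Ideal.span] at hx
  obtain ⟨T, hT, hxT⟩ := Submodule.mem_span_finite_of_mem_span hx
  obtain ⟨T', hT', rfl⟩ := Finset.subset_set_image_iff.mp hT
  refine ⟨Ideal.span (T' : Set R), Ideal.span_le.mpr hT', ⟨T', rfl⟩, ?_⟩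
  rw [Ideal.map_span]
  simpa using hxT

end fgsub

section step1
variable {R : Type u} [CommRing R] {B : Type u} [CommRing B] [HopfAlgebra R B]

theorem coeff_one_eq_zero_of_connected (hconn : ∀ e : R, IsIdempotentElem e → e = 0 ∨ e = 1)
    {ι : Type u} [Fintype ι] (c : ι → Chart R B)
    (hc : ∀ (K : Ideal R) (x : R),
      (∀ i, algebraMap R (c i).R' x ∈ K.map (algebraMap R (c i).R')) → x ∈ K)
    (u : B) (hu : IsGroupLikeElem R u) (hu1 : u ≠ 1) (i : ι) : ((c i).L u).coeff 1 = 0 := by
  classical
  set 𝔠 : Ideal R := LinearMap.ker (LinearMap.toSpanSingleton R B (u - 1)) with h𝔠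
  have hG : ∀ i, IsGroupLikeElem (c i).R' ((c i).L u) := fun i =>
    IsCoalgMapOver.isGroupLikeElem (c i).isChart.coalg hu
  -- (a)
  have ha : ∀ i, ((c i).L u).coeff 1 • (c i).L (u - 1) = 0 := by
    intro i
    have hL1 : (c i).L (u - 1) = (c i).L u - 1 := by rw [map_sub, map_one (c i).L]
    rw [hL1]
    ext ν
    rw [MonoidAlgebra.coeff_smul, Finsupp.smul_apply, smul_eq_mul,
      MonoidAlgebra.coeff_sub, Finsupp.sub_apply, mul_sub, MonoidAlgebra.one_def,
      MonoidAlgebra.coeff_single, Finsupp.single_apply]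
    by_cases hν : (1 : (c i).N) = ν
    · subst hν
      rw [if_pos rfl, coeff_idem (hG i), mul_one, sub_self]; rfl
    · rw [if_neg hν, coeff_orth (hG i) hν, mul_zero, sub_zero]; rfl
  -- (c)
  have hcmem : ∀ i, ((c i).L u).coeff 1 ∈ Ideal.map (algebraMap R (c i).R') 𝔠 := by
    intro i
    haveI := (c i).flat
    exact mem_map_ann_of_smul_eq_zero (c i).L.toLinearMap (c i).isChart.bc (u - 1) _ (ha i)
  -- (b)
  have hb : ∀ i, ∀ r ∈ 𝔠, algebraMap R (c i).R' r * ((c i).L u).coeff 1 =
      algebraMap R (c i).R' r := by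
    intro i r hr
    have h1 : r • (u - 1) = 0 := by
      simpa [h𝔠, LinearMap.mem_ker, LinearMap.toSpanSingleton_apply] using hr
    have h2 : r • ((c i).L u - 1) = 0 := by
      rw [← map_one (c i).L, ← map_sub, ← map_smul, h1, map_zero]
    have h3 : (r • ((c i).L u - 1)).coeff 1 = 0 := by rw [h2]; rfl
    rw [MonoidAlgebra.coeff_smul, Finsupp.smul_apply, MonoidAlgebra.coeff_sub,
      Finsupp.sub_apply, MonoidAlgebra.one_def, MonoidAlgebra.coeff_single, Finsupp.single_apply,
      if_pos rfl, Algebra.smul_def, mul_sub, mul_one] at h3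
    exact sub_eq_zero.mp h3
  -- a finitely generated subideal
  have hsub : ∀ i, ∃ I₀ : Ideal R, I₀ ≤ 𝔠 ∧ I₀.FG ∧
      ((c i).L u).coeff 1 ∈ Ideal.map (algebraMap R (c i).R') I₀ := fun i =>
    exists_fg_le_of_mem_map _ 𝔠 _ (hcmem i)
  choose I₀ hI₀le hI₀fg hI₀mem using hsub
  set 𝔠₀ : Ideal R := ⨆ i, I₀ i with h𝔠₀
  have h𝔠₀le : 𝔠₀ ≤ 𝔠 := iSup_le hI₀le
  have h𝔠₀fg : 𝔠₀.FG := Submodule.fg_iSup _ hI₀fg
  have hle : 𝔠 ≤ 𝔠₀ * 𝔠₀ := by
    intro x hx
    apply hc
    intro i
    rw [← hb i x hx, Ideal.map_mul]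
    apply Ideal.mul_mem_left
    rw [← coeff_idem (hG i)]
    have h1 : ((c i).L u).coeff 1 ∈ Ideal.map (algebraMap R (c i).R') 𝔠₀ :=
      Ideal.map_mono (le_iSup I₀ i) (hI₀mem i)
    exact Ideal.mul_mem_mul h1 h1
  have heq : 𝔠 = 𝔠₀ := le_antisymm (hle.trans Ideal.mul_le_left) h𝔠₀le
  have hidem : IsIdempotentElem 𝔠 := by
    apply le_antisymm Ideal.mul_le_left
    rw [heq] at hle ⊢
    exact hle
  obtain ⟨e, he, h𝔠e⟩ := (Ideal.isIdempotentElem_iff_of_fg 𝔠 (heq ▸ h𝔠₀fg)).mp hidem
  rcases hconn e he with h0 | h1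
  · have h𝔠bot : 𝔠 = ⊥ := by rw [h𝔠e, h0]; simp
    have := hcmem i
    rw [h𝔠bot, Ideal.map_bot] at this
    exact this
  · exfalso
    have h1mem : (1 : R) ∈ 𝔠 := by rw [h𝔠e, h1]; exact Ideal.subset_span rfl
    rw [h𝔠, LinearMap.mem_ker, LinearMap.toSpanSingleton_apply, one_smul, sub_eq_zero] at h1mem
    exact hu1 h1mem

end step1

section main
variable {R : Type u} [CommRing R] {B : Type u} [CommRing B] [HopfAlgebra R B]

/-- A quotient of a group algebra which is of multiplicative type over a connected base is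
diagonalisable. -/
theorem isDiag_of_surjective_of_connected
    (hconn : ∀ e : R, IsIdempotentElem e → e = 0 ∨ e = 1) (hH : SGA3b.IsMultType R B)
    {M : Type u} [CommGroup M] (q : MonoidAlgebra R M →ₐc[R] B) (hq : Function.Surjective q) :
    SGA3b.IsDiag R B := by
  classical
  obtain ⟨ι, _, c, hc⟩ := exists_atlas R B hH
  -- the character map
  let χ : M →* GroupLike R B :=
    { toFun := fun m => ⟨q (MonoidAlgebra.of R M m), (MonoidAlgebra.isGroupLikeElem_of m).map q⟩
      map_one' := by
        apply GroupLike.val_injective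
        change q (MonoidAlgebra.of R M 1) = 1
        rw [map_one, map_one]
      map_mul' := fun a b => by
        apply GroupLike.val_injective
        change q (MonoidAlgebra.of R M (a * b)) =
          q (MonoidAlgebra.of R M a) * q (MonoidAlgebra.of R M b)
        rw [map_mul, map_mul] }
  let N : Subgroup (GroupLike R B) := χ.range
  let Θ : MonoidAlgebra R N →ₐc[R] B :=
    (MonoidAlgebra.liftGroupLikeBialgHom (R := R) (A := B)).comp
      (MonoidAlgebra.mapDomainBialgHom R N.subtype)
  have hΘsingle : ∀ (n : N) (r : R), Θ (MonoidAlgebra.single n r) = r • (n.1.val : B) := by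
    intro n r
    simp [Θ, MonoidAlgebra.lift_single]
  have hΘapply : ∀ x : MonoidAlgebra R N, Θ x = x.coeff.sum (fun n r => r • (n.1.val : B)) := by
    intro x
    induction x using MonoidAlgebra.induction_linear with
    | zero => simp
    | add x y hx hy =>
      rw [map_add, hx, hy, MonoidAlgebra.coeff_add, Finsupp.sum_add_index']
      · intro n; simp
      · intro n r r'; rw [add_smul]
    | single n r =>
      rw [hΘsingle, MonoidAlgebra.coeff_single, Finsupp.sum_single_index]
      simp
  have hsurj : Function.Surjective Θ := by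
    intro b
    obtain ⟨x, rfl⟩ := hq b
    induction x using MonoidAlgebra.induction_linear with
    | zero => exact ⟨0, by simp⟩
    | add x y hx hy =>
      obtain ⟨a, ha⟩ := hx
      obtain ⟨b, hb⟩ := hy
      exact ⟨a + b, by rw [map_add, map_add, ha, hb]⟩
    | single m r =>
      refine ⟨MonoidAlgebra.single ⟨χ m, ⟨m, rfl⟩⟩ r, ?_⟩
      rw [hΘsingle]
      change r • q (MonoidAlgebra.of R M m) = _
      rw [← map_smul]
      congr 1
      simp [MonoidAlgebra.of_apply]
  have hinj : Function.Injective Θ := by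
    rw [injective_iff_map_eq_zero]
    intro x hx
    ext n₀
    rw [MonoidAlgebra.coeff_zero, Finsupp.zero_apply]
    have h0 : x.coeff n₀ ∈ (⊥ : Ideal R) := by
      apply hc
      intro i
      rw [Ideal.map_bot, Ideal.mem_bot]
      -- work in the chart `i`
      let G : N → MonoidAlgebra (c i).R' (c i).N := fun n => (c i).L (n.1.val)
      have hG : ∀ n, IsGroupLikeElem (c i).R' (G n) := fun n =>
        IsCoalgMapOver.isGroupLikeElem (c i).isChart.coalg n.1.isGroupLikeElem_val
      have hGmul : ∀ a b : N, G (a * b) = G a * G b := by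
        intro a b
        change (c i).L ((a * b).1.val) = _
        rw [Subgroup.coe_mul, GroupLike.val_mul, map_mul]
      have horth : ∀ n n' : N, n ≠ n' → ∀ ν, (G n').coeff ν * (G n).coeff ν = 0 := by
        intro n n' hnn' ν
        have hu1 : ((n * n'⁻¹ : N).1.val : B) ≠ 1 := by
          intro h
          apply hnn'
          have h2 : (n * n'⁻¹ : N) = 1 := by
            apply Subtype.ext
            apply GroupLike.val_injective
            rw [h]; rfl
          exact mul_inv_eq_one.mp h2
        have h1 := coeff_one_eq_zero_of_connected hconn c hc _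
          (n * n'⁻¹ : N).1.isGroupLikeElem_val hu1 i
        have h3 : G n = G (n * n'⁻¹) * G n' := by
          rw [← hGmul, inv_mul_cancel_right]
        have h4 : (G n').coeff ν • G n = G (n * n'⁻¹) * MonoidAlgebra.single ν ((G n').coeff ν) := by
          rw [h3, ← mul_smul_comm, coeff_smul_self (hG n')]
        have h5 := congrArg (fun y => y.coeff ν) h4
        simp only [MonoidAlgebra.coeff_smul, Finsupp.smul_apply, smul_eq_mul] at h5
        rw [h5, MonoidAlgebra.coeff_mul_single_eq_coeff_mul (m₂ := 1)]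
        · change ((c i).L _).coeff 1 * _ = 0
          rw [h1, zero_mul]
        · intro m' _
          exact mul_eq_right
      have hLx : (c i).L (Θ x) = 0 := by rw [hx, map_zero]
      rw [hΘapply, Finsupp.sum, map_sum] at hLx
      have hcoef : ∀ ν, ∑ n ∈ x.coeff.support,
          algebraMap R (c i).R' (x.coeff n) * (G n).coeff ν = 0 := by
        intro ν
        have := congrArg (fun y => y.coeff ν) hLx
        simp only [map_smul, MonoidAlgebra.coeff_sum, MonoidAlgebra.coeff_smul,
          Finsupp.smul_apply, MonoidAlgebra.coeff_zero, Finsupp.zero_apply,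
          Finset.sum_apply'] at this
        simpa [Algebra.smul_def, G] using this
      apply eq_zero_of_forall_mul_coeff (hG n₀)
      intro ν
      have h1 := congrArg (fun y => (G n₀).coeff ν * y) (hcoef ν)
      simp only [mul_zero, Finset.mul_sum] at h1
      rw [Finset.sum_eq_single n₀] at h1
      · rw [← h1, mul_left_comm, coeff_idem (hG n₀)]
      · intro n _ hn
        rw [mul_left_comm, horth n n₀ hn, mul_zero]
      · intro hn
        rw [Finsupp.notMem_support_iff.mp hn, map_zero, zero_mul, mul_zero]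
    simpa using h0
  exact ⟨N, inferInstance, ⟨(BialgEquiv.ofBijective Θ ⟨hinj, hsurj⟩).symm⟩⟩

end main

end Groth.Agent.H15.MTC
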