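import Groth.Agent.H15.MTLift3
import Groth.Agent.H15.MTConn

set_option autoImplicit false
set_option linter.style.haveILetI false
universe u
open TensorProduct Coalgebra

namespace Groth.Agent.H15.MTC
open Groth.Agent.H26 Groth.Agent.H15.GLD

section lifts
variable {R : Type u} [CommRing R] {A : Type u} [CommRing A] [HopfAlgebra R A]
  {ι : Type u} [Fintype ι] {c : ι → Chart R A}

lemma one_tmul_eq_zero_of_mem_smul_top (I : Ideal R) {P : Type*} [AddCommGroup P] [Module R P]
    (p : P) (hp : p ∈ (I • ⊤ : Submodule R P)) : (1 : R ⧸ I) ⊗ₜ[R] p = 0 := by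
  refine Submodule.smul_induction_on hp ?_ ?_
  · intro r hr n _
    rw [← TensorProduct.smul_tmul, Algebra.smul_def, mul_one, Ideal.Quotient.algebraMap_eq,
      Ideal.Quotient.eq_zero_iff_mem.mpr hr, zero_tmul]
  · intro x y hx hy
    rw [tmul_add, hx, hy, add_zero]

/-- every group-like element of the reduction lifts to a group-like element -/
theorem exists_lift_groupLike
    (hc : ∀ (K : Ideal R) (x : R),
      (∀ i, algebraMap R (c i).R' x ∈ K.map (algebraMap R (c i).R')) → x ∈ K)
    (I : Ideal R) (hI : ∀ x ∈ I, IsNilpotent x) (gbar : (R ⧸ I) ⊗[R] A)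
    (hg : IsGroupLikeElem (R ⧸ I) gbar) :
    ∃ g : A, IsGroupLikeElem R g ∧ (1 : R ⧸ I) ⊗ₜ[R] g = gbar := by
  obtain ⟨a, rfl⟩ := TensorProduct.mk_surjective R A (R ⧸ I) Ideal.Quotient.mk_surjective gbar
  change IsGroupLikeElem (R ⧸ I) ((1 : R ⧸ I) ⊗ₜ[R] a) at hg
  obtain ⟨h1, h2⟩ := glmod_of_isGroupLikeElem I a hg
  obtain ⟨g, hgl, hga⟩ := exists_groupLike_lift_of_atlas hc I hI a h1 h2
  refine ⟨g, hgl, ?_⟩
  have := one_tmul_eq_zero_of_mem_smul_top I _ hga
  rw [tmul_sub, sub_eq_zero] at this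
  exact this

/-- uniqueness of group-like lifts -/
theorem groupLike_lift_unique
    (hc : ∀ (K : Ideal R) (x : R),
      (∀ i, algebraMap R (c i).R' x ∈ K.map (algebraMap R (c i).R')) → x ∈ K)
    (I : Ideal R) (hI : ∀ x ∈ I, IsNilpotent x) {u v : A} (hu : IsGroupLikeElem R u)
    (hv : IsGroupLikeElem R v) (h : (1 : R ⧸ I) ⊗ₜ[R] u = (1 : R ⧸ I) ⊗ₜ[R] v) : u = v := by
  apply eq_of_sub_mem_map hc I hI hu hv
  have h1 : u - v ∈ (I • ⊤ : Submodule R A) := by
    apply mem_smul_top_of_one_tmul_eq_zero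
    rw [tmul_sub, h, sub_self]
  rw [Ideal.smul_top_eq_map] at h1
  exact h1

end lifts

section inj
variable {R : Type u} [CommRing R] {A : Type u} [CommRing A] [HopfAlgebra R A]
  {ι : Type u} [Fintype ι] {c : ι → Chart R A}

/-- the bialgebra map `R[Γ] → A` attached to a homomorphism to the group-like elements -/
noncomputable def liftHom {Γ : Type u} [CommGroup Γ] (χ : Γ →* GroupLike R A) :
    MonoidAlgebra R Γ →ₐc[R] A :=
  (MonoidAlgebra.liftGroupLikeBialgHom (R := R) (A := A)).comp (MonoidAlgebra.mapDomainBialgHom R χ)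

lemma liftHom_single {Γ : Type u} [CommGroup Γ] (χ : Γ →* GroupLike R A) (n : Γ) (r : R) :
    liftHom χ (MonoidAlgebra.single n r) = r • ((χ n).val : A) := by
  simp [liftHom, MonoidAlgebra.lift_single]

lemma liftHom_apply {Γ : Type u} [CommGroup Γ] (χ : Γ →* GroupLike R A) (x : MonoidAlgebra R Γ) :
    liftHom χ x = x.coeff.sum (fun n r => r • ((χ n).val : A)) := by
  induction x using MonoidAlgebra.induction_linear with
  | zero => simp
  | add x y hx hy =>
    rw [map_add, hx, hy, MonoidAlgebra.coeff_add, Finsupp.sum_add_index']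
    · intro n; simp
    · intro n r r'; rw [add_smul]
  | single n r =>
    rw [liftHom_single, MonoidAlgebra.coeff_single, Finsupp.sum_single_index]
    simp

/-- injectivity criterion: distinct characters are everywhere distinct. -/
theorem liftHom_injective
    (hc : ∀ (K : Ideal R) (x : R),
      (∀ i, algebraMap R (c i).R' x ∈ K.map (algebraMap R (c i).R')) → x ∈ K)
    {Γ : Type u} [CommGroup Γ] (χ : Γ →* GroupLike R A)
    (h : ∀ u : Γ, u ≠ 1 → ∀ i, ((c i).L ((χ u).val)).coeff 1 = 0) :
    Function.Injective (liftHom χ) := by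
  classical
  rw [injective_iff_map_eq_zero]
  intro x hx
  ext n₀
  rw [MonoidAlgebra.coeff_zero, Finsupp.zero_apply]
  have h0 : x.coeff n₀ ∈ (⊥ : Ideal R) := by
    apply hc
    intro i
    rw [Ideal.map_bot, Ideal.mem_bot]
    let G : Γ → MonoidAlgebra (c i).R' (c i).N := fun n => (c i).L ((χ n).val)
    have hG : ∀ n, IsGroupLikeElem (c i).R' (G n) := fun n =>
      IsCoalgMapOver.isGroupLikeElem (c i).isChart.coalg (χ n).isGroupLikeElem_val
    have hGmul : ∀ a b : Γ, G (a * b) = G a * G b := by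
      intro a b
      change (c i).L ((χ (a * b)).val) = _
      rw [map_mul, GroupLike.val_mul, map_mul]
    have horth : ∀ n n' : Γ, n ≠ n' → ∀ ν, (G n').coeff ν * (G n).coeff ν = 0 := by
      intro n n' hnn' ν
      have hu1 : n * n'⁻¹ ≠ 1 := fun h2 => hnn' (mul_inv_eq_one.mp h2)
      have h1 := h (n * n'⁻¹) hu1 i
      have h3 : G n = G (n * n'⁻¹) * G n' := by
        rw [← hGmul, inv_mul_cancel_right]
      have h4 : (G n').coeff ν • G n =
          G (n * n'⁻¹) * MonoidAlgebra.single ν ((G n').coeff ν) := by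
        rw [h3, ← mul_smul_comm, coeff_smul_self (hG n')]
      have h5 := congrArg (fun y => y.coeff ν) h4
      simp only [MonoidAlgebra.coeff_smul, Finsupp.smul_apply, smul_eq_mul] at h5
      rw [h5, MonoidAlgebra.coeff_mul_single_eq_coeff_mul (m₂ := 1)]
      · change ((c i).L _).coeff 1 * _ = 0
        rw [h1, zero_mul]
      · intro m' _
        exact mul_eq_right
    have hLx : (c i).L (liftHom χ x) = 0 := by rw [hx, map_zero]
    rw [liftHom_apply, Finsupp.sum, map_sum] at hLx
    have hcoef : ∀ ν, ∑ n ∈ x.coeff.support,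
        algebraMap R (c i).R' (x.coeff n) * (G n).coeff ν = 0 := by
      intro ν
      have := congrArg (fun y => y.coeff ν) hLx
      simp only [map_smul, MonoidAlgebra.coeff_sum, MonoidAlgebra.coeff_smul,
        Finsupp.smul_apply, MonoidAlgebra.coeff_zero, Finsupp.zero_apply,
        Finset.sum_apply'] at this
      simpa [Algebra.smul_def, G] using this
    apply eq_zero_of_forall_mul_coeff (hG n₀)
    intro ν
    have h1 := congrArg (fun y => (G n₀).coeff ν * y) (hcoef ν)
    simp only [mul_zero, Finset.mul_sum] at h1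
    rw [Finset.sum_eq_single n₀] at h1
    · rw [← h1, mul_left_comm, coeff_idem (hG n₀)]
    · intro n _ hn
      rw [mul_left_comm, horth n n₀ hn, mul_zero]
    · intro hn
      rw [Finsupp.notMem_support_iff.mp hn, map_zero, zero_mul, mul_zero]
  simpa using h0

/-- `G_1 • (G - 1) = 0` for a group-like element `G` of a group algebra -/
lemma coeff_one_smul_sub_one {S : Type*} [CommRing S] {N : Type*} [Monoid N]
    {G : MonoidAlgebra S N} (hG : IsGroupLikeElem S G) : G.coeff 1 • (G - 1) = 0 := by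
  classical
  ext ν
  rw [MonoidAlgebra.coeff_smul, Finsupp.smul_apply, smul_eq_mul,
    MonoidAlgebra.coeff_sub, Finsupp.sub_apply, mul_sub, MonoidAlgebra.one_def,
    MonoidAlgebra.coeff_single, Finsupp.single_apply]
  by_cases hν : (1 : N) = ν
  · subst hν
    rw [if_pos rfl, coeff_idem hG, mul_one, sub_self]; rfl
  · rw [if_neg hν, coeff_orth hG hν, mul_zero, sub_zero]; rfl

/-- if the annihilator of `u - 1` is nil, then `u` is nowhere trivial. -/
theorem coeff_one_eq_zero_of_ann_le (c₀ : Chart R A) (I : Ideal R) (hI : ∀ x ∈ I, IsNilpotent x)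
    (u : A) (hu : IsGroupLikeElem R u)
    (hann : LinearMap.ker (LinearMap.toSpanSingleton R A (u - 1)) ≤ I) :
    (c₀.L u).coeff 1 = 0 := by
  have hG : IsGroupLikeElem c₀.R' (c₀.L u) :=
    IsCoalgMapOver.isGroupLikeElem c₀.isChart.coalg hu
  have ha : (c₀.L u).coeff 1 • c₀.L (u - 1) = 0 := by
    rw [map_sub, map_one c₀.L]
    exact coeff_one_smul_sub_one hG
  haveI := c₀.flat
  have h1 := mem_map_ann_of_smul_eq_zero c₀.L.toLinearMap c₀.isChart.bc (u - 1) _ ha
  have h2 : (c₀.L u).coeff 1 ∈ Ideal.map (algebraMap R c₀.R') I := Ideal.map_mono hann h1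
  exact (show IsIdempotentElem ((c₀.L u).coeff 1) from coeff_idem hG 1).eq_zero_of_isNilpotent
    (map_nil _ I hI _ h2)

end inj

end Groth.Agent.H15.MTC
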