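import Groth.Agent.H15.MTBC
import Groth.Agent.H15.MTDiag

/-! General lemmas for isotriviality over a field: base change of group-like elements along
algebra maps, reflection of group-like elements along charts over field extensions. -/

set_option autoImplicit false
set_option linter.style.haveILetI false
universe u
open TensorProduct Coalgebra

namespace Groth.Agent.H15.IsoF
open Groth.Agent.H26 Groth.Agent.H15.MTC

section basis

/-- a semilinear map sending a basis to a basis (over a field extension) is injective -/
lemma injective_of_basis {F K : Type*} [Field F] [Field K] [Algebra F K]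
    {V W : Type*} [AddCommGroup V] [Module F V] [AddCommGroup W] [Module F W] [Module K W]
    [IsScalarTower F K W] {ι : Type*} (b₁ : Module.Basis ι F V) (b₂ : Module.Basis ι K W)
    (f : V →ₗ[F] W) (hf : ∀ i, f (b₁ i) = b₂ i) : Function.Injective f := by
  have key : (b₂.repr.toLinearMap.restrictScalars F) ∘ₗ f =
      (Finsupp.mapRange.linearMap (Algebra.linearMap F K)) ∘ₗ b₁.repr.toLinearMap := by
    apply b₁.ext
    intro i
    simp only [LinearMap.comp_apply, LinearMap.restrictScalars_apply, LinearEquiv.coe_coe, hf,
      Module.Basis.repr_self]
    ext j
    simp
  rw [injective_iff_map_eq_zero]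
  intro x hx
  have h1 := LinearMap.congr_fun key x
  simp only [LinearMap.comp_apply, LinearMap.restrictScalars_apply, LinearEquiv.coe_coe, hx,
    map_zero] at h1
  have h2 : b₁.repr x = 0 := by
    ext j
    have h3 := DFunLike.congr_fun h1 j
    simp only [Finsupp.coe_zero, Pi.zero_apply, Finsupp.mapRange.linearMap_apply,
      Finsupp.mapRange_apply, Algebra.linearMap_apply] at h3
    have h4 : (b₁.repr x) j = 0 := (algebraMap F K).injective (by rw [← h3, map_zero])
    simpa using h4
  exact b₁.repr.map_eq_zero_iff.mp h2

end basis

section basechange

variable {k : Type*} [CommRing k] {A : Type*} [CommRing A] [Bialgebra k A]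
  {S₁ S₂ : Type*} [CommRing S₁] [CommRing S₂] [Algebra k S₁] [Algebra k S₂]

/-- base change of a group-like element along an algebra map of the coefficient rings -/
theorem isGroupLikeElem_map (φ : S₁ →ₐ[k] S₂) {x : S₁ ⊗[k] A} (hx : IsGroupLikeElem S₁ x) :
    IsGroupLikeElem S₂ (Algebra.TensorProduct.map φ (AlgHom.id k A) x) := by
  letI : Algebra S₁ S₂ := φ.toRingHom.toAlgebra
  haveI : IsScalarTower k S₁ S₂ := IsScalarTower.of_algebraMap_eq fun r => (φ.commutes r).symm
  let θ : S₁ ⊗[k] A →ₗ[S₁] S₂ ⊗[k] A :=
    { toFun := Algebra.TensorProduct.map φ (AlgHom.id k A)
      map_add' := map_add _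
      map_smul' := by
        intro s y
        induction y using TensorProduct.induction_on with
        | zero => simp
        | add y z hy hz => simp only [smul_add, map_add, hy, hz]
        | tmul t a =>
          simp only [TensorProduct.smul_tmul', Algebra.TensorProduct.map_tmul, smul_eq_mul,
            map_mul, RingHom.id_apply, AlgHom.coe_id, id_eq]
          rw [Algebra.smul_def]
          rfl }
  have hθ : ∀ s a, θ (s ⊗ₜ[k] a) = φ s ⊗ₜ[k] a := fun s a => by
    simp [θ]
  have hco : IsCoalgMapOver S₂ θ := by
    constructor
    · intro c
      induction c using TensorProduct.induction_on with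
      | zero => simp
      | add y z hy hz => rw [map_add, map_add, map_add, map_add, hy, hz]
      | tmul s a =>
        rw [hθ, TensorProduct.comul_tmul, TensorProduct.comul_tmul, CommSemiring.comul_apply,
          CommSemiring.comul_apply]
        generalize Coalgebra.comul (R := k) a = y
        induction y using TensorProduct.induction_on with
        | zero => simp
        | add y z hy hz => rw [tmul_add, map_add, tmul_add, map_add, map_add, hy, hz]
        | tmul a₁ a₂ => simp [hθ]
    · intro c
      induction c using TensorProduct.induction_on with
      | zero => simp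
      | add y z hy hz => rw [map_add, map_add, map_add, map_add, hy, hz]
      | tmul s a =>
        rw [hθ, TensorProduct.counit_tmul, TensorProduct.counit_tmul, CommSemiring.counit_apply,
          CommSemiring.counit_apply]
        exact (map_smul φ _ _).symm
  exact hco.isGroupLikeElem hx

end basechange

section reflect

variable {F : Type u} [Field F] {K : Type u} [Field K] [Algebra F K]
  {B : Type u} [CommRing B] [HopfAlgebra F B] {N : Type u} [CommGroup N]

/-- a chart over a field extension is injective -/
lemma chart_injective (l : B →ₐ[F] MonoidAlgebra K N) (hbc : IsBaseChange K l.toLinearMap) :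
    Function.Injective l := by
  let b := Module.Free.chooseBasis F B
  have := injective_of_basis b (hbc.basis b) l.toLinearMap (fun i => by
    rw [IsBaseChange.basis_apply])
  exact this

/-- group-like elements are reflected by charts over field extensions -/
theorem isGroupLikeElem_of_chart (l : B →ₐ[F] MonoidAlgebra K N)
    (hco : IsCoalgMapOver K l.toLinearMap) (hbc : IsBaseChange K l.toLinearMap) {x : B}
    (hx : IsGroupLikeElem K (l x)) : IsGroupLikeElem F x := by
  let b := Module.Free.chooseBasis F B
  let b' := hbc.basis b
  have hinj : Function.Injective (tmul₂ K l.toLinearMap) := by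
    apply injective_of_basis (b.tensorProduct b) (b'.tensorProduct b')
    rintro ⟨i, j⟩
    simp only [Module.Basis.tensorProduct_apply, tmul₂_tmul, b', IsBaseChange.basis_apply]
  constructor
  · have h1 := hco.counit x
    rw [AlgHom.toLinearMap_apply, hx.counit_eq_one] at h1
    apply (algebraMap F K).injective
    rw [map_one]
    exact h1.symm
  · apply hinj
    rw [← hco.comul, tmul₂_tmul]
    exact hx.comul_eq_tmul_self

end reflect

end Groth.Agent.H15.IsoF
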