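import Groth.Agent.H15.IsoF1

/-! Derivations kill the coordinates of group-like elements of a group of multiplicative type. -/

set_option autoImplicit false
set_option linter.style.haveILetI false
universe u
open TensorProduct Coalgebra

namespace Groth.Agent.H15.IsoF
open Groth.Agent.H26 Groth.Agent.H15.MTC

section dual

variable {k : Type u} [CommRing k] {F : Type u} [CommRing F] [Algebra k F]

/-- the algebra map `x ↦ x + ε D x` into the dual numbers attached to a derivation -/
noncomputable def phiD (D : Derivation k F F) : F →ₐ[k] DualNumber F where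
  toFun x := TrivSqZeroExt.inl x + TrivSqZeroExt.inr (D x)
  map_one' := by
    ext <;> simp
  map_mul' x y := by
    ext
    · simp
    · simp [mul_comm]
  map_zero' := by
    ext <;> simp
  map_add' x y := by
    ext
    · simp
    · simp
  commutes' r := by
    ext
    · simp [TrivSqZeroExt.algebraMap_eq_inl' k F F]
    · simp [TrivSqZeroExt.algebraMap_eq_inl' k F F]

lemma phiD_fst (D : Derivation k F F) (x : F) : (phiD D x).fst = x := by
  simp [phiD]

lemma phiD_snd (D : Derivation k F F) (x : F) : (phiD D x).snd = D x := by
  simp [phiD]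

/-- the augmentation ideal of the dual numbers -/
noncomputable def epsIdeal (F : Type u) [CommRing F] : Ideal (DualNumber F) :=
  RingHom.ker (TrivSqZeroExt.fstHom F F F).toRingHom

lemma epsIdeal_nil (x : DualNumber F) (hx : x ∈ epsIdeal F) : IsNilpotent x := by
  refine ⟨2, ?_⟩
  have h1 : x.fst = 0 := hx
  rw [pow_two]
  ext
  · simp [h1]
  · simp [h1]

lemma phiD_sub_mem (D : Derivation k F F) (x : F) : phiD D x - phiD (0 : Derivation k F F) x ∈ epsIdeal F := by
  show (phiD D x - phiD (0 : Derivation k F F) x).fst = 0
  simp [phiD_fst]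

end dual

section coords

variable {k : Type u} [CommRing k] {A : Type u} [CommRing A] [Algebra k A]
  {S₁ S₂ : Type u} [CommRing S₁] [CommRing S₂] [Algebra k S₁] [Algebra k S₂]
  {ι : Type*} (b : Module.Basis ι k A)

/-- coordinates of a base-changed element -/
lemma repr_map (φ : S₁ →ₐ[k] S₂) (x : S₁ ⊗[k] A) (i : ι) :
    (Algebra.TensorProduct.basis S₂ b).repr (Algebra.TensorProduct.map φ (AlgHom.id k A) x) i =
      φ ((Algebra.TensorProduct.basis S₁ b).repr x i) := by
  induction x using TensorProduct.induction_on with
  | zero => simp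
  | add y z hy hz => simp only [map_add, Finsupp.add_apply, hy, hz]
  | tmul s a =>
    simp [Algebra.TensorProduct.basis_repr_tmul, Algebra.smul_def]

end coords

section main

variable {k : Type u} [Field k] {A : Type u} [CommRing A] [HopfAlgebra k A]
  {ι : Type u} [Fintype ι] {c : ι → Chart k A}

lemma map_sub_mem {F : Type u} [CommRing F] [Algebra k F] (D : Derivation k F F)
    (x : F ⊗[k] A) :
    Algebra.TensorProduct.map (phiD D) (AlgHom.id k A) x -
      Algebra.TensorProduct.map (phiD (0 : Derivation k F F)) (AlgHom.id k A) x ∈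
      Ideal.map (algebraMap (DualNumber F) (DualNumber F ⊗[k] A)) (epsIdeal F) := by
  induction x using TensorProduct.induction_on with
  | zero => simp
  | add y z hy hz =>
    have : ∀ (p q r s : DualNumber F ⊗[k] A), (p + q) - (r + s) = (p - r) + (q - s) := by
      intros; abel
    rw [map_add, map_add, this]
    exact Ideal.add_mem _ hy hz
  | tmul s a =>
    rw [Algebra.TensorProduct.map_tmul, Algebra.TensorProduct.map_tmul, ← TensorProduct.sub_tmul]
    have h1 : (phiD D s - phiD (0 : Derivation k F F) s) ⊗ₜ[k] (AlgHom.id k A) a =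
        ((1 : DualNumber F) ⊗ₜ[k] a) * algebraMap (DualNumber F) (DualNumber F ⊗[k] A)
          (phiD D s - phiD (0 : Derivation k F F) s) := by
      rw [Algebra.TensorProduct.algebraMap_apply, Algebra.TensorProduct.tmul_mul_tmul]
      simp
    rw [h1]
    exact Ideal.mul_mem_left _ _ (Ideal.mem_map_of_mem _ (phiD_sub_mem D s))

/-- **Derivations kill the coordinates of group-like elements.** -/
theorem derivation_repr_eq_zero
    (hc : ∀ (K : Ideal k) (x : k),
      (∀ i, algebraMap k (c i).R' x ∈ K.map (algebraMap k (c i).R')) → x ∈ K)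
    {F : Type u} [CommRing F] [Algebra k F] (D : Derivation k F F)
    {κ : Type*} (b : Module.Basis κ k A)
    {x : F ⊗[k] A} (hx : IsGroupLikeElem F x) (j : κ) :
    D ((Algebra.TensorProduct.basis F b).repr x j) = 0 := by
  have hu := isGroupLikeElem_map (phiD D) hx
  have hv := isGroupLikeElem_map (phiD (0 : Derivation k F F)) hx
  have huv := eq_of_sub_mem_map (c := fun i => (c i).baseChange (DualNumber F))
    (atlas_baseChange hc (DualNumber F)) (epsIdeal F) epsIdeal_nil hu hv (map_sub_mem D x)
  have h1 := congrArg (fun y => (Algebra.TensorProduct.basis (DualNumber F) b).repr y j) huv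
  simp only [repr_map] at h1
  have h2 := congrArg TrivSqZeroExt.snd h1
  rw [phiD_snd, phiD_snd] at h2
  simpa using h2

end main

end Groth.Agent.H15.IsoF
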