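import Mathlib

/-! A finitely generated field extension all of whose derivations kill the generators is finite
separable. -/

set_option autoImplicit false
universe u

namespace Groth.Agent.H15.IsoF

variable {k : Type u} [Field k] {K : Type u} [Field K] [Algebra k K]

/-- a derivation of `k(S)` killing `S` is zero -/
lemma derivation_adjoin_eq_zero (S : Set K)
    (D : Derivation k (IntermediateField.adjoin k S) (IntermediateField.adjoin k S))
    (hD : ∀ s (hs : s ∈ S), D ⟨s, IntermediateField.subset_adjoin k S hs⟩ = 0)
    (y : IntermediateField.adjoin k S) : D y = 0 := by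
  obtain ⟨y, hy⟩ := y
  induction hy using IntermediateField.adjoin_induction with
  | mem x hx => exact hD x hx
  | algebraMap r =>
    exact D.map_algebraMap r
  | add x y hx hy ihx ihy =>
    have : (⟨x + y, add_mem hx hy⟩ : IntermediateField.adjoin k S) = ⟨x, hx⟩ + ⟨y, hy⟩ := rfl
    rw [this, map_add, ihx, ihy, add_zero]
  | mul x y hx hy ihx ihy =>
    have : (⟨x * y, mul_mem hx hy⟩ : IntermediateField.adjoin k S) = ⟨x, hx⟩ * ⟨y, hy⟩ := rfl
    rw [this, D.leibniz, ihx, ihy, smul_zero, smul_zero, add_zero]
  | inv x hx ihx =>
    by_cases h0 : x = 0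
    · subst h0
      have : (⟨(0 : K)⁻¹, inv_mem hx⟩ : IntermediateField.adjoin k S) = 0 := by
        ext; simp
      rw [this, map_zero]
    · have hne : (⟨x, hx⟩ : IntermediateField.adjoin k S) ≠ 0 := by
        intro h
        exact h0 (congrArg Subtype.val h)
      have h1 : (⟨x, hx⟩ : IntermediateField.adjoin k S) * ⟨x⁻¹, inv_mem hx⟩ = 1 := by
        ext
        simp [h0]
      have h2 := congrArg D h1
      rw [D.leibniz, ihx, smul_zero, add_zero, D.map_one_eq_zero, smul_eq_mul] at h2
      exact (mul_eq_zero.mp h2).resolve_left hne

/-- a finitely generated field extension whose derivations kill the generators is finite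
separable -/
theorem finite_separable_of_derivations (S : Finset K)
    (hD : ∀ D : Derivation k (IntermediateField.adjoin k (S : Set K))
      (IntermediateField.adjoin k (S : Set K)),
      ∀ s (hs : s ∈ (S : Set K)), D ⟨s, IntermediateField.subset_adjoin k _ hs⟩ = 0) :
    Module.Finite k (IntermediateField.adjoin k (S : Set K)) ∧
      Algebra.IsSeparable k (IntermediateField.adjoin k (S : Set K)) := by
  set F := IntermediateField.adjoin k (S : Set K) with hF
  have hzero : ∀ D : Derivation k F F, D = 0 := by
    intro D
    apply Derivation.ext
    intro y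
    exact derivation_adjoin_eq_zero (S : Set K) D (hD D) y
  haveI : Subsingleton (Ω[F⁄k]) := by
    refine ⟨fun a b => ?_⟩
    rw [← sub_eq_zero]
    rw [← Module.forall_dual_apply_eq_zero_iff F]
    intro f
    have h1 : f.compDer (KaehlerDifferential.D k F) = 0 := hzero _
    have h2 : f = 0 := by
      apply LinearMap.ext_on_range (KaehlerDifferential.span_range_derivation k F)
      intro y
      have := DFunLike.congr_fun h1 y
      simpa using this
    rw [h2]
    rfl
  haveI : Algebra.FormallyUnramified k F := ⟨inferInstance⟩
  haveI : Algebra.EssFiniteType k F :=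
    IntermediateField.essFiniteType_iff.mpr (IntermediateField.fg_adjoin_finset S)
  exact ⟨Algebra.FormallyUnramified.finite_of_free k F, Algebra.FormallyUnramified.isSeparable k F⟩

end Groth.Agent.H15.IsoF
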