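import Groth.Agent.H15.IsoF2
import Groth.Agent.H15.IsoF3

/-! A group of multiplicative type and of finite type over a field is isotrivial. -/

set_option autoImplicit false
set_option linter.style.haveILetI false
universe u
open TensorProduct Coalgebra

namespace Groth.Agent.H15.IsoF
open Groth.Agent.H26 Groth.Agent.H15.MTC

section assemble

variable {F : Type u} [Field F] {K : Type u} [Field K] [Algebra F K]
  {B : Type u} [CommRing B] [HopfAlgebra F B] {N : Type u} [CommGroup N]

/-- if a chart over a field extension hits the group-like generators, the Hopf algebra is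
already diagonalisable over the small field -/
theorem isDiagFT_of_chart (l : B →ₐ[F] MonoidAlgebra K N)
    (hco : IsCoalgMapOver K l.toLinearMap) (hbc : IsBaseChange K l.toLinearMap)
    (S₀ : Set N) (hS₀ : Submonoid.closure S₀ = ⊤) (hfg : Group.FG N)
    (hmem : ∀ m ∈ S₀, ∃ x : B, l x = MonoidAlgebra.single m (1 : K)) :
    SGA3b.IsDiagFT F B := by
  classical
  have hinj := chart_injective l hbc
  have hall : ∀ m : N, ∃ x : B, l x = MonoidAlgebra.single m (1 : K) := by
    intro m
    have hm : m ∈ Submonoid.closure S₀ := hS₀ ▸ Submonoid.mem_top m
    induction hm using Submonoid.closure_induction with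
    | mem m hm => exact hmem m hm
    | one => exact ⟨1, by rw [map_one]; rfl⟩
    | mul a b _ _ ha hb =>
      obtain ⟨x, hx⟩ := ha
      obtain ⟨y, hy⟩ := hb
      exact ⟨x * y, by rw [map_mul, hx, hy, MonoidAlgebra.single_mul_single, mul_one]⟩
  choose x hx using hall
  have hgl : ∀ m, IsGroupLikeElem F (x m) := fun m =>
    isGroupLikeElem_of_chart l hco hbc (by
      rw [hx]
      exact MonoidAlgebra.isGroupLikeElem_single_one m)
  let χ : N →* GroupLike F B :=
    { toFun := fun m => ⟨x m, hgl m⟩
      map_one' := by
        apply GroupLike.val_injective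
        apply hinj
        simp only [GroupLike.val_one, map_one, hx]
        rfl
      map_mul' := by
        intro a b
        apply GroupLike.val_injective
        apply hinj
        simp only [GroupLike.val_mul, map_mul, hx, MonoidAlgebra.single_mul_single, mul_one] }
  have hχ : ∀ m, ((χ m).val : B) = x m := fun _ => rfl
  have hcomp : ∀ y : MonoidAlgebra F N, l (liftHom χ y) = mapCoeff (S := F) (S' := K) N y := by
    intro y
    induction y using MonoidAlgebra.induction_linear with
    | zero => simp
    | add y z hy hz => rw [map_add, map_add, map_add, hy, hz]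
    | single n r =>
      rw [liftHom_single, map_smul, hχ, hx]
      simp [mapCoeff, MonoidAlgebra.smul_single, Algebra.ofId_apply, Algebra.smul_def]
  have hinjχ : Function.Injective (liftHom χ) := by
    intro y z hyz
    have h1 := congrArg l hyz
    rw [hcomp, hcomp] at h1
    apply MonoidAlgebra.ext
    apply Finsupp.ext
    intro n
    have h2 := congrArg (fun w => w.coeff n) h1
    simp only [mapCoeff_coeff] at h2
    exact (algebraMap F K).injective h2
  have hsurjχ : Function.Surjective (liftHom χ) := by
    let P : MonoidAlgebra F N →ₗ[F] B :=
      { toFun := liftHom χ, map_add' := map_add _, map_smul' := map_smul _ }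
    have hP : LinearMap.range P = ⊤ := by
      by_contra hne
      obtain ⟨f, hf0, hfW⟩ := Submodule.exists_le_ker_of_lt_top _ (lt_top_iff_ne_top.mpr hne)
      let fK : MonoidAlgebra K N →ₗ[K] K := hbc.lift ((Algebra.linearMap F K) ∘ₗ f)
      have hfK : ∀ b : B, fK (l b) = algebraMap F K (f b) := fun b => by
        have := hbc.lift_eq ((Algebra.linearMap F K) ∘ₗ f) b
        simpa using this
      have h1 : ∀ m : N, fK (MonoidAlgebra.single m 1) = 0 := by
        intro m
        rw [← hx m, hfK]
        have : x m ∈ LinearMap.range P := ⟨MonoidAlgebra.single m 1, by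
          show liftHom χ _ = _
          rw [liftHom_single, one_smul, hχ]⟩
        have h2 := hfW this
        rw [LinearMap.mem_ker] at h2
        rw [h2, map_zero]
      have h2 : ∀ y : MonoidAlgebra K N, fK y = 0 := by
        intro y
        induction y using MonoidAlgebra.induction_linear with
        | zero => simp
        | add y z hy hz => rw [map_add, hy, hz, add_zero]
        | single n r =>
          have : MonoidAlgebra.single n r = r • MonoidAlgebra.single n (1 : K) := by
            rw [MonoidAlgebra.smul_single, smul_eq_mul, mul_one]
          rw [this, map_smul, h1, smul_zero]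
      apply hf0
      ext b
      have h3 := hfK b
      rw [h2] at h3
      show f b = 0
      exact (algebraMap F K).injective (by rw [← h3, map_zero])
    intro b
    have hb : b ∈ LinearMap.range P := hP ▸ Submodule.mem_top
    obtain ⟨y, hy⟩ := hb
    exact ⟨y, hy⟩
  exact ⟨N, inferInstance, hfg, ⟨(BialgEquiv.ofBijective (liftHom χ) ⟨hinjχ, hsurjχ⟩).symm⟩⟩

end assemble

end Groth.Agent.H15.IsoF
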