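import Groth.Agent.H15.MTBC

set_option autoImplicit false
set_option linter.style.haveILetI false
universe u
open TensorProduct Coalgebra

namespace Groth.Agent.H15.MTC
open Groth.Agent.H26 Groth.Agent.H15.GLD

section antipode
variable {R : Type*} [CommRing R] {A B : Type*} [CommRing A] [HopfAlgebra R A]
  [CommRing B] [HopfAlgebra R B]

open LinearMap WithConv in
/-- bialgebra maps of Hopf algebras commute with the antipodes -/
theorem bialgHom_antipode (f : A →ₐc[R] B) (a : A) :
    f (HopfAlgebra.antipode R a) = HopfAlgebra.antipode R (f a) := by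
  let fl : A →ₗ[R] B := (f : A →ₐ[R] B).toLinearMap
  let Lc : WithConv (A →ₗ[R] B) := toConv (fl ∘ₗ HopfAlgebra.antipode R (A := A))
  let Mc : WithConv (A →ₗ[R] B) := toConv fl
  let Rc : WithConv (A →ₗ[R] B) := toConv (HopfAlgebra.antipode R (A := B) ∘ₗ fl)
  have h1 : Lc * Mc = 1 := by
    have := algHom_comp_convMul_distrib (f : A →ₐ[R] B) (toConv (HopfAlgebra.antipode R (A := A)))
      (toConv LinearMap.id)
    rw [LinearMap.antipode_mul_id] at this
    apply WithConv.ofConv_injective
    have e1 : (Lc * Mc).ofConv = (f : A →ₐ[R] B).toLinearMap ∘ₗ ofConv 1 := by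
      rw [this]
      rfl
    rw [e1]
    ext x
    simp only [LinearMap.convOne_def, WithConv.ofConv_toConv, LinearMap.comp_apply,
      Algebra.linearMap_apply]
    exact (f : A →ₐ[R] B).commutes _
  have h2 : Mc * Rc = 1 := by
    have := convMul_comp_coalgHom_distrib (toConv (LinearMap.id (R := R) (M := B)))
      (toConv (HopfAlgebra.antipode R (A := B))) (f : A →ₗc[R] B)
    rw [LinearMap.id_mul_antipode] at this
    apply WithConv.ofConv_injective
    have e1 : (Mc * Rc).ofConv = ofConv 1 ∘ₗ (f : A →ₗc[R] B).toLinearMap := by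
      rw [this]
      rfl
    rw [e1]
    ext x
    simp only [LinearMap.convOne_def, WithConv.ofConv_toConv, LinearMap.comp_apply,
      Algebra.linearMap_apply]
    congr 1
    exact CoalgHomClass.counit_comp_apply f x
  have h3 : Lc = Rc := by
    calc Lc = Lc * (Mc * Rc) := by rw [h2, mul_one]
      _ = (Lc * Mc) * Rc := by rw [mul_assoc]
      _ = Rc := by rw [h1, one_mul]
  exact congrArg (fun g : WithConv (A →ₗ[R] B) => g.ofConv a) h3

end antipode

section tobialg
variable {S : Type*} [CommRing S] {B : Type*} [CommRing B] [Bialgebra S B]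
  {C : Type*} [CommRing C] [Bialgebra S C]

/-- an algebra map which is a coalgebra map over the identity is a bialgebra map -/
noncomputable def bialgHomOfCoalg (φ : B →ₐ[S] C) (hco : IsCoalgMapOver S φ.toLinearMap) :
    B →ₐc[S] C :=
  BialgHom.ofAlgHom φ
    (by
      ext b
      exact hco.counit b)
    (by
      ext b
      have h1 := hco.comul b
      change TensorProduct.map φ.toLinearMap φ.toLinearMap (Coalgebra.comul b) = Coalgebra.comul (φ b)
      change Coalgebra.comul (φ b) = _ at h1
      rw [h1]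
      generalize Coalgebra.comul (R := S) b = y
      induction y with
      | zero => simp
      | add x y hx hy => rw [map_add, map_add, hx, hy]
      | tmul a b => simp)

@[simp] lemma bialgHomOfCoalg_apply (φ : B →ₐ[S] C) (hco : IsCoalgMapOver S φ.toLinearMap) (b : B) :
    bialgHomOfCoalg φ hco b = φ b := rfl

end tobialg

section graded
variable {S : Type*} [CommRing S] {N : Type*} [CommGroup N] {D : Type*} [CommRing D]
  [HopfAlgebra S D] (Ψ : D →ₐc[S] MonoidAlgebra S N)

/-- extracting a homogeneous component via the comultiplication -/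
noncomputable def compExtract (n : N) :
    MonoidAlgebra S N ⊗[S] MonoidAlgebra S N →ₗ[S] MonoidAlgebra S N :=
  (TensorProduct.rid S (MonoidAlgebra S N)).toLinearMap ∘ₗ
    LinearMap.lTensor (MonoidAlgebra S N) (coeffL n)

@[simp] lemma compExtract_tmul (n : N) (x y : MonoidAlgebra S N) :
    compExtract n (x ⊗ₜ[S] y) = y.coeff n • x := by
  simp [compExtract, coeffL_apply]

lemma compExtract_comul (n : N) (w : MonoidAlgebra S N) :
    compExtract n (Coalgebra.comul (R := S) w) = MonoidAlgebra.single n (w.coeff n) := by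
  classical
  induction w using MonoidAlgebra.induction_linear with
  | zero => simp
  | add x y hx hy =>
    rw [map_add, map_add, hx, hy, MonoidAlgebra.coeff_add, Finsupp.add_apply,
      MonoidAlgebra.single_add]
  | single m r =>
    rw [MonoidAlgebra.comul_single]
    simp only [CommSemiring.comul_apply, TensorProduct.map_tmul, MonoidAlgebra.lsingle_apply,
      compExtract_tmul, MonoidAlgebra.coeff_single, Finsupp.single_apply]
    by_cases h : m = n
    · subst h
      simp
    · simp [h]

include Ψ in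
lemma single_coeff_mem_range (w : MonoidAlgebra S N) (hw : w ∈ LinearMap.range Ψ.toLinearMap)
    (n : N) : MonoidAlgebra.single n (w.coeff n) ∈ LinearMap.range Ψ.toLinearMap := by
  obtain ⟨d, rfl⟩ := hw
  rw [← compExtract_comul]
  have h1 : Coalgebra.comul (R := S) (Ψ d) =
      TensorProduct.map Ψ.toLinearMap Ψ.toLinearMap (Coalgebra.comul d) :=
    (CoalgHomClass.map_comp_comul_apply Ψ d).symm
  change compExtract n (Coalgebra.comul (R := S) (Ψ d)) ∈ _
  rw [h1]
  generalize Coalgebra.comul (R := S) d = y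
  induction y with
  | zero => simp
  | add x y hx hy =>
    rw [map_add, map_add]
    exact add_mem hx hy
  | tmul a b =>
    rw [TensorProduct.map_tmul, compExtract_tmul]
    exact ⟨(Ψ b).coeff n • a, by simp; rfl⟩

/-- the ideal of coefficients in degree `n` of the image -/
def gradedIdeal (n : N) : Ideal S where
  carrier := {r | MonoidAlgebra.single n r ∈ LinearMap.range Ψ.toLinearMap}
  add_mem' := by
    intro a b ha hb
    simp only [Set.mem_ofPred_eq] at ha hb ⊢
    rw [MonoidAlgebra.single_add]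
    exact add_mem ha hb
  zero_mem' := by
    simp only [Set.mem_ofPred_eq]
    rw [MonoidAlgebra.single_zero]
    exact zero_mem _
  smul_mem' := by
    intro c x hx
    simp only [Set.mem_ofPred_eq] at hx ⊢
    rw [smul_eq_mul, ← smul_eq_mul, ← MonoidAlgebra.smul_single]
    exact Submodule.smul_mem _ c hx

lemma mem_gradedIdeal (n : N) (r : S) :
    r ∈ gradedIdeal Ψ n ↔ MonoidAlgebra.single n r ∈ LinearMap.range Ψ.toLinearMap := Iff.rfl

lemma coeff_mem_gradedIdeal (w : MonoidAlgebra S N) (hw : w ∈ LinearMap.range Ψ.toLinearMap)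
    (n : N) : w.coeff n ∈ gradedIdeal Ψ n :=
  single_coeff_mem_range Ψ w hw n

lemma gradedIdeal_one : (1 : S) ∈ gradedIdeal Ψ 1 := by
  rw [mem_gradedIdeal, ← MonoidAlgebra.one_def]
  exact ⟨1, map_one Ψ⟩

lemma gradedIdeal_mul {m n : N} {r r' : S} (hr : r ∈ gradedIdeal Ψ m) (hr' : r' ∈ gradedIdeal Ψ n) :
    r * r' ∈ gradedIdeal Ψ (m * n) := by
  rw [mem_gradedIdeal] at hr hr' ⊢
  obtain ⟨a, ha⟩ := hr
  obtain ⟨b, hb⟩ := hr'
  refine ⟨a * b, ?_⟩
  change Ψ (a * b) = _
  rw [map_mul]
  change Ψ a = _ at ha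
  change Ψ b = _ at hb
  rw [ha, hb, MonoidAlgebra.single_mul_single]

lemma gradedIdeal_inv {m : N} {r : S} (hr : r ∈ gradedIdeal Ψ m) : r ∈ gradedIdeal Ψ m⁻¹ := by
  rw [mem_gradedIdeal] at hr ⊢
  obtain ⟨a, ha⟩ := hr
  change Ψ a = _ at ha
  refine ⟨HopfAlgebra.antipode S a, ?_⟩
  change Ψ (HopfAlgebra.antipode S a) = _
  rw [bialgHom_antipode, ha, MonoidAlgebra.antipode_single]
  simp

lemma surjective_of_gradedIdeal_eq_top (h : ∀ n, gradedIdeal Ψ n = ⊤) : Function.Surjective Ψ := by
  intro w
  induction w using MonoidAlgebra.induction_linear with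
  | zero => exact ⟨0, map_zero _⟩
  | add x y hx hy =>
    obtain ⟨a, rfl⟩ := hx
    obtain ⟨b, rfl⟩ := hy
    exact ⟨a + b, map_add _ _ _⟩
  | single n r =>
    have : r ∈ gradedIdeal Ψ n := by rw [h n]; trivial
    exact this

variable (p : Ideal S) [p.IsPrime]

/-- the degrees in which the image is nonzero modulo `p` -/
def gradedSubgroup : Subgroup N where
  carrier := {m | ¬ gradedIdeal Ψ m ≤ p}
  one_mem' := by
    intro h
    exact (Ideal.IsPrime.ne_top inferInstance) ((Ideal.eq_top_iff_one p).mpr (h (gradedIdeal_one Ψ)))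
  mul_mem' := by
    intro a b ha hb
    simp only [Set.mem_ofPred_eq] at ha hb ⊢
    obtain ⟨r, hr, hrp⟩ := Set.not_subset.mp ha
    obtain ⟨r', hr', hrp'⟩ := Set.not_subset.mp hb
    intro hle
    have := hle (gradedIdeal_mul Ψ hr hr')
    rcases (Ideal.IsPrime.mem_or_mem inferInstance this) with h | h
    · exact hrp h
    · exact hrp' h
  inv_mem' := by
    intro a ha
    simp only [Set.mem_ofPred_eq] at ha ⊢
    obtain ⟨r, hr, hrp⟩ := Set.not_subset.mp ha
    intro hle
    exact hrp (hle (gradedIdeal_inv Ψ hr))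

lemma mem_gradedSubgroup (m : N) : m ∈ gradedSubgroup Ψ p ↔ ¬ gradedIdeal Ψ m ≤ p := Iff.rfl

/-- test maps to a group algebra over the residue ring -/
noncomputable def testMap {Q : Type*} [CommGroup Q] (π : N →* Q) :
    MonoidAlgebra S N →ₐ[S] MonoidAlgebra (S ⧸ p) Q :=
  MonoidAlgebra.lift S (MonoidAlgebra (S ⧸ p) Q) N ((MonoidAlgebra.of (S ⧸ p) Q).comp π)

lemma testMap_single {Q : Type*} [CommGroup Q] (π : N →* Q) (n : N) (r : S) :
    testMap p π (MonoidAlgebra.single n r) = MonoidAlgebra.single (π n) (Ideal.Quotient.mk p r) := by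
  simp [testMap, MonoidAlgebra.lift_single, Algebra.smul_def]

lemma testMap_eq_on_range (w : MonoidAlgebra S N) (hw : w ∈ LinearMap.range Ψ.toLinearMap) :
    testMap p (QuotientGroup.mk' (gradedSubgroup Ψ p)) w =
      testMap p (1 : N →* N ⧸ gradedSubgroup Ψ p) w := by
  classical
  have hy : w = ∑ m ∈ w.coeff.support, MonoidAlgebra.single m (w.coeff m) := by
    ext n
    rw [MonoidAlgebra.coeff_sum, Finset.sum_apply']
    simp only [MonoidAlgebra.coeff_single, Finsupp.single_apply]
    rw [Finset.sum_ite_eq']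
    split_ifs with h
    · rfl
    · exact (Finsupp.notMem_support_iff.mp h)
  rw [hy, map_sum, map_sum]
  apply Finset.sum_congr rfl
  intro n _
  rw [testMap_single, testMap_single]
  by_cases hn : n ∈ gradedSubgroup Ψ p
  · have : QuotientGroup.mk' (gradedSubgroup Ψ p) n = 1 := by
      rw [QuotientGroup.mk'_apply, QuotientGroup.eq_one_iff]
      exact hn
    rw [this]
    rfl
  · rw [mem_gradedSubgroup, not_not] at hn
    have h1 : w.coeff n ∈ p := hn (coeff_mem_gradedIdeal Ψ w hw n)
    rw [Ideal.Quotient.eq_zero_iff_mem.mpr h1, MonoidAlgebra.single_zero, MonoidAlgebra.single_zero]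

lemma gradedSubgroup_eq_top_of_testMap_eq
    (h : ∀ w : MonoidAlgebra S N, testMap p (QuotientGroup.mk' (gradedSubgroup Ψ p)) w =
      testMap p (1 : N →* N ⧸ gradedSubgroup Ψ p) w) : gradedSubgroup Ψ p = ⊤ := by
  classical
  rw [eq_top_iff]
  intro n _
  have h1 := h (MonoidAlgebra.single n 1)
  rw [testMap_single, testMap_single, map_one] at h1
  have h2 := congrArg (fun y => y.coeff 1) h1
  simp only [MonoidAlgebra.coeff_single, Finsupp.single_apply, MonoidHom.one_apply] at h2
  rw [if_pos trivial] at h2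
  by_contra hn
  have h3 : ¬ (QuotientGroup.mk' (gradedSubgroup Ψ p) n = 1) := by
    rw [QuotientGroup.mk'_apply, QuotientGroup.eq_one_iff]
    exact hn
  rw [if_neg h3] at h2
  haveI : Nontrivial (S ⧸ p) := Ideal.Quotient.nontrivial_iff.mpr (Ideal.IsPrime.ne_top inferInstance)
  exact zero_ne_one h2

end graded

section main
variable {R : Type u} [CommRing R] {A : Type u} [CommRing A] [HopfAlgebra R A]
  {C : Type u} [CommRing C] [HopfAlgebra R C] (φ : C →ₐc[R] A)

lemma chartHom_coalg (c₀ : Chart R A) :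
    IsCoalgMapOver c₀.R' (c₀.L.comp (φ : C →ₐ[R] A)).toLinearMap := by
  have h0 := IsCoalgMapOver.comp (S₁ := R) c₀.isChart.coalg
    (isCoalgMapOver_of_coalgHom (φ : C →ₗc[R] A))
  have h1 : (c₀.L.comp (φ : C →ₐ[R] A)).toLinearMap =
      (c₀.L.toLinearMap.restrictScalars R) ∘ₗ ((φ : C →ₗc[R] A) : C →ₗ[R] A) :=
    LinearMap.ext fun _ => rfl
  rw [h1]
  exact h0

/-- the bialgebra map `R' ⊗ C → R'[N]` attached to a chart -/
noncomputable def chartHom (c₀ : Chart R A) :
    c₀.R' ⊗[R] C →ₐc[c₀.R'] MonoidAlgebra c₀.R' c₀.N :=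
  bialgHomOfCoalg (liftAlg c₀.R' (c₀.L.comp (φ : C →ₐ[R] A)))
    (isCoalgMapOver_liftAlg c₀.R' (chartHom_coalg φ c₀))

lemma chartHom_tmul (c₀ : Chart R A) (r : c₀.R') (x : C) :
    chartHom φ c₀ (r ⊗ₜ[R] x) = r • c₀.L (φ x) := by
  simp [chartHom]

theorem chartHom_surjective (c₀ : Chart R A)
    (hmono : ∀ (T : Type u) [CommRing T] [Algebra R T],
      Function.Injective (fun x : A →ₐ[R] T => x.comp (φ : C →ₐ[R] A))) :
    Function.Surjective (chartHom φ c₀) := by
  apply surjective_of_gradedIdeal_eq_top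
  intro n
  by_contra hne
  obtain ⟨p, hpmax, hle⟩ := Ideal.exists_le_maximal _ hne
  haveI := hpmax.isPrime
  let x : A →ₐ[R] MonoidAlgebra (c₀.R' ⧸ p) (c₀.N ⧸ gradedSubgroup (chartHom φ c₀) p) :=
    ((testMap p (QuotientGroup.mk' (gradedSubgroup (chartHom φ c₀) p))).restrictScalars R).comp c₀.L
  let y : A →ₐ[R] MonoidAlgebra (c₀.R' ⧸ p) (c₀.N ⧸ gradedSubgroup (chartHom φ c₀) p) :=
    ((testMap p (1 : c₀.N →* c₀.N ⧸ gradedSubgroup (chartHom φ c₀) p)).restrictScalars R).comp c₀.L
  have hxy : x.comp (φ : C →ₐ[R] A) = y.comp (φ : C →ₐ[R] A) := by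
    refine AlgHom.ext fun d => ?_
    change testMap p (QuotientGroup.mk' (gradedSubgroup (chartHom φ c₀) p)) (c₀.L (φ d)) =
      testMap p (1 : c₀.N →* c₀.N ⧸ gradedSubgroup (chartHom φ c₀) p) (c₀.L (φ d))
    apply testMap_eq_on_range (chartHom φ c₀) p
    refine ⟨(1 : c₀.R') ⊗ₜ[R] d, ?_⟩
    change chartHom φ c₀ _ = _
    rw [chartHom_tmul, one_smul]
  have hxy' : x = y := hmono _ hxy
  have hall : ∀ w : MonoidAlgebra c₀.R' c₀.N,
      testMap p (QuotientGroup.mk' (gradedSubgroup (chartHom φ c₀) p)) w =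
        testMap p (1 : c₀.N →* c₀.N ⧸ gradedSubgroup (chartHom φ c₀) p) w := by
    intro w
    obtain ⟨t, rfl⟩ := c₀.isChart.bc.equiv.surjective w
    induction t using TensorProduct.induction_on with
    | zero => simp
    | add a b ha hb => rw [map_add, map_add, map_add, ha, hb]
    | tmul r a =>
      rw [IsBaseChange.equiv_tmul, map_smul, map_smul]
      congr 1
      exact DFunLike.congr_fun hxy' a
  have htop := gradedSubgroup_eq_top_of_testMap_eq (chartHom φ c₀) p hall
  have hn : n ∈ gradedSubgroup (chartHom φ c₀) p := by rw [htop]; trivial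
  exact hn hle

theorem surjective_of_mono (h : SGA3b.IsMultType R A)
    (hmono : ∀ (T : Type u) [CommRing T] [Algebra R T],
      Function.Injective (fun x : A →ₐ[R] T => x.comp (φ : C →ₐ[R] A))) :
    Function.Surjective φ := by
  obtain ⟨ι, _, c, hc⟩ := exists_atlas R A h
  intro a
  have h1 : (LinearMap.range (φ : C →ₐ[R] A).toLinearMap).mkQ a = 0 := by
    apply eq_zero_of_forall_tmul_eq_zero hc
    intro i
    obtain ⟨t, ht⟩ := chartHom_surjective φ (c i) hmono ((c i).L a)
    have key : ∀ t : (c i).R' ⊗[R] C,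
        (c i).isChart.bc.equiv ((φ : C →ₐ[R] A).toLinearMap.lTensor (c i).R' t) =
          chartHom φ (c i) t := by
      intro t
      induction t using TensorProduct.induction_on with
      | zero => simp
      | add x y hx hy => rw [map_add, map_add, map_add, hx, hy]
      | tmul r x =>
        rw [LinearMap.lTensor_tmul, IsBaseChange.equiv_tmul, chartHom_tmul]
        rfl
    have h3 : (φ : C →ₐ[R] A).toLinearMap.lTensor (c i).R' t = (1 : (c i).R') ⊗ₜ[R] a := by
      apply (c i).isChart.bc.equiv.injective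
      rw [key, ht, IsBaseChange.equiv_tmul, one_smul]
      rfl
    have h2 : (1 : (c i).R') ⊗ₜ[R] ((LinearMap.range (φ : C →ₐ[R] A).toLinearMap).mkQ a) =
        LinearMap.lTensor (c i).R' (LinearMap.range (φ : C →ₐ[R] A).toLinearMap).mkQ
          ((1 : (c i).R') ⊗ₜ[R] a) := rfl
    rw [h2, ← h3, ← LinearMap.comp_apply, ← LinearMap.lTensor_comp, LinearMap.range_mkQ_comp,
      LinearMap.lTensor_zero, LinearMap.zero_apply]
  rw [Submodule.mkQ_apply, Submodule.Quotient.mk_eq_zero] at h1
  obtain ⟨x, hx⟩ := h1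
  exact ⟨x, hx⟩

end main

end Groth.Agent.H15.MTC
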