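import Groth.Prelude.Def_CInt
import Mathlib.RingTheory.Regular.RegularSequence
import Mathlib.RingTheory.Jacobson.Ideal
import Mathlib.RingTheory.Nakayama

set_option autoImplicit false
universe u v

open RingTheory.Sequence

namespace Groth.Agent.H15

section Defs

variable {A : Type u} [CommRing A] {n : ℕ} (f : Fin n → A) (M : Type v) [AddCommGroup M] [Module A M]

/-- The map `M^n → M`, `v ↦ ∑ f i • v i`. -/
def sig : (Fin n → M) →ₗ[A] M := ∑ i, f i • (LinearMap.proj i : (Fin n → M) →ₗ[A] M)

theorem sig_apply (v : Fin n → M) : sig f M v = ∑ i, f i • v i := by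
  simp [sig, LinearMap.sum_apply]

/-- The trivial (Koszul) relations. -/
def trivSet : Set (Fin n → M) :=
  {v | ∃ (i j : Fin n) (x : M), v = f j • (Pi.single i x : Fin n → M) - f i • (Pi.single j x : Fin n → M)}

/-- The submodule of `M^n` spanned by the trivial relations. -/
def triv : Submodule A (Fin n → M) := Submodule.span A (trivSet f M)

theorem koszulH1Zero_iff : CInt.KoszulH1Zero f M ↔ LinearMap.ker (sig f M) ≤ triv f M := by
  constructor
  · intro h m hm
    rw [LinearMap.mem_ker, sig_apply] at hm
    exact h m hm
  · intro h m hm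
    have : m ∈ LinearMap.ker (sig f M) := by rw [LinearMap.mem_ker, sig_apply]; exact hm
    exact h this

theorem sig_single (i : Fin n) (x : M) : sig f M (Pi.single i x) = f i • x := by
  classical
  rw [sig_apply, Finset.sum_eq_single i]
  · simp
  · intro j _ hji
    simp [Pi.single_eq_of_ne hji]
  · simp

theorem triv_le_ker : triv f M ≤ LinearMap.ker (sig f M) := by
  rw [triv, Submodule.span_le]
  rintro _ ⟨i, j, x, rfl⟩
  simp only [SetLike.mem_coe, LinearMap.mem_ker, map_sub, map_smul, sig_single]
  rw [smul_smul, smul_smul, mul_comm, sub_self]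

theorem range_sig : LinearMap.range (sig f M) = Ideal.span (Set.range f) • (⊤ : Submodule A M) := by
  apply le_antisymm
  · rintro _ ⟨v, rfl⟩
    rw [sig_apply]
    refine Submodule.sum_mem _ fun i _ => ?_
    exact Submodule.smul_mem_smul (Ideal.subset_span ⟨i, rfl⟩) Submodule.mem_top
  · rw [Submodule.smul_le]
    intro r hr m _
    induction hr using Submodule.span_induction with
    | mem r hr =>
      obtain ⟨i, rfl⟩ := hr
      exact ⟨Pi.single i m, sig_single f M i m⟩
    | zero => rw [zero_smul]; exact Submodule.zero_mem _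
    | add r s _ _ hr hs => rw [add_smul]; exact Submodule.add_mem _ hr hs
    | smul a r _ hr => rw [smul_eq_mul, mul_smul]; exact Submodule.smul_mem _ _ hr

end Defs


section Succ

variable {A : Type u} [CommRing A] {k : ℕ} (f : Fin (k + 1) → A) (M : Type v) [AddCommGroup M]
  [Module A M]

/-- Forget the last coordinate. -/
def initMap : (Fin (k + 1) → M) →ₗ[A] (Fin k → M) := LinearMap.funLeft A M Fin.castSucc

@[simp] theorem initMap_apply (v : Fin (k + 1) → M) (i : Fin k) : initMap (A := A) M v i = v i.castSucc := rfl

/-- Extend by zero in the last coordinate. -/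
def ext0 : (Fin k → M) →ₗ[A] (Fin (k + 1) → M) where
  toFun v := Fin.snoc (α := fun _ => M) v (0 : M)
  map_add' v w := by
    ext i
    refine Fin.lastCases ?_ (fun i => ?_) i <;> simp
  map_smul' a v := by
    ext i
    refine Fin.lastCases ?_ (fun i => ?_) i <;> simp

@[simp] theorem ext0_castSucc (v : Fin k → M) (i : Fin k) : ext0 (A := A) M v i.castSucc = v i := by
  simp [ext0]

@[simp] theorem ext0_last (v : Fin k → M) : ext0 (A := A) M v (Fin.last k) = 0 := by
  simp [ext0]

@[simp] theorem initMap_ext0 (v : Fin k → M) : initMap (A := A) M (ext0 (A := A) M v) = v := by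
  ext i; simp

theorem ext0_initMap (v : Fin (k + 1) → M) (hv : v (Fin.last k) = 0) :
    ext0 (A := A) M (initMap (A := A) M v) = v := by
  ext i
  refine Fin.lastCases ?_ (fun i => ?_) i
  · simp [hv]
  · simp

theorem sig_succ (v : Fin (k + 1) → M) :
    sig f M v = sig (fun i : Fin k => f i.castSucc) M (initMap (A := A) M v) +
      f (Fin.last k) • v (Fin.last k) := by
  rw [sig_apply, sig_apply, Fin.sum_univ_castSucc]
  rfl

theorem sig_ext0 (v : Fin k → M) :
    sig f M (ext0 (A := A) M v) = sig (fun i : Fin k => f i.castSucc) M v := by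
  rw [sig_succ, initMap_ext0, ext0_last, smul_zero, add_zero]

theorem initMap_single_castSucc (i : Fin k) (x : M) :
    initMap (A := A) M (Pi.single i.castSucc x) = Pi.single i x := by
  classical
  ext j
  simp only [initMap_apply, Pi.single_apply, Fin.castSucc_inj]

theorem initMap_single_last (x : M) :
    initMap (A := A) M (Pi.single (Fin.last k) x) = 0 := by
  classical
  ext j
  simp only [initMap_apply, Pi.zero_apply, Pi.single_apply]
  rw [if_neg (Fin.castSucc_lt_last j).ne]

theorem single_castSucc_last (i : Fin k) (x : M) :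
    (Pi.single i.castSucc x : Fin (k + 1) → M) (Fin.last k) = 0 := by
  classical
  simp only [Pi.single_apply]
  rw [if_neg (Fin.castSucc_lt_last i).ne']

theorem ext0_single (i : Fin k) (x : M) :
    ext0 (A := A) M (Pi.single i x) = Pi.single i.castSucc x := by
  classical
  ext j
  refine Fin.lastCases ?_ (fun j => ?_) j
  · rw [ext0_last, single_castSucc_last]
  · rw [ext0_castSucc]
    simp only [Pi.single_apply, Fin.castSucc_inj]

end Succ

end Groth.Agent.H15
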