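import Groth.Agent.H15.Koszul

set_option autoImplicit false
universe u v

open RingTheory.Sequence

namespace Groth.Agent.H15

variable {A : Type u} [CommRing A] {k : ℕ} (f : Fin (k + 1) → A) (M : Type v) [AddCommGroup M]
  [Module A M]

/-- The last coordinate of a trivial relation lies in `(f_0, …, f_{k-1}) M`. -/
theorem triv_le_last : triv f M ≤
    Submodule.comap (LinearMap.proj (Fin.last k) : (Fin (k + 1) → M) →ₗ[A] M)
      (LinearMap.range (sig (fun i : Fin k => f i.castSucc) M)) := by
  classical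
  rw [triv, Submodule.span_le]
  rintro _ ⟨i, j, x, rfl⟩
  simp only [SetLike.mem_coe, Submodule.mem_comap, LinearMap.proj_apply, Pi.sub_apply,
    Pi.smul_apply]
  refine Fin.lastCases ?_ (fun i' => ?_) i <;> refine Fin.lastCases ?_ (fun j' => ?_) j
  · rw [sub_self]; exact Submodule.zero_mem _
  · rw [single_castSucc_last, smul_zero, sub_zero, Pi.single_eq_same]
    exact ⟨Pi.single j' x, sig_single _ M j' x⟩
  · rw [single_castSucc_last, smul_zero, zero_sub, Pi.single_eq_same]
    exact ⟨-Pi.single i' x, by rw [map_neg, sig_single]⟩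
  · rw [single_castSucc_last, single_castSucc_last, smul_zero, smul_zero, sub_zero]
    exact Submodule.zero_mem _

/-- The auxiliary submodule used to descend the vanishing of `H_1`. -/
def auxP : Submodule A (Fin (k + 1) → M) where
  carrier := {v | ∃ τ ∈ triv (fun i : Fin k => f i.castSucc) M, ∃ w : Fin k → M,
    initMap (A := A) M v = τ + f (Fin.last k) • w ∧
      sig (fun i : Fin k => f i.castSucc) M w = - v (Fin.last k)}
  add_mem' := by
    rintro v₁ v₂ ⟨τ₁, hτ₁, w₁, h₁, h₁'⟩ ⟨τ₂, hτ₂, w₂, h₂, h₂'⟩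
    refine ⟨τ₁ + τ₂, Submodule.add_mem _ hτ₁ hτ₂, w₁ + w₂, ?_, ?_⟩
    · rw [map_add, h₁, h₂, smul_add]; abel
    · rw [map_add, h₁', h₂', Pi.add_apply]; abel
  zero_mem' := ⟨0, Submodule.zero_mem _, 0, by simp, by simp⟩
  smul_mem' := by
    rintro a v ⟨τ, hτ, w, h, h'⟩
    refine ⟨a • τ, Submodule.smul_mem _ _ hτ, a • w, ?_, ?_⟩
    · rw [map_smul, h, smul_add, smul_comm]
    · rw [map_smul, h', Pi.smul_apply, smul_neg]

theorem triv_le_auxP : triv f M ≤ auxP f M := by
  classical
  rw [triv, Submodule.span_le]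
  rintro _ ⟨i, j, x, rfl⟩
  refine Fin.lastCases ?_ (fun i' => ?_) i <;> refine Fin.lastCases ?_ (fun j' => ?_) j
  · rw [sub_self]; exact Submodule.zero_mem _
  · refine ⟨0, Submodule.zero_mem _, -Pi.single j' x, ?_, ?_⟩
    · rw [map_sub, map_smul, map_smul, initMap_single_last, initMap_single_castSucc, smul_zero,
        zero_sub, zero_add, smul_neg]
    · rw [map_neg, sig_single, Pi.sub_apply, Pi.smul_apply, Pi.smul_apply, single_castSucc_last,
        smul_zero, sub_zero, Pi.single_eq_same]
  · refine ⟨0, Submodule.zero_mem _, Pi.single i' x, ?_, ?_⟩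
    · rw [map_sub, map_smul, map_smul, initMap_single_last, initMap_single_castSucc, smul_zero,
        sub_zero, zero_add]
    · rw [sig_single, Pi.sub_apply, Pi.smul_apply, Pi.smul_apply, single_castSucc_last,
        smul_zero, zero_sub, Pi.single_eq_same, neg_neg]
  · refine ⟨f j'.castSucc • (Pi.single i' x : Fin k → M) - f i'.castSucc • (Pi.single j' x : Fin k → M),
      Submodule.subset_span ⟨i', j', x, rfl⟩, 0, ?_, ?_⟩
    · rw [map_sub, map_smul, map_smul, initMap_single_castSucc, initMap_single_castSucc, smul_zero,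
        add_zero]
    · rw [map_zero, Pi.sub_apply, Pi.smul_apply, Pi.smul_apply, single_castSucc_last,
        single_castSucc_last, smul_zero, smul_zero, sub_zero, neg_zero]

theorem ext0_triv_le : Submodule.map (ext0 (A := A) M) (triv (fun i : Fin k => f i.castSucc) M) ≤
    triv f M := by
  rw [triv, Submodule.map_span, Submodule.span_le]
  rintro _ ⟨_, ⟨i, j, x, rfl⟩, rfl⟩
  rw [map_sub, map_smul, map_smul, ext0_single, ext0_single]
  exact Submodule.subset_span ⟨i.castSucc, j.castSucc, x, rfl⟩

end Groth.Agent.H15
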