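import Groth.Agent.H15.Koszul2

set_option autoImplicit false
universe u v

open RingTheory.Sequence

namespace Groth.Agent.H15

theorem ofList_ofFn {A : Type u} [CommRing A] {n : ℕ} (f : Fin n → A) :
    Ideal.ofList (List.ofFn f) = Ideal.span (Set.range f) := by
  unfold Ideal.ofList
  congr 1
  ext r
  simp [List.mem_ofFn]

/-- Vanishing of `H_1` of the Koszul complex implies regularity (Noetherian ring, elements in the
radical, finite module). -/
theorem isWeaklyRegular_of_koszulH1Zero {A : Type u} [CommRing A] [IsNoetherianRing A] :
    ∀ {n : ℕ} (f : Fin n → A), (∀ i, f i ∈ (⊥ : Ideal A).jacobson) →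
      ∀ (M : Type v) [AddCommGroup M] [Module A M] [Module.Finite A M],
        CInt.KoszulH1Zero f M → IsWeaklyRegular M (List.ofFn f) := by
  intro n
  induction n with
  | zero =>
    intro f _ M _ _ _ _
    rw [List.ofFn_zero]
    exact IsWeaklyRegular.nil A M
  | succ k ih =>
    intro f hrad M _ _ _ h
    have hker : LinearMap.ker (sig f M) ≤ triv f M := (koszulH1Zero_iff f M).mp h
    -- vanishing of H_1 for the truncated sequence
    have hA1 : LinearMap.ker (sig (fun i : Fin k => f i.castSucc) M) ≤
        triv (fun i : Fin k => f i.castSucc) M := by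
      apply Submodule.le_of_le_smul_of_le_jacobson_bot (I := Ideal.span {f (Fin.last k)})
      · exact IsNoetherian.noetherian _
      · rw [Ideal.span_le]
        intro x hx
        rw [Set.mem_singleton_iff] at hx
        rw [hx]
        exact hrad _
      · intro m' hm'
        have hmem : ext0 (A := A) M m' ∈ LinearMap.ker (sig f M) := by
          rw [LinearMap.mem_ker, sig_ext0]
          exact hm'
        obtain ⟨τ, hτ, w, h1, h2⟩ := triv_le_auxP f M (hker hmem)
        rw [initMap_ext0] at h1
        rw [ext0_last, neg_zero] at h2
        rw [h1]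
        exact Submodule.add_mem_sup hτ
          (Submodule.smul_mem_smul (Ideal.mem_span_singleton_self _) (LinearMap.mem_ker.mpr h2))
    have hA2 : IsWeaklyRegular M (List.ofFn fun i : Fin k => f i.castSucc) :=
      ih (fun i : Fin k => f i.castSucc) (fun i => hrad _) M
        ((koszulH1Zero_iff _ M).mpr hA1)
    have hA3 : IsSMulRegular
        (M ⧸ (Ideal.ofList (List.ofFn fun i : Fin k => f i.castSucc) • ⊤ : Submodule A M))
        (f (Fin.last k)) := by
      rw [isSMulRegular_quotient_iff_mem_of_smul_mem, ofList_ofFn, ← range_sig]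
      rintro m ⟨u, hu⟩
      have hv : ext0 (A := A) M (-u) + Pi.single (Fin.last k) m ∈ LinearMap.ker (sig f M) := by
        rw [LinearMap.mem_ker, map_add, sig_ext0, map_neg, hu, sig_single, neg_add_cancel]
      have := triv_le_last f M (hker hv)
      simpa using this
    rw [List.ofFn_succ', List.concat_eq_append]
    exact (isWeaklyRegular_append_iff M _ _).mpr
      ⟨hA2, (isWeaklyRegular_singleton_iff _ _).mpr hA3⟩

/-- Conversely a weakly regular sequence has vanishing `H_1`. -/
theorem koszulH1Zero_of_isWeaklyRegular {A : Type u} [CommRing A] :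
    ∀ {n : ℕ} (f : Fin n → A) (M : Type v) [AddCommGroup M] [Module A M],
      IsWeaklyRegular M (List.ofFn f) → CInt.KoszulH1Zero f M := by
  intro n
  induction n with
  | zero =>
    intro f M _ _ _
    rw [koszulH1Zero_iff]
    intro v _
    have : v = 0 := Subsingleton.elim _ _
    rw [this]
    exact Submodule.zero_mem _
  | succ k ih =>
    intro f M _ _ h
    rw [List.ofFn_succ', List.concat_eq_append, isWeaklyRegular_append_iff,
      isWeaklyRegular_singleton_iff, isSMulRegular_quotient_iff_mem_of_smul_mem, ofList_ofFn,
      ← range_sig] at h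
    obtain ⟨h1, h2⟩ := h
    have hih : LinearMap.ker (sig (fun i : Fin k => f i.castSucc) M) ≤
        triv (fun i : Fin k => f i.castSucc) M := (koszulH1Zero_iff _ M).mp (ih _ M h1)
    rw [koszulH1Zero_iff]
    intro v hv
    have hv' := hv
    rw [LinearMap.mem_ker, sig_succ] at hv'
    -- the last coordinate lies in the ideal generated by the others
    have hlast : v (Fin.last k) ∈ LinearMap.range (sig (fun i : Fin k => f i.castSucc) M) := by
      apply h2
      refine ⟨-initMap (A := A) M v, ?_⟩
      rw [map_neg, eq_neg_of_add_eq_zero_left hv', neg_neg]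
    obtain ⟨y, hy⟩ := hlast
    -- the correcting sum of trivial relations
    let s : Fin (k + 1) → M := ∑ i : Fin k,
      (f (Fin.last k) • (Pi.single i.castSucc (y i) : Fin (k + 1) → M) -
        f i.castSucc • (Pi.single (Fin.last k) (y i) : Fin (k + 1) → M))
    have hs : s ∈ triv f M := by
      refine Submodule.sum_mem _ fun i _ => ?_
      exact Submodule.subset_span ⟨i.castSucc, Fin.last k, y i, rfl⟩
    have hslast : s (Fin.last k) = - v (Fin.last k) := by
      simp only [s, Finset.sum_apply, Pi.sub_apply, Pi.smul_apply, single_castSucc_last, smul_zero,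
        zero_sub, Pi.single_eq_same, Finset.sum_neg_distrib]
      rw [← hy, sig_apply]
    have hvs : v + s ∈ LinearMap.ker (sig f M) :=
      Submodule.add_mem _ hv (triv_le_ker f M hs)
    have hvs0 : (v + s) (Fin.last k) = 0 := by
      rw [Pi.add_apply, hslast, add_neg_cancel]
    have hinit : initMap (A := A) M (v + s) ∈
        LinearMap.ker (sig (fun i : Fin k => f i.castSucc) M) := by
      rw [LinearMap.mem_ker] at hvs ⊢
      rw [sig_succ, hvs0, smul_zero, add_zero] at hvs
      exact hvs
    have hmem : v + s ∈ triv f M := by
      rw [← ext0_initMap (A := A) M (v + s) hvs0]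
      exact ext0_triv_le f M ⟨_, hih hinit, rfl⟩
    have : v = (v + s) - s := by abel
    rw [this]
    exact Submodule.sub_mem _ hmem hs

end Groth.Agent.H15
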