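import Mathlib

/-!
# Pencils of linear maps: a semistable square pencil has an invertible member

If `f0 f1 : V → W` between spaces of the same finite dimension over an infinite field satisfy
`dim V' ≤ dim (f0 V' + f1 V')` for all subspaces `V'`, then some `a f0 + b f1` is bijective.
-/

namespace Groth.Agent.H15.Kron

open Module

variable {K : Type*} [Field K]

section Dim

variable {V : Type*} [AddCommGroup V] [Module K V] [FiniteDimensional K V]

lemma finrank_map_mkQ_add {N V' : Submodule K V} (h : N ≤ V') :
    finrank K (V'.map N.mkQ) + finrank K N = finrank K V' := by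
  have h1 := LinearMap.finrank_range_add_finrank_ker (N.mkQ.comp V'.subtype)
  have h2 : LinearMap.range (N.mkQ.comp V'.subtype) = V'.map N.mkQ := by
    rw [LinearMap.range_comp, Submodule.range_subtype]
  have h3 : finrank K (LinearMap.ker (N.mkQ.comp V'.subtype)) = finrank K N := by
    rw [LinearMap.ker_comp, Submodule.ker_mkQ]
    exact (Submodule.comapSubtypeEquivOfLe h).finrank_eq
  rw [h2, h3] at h1
  exact h1

end Dim

section Perturb

variable {V W : Type*} [AddCommGroup V] [Module K V] [FiniteDimensional K V]
  [AddCommGroup W] [Module K W]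

/-- If some member of the pencil is bijective, then (over an infinite field) there is a bijective
member `a g0 + b g1` with `b ≠ 0`. -/
lemma exists_bijective_ne_zero [Infinite K] (g0 g1 : V →ₗ[K] W) (a b : K)
    (h : Function.Bijective (a • g0 + b • g1 : V →ₗ[K] W)) :
    ∃ a' b' : K, b' ≠ 0 ∧ Function.Bijective (a' • g0 + b' • g1 : V →ₗ[K] W) := by
  by_cases hb : b = 0
  swap
  · exact ⟨a, b, hb, h⟩
  subst hb
  let hE : V ≃ₗ[K] W := LinearEquiv.ofBijective (a • g0 + (0 : K) • g1) h
  let e : Module.End K V := hE.symm.toLinearMap ∘ₗ g1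
  have hfin : (spectrum K e ∪ {0}).Finite := (Module.End.finite_spectrum e).union (Set.finite_singleton 0)
  obtain ⟨μ, hμ⟩ := hfin.exists_notMem
  have hμ0 : μ ≠ 0 := fun h0 => hμ (Or.inr (by simpa using h0))
  have hμs : μ ∉ spectrum K e := fun hs => hμ (Or.inl hs)
  rw [spectrum.notMem_iff] at hμs
  have hbij : Function.Bijective (algebraMap K (Module.End K V) μ - e) :=
    (Module.End.isUnit_iff _).mp hμs
  refine ⟨a, -μ⁻¹, by simpa using hμ0, ?_⟩
  have hcomp : (a • g0 + (-μ⁻¹) • g1 : V →ₗ[K] W) =
      (-μ⁻¹) • (hE.toLinearMap ∘ₗ (e - algebraMap K (Module.End K V) μ)) := by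
    ext v
    have h1 : hE (e v) = g1 v := by simp [e]
    have h2 : hE v = a • g0 v := by simp [hE]
    simp only [LinearMap.add_apply, LinearMap.smul_apply, LinearMap.coe_comp, LinearEquiv.coe_coe,
      Function.comp_apply, LinearMap.sub_apply, map_sub, h1, Module.algebraMap_end_apply,
      map_smul, h2, smul_sub, smul_smul]
    rw [show -μ⁻¹ * (μ * a) = -a by field_simp]
    simp only [neg_smul, sub_neg_eq_add]
    abel
  rw [hcomp]
  have hbij' : Function.Bijective (e - algebraMap K (Module.End K V) μ) := by
    have : (e - algebraMap K (Module.End K V) μ) = -(algebraMap K (Module.End K V) μ - e) := by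
      simp
    rw [this]
    exact ⟨neg_injective.comp hbij.1, neg_surjective.comp hbij.2⟩
  have hne : (-μ⁻¹ : K) ≠ 0 := by simpa using hμ0
  constructor
  · intro x y hxy
    simp only [LinearMap.smul_apply, LinearMap.coe_comp, LinearEquiv.coe_coe,
      Function.comp_apply] at hxy
    exact hbij'.1 (hE.injective (smul_right_injective W hne hxy))
  · intro w
    obtain ⟨v, hv⟩ := hbij'.2 (hE.symm ((-μ⁻¹)⁻¹ • w))
    refine ⟨v, ?_⟩
    simp only [LinearMap.smul_apply, LinearMap.coe_comp, LinearEquiv.coe_coe,
      Function.comp_apply, hv, LinearEquiv.apply_symm_apply, smul_smul, mul_inv_cancel₀ hne,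
      one_smul]

end Perturb

section Main

universe v w

/-- The semistability property used in the induction. -/
def SS {V : Type v} {W : Type w} [AddCommGroup V] [Module K V] [AddCommGroup W] [Module K W]
    (f0 f1 : V →ₗ[K] W) : Prop :=
  ∀ V' : Submodule K V, finrank K V' ≤ finrank K ↥(V'.map f0 ⊔ V'.map f1)

theorem exists_bijective [Infinite K] (k : ℕ) :
    ∀ (V : Type v) (W : Type w) [AddCommGroup V] [Module K V] [FiniteDimensional K V]
      [AddCommGroup W] [Module K W] [FiniteDimensional K W] (f0 f1 : V →ₗ[K] W),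
      finrank K V = k → finrank K W = k → SS f0 f1 →
      ∃ a b : K, Function.Bijective (a • f0 + b • f1 : V →ₗ[K] W) := by
  induction k with
  | zero =>
    intro V W _ _ _ _ _ _ f0 f1 hV hW _
    have : Subsingleton V := Module.finrank_zero_iff.mp hV
    have : Subsingleton W := Module.finrank_zero_iff.mp hW
    exact ⟨0, 0, fun x y _ => Subsingleton.elim _ _, fun w => ⟨0, Subsingleton.elim _ _⟩⟩
  | succ k ih =>
    intro V W _ _ _ _ _ _ f0 f1 hV hW hss
    by_cases hinj : Function.Injective f0
    · refine ⟨1, 0, ?_⟩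
      have : (1 : K) • f0 + (0 : K) • f1 = f0 := by simp
      rw [this]
      exact ⟨hinj, (LinearMap.injective_iff_surjective_of_finrank_eq_finrank
        (hV.trans hW.symm)).mp hinj⟩
    -- a kernel vector
    obtain ⟨v0, hv0, hv0ne⟩ : ∃ v0, f0 v0 = 0 ∧ v0 ≠ 0 := by
      rw [← LinearMap.ker_eq_bot, Submodule.eq_bot_iff] at hinj
      push Not at hinj
      obtain ⟨v0, h1, h2⟩ := hinj
      exact ⟨v0, h1, h2⟩
    set w0 := f1 v0 with hw0
    have hw0ne : w0 ≠ 0 := by
      intro h0
      have := hss (K ∙ v0)
      rw [finrank_span_singleton hv0ne, Submodule.map_span, Submodule.map_span,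
        Set.image_singleton, Set.image_singleton, hv0, ← hw0, h0] at this
      simp at this
    set NV : Submodule K V := K ∙ v0
    set NW : Submodule K W := K ∙ w0
    have hle0 : NV ≤ NW.comap f0 := by
      rw [Submodule.span_singleton_le_iff_mem, Submodule.mem_comap, hv0]
      exact NW.zero_mem
    have hle1 : NV ≤ NW.comap f1 := by
      rw [Submodule.span_singleton_le_iff_mem, Submodule.mem_comap]
      exact Submodule.mem_span_singleton_self _
    set g0 : (V ⧸ NV) →ₗ[K] (W ⧸ NW) := NV.mapQ NW f0 hle0
    set g1 : (V ⧸ NV) →ₗ[K] (W ⧸ NW) := NV.mapQ NW f1 hle1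
    have hNV : finrank K NV = 1 := finrank_span_singleton hv0ne
    have hNW : finrank K NW = 1 := finrank_span_singleton hw0ne
    have hV' : finrank K (V ⧸ NV) = k := by
      have := Submodule.finrank_quotient_add_finrank NV
      omega
    have hW' : finrank K (W ⧸ NW) = k := by
      have := Submodule.finrank_quotient_add_finrank NW
      omega
    have hss' : SS g0 g1 := by
      intro Vb
      set V' : Submodule K V := Vb.comap NV.mkQ with hV'def
      have hVb : V'.map NV.mkQ = Vb :=
        Submodule.map_comap_eq_of_surjective (Submodule.mkQ_surjective NV) Vb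
      have hNV' : NV ≤ V' := by
        have : LinearMap.ker NV.mkQ ≤ V' := LinearMap.ker_le_comap _
        rwa [Submodule.ker_mkQ] at this
      have e1 := finrank_map_mkQ_add hNV'
      rw [hVb, hNV] at e1
      set W' : Submodule K W := V'.map f0 ⊔ V'.map f1 with hW'def
      have hNW' : NW ≤ W' := by
        rw [Submodule.span_singleton_le_iff_mem]
        refine Submodule.mem_sup_right ?_
        exact ⟨v0, hNV' (Submodule.mem_span_singleton_self _), rfl⟩
      have e2 := finrank_map_mkQ_add hNW'
      rw [hNW] at e2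
      have e3 : Vb.map g0 ⊔ Vb.map g1 = W'.map NW.mkQ := by
        rw [hW'def, Submodule.map_sup, ← hVb, ← Submodule.map_comp, ← Submodule.map_comp,
          ← Submodule.map_comp, ← Submodule.map_comp]
        congr 2
      have e4 : finrank K V' ≤ finrank K W' := hss V'
      rw [e3]
      omega
    obtain ⟨a, b, hab⟩ := ih (V ⧸ NV) (W ⧸ NW) g0 g1 hV' hW' hss'
    obtain ⟨a', b', hb', hab'⟩ := exists_bijective_ne_zero g0 g1 a b hab
    refine ⟨a', b', ?_⟩
    have hinj' : Function.Injective (a' • f0 + b' • f1 : V →ₗ[K] W) := by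
      rw [← LinearMap.ker_eq_bot, Submodule.eq_bot_iff]
      intro v hv
      rw [LinearMap.mem_ker] at hv
      have h1 : (a' • g0 + b' • g1) (NV.mkQ v) = 0 := by
        have : (a' • g0 + b' • g1) (NV.mkQ v) = NW.mkQ ((a' • f0 + b' • f1) v) := by
          simp [g0, g1]
        rw [this, hv, map_zero]
      have h2 : NV.mkQ v = 0 := hab'.1 (h1.trans (map_zero _).symm)
      rw [Submodule.mkQ_apply, Submodule.Quotient.mk_eq_zero, Submodule.mem_span_singleton] at h2
      obtain ⟨c, rfl⟩ := h2
      have h3 : (c * b') • w0 = 0 := by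
        have : (a' • f0 + b' • f1) (c • v0) = (c * b') • w0 := by
          simp [hv0, hw0, smul_smul, mul_comm]
        rw [← this, hv]
      rcases smul_eq_zero.mp h3 with h4 | h4
      · rcases mul_eq_zero.mp h4 with h5 | h5
        · rw [h5, zero_smul]
        · exact absurd h5 hb'
      · exact absurd h4 hw0ne
    exact ⟨hinj', (LinearMap.injective_iff_surjective_of_finrank_eq_finrank
      (hV.trans hW.symm)).mp hinj'⟩

end Main

end Groth.Agent.H15.Kron
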