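import Mathlib

/-!
# Lattices in `R⟦X⟧ ^ n`

For an `R⟦X⟧`-submodule `Λ` of `R⟦X⟧ ^ n` containing `X ^ M • R⟦X⟧ ^ n`: `Λ` is finitely generated
projective over `R⟦X⟧` iff the quotient `R⟦X⟧ ^ n ⧸ Λ` is projective over `R`.
-/

set_option linter.style.haveILetI false
set_option linter.unusedSectionVars false

namespace Groth.Agent.H15.Lattice

open PowerSeries TensorProduct
open scoped Pointwise

universe u

section PLin

variable {R : Type*} [CommRing R]

/-- one-step shift of a power series -/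
noncomputable def shift1 (p : R⟦X⟧) : R⟦X⟧ := PowerSeries.mk fun i => coeff (i + 1) p

lemma eq_X_mul_shift1 (p : R⟦X⟧) : p = X * shift1 p + C (constantCoeff p) :=
  eq_X_mul_shift_add_const p

variable {Q W : Type*} [AddCommGroup Q] [Module R⟦X⟧ Q] [Module R Q] [IsScalarTower R R⟦X⟧ Q]
  [AddCommGroup W] [Module R⟦X⟧ W] [Module R W] [IsScalarTower R R⟦X⟧ W]

lemma C_smul' (c : R) (y : Q) : (C c : R⟦X⟧) • y = c • y := by
  rw [← algebraMap_smul R⟦X⟧ c y]
  rfl

/-- An `R`-linear map between `R⟦X⟧`-modules, the target killed by `X ^ M`, which commutes with `X`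
is `R⟦X⟧`-linear. -/
theorem map_smul_of_map_X_smul (M : ℕ) (hW : ∀ w : W, (X : R⟦X⟧) ^ M • w = 0)
    (ν : Q →ₗ[R] W) (hν : ∀ q, ν ((X : R⟦X⟧) • q) = (X : R⟦X⟧) • ν q) (p : R⟦X⟧) (q : Q) :
    ν (p • q) = p • ν q := by
  have step : ∀ (p : R⟦X⟧) (q : Q), ν (p • q) - p • ν q =
      (X : R⟦X⟧) • (ν (shift1 p • q) - shift1 p • ν q) := by
    intro p q
    have h1 : p • q = (X : R⟦X⟧) • (shift1 p • q) + (constantCoeff p) • q := by
      conv_lhs => rw [eq_X_mul_shift1 p]
      rw [add_smul, mul_smul, C_smul']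
    have h2 : p • ν q = (X : R⟦X⟧) • (shift1 p • ν q) + (constantCoeff p) • ν q := by
      conv_lhs => rw [eq_X_mul_shift1 p]
      rw [add_smul, mul_smul, C_smul']
    rw [h1, h2, map_add, hν, ν.map_smul, smul_sub]
    abel
  have iter : ∀ (j : ℕ) (p : R⟦X⟧) (q : Q), ∃ p' : R⟦X⟧,
      ν (p • q) - p • ν q = (X : R⟦X⟧) ^ j • (ν (p' • q) - p' • ν q) := by
    intro j
    induction j with
    | zero => intro p q; exact ⟨p, by simp⟩
    | succ j ih =>
      intro p q
      obtain ⟨p', h⟩ := ih p q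
      refine ⟨shift1 p', ?_⟩
      rw [h, step p' q, pow_succ, mul_smul]
  obtain ⟨p', h⟩ := iter M p q
  rw [hW] at h
  exact sub_eq_zero.mp h

/-- An `R`-submodule of an `R⟦X⟧`-module stable under `X` and containing `X ^ M • F` is stable under
`R⟦X⟧`. -/
theorem smul_mem_of_X_smul_mem (M : ℕ) (N : Submodule R Q)
    (hX : ∀ v ∈ N, (X : R⟦X⟧) • v ∈ N) (hM : ∀ v : Q, (X : R⟦X⟧) ^ M • v ∈ N)
    (p : R⟦X⟧) (v : Q) (hv : v ∈ N) : p • v ∈ N := by
  have hXj : ∀ (j : ℕ), ∀ v ∈ N, (X : R⟦X⟧) ^ j • v ∈ N := by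
    intro j
    induction j with
    | zero => intro v hv; simpa using hv
    | succ j ih => intro v hv; rw [pow_succ, mul_smul]; exact ih _ (hX v hv)
  have iter : ∀ (j : ℕ) (p : R⟦X⟧), ∃ p' : R⟦X⟧, p • v - (X : R⟦X⟧) ^ j • (p' • v) ∈ N := by
    intro j
    induction j with
    | zero => intro p; exact ⟨p, by simp⟩
    | succ j ih =>
      intro p
      obtain ⟨p', h⟩ := ih p
      refine ⟨shift1 p', ?_⟩
      have h1 : p' • v = (X : R⟦X⟧) • (shift1 p' • v) + (constantCoeff p') • v := by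
        conv_lhs => rw [eq_X_mul_shift1 p']
        rw [add_smul, mul_smul, C_smul']
      have e : p • v - (X : R⟦X⟧) ^ (j + 1) • (shift1 p' • v) =
          (p • v - (X : R⟦X⟧) ^ j • (p' • v)) + (constantCoeff p') • ((X : R⟦X⟧) ^ j • v) := by
        rw [h1, smul_add, pow_succ, mul_smul, smul_comm ((X : R⟦X⟧) ^ j) (constantCoeff p') v]
        abel
      rw [e]
      exact N.add_mem h (N.smul_mem _ (hXj j v hv))
  obtain ⟨p', h⟩ := iter M p
  have := N.add_mem h (hM (p' • v))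
  simpa using this

end PLin

section Coords

variable {R : Type*} [CommRing R] (n M : ℕ)

/-- truncation `R⟦X⟧ ^ n → R ^ (n × M)` -/
noncomputable def tau : (Fin n → R⟦X⟧) →ₗ[R] (Fin n → Fin M → R) where
  toFun v := fun i j => coeff (j : ℕ) (v i)
  map_add' v w := by funext i j; simp
  map_smul' c v := by funext i j; simp

/-- inclusion `R ^ (n × M) → R⟦X⟧ ^ n` of the polynomials of degree `< M` -/
noncomputable def iota : (Fin n → Fin M → R) →ₗ[R] (Fin n → R⟦X⟧) where
  toFun c := fun i => PowerSeries.mk fun k => if h : k < M then c i ⟨k, h⟩ else 0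
  map_add' c d := by
    funext i; ext k
    by_cases h : k < M <;> simp [h]
  map_smul' a c := by
    funext i; ext k
    by_cases h : k < M <;> simp [h]

/-- shift down by `M` -/
noncomputable def sh : (Fin n → R⟦X⟧) →ₗ[R] (Fin n → R⟦X⟧) where
  toFun v := fun i => PowerSeries.mk fun k => coeff (k + M) (v i)
  map_add' v w := by funext i; ext k; simp
  map_smul' c v := by funext i; ext k; simp

variable {n M}

lemma tau_iota (c : Fin n → Fin M → R) : tau n M (iota n M c) = c := by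
  funext i j
  simp [tau, iota]

lemma tau_X_pow_smul (w : Fin n → R⟦X⟧) : tau n M ((X : R⟦X⟧) ^ M • w) = 0 := by
  funext i j
  simp only [tau, LinearMap.coe_mk, AddHom.coe_mk, Pi.smul_apply, smul_eq_mul, Pi.zero_apply]
  rw [coeff_X_pow_mul']
  simp [not_le.mpr j.isLt]

lemma sh_X_pow_smul (w : Fin n → R⟦X⟧) : sh n M ((X : R⟦X⟧) ^ M • w) = w := by
  funext i
  ext k
  simp only [sh, LinearMap.coe_mk, AddHom.coe_mk, Pi.smul_apply, smul_eq_mul, coeff_mk]
  rw [coeff_X_pow_mul']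
  simp

lemma decomp (v : Fin n → R⟦X⟧) : v = iota n M (tau n M v) + (X : R⟦X⟧) ^ M • sh n M v := by
  funext i
  ext k
  simp only [iota, tau, sh, LinearMap.coe_mk, AddHom.coe_mk, Pi.add_apply, Pi.smul_apply,
    smul_eq_mul, map_add, coeff_mk]
  rw [coeff_X_pow_mul']
  by_cases h : k < M
  · simp [h, not_le.mpr h]
  · have h' : M ≤ k := not_lt.mp h
    simp [h, h', Nat.sub_add_cancel h']

end Coords

section FlatCrit

variable {R : Type*} [CommRing R] {L : Type*} [AddCommGroup L] [Module R L]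
  {Q : Type*} [AddCommGroup Q] [Module R Q]

lemma lid_rTensor_mem' (I : Ideal R) (y : I ⊗[R] L) :
    TensorProduct.lid R L (LinearMap.rTensor L I.subtype y) ∈ I • (⊤ : Submodule R L) := by
  induction y using TensorProduct.induction_on with
  | zero => simp
  | tmul a t =>
    simp only [LinearMap.rTensor_tmul, Submodule.subtype_apply, TensorProduct.lid_tmul]
    exact Submodule.smul_mem_smul a.2 trivial
  | add x y hx hy => rw [map_add, map_add]; exact Submodule.add_mem _ hx hy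

/-- A quotient `L/K` of a flat module is flat as soon as `K ∩ 𝔞L = 𝔞K` for all ideals `𝔞`. -/
theorem flat_of_surjective_of_forall_mem [Module.Flat R L] (ρ : L →ₗ[R] Q)
    (hρ : Function.Surjective ρ)
    (h : ∀ (𝔞 : Ideal R) (c : L), ρ c = 0 → c ∈ 𝔞 • (⊤ : Submodule R L) →
      c ∈ 𝔞 • LinearMap.ker ρ) : Module.Flat R Q := by
  rw [Module.Flat.iff_rTensor_injective']
  intro I
  rw [injective_iff_map_eq_zero]
  intro x hx
  obtain ⟨y, rfl⟩ := LinearMap.lTensor_surjective I hρ x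
  have h1 : LinearMap.rTensor Q I.subtype (LinearMap.lTensor I ρ y) =
      LinearMap.lTensor R ρ (LinearMap.rTensor L I.subtype y) := by
    rw [← LinearMap.comp_apply, ← LinearMap.comp_apply, LinearMap.rTensor_comp_lTensor,
      LinearMap.lTensor_comp_rTensor]
  rw [h1] at hx
  have h2 : ρ (TensorProduct.lid R L (LinearMap.rTensor L I.subtype y)) = 0 := by
    have := congrArg (TensorProduct.lid R Q) hx
    rw [map_zero] at this
    rw [← this]
    generalize LinearMap.rTensor L I.subtype y = w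
    induction w using TensorProduct.induction_on with
    | zero => simp
    | tmul a t => simp
    | add x y hx hy => simp only [map_add, hx, hy]
  have h3 := h I _ h2 (lid_rTensor_mem' I y)
  let K := LinearMap.ker ρ
  obtain ⟨y', hy'⟩ : ∃ y' : I ⊗[R] K, TensorProduct.lid R L (LinearMap.rTensor L I.subtype
      (LinearMap.lTensor I K.subtype y')) =
      TensorProduct.lid R L (LinearMap.rTensor L I.subtype y) := by
    refine Submodule.smul_induction_on h3 ?_ ?_
    · intro a ha k hk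
      exact ⟨(⟨a, ha⟩ : I) ⊗ₜ[R] (⟨k, hk⟩ : K), by simp⟩
    · rintro x y ⟨x', hx'⟩ ⟨y', hy'⟩
      exact ⟨x' + y', by rw [map_add, map_add, map_add, hx', hy']⟩
  have hinj : Function.Injective (LinearMap.rTensor L I.subtype) :=
    (Module.Flat.iff_rTensor_injective'.mp inferInstance) I
  have h4 : y = LinearMap.lTensor I K.subtype y' := by
    apply hinj
    apply (TensorProduct.lid R L).injective
    exact hy'.symm
  rw [h4, ← LinearMap.comp_apply, ← LinearMap.lTensor_comp]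
  have : ρ ∘ₗ K.subtype = 0 := by
    ext t
    exact t.2
  rw [this, LinearMap.lTensor_zero, LinearMap.zero_apply]

end FlatCrit

section Forward

variable {R : Type u} [CommRing R] {n M : ℕ}

lemma mem_smul_top_of_X_pow_smul_mem {m : ℕ} (𝔞 : Ideal R) (v : Fin m → R⟦X⟧)
    (h : (X : R⟦X⟧) ^ M • v ∈ 𝔞 • (⊤ : Submodule R (Fin m → R⟦X⟧))) :
    v ∈ 𝔞 • (⊤ : Submodule R (Fin m → R⟦X⟧)) := by
  have := Submodule.mem_map_of_mem (f := sh m M) h
  rw [Submodule.map_smul'', sh_X_pow_smul] at this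
  exact Submodule.smul_mono le_rfl le_top this

variable (Λ : Submodule R⟦X⟧ (Fin n → R⟦X⟧))
  (hΛ : ∀ v : Fin n → R⟦X⟧, ((X : R⟦X⟧) ^ M) • v ∈ Λ)

/-- multiplication by `X ^ M`, as an `R`-linear map into the lattice -/
noncomputable def mulX : (Fin n → R⟦X⟧) →ₗ[R] Λ where
  toFun v := ⟨(X : R⟦X⟧) ^ M • v, hΛ v⟩
  map_add' _ _ := Subtype.ext (smul_add _ _ _)
  map_smul' _ _ := Subtype.ext (smul_comm _ _ _)

include hΛ in
theorem mem_smul_top_lattice [Module.Finite R⟦X⟧ Λ] [Module.Projective R⟦X⟧ Λ] (𝔞 : Ideal R)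
    (x : Λ) (hx : (x : Fin n → R⟦X⟧) ∈ 𝔞 • (⊤ : Submodule R (Fin n → R⟦X⟧))) :
    x ∈ 𝔞 • (⊤ : Submodule R Λ) := by
  obtain ⟨m, f, hf⟩ := Module.Finite.exists_fin' R⟦X⟧ Λ
  obtain ⟨g, hg⟩ := Module.projective_lifting_property f LinearMap.id hf
  have h1 : mulX Λ hΛ (x : Fin n → R⟦X⟧) ∈ 𝔞 • (⊤ : Submodule R Λ) := by
    have := Submodule.mem_map_of_mem (f := mulX Λ hΛ) hx
    rw [Submodule.map_smul''] at this
    exact Submodule.smul_mono le_rfl le_top this
  have h2 : mulX Λ hΛ (x : Fin n → R⟦X⟧) = (X : R⟦X⟧) ^ M • x := Subtype.ext rfl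
  rw [h2] at h1
  have h3 : (X : R⟦X⟧) ^ M • g x ∈ 𝔞 • (⊤ : Submodule R (Fin m → R⟦X⟧)) := by
    have := Submodule.mem_map_of_mem (f := g.restrictScalars R) h1
    rw [Submodule.map_smul''] at this
    have h' := Submodule.smul_mono (le_refl 𝔞)
      (le_top : Submodule.map (g.restrictScalars R) ⊤ ≤ ⊤) this
    rwa [LinearMap.restrictScalars_apply, map_smul] at h'
  have h4 := mem_smul_top_of_X_pow_smul_mem 𝔞 (g x) h3
  have h5 : f (g x) ∈ 𝔞 • (⊤ : Submodule R Λ) := by
    have := Submodule.mem_map_of_mem (f := f.restrictScalars R) h4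
    rw [Submodule.map_smul''] at this
    exact Submodule.smul_mono (le_refl 𝔞)
      (le_top : Submodule.map (f.restrictScalars R) ⊤ ≤ ⊤) this
  have h6 : f (g x) = x := by
    have := congrArg (fun φ => φ x) hg
    simpa using this
  rwa [h6] at h5

/-- truncation on the lattice -/
noncomputable def theta : Λ →ₗ[R] (Fin n → Fin M → R) :=
  (tau n M) ∘ₗ (Λ.subtype.restrictScalars R)

/-- the presentation `R ^ (n × M) → F ⧸ Λ` -/
noncomputable def rho : (Fin n → Fin M → R) →ₗ[R] ((Fin n → R⟦X⟧) ⧸ Λ) :=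
  (Λ.mkQ.restrictScalars R) ∘ₗ (iota n M)

lemma rho_eq_zero_iff (c : Fin n → Fin M → R) : rho Λ c = 0 ↔ iota n M c ∈ Λ := by
  change Submodule.Quotient.mk (iota n M c) = 0 ↔ _
  rw [Submodule.Quotient.mk_eq_zero]

include hΛ in
lemma iota_tau_sub_mem (v : Fin n → R⟦X⟧) : iota n M (tau n M v) - v ∈ Λ := by
  have e := decomp (M := M) v
  have e2 : iota n M (tau n M v) - v = -((X : R⟦X⟧) ^ M • sh n M v) := by
    nth_rewrite 2 [e]
    abel
  rw [e2]
  exact Λ.neg_mem (hΛ _)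

include hΛ in
lemma rho_surjective : Function.Surjective (rho (M := M) Λ) := by
  intro q
  obtain ⟨v, rfl⟩ := Submodule.Quotient.mk_surjective _ q
  refine ⟨tau n M v, ?_⟩
  change Submodule.Quotient.mk (iota n M (tau n M v)) = Submodule.Quotient.mk v
  rw [Submodule.Quotient.eq]
  exact iota_tau_sub_mem Λ hΛ v

include hΛ in
lemma rho_theta (x : Λ) : rho Λ (theta (M := M) Λ x) = 0 := by
  rw [rho_eq_zero_iff]
  have h := iota_tau_sub_mem Λ hΛ (x : Fin n → R⟦X⟧)
  have : iota n M (tau n M (x : Fin n → R⟦X⟧)) =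
      (iota n M (tau n M (x : Fin n → R⟦X⟧)) - x) + x := by abel
  change iota n M (tau n M (x : Fin n → R⟦X⟧)) ∈ Λ
  rw [this]
  exact Λ.add_mem h x.2

lemma theta_mk (c : Fin n → Fin M → R) (h : iota n M c ∈ Λ) :
    theta Λ (⟨iota n M c, h⟩ : Λ) = c := tau_iota c

include hΛ in
lemma ker_rho_eq : LinearMap.ker (rho (M := M) Λ) = Submodule.map (theta Λ) ⊤ := by
  apply le_antisymm
  · intro c hc
    rw [LinearMap.mem_ker, rho_eq_zero_iff] at hc
    exact ⟨⟨iota n M c, hc⟩, trivial, theta_mk Λ c hc⟩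
  · rintro _ ⟨x, -, rfl⟩
    exact rho_theta Λ hΛ x

lemma theta_X_pow_smul (y : Λ) : theta (M := M) Λ ((X : R⟦X⟧) ^ M • y) = 0 := by
  change tau n M ((X : R⟦X⟧) ^ M • (y : Fin n → R⟦X⟧)) = 0
  exact tau_X_pow_smul _

include hΛ in
lemma ker_rho_fg [Module.Finite R⟦X⟧ Λ] : (LinearMap.ker (rho (M := M) Λ)).FG := by
  classical
  obtain ⟨S, hS⟩ := (Module.Finite.fg_top : (⊤ : Submodule R⟦X⟧ Λ).FG)
  let T : Finset Λ := (Finset.range M ×ˢ S).image (fun js => (X : R⟦X⟧) ^ js.1 • js.2)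
  let B : Submodule R Λ := ((X : R⟦X⟧) ^ M • (⊤ : Submodule R⟦X⟧ Λ)).restrictScalars R
  let N' : Submodule R Λ := Submodule.span R (T : Set Λ) ⊔ B
  have hBmem : ∀ y : Λ, (X : R⟦X⟧) ^ M • y ∈ B := fun y =>
    Submodule.smul_mem_pointwise_smul _ _ _ Submodule.mem_top
  have hXB : ∀ b ∈ B, (X : R⟦X⟧) • b ∈ B := by
    intro b hb
    exact Submodule.smul_mem ((X : R⟦X⟧) ^ M • (⊤ : Submodule R⟦X⟧ Λ)) _ hb
  have hXT : ∀ a ∈ Submodule.span R (T : Set Λ), (X : R⟦X⟧) • a ∈ N' := by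
    intro a ha
    refine Submodule.span_induction (p := fun a _ => (X : R⟦X⟧) • a ∈ N') ?_ ?_ ?_ ?_ ha
    · intro t ht
      simp only [T, Finset.coe_image, Set.mem_image, Finset.mem_coe, Finset.mem_product,
        Finset.mem_range] at ht
      obtain ⟨⟨j, l⟩, ⟨hj, hl⟩, rfl⟩ := ht
      simp only
      rw [← mul_smul, ← pow_succ']
      by_cases hjM : j + 1 < M
      · apply Submodule.mem_sup_left
        apply Submodule.subset_span
        simp only [T, Finset.coe_image, Set.mem_image, Finset.mem_coe, Finset.mem_product,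
          Finset.mem_range]
        exact ⟨(j + 1, l), ⟨hjM, hl⟩, rfl⟩
      · have : j + 1 = M := by omega
        rw [this]
        exact Submodule.mem_sup_right (hBmem l)
    · simp
    · intro x y _ _ hx hy
      rw [smul_add]; exact N'.add_mem hx hy
    · intro r x _ hx
      rw [smul_comm]; exact N'.smul_mem r hx
  have hX : ∀ v ∈ N', (X : R⟦X⟧) • v ∈ N' := by
    intro v hv
    obtain ⟨a, ha, b, hb, rfl⟩ := Submodule.mem_sup.mp hv
    rw [smul_add]
    exact N'.add_mem (hXT a ha) (Submodule.mem_sup_right (hXB b hb))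
  have hM' : ∀ v : Λ, (X : R⟦X⟧) ^ M • v ∈ N' := fun v => Submodule.mem_sup_right (hBmem v)
  have hstable := smul_mem_of_X_smul_mem M N' hX hM'
  have hSmem : ∀ l ∈ S, l ∈ N' := by
    intro l hl
    by_cases hM0 : 0 < M
    · apply Submodule.mem_sup_left
      apply Submodule.subset_span
      simp only [T, Finset.coe_image, Set.mem_image, Finset.mem_coe, Finset.mem_product,
        Finset.mem_range]
      exact ⟨(0, l), ⟨hM0, hl⟩, by simp⟩
    · have : M = 0 := by omega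
      have h := hM' l
      rw [this, pow_zero, one_smul] at h
      exact h
  have htop : ∀ x : Λ, x ∈ N' := by
    intro x
    have hx : x ∈ Submodule.span R⟦X⟧ (S : Set Λ) := by rw [hS]; trivial
    refine Submodule.span_induction (p := fun x _ => x ∈ N') ?_ ?_ ?_ ?_ hx
    · intro l hl; exact hSmem l hl
    · exact N'.zero_mem
    · intro x y _ _ hx hy; exact N'.add_mem hx hy
    · intro p x _ hx; exact hstable p x hx
  have hN' : N' = ⊤ := eq_top_iff.mpr fun x _ => htop x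
  rw [ker_rho_eq Λ hΛ, ← hN', Submodule.map_sup]
  have hB0 : Submodule.map (theta (M := M) Λ) B = ⊥ := by
    rw [eq_bot_iff]
    rintro _ ⟨b, hb, rfl⟩
    obtain ⟨y, -, rfl⟩ := (Submodule.mem_smul_pointwise_iff_exists _ _ _).mp hb
    exact theta_X_pow_smul Λ y
  rw [hB0, sup_bot_eq]
  exact (Submodule.fg_span (Finset.finite_toSet T)).map _

include hΛ in
/-- If the lattice is finitely generated projective over `R⟦X⟧`, the quotient is projective over
`R`. -/
theorem forward [Module.Finite R⟦X⟧ Λ] [Module.Projective R⟦X⟧ Λ] :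
    Module.Projective R ((Fin n → R⟦X⟧) ⧸ Λ) := by
  have hflat : Module.Flat R ((Fin n → R⟦X⟧) ⧸ Λ) := by
    refine flat_of_surjective_of_forall_mem (rho (M := M) Λ) (rho_surjective Λ hΛ) ?_
    intro 𝔞 c hc hmem
    rw [rho_eq_zero_iff] at hc
    have h1 : iota n M c ∈ 𝔞 • (⊤ : Submodule R (Fin n → R⟦X⟧)) := by
      have := Submodule.mem_map_of_mem (f := iota n M) hmem
      rw [Submodule.map_smul''] at this
      exact Submodule.smul_mono le_rfl le_top this
    have h2 := mem_smul_top_lattice Λ hΛ 𝔞 ⟨iota n M c, hc⟩ h1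
    have h3 := Submodule.mem_map_of_mem (f := theta (M := M) Λ) h2
    rw [Submodule.map_smul'', theta_mk, ← ker_rho_eq Λ hΛ] at h3
    exact h3
  have hfp : Module.FinitePresentation R ((Fin n → R⟦X⟧) ⧸ Λ) :=
    Module.finitePresentation_of_surjective (rho (M := M) Λ) (rho_surjective Λ hΛ)
      (ker_rho_fg Λ hΛ)
  exact Module.Flat.projective_of_finitePresentation

end Forward

section CharSeq

open CategoryTheory

variable {R : Type u} [CommRing R] {Q : Type u} [AddCommGroup Q] [Module R⟦X⟧ Q] [Module R Q]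
  [IsScalarTower R R⟦X⟧ Q]

/-- multiplication by `X ^ j` on `Q`, as an `R`-linear map -/
noncomputable def TXj (Q : Type u) [AddCommGroup Q] [Module R⟦X⟧ Q] [Module R Q]
    [IsScalarTower R R⟦X⟧ Q] (j : ℕ) : Q →ₗ[R] Q where
  toFun q := (X : R⟦X⟧) ^ j • q
  map_add' _ _ := smul_add _ _ _
  map_smul' _ _ := smul_comm _ _ _

lemma TXj_apply (j : ℕ) (q : Q) : TXj (R := R) Q j q = (X : R⟦X⟧) ^ j • q := rfl

lemma TXj_zero : TXj (R := R) Q 0 = LinearMap.id := by
  ext q; simp [TXj_apply]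

lemma TXj_succ (j : ℕ) : TXj (R := R) Q (j + 1) = TXj Q 1 ∘ₗ TXj Q j := by
  ext q
  simp only [TXj_apply, LinearMap.comp_apply, pow_one]
  rw [← mul_smul, ← pow_succ']

/-- the characteristic map `X ⊗ 1 - 1 ⊗ X` on `R⟦X⟧ ⊗ Q` -/
noncomputable def Psi (Q : Type u) [AddCommGroup Q] [Module R⟦X⟧ Q] [Module R Q]
    [IsScalarTower R R⟦X⟧ Q] : (R⟦X⟧ ⊗[R] Q) →ₗ[R⟦X⟧] (R⟦X⟧ ⊗[R] Q) :=
  (X : R⟦X⟧) • LinearMap.id - (TXj (R := R) Q 1).baseChange R⟦X⟧

/-- the multiplication map `R⟦X⟧ ⊗ Q → Q` -/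
noncomputable def mu (Q : Type u) [AddCommGroup Q] [Module R⟦X⟧ Q] [Module R Q]
    [IsScalarTower R R⟦X⟧ Q] : (R⟦X⟧ ⊗[R] Q) →ₗ[R⟦X⟧] Q :=
  (LinearMap.id : Q →ₗ[R] Q).liftBaseChange R⟦X⟧

lemma Psi_apply (z : R⟦X⟧ ⊗[R] Q) :
    Psi Q z = (X : R⟦X⟧) • z - (TXj (R := R) Q 1).baseChange R⟦X⟧ z := rfl

lemma mu_Psi (z : R⟦X⟧ ⊗[R] Q) : mu Q (Psi Q z) = 0 := by
  induction z using TensorProduct.induction_on with
  | zero => simp
  | tmul p q =>
    rw [Psi_apply, map_sub, map_smul, LinearMap.baseChange_tmul]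
    simp only [mu, LinearMap.liftBaseChange_tmul, LinearMap.id_apply, TXj_apply, pow_one]
    rw [smul_comm, sub_self]
  | add x y hx hy => rw [map_add, map_add, hx, hy, add_zero]

lemma mu_surjective : Function.Surjective (mu (R := R) Q) := fun q =>
  ⟨1 ⊗ₜ q, by simp [mu]⟩

lemma X_pow_smul_sub_mem_range (j : ℕ) (y : R⟦X⟧ ⊗[R] Q) :
    (X : R⟦X⟧) ^ j • y - (TXj (R := R) Q j).baseChange R⟦X⟧ y ∈ LinearMap.range (Psi (R := R) Q) := by
  induction j generalizing y with
  | zero => simp [TXj_zero]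
  | succ j ih =>
    have e : (X : R⟦X⟧) ^ (j + 1) • y - (TXj (R := R) Q (j + 1)).baseChange R⟦X⟧ y =
        (X : R⟦X⟧) • ((X : R⟦X⟧) ^ j • y - (TXj (R := R) Q j).baseChange R⟦X⟧ y) +
          Psi Q ((TXj (R := R) Q j).baseChange R⟦X⟧ y) := by
      rw [Psi_apply, TXj_succ, LinearMap.baseChange_comp, LinearMap.comp_apply, smul_sub,
        ← mul_smul, ← pow_succ']
      abel
    rw [e]
    exact Submodule.add_mem _ (Submodule.smul_mem _ _ (ih y)) ⟨_, rfl⟩

variable (M : ℕ) (hQ : ∀ q : Q, (X : R⟦X⟧) ^ M • q = 0)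

include hQ in
lemma TXj_M : TXj (R := R) Q M = 0 := by
  ext q; simp [TXj_apply, hQ]

include hQ in
lemma X_pow_smul_mem_range (y : R⟦X⟧ ⊗[R] Q) :
    (X : R⟦X⟧) ^ M • y ∈ LinearMap.range (Psi (R := R) Q) := by
  have := X_pow_smul_sub_mem_range M y
  rwa [TXj_M M hQ, LinearMap.baseChange_zero, LinearMap.zero_apply, sub_zero] at this

lemma isSMulRegular_X_pow : IsSMulRegular R⟦X⟧ ((X : R⟦X⟧) ^ M) := by
  intro a b h
  ext k
  have := congrArg (coeff (k + M)) h
  simpa [coeff_X_pow_mul] using this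

include hQ in
lemma Psi_injective [Module.Projective R Q] : Function.Injective (Psi (R := R) Q) := by
  rw [injective_iff_map_eq_zero]
  intro z hz
  have hXz : (X : R⟦X⟧) • z = (TXj (R := R) Q 1).baseChange R⟦X⟧ z := by
    rw [Psi_apply] at hz
    exact sub_eq_zero.mp hz
  have hj : ∀ j : ℕ, (X : R⟦X⟧) ^ j • z = (TXj (R := R) Q j).baseChange R⟦X⟧ z := by
    intro j
    induction j with
    | zero => simp [TXj_zero]
    | succ j ih =>
      rw [TXj_succ, LinearMap.baseChange_comp, LinearMap.comp_apply, ← ih, map_smul, ← hXz,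
        ← mul_smul, ← pow_succ]
  have h0 : (X : R⟦X⟧) ^ M • z = 0 := by
    rw [hj M, TXj_M M hQ, LinearMap.baseChange_zero, LinearMap.zero_apply]
  have hreg : IsSMulRegular (R⟦X⟧ ⊗[R] Q) ((X : R⟦X⟧) ^ M) :=
    (IsSMulRegular.lTensor (R⟦X⟧ ⊗[R] Q) (isSMulRegular_X_pow (R := R) M)).of_injective
      ((TensorProduct.rid R⟦X⟧ (R⟦X⟧ ⊗[R] Q)).symm : (R⟦X⟧ ⊗[R] Q) →ₗ[R⟦X⟧] _)
      (TensorProduct.rid R⟦X⟧ (R⟦X⟧ ⊗[R] Q)).symm.injective
  exact hreg (by change (X : R⟦X⟧) ^ M • z = (X : R⟦X⟧) ^ M • 0; rw [h0, smul_zero])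

include hQ in
lemma exact_Psi_mu : Function.Exact (Psi (R := R) Q) (mu (R := R) Q) := by
  intro z
  constructor
  · intro hz
    -- the quotient by the range
    let S := LinearMap.range (Psi (R := R) Q)
    let ν : Q →ₗ[R] ((R⟦X⟧ ⊗[R] Q) ⧸ S) :=
      (S.mkQ.restrictScalars R) ∘ₗ (TensorProduct.mk R R⟦X⟧ Q 1)
    have hν_apply : ∀ q, ν q = Submodule.Quotient.mk ((1 : R⟦X⟧) ⊗ₜ[R] q) := fun q => rfl
    have hW : ∀ w : (R⟦X⟧ ⊗[R] Q) ⧸ S, (X : R⟦X⟧) ^ M • w = 0 := by
      intro w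
      obtain ⟨y, rfl⟩ := Submodule.Quotient.mk_surjective _ w
      rw [← Submodule.Quotient.mk_smul, Submodule.Quotient.mk_eq_zero]
      exact X_pow_smul_mem_range M hQ y
    have hνX : ∀ q, ν ((X : R⟦X⟧) • q) = (X : R⟦X⟧) • ν q := by
      intro q
      rw [hν_apply, hν_apply, ← Submodule.Quotient.mk_smul, eq_comm, Submodule.Quotient.eq]
      refine ⟨(1 : R⟦X⟧) ⊗ₜ[R] q, ?_⟩
      rw [Psi_apply, LinearMap.baseChange_tmul, TXj_apply, pow_one]
    have hlin := map_smul_of_map_X_smul M hW ν hνX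
    have hall : ∀ z : R⟦X⟧ ⊗[R] Q, (Submodule.Quotient.mk z : (R⟦X⟧ ⊗[R] Q) ⧸ S) =
        ν (mu Q z) := by
      intro z
      induction z using TensorProduct.induction_on with
      | zero => simp
      | tmul p q =>
        have : mu (R := R) Q (p ⊗ₜ[R] q) = p • q := by simp [mu]
        rw [this, hlin, hν_apply, ← Submodule.Quotient.mk_smul, TensorProduct.smul_tmul',
          smul_eq_mul, mul_one]
      | add x y hx hy => rw [Submodule.Quotient.mk_add, hx, hy, map_add, map_add]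
    have := hall z
    rw [hz, map_zero, Submodule.Quotient.mk_eq_zero] at this
    exact this
  · rintro ⟨y, rfl⟩
    exact mu_Psi y

include hQ in
/-- An `R⟦X⟧`-module killed by `X ^ M` and projective over `R` has projective dimension `≤ 1`. -/
theorem hasProjectiveDimensionLT_two [Module.Projective R Q] :
    HasProjectiveDimensionLT (ModuleCat.of R⟦X⟧ Q) 2 := by
  have hexact := exact_Psi_mu (R := R) (Q := Q) M hQ
  have hS : (ModuleCat.shortComplexOfCompEqZero (Psi (R := R) Q) (mu (R := R) Q)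
      hexact.linearMap_comp_eq_zero).ShortExact :=
    { exact := (ShortComplex.ShortExact.moduleCat_exact_iff_function_exact _).mpr hexact
      mono_f := (ModuleCat.mono_iff_injective _).mpr (Psi_injective M hQ)
      epi_g := (ModuleCat.epi_iff_surjective _).mpr mu_surjective }
  have hproj : Projective (ModuleCat.of R⟦X⟧ (R⟦X⟧ ⊗[R] Q)) :=
    (IsProjective.iff_projective _).mp inferInstance
  exact hS.hasProjectiveDimensionLT_X₃ 1 inferInstance inferInstance

end CharSeq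

section Backward

open CategoryTheory

variable {R : Type u} [CommRing R] {n M : ℕ} (Λ : Submodule R⟦X⟧ (Fin n → R⟦X⟧))
  (hΛ : ∀ v : Fin n → R⟦X⟧, ((X : R⟦X⟧) ^ M) • v ∈ Λ)

include hΛ in
lemma X_pow_smul_quot (q : (Fin n → R⟦X⟧) ⧸ Λ) : (X : R⟦X⟧) ^ M • q = 0 := by
  obtain ⟨v, rfl⟩ := Submodule.Quotient.mk_surjective _ q
  rw [← Submodule.Quotient.mk_smul, Submodule.Quotient.mk_eq_zero]
  exact hΛ v

include hΛ in
theorem projective_lattice [Module.Projective R ((Fin n → R⟦X⟧) ⧸ Λ)] :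
    Module.Projective R⟦X⟧ Λ := by
  have hQ := hasProjectiveDimensionLT_two (R := R) (Q := (Fin n → R⟦X⟧) ⧸ Λ) M
    (X_pow_smul_quot Λ hΛ)
  have hexact : Function.Exact Λ.subtype Λ.mkQ := LinearMap.exact_subtype_mkQ Λ
  have hS : (ModuleCat.shortComplexOfCompEqZero Λ.subtype Λ.mkQ
      hexact.linearMap_comp_eq_zero).ShortExact :=
    { exact := (ShortComplex.ShortExact.moduleCat_exact_iff_function_exact _).mpr hexact
      mono_f := (ModuleCat.mono_iff_injective _).mpr Λ.injective_subtype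
      epi_g := (ModuleCat.epi_iff_surjective _).mpr Λ.mkQ_surjective }
  have hproj : Projective (ModuleCat.of R⟦X⟧ (Fin n → R⟦X⟧)) :=
    (IsProjective.iff_projective _).mp inferInstance
  have h1 : HasProjectiveDimensionLT (ModuleCat.of R⟦X⟧ Λ) 1 :=
    hS.hasProjectiveDimensionLT_X₁ 1 inferInstance hQ
  have h2 : Projective (ModuleCat.of R⟦X⟧ Λ) :=
    projective_iff_hasProjectiveDimensionLT_one.mpr h1
  exact (IsProjective.iff_projective _).mpr h2

include hΛ in
theorem finite_lattice [Module.Projective R ((Fin n → R⟦X⟧) ⧸ Λ)] :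
    Module.Finite R⟦X⟧ Λ := by
  classical
  let pr : (Fin n → R⟦X⟧) →ₗ[R] ((Fin n → R⟦X⟧) ⧸ Λ) := Λ.mkQ.restrictScalars R
  have hpr : Function.Surjective pr := Λ.mkQ_surjective
  obtain ⟨σ, hσ⟩ := Module.projective_lifting_property pr LinearMap.id hpr
  have hσ' : ∀ q, pr (σ q) = q := fun q => by
    have := congrArg (fun φ => φ q) hσ
    simpa using this
  have hpr0 : ∀ v, pr v = 0 ↔ v ∈ Λ := fun v => by
    change Submodule.Quotient.mk v = 0 ↔ _
    rw [Submodule.Quotient.mk_eq_zero]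
  let D : (Fin n → Fin M → R) →ₗ[R] (Fin n → R⟦X⟧) := iota n M - σ ∘ₗ pr ∘ₗ iota n M
  have hD : ∀ c, D c ∈ Λ := by
    intro c
    rw [← hpr0]
    simp only [D, LinearMap.sub_apply, LinearMap.comp_apply, map_sub, hσ', sub_self]
  let A : Submodule R⟦X⟧ (Fin n → R⟦X⟧) :=
    Submodule.span R⟦X⟧ (LinearMap.range D : Set (Fin n → R⟦X⟧))
  let B : Submodule R⟦X⟧ (Fin n → R⟦X⟧) :=
    LinearMap.range ((X : R⟦X⟧) ^ M • (LinearMap.id : (Fin n → R⟦X⟧) →ₗ[R⟦X⟧] _))
  have hΛeq : Λ = A ⊔ B := by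
    apply le_antisymm
    · intro v hv
      have e := decomp (M := M) v
      have h1 : pr ((X : R⟦X⟧) ^ M • sh n M v) = 0 := (hpr0 _).mpr (hΛ _)
      have h2 : pr (iota n M (tau n M v)) = 0 := by
        have h3 : pr v = 0 := (hpr0 v).mpr hv
        rw [e, map_add, h1, add_zero] at h3
        exact h3
      have h4 : D (tau n M v) = iota n M (tau n M v) := by
        simp only [D, LinearMap.sub_apply, LinearMap.comp_apply, h2, map_zero, sub_zero]
      rw [e, ← h4]
      exact Submodule.add_mem_sup (Submodule.subset_span ⟨_, rfl⟩) ⟨sh n M v, rfl⟩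
    · apply sup_le
      · apply Submodule.span_le.mpr
        rintro _ ⟨c, rfl⟩
        exact hD c
      · rintro _ ⟨w, rfl⟩
        exact hΛ w
  have hAfg : A.FG := by
    have hfg : (LinearMap.range D).FG := by
      rw [LinearMap.range_eq_map]
      exact (Module.Finite.fg_top).map D
    obtain ⟨t, ht⟩ := hfg
    refine ⟨t, ?_⟩
    apply le_antisymm
    · apply Submodule.span_le.mpr
      intro x hx
      apply Submodule.subset_span
      have : x ∈ Submodule.span R (t : Set (Fin n → R⟦X⟧)) := Submodule.subset_span hx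
      rw [ht] at this
      exact this
    · apply Submodule.span_le.mpr
      intro x hx
      have hx' : x ∈ Submodule.span R (t : Set (Fin n → R⟦X⟧)) := by rw [ht]; exact hx
      exact Submodule.span_le_restrictScalars R R⟦X⟧ _ hx'
  have hBfg : B.FG := by
    change (LinearMap.range _).FG
    rw [LinearMap.range_eq_map]
    exact (Module.Finite.fg_top).map _
  rw [Module.Finite.iff_fg, hΛeq]
  exact hAfg.sup hBfg

end Backward

/-- A lattice `X ^ M • R⟦X⟧ ^ n ⊆ Λ ⊆ R⟦X⟧ ^ n` is finitely generated projective over `R⟦X⟧` iff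
`R⟦X⟧ ^ n ⧸ Λ` is projective over `R`. -/
theorem main {R : Type u} [CommRing R] (n M : ℕ) (Λ : Submodule R⟦X⟧ (Fin n → R⟦X⟧))
    (hΛ : ∀ v : Fin n → R⟦X⟧, ((X : R⟦X⟧) ^ M) • v ∈ Λ) :
    (Module.Finite R⟦X⟧ Λ ∧ Module.Projective R⟦X⟧ Λ) ↔
      Module.Projective R ((Fin n → R⟦X⟧) ⧸ Λ) := by
  constructor
  · rintro ⟨h1, h2⟩
    exact forward Λ hΛ
  · intro h
    exact ⟨finite_lattice Λ hΛ, projective_lattice Λ hΛ⟩

end Groth.Agent.H15.Lattice
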