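import Groth.Agent.H15.LenMult
import Mathlib

set_option autoImplicit false
set_option linter.style.haveILetI false
set_option linter.unusedSectionVars false

open Function
open scoped Pointwise

namespace Groth.Agent.H15.Len

universe u

variable {B : Type u} [CommRing B] [IsLocalRing B]

/-- The support of a module of finite length over a local ring is contained in the closed point. -/
theorem support_of_isFiniteLength {N : Type*} [AddCommGroup N] [Module B N]
    (h : IsFiniteLength B N) :
    ∀ q ∈ Module.support B N, q.asIdeal = IsLocalRing.maximalIdeal B := by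
  induction h with
  | of_subsingleton =>
    intro q hq
    rw [Module.support_eq_empty] at hq
    exact absurd hq (Set.notMem_empty _)
  | @of_simple_quotient M _ _ S _ _ ih =>
    intro q hq
    rw [Module.support_of_exact (LinearMap.exact_subtype_mkQ S) (Submodule.subtype_injective _)
      (Submodule.mkQ_surjective _)] at hq
    rcases hq with hq | hq
    · exact ih q hq
    · obtain ⟨I, hI, ⟨e⟩⟩ := isSimpleModule_iff_quot_maximal.1 (inferInstance : IsSimpleModule B (M ⧸ S))
      rw [e.support_eq, Module.mem_support_iff_of_finite, Ideal.annihilator_quotient] at hq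
      have hIm := IsLocalRing.eq_maximalIdeal hI
      rw [hIm] at hq
      exact ((IsLocalRing.maximalIdeal.isMaximal B).eq_of_le q.isPrime.ne_top hq).symm


variable [IsNoetherianRing B]

/-- structure of the support of a finite module `M` with `dim M > 0` and `M/tM` of finite length. -/
theorem support_structure (t : B) (ht : t ∈ IsLocalRing.maximalIdeal B)
    (M : Type u) [AddCommGroup M] [Module B M] [Module.Finite B M]
    (hdim : 0 < Module.supportDim B M)
    (hfin : Module.length B (QuotSMulTop t M) ≠ ⊤) :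
    (∀ q ∈ Module.support B M, q.asIdeal = IsLocalRing.maximalIdeal B ∨
      q.asIdeal ∈ (Module.annihilator B M).minimalPrimes) ∧
    (∀ p ∈ (Module.annihilator B M).minimalPrimes,
      t ∉ p ∧ p ≠ IsLocalRing.maximalIdeal B) := by
  have hsq := support_of_isFiniteLength (Module.length_ne_top_iff.1 hfin)
  have hd0 : Module.supportDim B (QuotSMulTop t M) ≤ 0 := by
    have : Subsingleton (Module.support B (QuotSMulTop t M)) := by
      constructor
      intro x y
      apply Subtype.ext
      apply PrimeSpectrum.ext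
      rw [hsq x.1 x.2, hsq y.1 y.2]
    exact Order.krullDim_nonpos_of_subsingleton
  have hd1 : Module.supportDim B M ≤ 1 := by
    refine (Module.supportDim_le_supportDim_quotSMulTop_succ ht).trans ?_
    calc Module.supportDim B (QuotSMulTop t M) + 1 ≤ 0 + 1 := add_le_add_left hd0 1
      _ = 1 := zero_add 1
  have hnt : Nontrivial M := by
    rw [← Module.supportDim_ne_bot_iff_nontrivial B]
    intro h; rw [h] at hdim; exact absurd hdim (by simp)
  have hmsupp : IsLocalRing.closedPoint B ∈ Module.support B M :=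
    IsLocalRing.closedPoint_mem_support B M
  have hminmax := Order.krullDim_le_one_iff.1 hd1
  -- t ∉ q for non-closed points of the support
  have htq : ∀ q ∈ Module.support B M, q.asIdeal ≠ IsLocalRing.maximalIdeal B → t ∉ q.asIdeal := by
    intro q hq hqm htq
    apply hqm
    apply hsq q
    rw [Module.support_quotSMulTop]
    exact ⟨hq, by simpa [PrimeSpectrum.mem_zeroLocus] using htq⟩
  have hA : ∀ q ∈ Module.support B M, q.asIdeal = IsLocalRing.maximalIdeal B ∨
      q.asIdeal ∈ (Module.annihilator B M).minimalPrimes := by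
    intro q hq
    by_cases hqm : q.asIdeal = IsLocalRing.maximalIdeal B
    · exact Or.inl hqm
    right
    have hann : Module.annihilator B M ≤ q.asIdeal := Module.annihilator_le_of_mem_support hq
    obtain ⟨p, hpmin, hpq⟩ := Ideal.exists_minimalPrimes_le hann
    have hpprime : p.IsPrime := hpmin.1.1
    have hpsupp : (⟨p, hpprime⟩ : PrimeSpectrum B) ∈ Module.support B M := by
      rw [Module.mem_support_iff_of_finite]; exact hpmin.1.2
    rcases hminmax ⟨q, hq⟩ with hmin | hmax
    · have : (⟨q, hq⟩ : Module.support B M) ≤ ⟨⟨p, hpprime⟩, hpsupp⟩ :=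
        hmin (b := ⟨⟨p, hpprime⟩, hpsupp⟩) hpq
      have hqp : q.asIdeal ≤ p := this
      rw [le_antisymm hqp hpq]
      exact hpmin
    · exfalso
      apply hqm
      have : (⟨IsLocalRing.closedPoint B, hmsupp⟩ : Module.support B M) ≤ ⟨q, hq⟩ :=
        hmax (b := ⟨IsLocalRing.closedPoint B, hmsupp⟩)
          (IsLocalRing.le_maximalIdeal q.isPrime.ne_top)
      exact le_antisymm (IsLocalRing.le_maximalIdeal q.isPrime.ne_top) this
  refine ⟨hA, ?_⟩
  intro p hpmin
  have hpprime : p.IsPrime := hpmin.1.1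
  have hpsupp : (⟨p, hpprime⟩ : PrimeSpectrum B) ∈ Module.support B M := by
    rw [Module.mem_support_iff_of_finite]; exact hpmin.1.2
  have hpm : p ≠ IsLocalRing.maximalIdeal B := by
    rintro rfl
    -- then the support is a singleton
    have : Subsingleton (Module.support B M) := by
      have key : ∀ x : Module.support B M, x.1.asIdeal = IsLocalRing.maximalIdeal B := by
        intro x
        have h1 : Module.annihilator B M ≤ x.1.asIdeal := Module.annihilator_le_of_mem_support x.2
        have h2 := hpmin.2 ⟨x.1.isPrime, h1⟩ (IsLocalRing.le_maximalIdeal x.1.isPrime.ne_top)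
        exact le_antisymm (IsLocalRing.le_maximalIdeal x.1.isPrime.ne_top) h2
      constructor
      intro x y
      apply Subtype.ext
      apply PrimeSpectrum.ext
      rw [key x, key y]
    have : Module.supportDim B M ≤ 0 := Order.krullDim_nonpos_of_subsingleton
    exact absurd (lt_of_lt_of_le hdim this) (lt_irrefl _)
  exact ⟨htq ⟨p, hpprime⟩ hpsupp hpm, hpm⟩


/-- arithmetic in `ℕ∞` -/
theorem enat_sum_arith {ι : Type*} (S : Finset ι) (ℓ w : ι → ℕ∞) (k L : ℕ∞)
    (hℓ : ∀ i ∈ S, 1 ≤ ℓ i) (hw : ∀ i ∈ S, 1 ≤ w i) (hL : L ≠ ⊤)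
    (h : L = k + ∑ i ∈ S, ℓ i * w i) :
    (∑ i ∈ S, ℓ i ≤ L) ∧ ((∑ i ∈ S, ℓ i = L) ↔ k = 0 ∧ ∀ i ∈ S, w i = 1) := by
  classical
  have h12 : ∑ i ∈ S, ℓ i ≤ ∑ i ∈ S, ℓ i * w i :=
    Finset.sum_le_sum fun i hi => le_mul_of_one_le_right' (hw i hi)
  have h2L : ∑ i ∈ S, ℓ i * w i ≤ L := h ▸ le_add_self
  refine ⟨h12.trans h2L, ?_⟩
  constructor
  · intro h1L
    have h2 : ∑ i ∈ S, ℓ i * w i = L := le_antisymm h2L (h1L ▸ h12)
    have hk : k = 0 := by
      rw [← h2] at h hL
      generalize (∑ i ∈ S, ℓ i * w i) = b at h hL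
      lift b to ℕ using hL
      cases k with
      | top => simp at h
      | coe k =>
        have : (b : ℕ∞) = ((k + b : ℕ) : ℕ∞) := by rw [h]; push_cast; rfl
        have := ENat.natCast_inj.1 this
        have : k = 0 := by omega
        simp [this]
    refine ⟨hk, ?_⟩
    -- finiteness of all terms
    have hterm : ∀ i ∈ S, ℓ i * w i ≠ ⊤ := fun i hi =>
      ne_top_of_le_ne_top hL ((Finset.single_le_sum_of_canonicallyOrdered hi).trans h2L)
    have hℓf : ∀ i ∈ S, ℓ i ≠ ⊤ := fun i hi =>
      ne_top_of_le_ne_top (hterm i hi) (le_mul_of_one_le_right' (hw i hi))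
    have hwf : ∀ i ∈ S, w i ≠ ⊤ := fun i hi =>
      ne_top_of_le_ne_top (hterm i hi) (le_mul_of_one_le_left' (hℓ i hi))
    have e1 : ∑ i ∈ S, ℓ i = ((∑ i ∈ S, (ℓ i).toNat : ℕ) : ℕ∞) := by
      rw [Nat.cast_sum]
      exact Finset.sum_congr rfl fun i hi => (ENat.natCast_toNat (hℓf i hi)).symm
    have e2 : ∑ i ∈ S, ℓ i * w i = ((∑ i ∈ S, (ℓ i).toNat * (w i).toNat : ℕ) : ℕ∞) := by
      rw [Nat.cast_sum]
      refine Finset.sum_congr rfl fun i hi => ?_
      rw [Nat.cast_mul, ENat.natCast_toNat (hℓf i hi), ENat.natCast_toNat (hwf i hi)]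
    have e3 : ∑ i ∈ S, (ℓ i).toNat = ∑ i ∈ S, (ℓ i).toNat * (w i).toNat := by
      apply ENat.natCast_inj.1
      rw [← e1, ← e2, h1L, h2]
    have hle : ∀ i ∈ S, (ℓ i).toNat ≤ (ℓ i).toNat * (w i).toNat := by
      intro i hi
      have : 1 ≤ (w i).toNat := by
        have := hw i hi
        rw [← ENat.natCast_toNat (hwf i hi)] at this
        exact_mod_cast this
      exact Nat.le_mul_of_pos_right _ this
    have heq := (Finset.sum_eq_sum_iff_of_le hle).1 e3
    intro i hi
    have h1 := heq i hi
    have hℓ1 : 1 ≤ (ℓ i).toNat := by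
      have := hℓ i hi
      rw [← ENat.natCast_toNat (hℓf i hi)] at this
      exact_mod_cast this
    have : (w i).toNat = 1 := by
      have : (ℓ i).toNat * 1 = (ℓ i).toNat * (w i).toNat := by rw [mul_one]; exact h1
      exact (Nat.eq_of_mul_eq_mul_left hℓ1 this).symm
    rw [← ENat.natCast_toNat (hwf i hi), this]; rfl
  · rintro ⟨hk, hw1⟩
    rw [h, hk, zero_add]
    exact Finset.sum_congr rfl fun i hi => by rw [hw1 i hi, mul_one]


theorem length_quot_sup_eq_one_iff (p : Ideal B) (t : B) (hp : p ≤ IsLocalRing.maximalIdeal B) :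
    Module.length B (B ⧸ (p ⊔ Ideal.span {t})) = 1 ↔
      Ideal.map (Ideal.Quotient.mk p) (IsLocalRing.maximalIdeal B) =
        Ideal.span {Ideal.Quotient.mk p t} := by
  rw [Module.length_eq_one_iff, isSimpleModule_iff_isCoatom, ← Ideal.isMaximal_def]
  have hmap : Ideal.map (Ideal.Quotient.mk p) (p ⊔ Ideal.span {t}) =
      Ideal.span {Ideal.Quotient.mk p t} := by
    rw [Ideal.map_sup, Ideal.map_quotient_self, bot_sup_eq, Ideal.map_span, Set.image_singleton]
  constructor
  · intro h
    rw [← hmap, IsLocalRing.eq_maximalIdeal h]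
  · intro h
    have h1 : Ideal.comap (Ideal.Quotient.mk p) (Ideal.map (Ideal.Quotient.mk p)
        (IsLocalRing.maximalIdeal B)) = IsLocalRing.maximalIdeal B := by
      rw [Ideal.comap_map_of_surjective _ Ideal.Quotient.mk_surjective, ← RingHom.ker_eq_comap_bot,
        Ideal.mk_ker, sup_eq_left.2 hp]
    have h2 : Ideal.comap (Ideal.Quotient.mk p) (Ideal.map (Ideal.Quotient.mk p)
        (p ⊔ Ideal.span {t})) = p ⊔ Ideal.span {t} := by
      rw [Ideal.comap_map_of_surjective _ Ideal.Quotient.mk_surjective, ← RingHom.ker_eq_comap_bot,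
        Ideal.mk_ker, sup_eq_left.2 le_sup_left]
    rw [← h2, hmap, ← h, h1]
    exact IsLocalRing.maximalIdeal.isMaximal B

theorem thm12132 (t : B) (ht : t ∈ IsLocalRing.maximalIdeal B)
    (M : Type u) [AddCommGroup M] [Module B M] [Module.Finite B M]
    (hdim : 0 < Module.supportDim B M)
    (hfin : Module.length B (M ⧸ (Ideal.span {t} • (⊤ : Submodule B M))) ≠ ⊤) :
    (∑ᶠ p : (Module.annihilator B M).minimalPrimes,
        haveI : p.1.IsPrime := p.2.1.1
        Module.length (Localization.AtPrime p.1) (LocalizedModule p.1.primeCompl M)) ≤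
      Module.length B (M ⧸ (Ideal.span {t} • (⊤ : Submodule B M))) ∧
    ((∑ᶠ p : (Module.annihilator B M).minimalPrimes,
        haveI : p.1.IsPrime := p.2.1.1
        Module.length (Localization.AtPrime p.1) (LocalizedModule p.1.primeCompl M)) =
      Module.length B (M ⧸ (Ideal.span {t} • (⊤ : Submodule B M))) ↔
    IsSMulRegular M t ∧
      ∀ p : (Module.annihilator B M).minimalPrimes,
        Ideal.map (Ideal.Quotient.mk p.1) (IsLocalRing.maximalIdeal B) =
          Ideal.span {Ideal.Quotient.mk p.1 t}) := by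
  classical
  have hLeq : Module.length B (M ⧸ (Ideal.span {t} • (⊤ : Submodule B M))) =
      Module.length B (QuotSMulTop t M) :=
    (Submodule.quotEquivOfEq _ _ (Submodule.ideal_span_singleton_smul t ⊤)).length_eq
  rw [hLeq] at hfin ⊢
  obtain ⟨hA, hB⟩ := support_structure t ht M hdim hfin
  have hfinmin : ((Module.annihilator B M).minimalPrimes).Finite :=
    Ideal.finite_minimalPrimes_of_isNoetherianRing B _
  haveI : Fintype (Module.annihilator B M).minimalPrimes := hfinmin.fintype
  let ι : (Module.annihilator B M).minimalPrimes → PrimeSpectrum B := fun p => ⟨p.1, p.2.1.1⟩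
  have hι : Function.Injective ι := by
    intro p q h
    apply Subtype.ext
    exact congrArg PrimeSpectrum.asIdeal h
  let S : Finset (PrimeSpectrum B) := Finset.univ.image ι
  have hmemS : ∀ q : PrimeSpectrum B, q ∈ S ↔ q.asIdeal ∈ (Module.annihilator B M).minimalPrimes := by
    intro q
    simp only [S, Finset.mem_image, Finset.mem_univ, true_and]
    constructor
    · rintro ⟨p, rfl⟩; exact p.2
    · intro h; exact ⟨⟨q.asIdeal, h⟩, rfl⟩
  have hS2 : ∀ p ∈ S, t ∉ p.asIdeal := fun p hp => (hB _ ((hmemS p).1 hp)).1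
  have hS3 : ∀ p ∈ S, ∀ q ∈ S, p.asIdeal ≤ q.asIdeal → p = q := by
    intro p hp q hq hle
    have hp' := (hmemS p).1 hp
    have hq' := (hmemS q).1 hq
    exact PrimeSpectrum.ext (le_antisymm hle (hq'.2 hp'.1 hle))
  have hN : SuppCond S M := by
    intro q hq
    rcases hA q hq with h | h
    · exact Or.inl h
    · exact Or.inr ((hmemS q).2 h)
  have hform := formula ht hS2 hS3 M hN
  unfold Formula wsum at hform
  have hsum : (∑ᶠ p : (Module.annihilator B M).minimalPrimes,
        haveI : p.1.IsPrime := p.2.1.1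
        Module.length (Localization.AtPrime p.1) (LocalizedModule p.1.primeCompl M)) =
      ∑ q ∈ S, locLen q.asIdeal M := by
    rw [finsum_eq_sum_of_fintype, Finset.sum_image (fun p _ q _ h => hι h)]
  rw [hsum]
  have hℓ : ∀ q ∈ S, 1 ≤ locLen q.asIdeal M := by
    intro q hq
    have hqs : q ∈ Module.support B M := by
      rw [Module.mem_support_iff_of_finite]; exact ((hmemS q).1 hq).1.2
    rw [Module.mem_support_iff] at hqs
    exact Order.one_le_iff_pos.2 Module.length_pos
  have hw : ∀ q ∈ S, 1 ≤ Module.length B (B ⧸ (q.asIdeal ⊔ Ideal.span {t})) := by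
    intro q hq
    have hne : q.asIdeal ⊔ Ideal.span {t} ≠ ⊤ := by
      intro h
      have hle : q.asIdeal ⊔ Ideal.span {t} ≤ IsLocalRing.maximalIdeal B :=
        sup_le (IsLocalRing.le_maximalIdeal q.isPrime.ne_top)
          ((Ideal.span_singleton_le_iff_mem _).2 ht)
      rw [h] at hle
      exact (IsLocalRing.maximalIdeal.isMaximal B).ne_top (top_le_iff.1 hle)
    haveI : Nontrivial (B ⧸ (q.asIdeal ⊔ Ideal.span {t})) := Ideal.Quotient.nontrivial_iff.2 hne
    exact Order.one_le_iff_pos.2 Module.length_pos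
  obtain ⟨h1, h2⟩ := enat_sum_arith S (fun q => locLen q.asIdeal M)
    (fun q => Module.length B (B ⧸ (q.asIdeal ⊔ Ideal.span {t}))) _ _ hℓ hw hfin hform
  refine ⟨h1, h2.trans ?_⟩
  constructor
  · rintro ⟨hk, hw1⟩
    refine ⟨?_, fun p => ?_⟩
    · rw [Module.length_eq_zero_iff, Submodule.subsingleton_iff_eq_bot, LinearMap.ker_eq_bot] at hk
      exact hk
    · have := hw1 (ι p) (Finset.mem_image_of_mem _ (Finset.mem_univ _))
      exact (length_quot_sup_eq_one_iff p.1 t (IsLocalRing.le_maximalIdeal p.2.1.1.ne_top)).1 this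
  · rintro ⟨hreg, hall⟩
    refine ⟨?_, fun q hq => ?_⟩
    · rw [Module.length_eq_zero_iff, Submodule.subsingleton_iff_eq_bot, LinearMap.ker_eq_bot]
      exact hreg
    · have hq' := (hmemS q).1 hq
      exact (length_quot_sup_eq_one_iff q.asIdeal t
        (IsLocalRing.le_maximalIdeal q.isPrime.ne_top)).2 (hall ⟨q.asIdeal, hq'⟩)

end Groth.Agent.H15.Len
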