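import Mathlib.RingTheory.Length
import Mathlib.Algebra.Module.SnakeLemma
import Mathlib.Algebra.Exact.Basic

/-!
# Lengths in the snake lemma
-/

set_option autoImplicit false
set_option linter.style.haveILetI false
set_option linter.unusedSectionVars false

open Function

namespace Groth.Agent.H15.Len

variable {R : Type*} [CommRing R]

section basic

variable {M N P : Type*} [AddCommGroup M] [Module R M] [AddCommGroup N] [Module R N]
  [AddCommGroup P] [Module R P]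

theorem length_eq_ker_add_range (f : M →ₗ[R] N) :
    Module.length R M = Module.length R (LinearMap.ker f) + Module.length R (LinearMap.range f) :=
  Module.length_eq_add_of_exact (LinearMap.ker f).subtype f.rangeRestrict
    (Submodule.subtype_injective _) f.surjective_rangeRestrict (by
      intro x
      constructor
      · intro hx
        exact ⟨⟨x, by simpa [LinearMap.mem_ker] using congrArg Subtype.val hx⟩, rfl⟩
      · rintro ⟨y, rfl⟩
        exact Subtype.ext y.2)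

/-- For an exact pair `f, g`: `ℓ(L) = ℓ(range f) + ℓ(range g)`. -/
theorem length_eq_range_add_range (f : M →ₗ[R] N) (g : N →ₗ[R] P) (h : Exact f g) :
    Module.length R N = Module.length R (LinearMap.range f) + Module.length R (LinearMap.range g) := by
  rw [length_eq_ker_add_range g, LinearMap.exact_iff.mp h]

theorem length_range_of_injective (f : M →ₗ[R] N) (hf : Injective f) :
    Module.length R (LinearMap.range f) = Module.length R M :=
  (LinearEquiv.ofInjective f hf).length_eq.symm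

theorem length_range_of_surjective (f : M →ₗ[R] N) (hf : Surjective f) :
    Module.length R (LinearMap.range f) = Module.length R N := by
  rw [LinearMap.range_eq_top.mpr hf]
  exact Module.length_top

end basic

/-- Six term exact sequence `0 → K₁ → K₂ → K₃ → C₁ → C₂ → C₃ → 0`: alternating sum of lengths. -/
theorem six_term {K₁ K₂ K₃ C₁ C₂ C₃ : Type*}
    [AddCommGroup K₁] [Module R K₁] [AddCommGroup K₂] [Module R K₂] [AddCommGroup K₃] [Module R K₃]
    [AddCommGroup C₁] [Module R C₁] [AddCommGroup C₂] [Module R C₂] [AddCommGroup C₃] [Module R C₃]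
    (a₁ : K₁ →ₗ[R] K₂) (a₂ : K₂ →ₗ[R] K₃) (δ : K₃ →ₗ[R] C₁) (b₁ : C₁ →ₗ[R] C₂) (b₂ : C₂ →ₗ[R] C₃)
    (ha₁ : Injective a₁) (h₁ : Exact a₁ a₂) (h₂ : Exact a₂ δ) (h₃ : Exact δ b₁) (h₄ : Exact b₁ b₂)
    (hb₂ : Surjective b₂) :
    Module.length R K₁ + Module.length R K₃ + Module.length R C₂ =
      Module.length R K₂ + Module.length R C₁ + Module.length R C₃ := by
  rw [length_eq_range_add_range a₁ a₂ h₁, length_eq_range_add_range a₂ δ h₂,
    length_eq_range_add_range δ b₁ h₃, length_eq_range_add_range b₁ b₂ h₄,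
    length_range_of_injective a₁ ha₁, length_range_of_surjective b₂ hb₂]
  ring


section snake

variable {M₁ M₂ M₃ N₁ N₂ N₃ : Type*}
  [AddCommGroup M₁] [Module R M₁] [AddCommGroup M₂] [Module R M₂] [AddCommGroup M₃] [Module R M₃]
  [AddCommGroup N₁] [Module R N₁] [AddCommGroup N₂] [Module R N₂] [AddCommGroup N₃] [Module R N₃]
  (i₁ : M₁ →ₗ[R] N₁) (i₂ : M₂ →ₗ[R] N₂) (i₃ : M₃ →ₗ[R] N₃)
  (f₁ : M₁ →ₗ[R] M₂) (f₂ : M₂ →ₗ[R] M₃) (hf : Exact f₁ f₂)
  (g₁ : N₁ →ₗ[R] N₂) (g₂ : N₂ →ₗ[R] N₃) (hg : Exact g₁ g₂)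
  (h₁ : g₁.comp i₁ = i₂.comp f₁) (h₂ : g₂.comp i₂ = i₃.comp f₂)
  (hf₁ : Injective f₁) (hf₂ : Surjective f₂) (hg₁ : Injective g₁) (hg₂ : Surjective g₂)

include hf hg h₁ h₂ hf₁ hf₂ hg₁ hg₂ in
/-- The lengths of kernels and cokernels in a morphism of short exact sequences. -/
theorem snake_length :
    Module.length R (LinearMap.ker i₁) + Module.length R (LinearMap.ker i₃) +
        Module.length R (N₂ ⧸ LinearMap.range i₂) =
      Module.length R (LinearMap.ker i₂) + Module.length R (N₁ ⧸ LinearMap.range i₁) +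
        Module.length R (N₃ ⧸ LinearMap.range i₃) := by
  have e₁ : ∀ x, g₁ (i₁ x) = i₂ (f₁ x) := fun x => LinearMap.congr_fun h₁ x
  have e₂ : ∀ x, g₂ (i₂ x) = i₃ (f₂ x) := fun x => LinearMap.congr_fun h₂ x
  let a₁ : LinearMap.ker i₁ →ₗ[R] LinearMap.ker i₂ := f₁.restrict (fun x hx => by
    rw [LinearMap.mem_ker] at hx ⊢
    rw [← e₁, hx, map_zero])
  let a₂ : LinearMap.ker i₂ →ₗ[R] LinearMap.ker i₃ := f₂.restrict (fun x hx => by
    rw [LinearMap.mem_ker] at hx ⊢
    rw [← e₂, hx, map_zero])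
  let b₁ : (N₁ ⧸ LinearMap.range i₁) →ₗ[R] (N₂ ⧸ LinearMap.range i₂) :=
    Submodule.mapQ _ _ g₁ (by
      rintro _ ⟨x, rfl⟩
      exact ⟨f₁ x, (e₁ x).symm⟩)
  let b₂ : (N₂ ⧸ LinearMap.range i₂) →ₗ[R] (N₃ ⧸ LinearMap.range i₃) :=
    Submodule.mapQ _ _ g₂ (by
      rintro _ ⟨x, rfl⟩
      exact ⟨f₂ x, (e₂ x).symm⟩)
  let δ := SnakeLemma.δ' i₁ i₂ i₃ f₁ f₂ hf g₁ g₂ hg h₁ h₂ (LinearMap.ker i₃).subtype
    (LinearMap.exact_subtype_ker_map i₃) (LinearMap.range i₁).mkQ
    (LinearMap.exact_map_mkQ_range i₁) hf₂ hg₁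
  refine six_term a₁ a₂ δ b₁ b₂ ?_ ?_ ?_ ?_ ?_ ?_
  · intro x y hxy
    exact Subtype.ext (hf₁ (congrArg Subtype.val hxy))
  · intro x
    constructor
    · intro hx
      have hx' : f₂ x.1 = 0 := congrArg Subtype.val hx
      obtain ⟨y, hy⟩ := (hf x.1).mp hx'
      have hy0 : i₁ y = 0 := by
        apply hg₁
        rw [e₁, hy, map_zero]
        exact x.2
      exact ⟨⟨y, hy0⟩, Subtype.ext hy⟩
    · rintro ⟨y, rfl⟩
      exact Subtype.ext (hf.apply_apply_eq_zero y.1)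
  · exact SnakeLemma.exact_δ'_right i₁ i₂ i₃ f₁ f₂ hf g₁ g₂ hg h₁ h₂ (LinearMap.ker i₂).subtype
      (LinearMap.exact_subtype_ker_map i₂) (LinearMap.ker i₃).subtype
      (LinearMap.exact_subtype_ker_map i₃) (LinearMap.range i₁).mkQ
      (LinearMap.exact_map_mkQ_range i₁) hf₂ hg₁ a₂ rfl (Submodule.subtype_injective _)
  · exact SnakeLemma.exact_δ'_left i₁ i₂ i₃ f₁ f₂ hf g₁ g₂ hg h₁ h₂ (LinearMap.ker i₃).subtype
      (LinearMap.exact_subtype_ker_map i₃) (LinearMap.range i₁).mkQ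
      (LinearMap.exact_map_mkQ_range i₁) (LinearMap.range i₂).mkQ
      (LinearMap.exact_map_mkQ_range i₂) hf₂ hg₁ b₁ rfl (Submodule.mkQ_surjective _)
  · intro c
    obtain ⟨n, rfl⟩ := Submodule.mkQ_surjective _ c
    constructor
    · intro hc
      have hc' : g₂ n ∈ LinearMap.range i₃ := by
        rw [← Submodule.Quotient.mk_eq_zero]
        exact hc
      obtain ⟨m₃, hm₃⟩ := hc'
      obtain ⟨m₂, rfl⟩ := hf₂ m₃
      have h0 : g₂ (n - i₂ m₂) = 0 := by rw [map_sub, e₂, hm₃, sub_self]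
      obtain ⟨n₁, hn₁⟩ := (hg _).mp h0
      refine ⟨Submodule.Quotient.mk n₁, ?_⟩
      change Submodule.Quotient.mk (g₁ n₁) = Submodule.Quotient.mk n
      rw [hn₁, Submodule.Quotient.mk_sub, sub_eq_self, Submodule.Quotient.mk_eq_zero]
      exact ⟨m₂, rfl⟩
    · rintro ⟨c₁, hc₁⟩
      obtain ⟨n₁, rfl⟩ := Submodule.mkQ_surjective _ c₁
      rw [← hc₁]
      change Submodule.Quotient.mk (g₂ (g₁ n₁)) = 0
      rw [hg.apply_apply_eq_zero, Submodule.Quotient.mk_zero]
  · intro c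
    obtain ⟨n, rfl⟩ := Submodule.mkQ_surjective _ c
    obtain ⟨m, rfl⟩ := hg₂ n
    exact ⟨Submodule.Quotient.mk m, rfl⟩

end snake

end Groth.Agent.H15.Len
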