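import Groth.Prelude.Def_SGA3b
import Mathlib.RingTheory.Bialgebra.Convolution
import Mathlib.RingTheory.HopfAlgebra.MonoidAlgebra
import Mathlib.RingTheory.Flat.FaithfullyFlat.Algebra
import Mathlib.RingTheory.Finiteness.Descent
import Mathlib.RingTheory.Localization.Finiteness
import Mathlib.RingTheory.Localization.BaseChange
import Mathlib.RingTheory.FiniteType
import Mathlib.GroupTheory.FiniteAbelian.Basic

/-!
# Groups of multiplicative type in Hopf-algebra form: the `n`-th power map

Functoriality and base change of `SGA3b.powConv` / `SGA3b.torsionIdeal`, their computation on group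
algebras, and the finiteness criterion for groups of multiplicative type with constant type.
-/

set_option autoImplicit false
set_option linter.style.haveILetI false
universe u
open TensorProduct WithConv Coalgebra

namespace Groth.Agent.H15.MT

variable {R : Type u} [CommRing R]

section nat
variable {C A B : Type u} [CommRing A] [CommRing B] [Semiring C] [Bialgebra R C] [Algebra R A]
  [Algebra R B]

theorem comp_convPow (h : A →ₐ[R] B) (φ : WithConv (C →ₐ[R] A)) (n : ℕ) :
    h.comp (φ ^ n).ofConv = ((toConv (h.comp φ.ofConv)) ^ n).ofConv := by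
  induction n with
  | zero =>
    rw [pow_zero, pow_zero]
    ext c
    simp [AlgHom.convOne_apply]
  | succ n ih =>
    rw [pow_succ, pow_succ, AlgHom.comp_convMul_distrib, ih]

theorem convPow_comp {C' : Type u} [CommSemiring C'] [Bialgebra R C'] (g : C' →ₐc[R] C)
    (φ : WithConv (C →ₐ[R] A)) (n : ℕ) :
    (φ ^ n).ofConv.comp (g : C' →ₐ[R] C) = ((toConv (φ.ofConv.comp (g : C' →ₐ[R] C))) ^ n).ofConv := by
  induction n with
  | zero =>
    rw [pow_zero, pow_zero]
    ext c
    simp [AlgHom.convOne_apply]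
  | succ n ih =>
    rw [pow_succ, pow_succ, AlgHom.convMul_comp_bialgHom_distrib, ih]

end nat

section powConv
variable {A B : Type u} [CommRing A] [CommRing B] [HopfAlgebra R A] [HopfAlgebra R B]

theorem powConv_comp (f : A →ₐc[R] B) (n : ℕ) :
    (f : A →ₐ[R] B).comp (SGA3b.powConv R A n) = (SGA3b.powConv R B n).comp (f : A →ₐ[R] B) := by
  unfold SGA3b.powConv
  rw [comp_convPow, convPow_comp]
  rfl

theorem powConv_apply (f : A →ₐc[R] B) (n : ℕ) (a : A) :
    f (SGA3b.powConv R A n a) = SGA3b.powConv R B n (f a) :=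
  congrArg (fun g : A →ₐ[R] B => g a) (powConv_comp f n)

/-- the torsion ideal vanishes as soon as `powConv` kills the augmentation ideal. -/
theorem torsionIdeal_eq_bot_iff (n : ℕ) :
    SGA3b.torsionIdeal R A n = ⊥ ↔ ∀ a : A, counit (R := R) a = 0 → SGA3b.powConv R A n a = 0 := by
  unfold SGA3b.torsionIdeal
  rw [eq_bot_iff, Ideal.map_le_iff_le_comap]
  constructor
  · intro h a ha
    have := h (show a ∈ RingHom.ker (Bialgebra.counitAlgHom R A) from ha)
    simpa using this
  · intro h a ha
    have := h a ha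
    simpa using this

theorem torsionIdeal_eq_bot_of_injective (f : A →ₐc[R] B) (hf : Function.Injective f) (n : ℕ)
    (h : SGA3b.torsionIdeal R B n = ⊥) : SGA3b.torsionIdeal R A n = ⊥ := by
  rw [torsionIdeal_eq_bot_iff] at h ⊢
  intro a ha
  apply hf
  rw [powConv_apply, map_zero]
  apply h
  have : counit (R := R) (f a) = counit (R := R) a := by simp
  rw [this, ha]

theorem torsionIdeal_eq_bot_iff_of_equiv (e : A ≃ₐc[R] B) (n : ℕ) :
    SGA3b.torsionIdeal R A n = ⊥ ↔ SGA3b.torsionIdeal R B n = ⊥ :=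
  ⟨torsionIdeal_eq_bot_of_injective (e.symm : B →ₐc[R] A) e.symm.injective n,
   torsionIdeal_eq_bot_of_injective (e : A →ₐc[R] B) e.injective n⟩

end powConv

section bc
variable (S : Type u) [CommRing S] [Algebra R S] (A : Type u) [CommRing A] [HopfAlgebra R A]

theorem powConv_succ_apply' {ι : Type*} (n : ℕ) (a : A) (r : Coalgebra.Repr R a ι) :
    SGA3b.powConv R A (n + 1) a =
      ∑ i ∈ r.index, SGA3b.powConv R A n (r.left i) * r.right i := by
  unfold SGA3b.powConv
  rw [pow_succ]
  change ((toConv (AlgHom.id R A) ^ n) * toConv (AlgHom.id R A)) a = _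
  rw [AlgHom.convMul_apply]
  conv_lhs => rw [← r.eq]
  simp

theorem powConv_zero_apply (a : A) :
    SGA3b.powConv R A 0 a = algebraMap R A (counit a) := by
  unfold SGA3b.powConv
  rw [pow_zero]
  rfl

/-- representation of `1 ⊗ a` in the base change. -/
noncomputable def reprBC (a : A) : Coalgebra.Repr S ((1 : S) ⊗ₜ[R] a) (A × A) where
  index := (ℛ R a).index
  left i := 1 ⊗ₜ (ℛ R a).left i
  right i := 1 ⊗ₜ (ℛ R a).right i
  eq := by
    rw [TensorProduct.comul_tmul]
    conv_rhs => rw [← (ℛ R a).eq]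
    simp [TensorProduct.tmul_sum]

theorem powConv_tmul (n : ℕ) (a : A) :
    SGA3b.powConv S (S ⊗[R] A) n (1 ⊗ₜ[R] a) = 1 ⊗ₜ[R] SGA3b.powConv R A n a := by
  induction n generalizing a with
  | zero =>
    rw [powConv_zero_apply, powConv_zero_apply]
    simp [Algebra.algebraMap_eq_smul_one, Algebra.TensorProduct.one_def]
  | succ n ih =>
    rw [powConv_succ_apply' (S ⊗[R] A) n _ (reprBC S A a), powConv_succ_apply' A n a (ℛ R a)]
    simp only [reprBC, ih, Algebra.TensorProduct.tmul_mul_tmul, mul_one, TensorProduct.tmul_sum]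

/-- every element of the base change is congruent to a scalar modulo the extended augmentation
ideal. -/
theorem sub_counit_mem (y : S ⊗[R] A) :
    y - algebraMap S (S ⊗[R] A) (counit (R := S) y) ∈
      Submodule.span S (Set.range fun a : {a : A // counit (R := R) a = 0} => (1 : S) ⊗ₜ[R] a.1) := by
  induction y with
  | zero => simp
  | add x y hx hy =>
    have : x + y - algebraMap S (S ⊗[R] A) (counit (R := S) (x + y)) =
        (x - algebraMap S (S ⊗[R] A) (counit (R := S) x)) +
        (y - algebraMap S (S ⊗[R] A) (counit (R := S) y)) := by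
      rw [map_add, map_add]; ring
    rw [this]
    exact add_mem hx hy
  | tmul s a =>
    have h0 : counit (R := R) (a - algebraMap R A (counit (R := R) a)) = 0 := by simp
    have : s ⊗ₜ[R] a - algebraMap S (S ⊗[R] A) (counit (R := S) (s ⊗ₜ[R] a)) =
        s • ((1 : S) ⊗ₜ[R] (a - algebraMap R A (counit (R := R) a))) := by
      rw [TensorProduct.counit_tmul, TensorProduct.smul_tmul', TensorProduct.tmul_sub,
        Algebra.TensorProduct.algebraMap_apply]
      simp [Algebra.algebraMap_eq_smul_one, TensorProduct.smul_tmul]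
    rw [this]
    exact Submodule.smul_mem _ _ (Submodule.subset_span ⟨⟨_, h0⟩, rfl⟩)

theorem torsionIdeal_bc_eq_bot (n : ℕ) (h : SGA3b.torsionIdeal R A n = ⊥) :
    SGA3b.torsionIdeal S (S ⊗[R] A) n = ⊥ := by
  rw [torsionIdeal_eq_bot_iff] at h ⊢
  intro y hy
  have hmem := sub_counit_mem S A y
  rw [hy, map_zero, sub_zero] at hmem
  refine Submodule.span_induction (p := fun y _ => SGA3b.powConv S (S ⊗[R] A) n y = 0)
    ?_ (map_zero _) ?_ ?_ hmem
  · rintro _ ⟨⟨a, ha⟩, rfl⟩
    simp only
    rw [powConv_tmul, h a ha, TensorProduct.tmul_zero]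
  · intro x y _ _ hx hy
    rw [map_add, hx, hy, add_zero]
  · intro s x _ hx
    rw [map_smul, hx, smul_zero]

theorem tmul_eq_zero_of_torsionIdeal_bc (n : ℕ) (h : SGA3b.torsionIdeal S (S ⊗[R] A) n = ⊥)
    (a : A) (ha : a ∈ SGA3b.torsionIdeal R A n) : (1 : S) ⊗ₜ[R] a = 0 := by
  rw [torsionIdeal_eq_bot_iff] at h
  have : SGA3b.torsionIdeal R A n ≤
      Ideal.comap (Algebra.TensorProduct.includeRight : A →ₐ[R] S ⊗[R] A) ⊥ := by
    unfold SGA3b.torsionIdeal
    rw [Ideal.map_le_iff_le_comap]
    intro x hx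
    have hx' : counit (R := R) x = 0 := hx
    simp only [Ideal.mem_comap, Algebra.TensorProduct.includeRight_apply, Ideal.mem_bot]
    rw [← powConv_tmul]
    apply h
    rw [TensorProduct.counit_tmul, hx', zero_smul]
  simpa using this ha

end bc

section ga
variable (R) (M : Type u) [CommGroup M]

theorem powConv_single (n : ℕ) (m : M) :
    SGA3b.powConv R (MonoidAlgebra R M) n (MonoidAlgebra.single m 1) =
      MonoidAlgebra.single (m ^ n) 1 := by
  induction n with
  | zero =>
    unfold SGA3b.powConv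
    rw [pow_zero, pow_zero]
    change (1 : WithConv (MonoidAlgebra R M →ₐ[R] MonoidAlgebra R M)) _ = _
    rw [AlgHom.convOne_apply]
    simp [MonoidAlgebra.one_def]
  | succ n ih =>
    unfold SGA3b.powConv at ih ⊢
    rw [pow_succ, pow_succ]
    have := MonoidAlgebra.convMul_algHom_single_one (R := R) (A := MonoidAlgebra R M)
      ((toConv (AlgHom.id R (MonoidAlgebra R M))) ^ n) (toConv (AlgHom.id R (MonoidAlgebra R M))) m
    refine this.trans ?_
    change (toConv (AlgHom.id R (MonoidAlgebra R M)) ^ n).ofConv (MonoidAlgebra.single m 1) *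
      (MonoidAlgebra.single m 1) = _
    rw [ih, MonoidAlgebra.single_mul_single, mul_one]

theorem torsionIdeal_monoidAlgebra_eq_bot (n : ℕ) (h : ∀ m : M, m ^ n = 1) :
    SGA3b.torsionIdeal R (MonoidAlgebra R M) n = ⊥ := by
  rw [torsionIdeal_eq_bot_iff]
  have key : SGA3b.powConv R (MonoidAlgebra R M) n =
      (Algebra.ofId R (MonoidAlgebra R M)).comp (Bialgebra.counitAlgHom R (MonoidAlgebra R M)) := by
    refine MonoidAlgebra.algHom_ext ?_ (Subsingleton.elim _ _)
    intro m
    rw [powConv_single, h m]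
    simp [MonoidAlgebra.one_def]
  intro a ha
  rw [key]
  simp [ha]

theorem pow_eq_one_of_torsionIdeal_eq_bot [Nontrivial R] (n : ℕ)
    (h : SGA3b.torsionIdeal R (MonoidAlgebra R M) n = ⊥) (m : M) : m ^ n = 1 := by
  rw [torsionIdeal_eq_bot_iff] at h
  have h1 := h (MonoidAlgebra.single m 1 - 1) (by simp [MonoidAlgebra.one_def])
  rw [map_sub, map_one, powConv_single, sub_eq_zero, MonoidAlgebra.one_def] at h1
  exact (MonoidAlgebra.single_left_injective (one_ne_zero (α := R))) h1

end ga

section const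
variable (S : Type u) [CommRing S] (B : Type u) [CommRing B] [HopfAlgebra S B]

theorem finite_of_torsionIdeal_eq_bot (hft : Algebra.FiniteType S B)
    (h : SGA3b.IsMultTypeConst S B) (n : ℕ) (hn : 0 < n) (hT : SGA3b.torsionIdeal S B n = ⊥) :
    Module.Finite S B := by
  obtain ⟨S', _, _, hff, M, _, ⟨e⟩⟩ := h
  have hT' : SGA3b.torsionIdeal S' (MonoidAlgebra S' M) n = ⊥ :=
    (torsionIdeal_eq_bot_iff_of_equiv e n).mp (torsionIdeal_bc_eq_bot S' B n hT)
  suffices hfin : Module.Finite S' (S' ⊗[S] B) from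
    Module.Finite.of_finite_tensorProduct_of_faithfullyFlat S'
  rcases subsingleton_or_nontrivial S' with hS' | hS'
  · haveI : Subsingleton (S' ⊗[S] B) := Module.subsingleton S' _
    infer_instance
  · have hft' : Algebra.FiniteType S' (S' ⊗[S] B) := inferInstance
    have hft'' : Algebra.FiniteType S' (MonoidAlgebra S' M) :=
      hft'.equiv (e : (S' ⊗[S] B) ≃ₐ[S'] MonoidAlgebra S' M)
    haveI hfg : Group.FG M := MonoidAlgebra.finiteType_iff_group_fg.mp hft''
    haveI : Finite M := CommGroup.finite_of_fg_isMulTorsion (G := M) fun m =>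
      isOfFinOrder_iff_pow_eq_one.mpr ⟨n, hn, pow_eq_one_of_torsionIdeal_eq_bot S' M n hT' m⟩
    haveI : Module.Finite S' (MonoidAlgebra S' M) :=
      Module.Finite.of_basis (MonoidAlgebra.basis M S')
    exact Module.Finite.equiv (e.symm : MonoidAlgebra S' M ≃ₐ[S'] (S' ⊗[S] B)).toLinearEquiv

theorem exists_torsionIdeal_eq_bot_of_finite [Module.Finite S B]
    (h : SGA3b.IsMultTypeConst S B) :
    ∃ n : ℕ, 0 < n ∧ ∀ k : ℕ, n ∣ k → SGA3b.torsionIdeal S B k = ⊥ := by
  obtain ⟨S', _, _, hff, M, _, ⟨e⟩⟩ := h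
  have key : ∃ n : ℕ, 0 < n ∧ ∀ k : ℕ, n ∣ k → SGA3b.torsionIdeal S' (S' ⊗[S] B) k = ⊥ := by
    rcases subsingleton_or_nontrivial S' with hS' | hS'
    · haveI : Subsingleton (S' ⊗[S] B) := Module.subsingleton S' _
      exact ⟨1, one_pos, fun k _ => Subsingleton.elim _ _⟩
    · haveI : Module.Finite S' (MonoidAlgebra S' M) :=
        Module.Finite.equiv (e : (S' ⊗[S] B) ≃ₐ[S'] MonoidAlgebra S' M).toLinearEquiv
      haveI : Finite M := Module.Finite.finite_basis (MonoidAlgebra.basis M S')
      refine ⟨Nat.card M, Nat.card_pos, fun k hk => ?_⟩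
      rw [torsionIdeal_eq_bot_iff_of_equiv e k]
      apply torsionIdeal_monoidAlgebra_eq_bot
      intro m
      obtain ⟨c, rfl⟩ := hk
      rw [pow_mul, pow_card_eq_one', one_pow]
  obtain ⟨n, hn, hk⟩ := key
  refine ⟨n, hn, fun k hnk => ?_⟩
  rw [eq_bot_iff]
  intro x hx
  have := tmul_eq_zero_of_torsionIdeal_bc S' B k (hk k hnk) x hx
  have hinj := Module.FaithfullyFlat.tensorProduct_mk_injective (A := S) (B := S') B
  exact hinj (by simpa using this)

end const

end Groth.Agent.H15.MT
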