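import Groth.Agent.H15.MTBC
import Groth.Agent.H15.MultType

/-! Quotient charts: a chart `A → R'[M]` induces a chart `A/J → R'[M/H]` when the extension of the
Hopf ideal `J` to `R'[M]` is the kernel of `R'[M] → R'[M/H]`. -/

set_option autoImplicit false
set_option linter.style.haveILetI false
universe u
open TensorProduct Coalgebra

namespace Groth.Agent.H15.MTQ
open Groth.Agent.H26 Groth.Agent.H15.MTC

section tm

variable {R : Type*} [CommRing R] (S : Type*) [CommRing S] [Algebra R S]
  {B : Type*} [AddCommGroup B] [Module R B] {B' : Type*} [AddCommGroup B'] [Module R B']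
  {T : Type*} [AddCommGroup T] [Module R T] [Module S T] [IsScalarTower R S T]

lemma tmul₂_comp_map (g : B' →ₗ[R] T) (f : B →ₗ[R] B') (x : B ⊗[R] B) :
    tmul₂ S (g ∘ₗ f) x = tmul₂ S g (TensorProduct.map f f x) := by
  induction x using TensorProduct.induction_on with
  | zero => simp
  | add y z hy hz => rw [map_add, map_add, map_add, hy, hz]
  | tmul b₁ b₂ => simp

end tm

variable {R : Type u} [CommRing R] {A : Type u} [CommRing A] [HopfAlgebra R A]
  {R' : Type u} [CommRing R'] [Algebra R R'] {M : Type u} [CommGroup M]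

/-- the `R'`-span of the image of an ideal under a chart is stable under multiplication -/
lemma span_image_mul_mem (l : A →ₐ[R] MonoidAlgebra R' M) (hbc : IsBaseChange R' l.toLinearMap)
    (J : Ideal A) (y : MonoidAlgebra R' M) (hy : y ∈ Submodule.span R' (l '' (J : Set A)))
    (z : MonoidAlgebra R' M) : y * z ∈ Submodule.span R' (l '' (J : Set A)) := by
  induction hy using Submodule.span_induction with
  | mem x hx =>
    obtain ⟨a, ha, rfl⟩ := hx
    refine hbc.inductionOn z (fun z => l a * z ∈ Submodule.span R' (l '' (J : Set A))) ?_ ?_ ?_ ?_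
    · rw [mul_zero]; exact zero_mem _
    · intro b
      change l a * l b ∈ _
      rw [← map_mul]
      exact Submodule.subset_span ⟨a * b, J.mul_mem_right b ha, rfl⟩
    · intro s n hn
      rw [mul_smul_comm]
      exact Submodule.smul_mem _ _ hn
    · intro n₁ n₂ h₁ h₂
      rw [mul_add]
      exact add_mem h₁ h₂
  | zero => rw [zero_mul]; exact zero_mem _
  | add x y _ _ hx hy => rw [add_mul]; exact add_mem hx hy
  | smul r x _ hx => rw [smul_mul_assoc]; exact Submodule.smul_mem _ _ hx

/-- quotient chart -/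
theorem hasDChart_quotient (l : A →ₐ[R] MonoidAlgebra R' M)
    (hco : IsCoalgMapOver R' l.toLinearMap) (hbc : IsBaseChange R' l.toLinearMap)
    (J : Ideal A) [J.IsHopfIdeal R] (H : Subgroup M)
    (h1 : ∀ a ∈ J, MonoidAlgebra.mapDomainBialgHom R' (QuotientGroup.mk' H) (l a) = 0)
    (h2 : ∀ h ∈ H, (MonoidAlgebra.single h (1 : R') - 1 : MonoidAlgebra R' M) ∈
      Submodule.span R' (l '' (J : Set A))) :
    HasDChart R (A ⧸ J) R' (M ⧸ H) := by
  classical
  set q : MonoidAlgebra R' M →ₐc[R'] MonoidAlgebra R' (M ⧸ H) :=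
    MonoidAlgebra.mapDomainBialgHom R' (QuotientGroup.mk' H) with hq
  let ql : A →ₐ[R] MonoidAlgebra R' (M ⧸ H) :=
    ((q : MonoidAlgebra R' M →ₐ[R'] MonoidAlgebra R' (M ⧸ H)).restrictScalars R).comp l
  have hql : IsCoalgMapOver R' ql.toLinearMap :=
    IsCoalgMapOver.comp (S₂ := R')
      (isCoalgMapOver_of_coalgHom (q : MonoidAlgebra R' M →ₗc[R'] MonoidAlgebra R' (M ⧸ H))) hco
  let lbar : A ⧸ J →ₐ[R] MonoidAlgebra R' (M ⧸ H) :=
    Ideal.Quotient.liftₐ J ql (fun a ha => h1 a ha)
  have hlbar : ∀ a, lbar (Ideal.Quotient.mk J a) = q (l a) := fun a => rfl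
  let mkl : A →ₗ[R] A ⧸ J := (Ideal.Quotient.mkₐ R J).toLinearMap
  have hcomp : lbar.toLinearMap ∘ₗ mkl = ql.toLinearMap := LinearMap.ext fun a => rfl
  refine ⟨lbar, ⟨?_, ?_⟩, ?_⟩
  · intro c
    obtain ⟨a, rfl⟩ := Ideal.Quotient.mk_surjective c
    have h3 := hql.comul a
    have h4 : Coalgebra.comul (R := R) (Ideal.Quotient.mk J a) =
        TensorProduct.map mkl mkl (Coalgebra.comul (R := R) a) :=
      Bialgebra.Quotient.comul_mk J a
    rw [h4, ← tmul₂_comp_map, hcomp]
    exact h3
  · intro c
    obtain ⟨a, rfl⟩ := Ideal.Quotient.mk_surjective c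
    have h3 := hql.counit a
    have h4 : Coalgebra.counit (R := R) (Ideal.Quotient.mk J a) = Coalgebra.counit (R := R) a :=
      Bialgebra.Quotient.counit_mk J a
    rw [h4]
    exact h3
  · apply IsBaseChange.of_lift_unique
    intro Q _ _ _ _ g
    let G : MonoidAlgebra R' M →ₗ[R'] Q := hbc.lift (g ∘ₗ mkl)
    have hG : ∀ a, G (l a) = g (Ideal.Quotient.mk J a) := fun a => hbc.lift_eq _ a
    have hGJ : ∀ y ∈ Submodule.span R' (l '' (J : Set A)), G y = 0 := by
      intro y hy
      induction hy using Submodule.span_induction with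
      | mem x hx =>
        obtain ⟨a, ha, rfl⟩ := hx
        rw [hG, Ideal.Quotient.eq_zero_iff_mem.mpr ha, map_zero]
      | zero => exact map_zero _
      | add x y _ _ hx hy => rw [map_add, hx, hy, add_zero]
      | smul r x _ hx => rw [map_smul, hx, smul_zero]
    have hGh : ∀ (m : M) (h : M), h ∈ H →
        G (MonoidAlgebra.single (m * h) 1) = G (MonoidAlgebra.single m 1) := by
      intro m h hh
      have e1 : (MonoidAlgebra.single (m * h) (1 : R') : MonoidAlgebra R' M) =
          MonoidAlgebra.single m 1 +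
          (MonoidAlgebra.single h 1 - 1) * MonoidAlgebra.single m 1 := by
        rw [sub_mul, one_mul, MonoidAlgebra.single_mul_single, mul_one, mul_comm h m]
        abel
      have h3 := hGJ _ (span_image_mul_mem l hbc J _ (h2 h hh) (MonoidAlgebra.single m 1))
      rw [e1, map_add, h3, add_zero]
    let g' : MonoidAlgebra R' (M ⧸ H) →ₗ[R'] Q :=
      (MonoidAlgebra.basis (M ⧸ H) R').constr R'
        (fun x => G (MonoidAlgebra.single (Quotient.out x) 1))
    have hg'q : g' ∘ₗ (q : MonoidAlgebra R' M →ₐ[R'] MonoidAlgebra R' (M ⧸ H)).toLinearMap = G := by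
      apply MonoidAlgebra.lhom_ext'
      intro m
      ext
      simp only [LinearMap.comp_apply, MonoidAlgebra.lsingle_apply, AlgHom.toLinearMap_apply]
      have e2 : (q : MonoidAlgebra R' M →ₐ[R'] MonoidAlgebra R' (M ⧸ H))
          (MonoidAlgebra.single m (1 : R')) =
          MonoidAlgebra.basis (M ⧸ H) R' (QuotientGroup.mk' H m) := by
        rw [MonoidAlgebra.basis_apply]
        exact MonoidAlgebra.mapDomainBialgHom_single _ _ _
      rw [e2, Module.Basis.constr_basis]
      obtain ⟨h, hh⟩ : ∃ h : H, Quotient.out (QuotientGroup.mk' H m) = m * h := by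
        have := QuotientGroup.mk_out_eq_mul H m
        exact this
      rw [hh]
      exact hGh m h h.2
    have hg'q' : ∀ y, g' (q y) = G y := fun y => LinearMap.congr_fun hg'q y
    refine ⟨g', ?_, ?_⟩
    · refine LinearMap.ext fun c => ?_
      obtain ⟨a, rfl⟩ := Ideal.Quotient.mk_surjective c
      change g' (lbar (Ideal.Quotient.mk J a)) = _
      rw [hlbar, hg'q', hG]
    · intro g'' hg''
      have h5 : g'' ∘ₗ (q : MonoidAlgebra R' M →ₐ[R'] MonoidAlgebra R' (M ⧸ H)).toLinearMap = G := by
        apply hbc.algHom_ext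
        intro a
        change g'' (q (l a)) = G (l a)
        rw [hG, ← hlbar]
        exact LinearMap.congr_fun hg'' (Ideal.Quotient.mk J a)
      have hqs : Function.Surjective
          (q : MonoidAlgebra R' M →ₐ[R'] MonoidAlgebra R' (M ⧸ H)).toLinearMap := by
        intro y
        induction y using MonoidAlgebra.induction_linear with
        | zero => exact ⟨0, map_zero _⟩
        | add f g hf hg =>
          obtain ⟨a, ha⟩ := hf
          obtain ⟨b, hb⟩ := hg
          exact ⟨a + b, by rw [map_add, ha, hb]⟩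
        | single x r =>
          obtain ⟨m, rfl⟩ := QuotientGroup.mk'_surjective H x
          exact ⟨MonoidAlgebra.single m r, MonoidAlgebra.mapDomainBialgHom_single _ _ _⟩
      rw [← LinearMap.cancel_right hqs, h5, hg'q]

end Groth.Agent.H15.MTQ
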