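import Groth.Agent.H15.MTFlat2
import Groth.Agent.H15.MTQuot

/-!
# Constructing bialgebra maps into group algebras from jointly injective families of coefficient
changes
-/

set_option autoImplicit false
set_option linter.style.haveILetI false
universe u
open TensorProduct Coalgebra

namespace Groth.Agent.H15.MTA
open Groth.Agent.H26 Groth.Agent.H15.GLD Groth.Agent.H15.MTC

section sep
variable {R : Type*} [CommRing R] {M : Type*}

/-- the coordinate functionals `coeffPair m n` separate the points of `R[M] ⊗ R[M]` -/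
theorem eq_zero_of_coeffPair_eq_zero (z : MonoidAlgebra R M ⊗[R] MonoidAlgebra R M)
    (h : ∀ m n, coeffPair m n z = 0) : z = 0 := by
  classical
  let E : MonoidAlgebra R M ⊗[R] MonoidAlgebra R M ≃ₗ[R] (M × M →₀ R) :=
    (TensorProduct.congr (MonoidAlgebra.coeffLinearEquiv R) (MonoidAlgebra.coeffLinearEquiv R)) ≪≫ₗ
      finsuppTensorFinsupp' R M M
  have key : ∀ (z : MonoidAlgebra R M ⊗[R] MonoidAlgebra R M) (m n : M),
      E z (m, n) = coeffPair m n z := by
    intro z m n
    induction z with
    | zero => simp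
    | add x y hx hy => rw [map_add, Finsupp.add_apply, hx, hy, map_add]
    | tmul x y =>
      rw [coeffPair_tmul]
      simp only [E, LinearEquiv.trans_apply, TensorProduct.congr_tmul]
      rw [finsuppTensorFinsupp'_apply_apply]
      rfl
  apply E.injective
  rw [map_zero]
  ext ⟨m, n⟩
  rw [key, h, Finsupp.zero_apply]

end sep

section joint
variable {R : Type u} [CommRing R] {C : Type u} [CommRing C] [Bialgebra R C]
  {M : Type u} [CommGroup M]
  {ι : Type*} (K : ι → Type u) [∀ i, CommRing (K i)] [∀ i, Algebra R (K i)]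

include K in
theorem monoidAlgebra_eq_zero_of_forall_mapCoeff
    (hinj : ∀ r : R, (∀ i, algebraMap R (K i) r = 0) → r = 0)
    (y : MonoidAlgebra R M) (h : ∀ i, mapCoeff (S := R) (S' := K i) M y = 0) : y = 0 := by
  ext m
  rw [MonoidAlgebra.coeff_zero, Finsupp.zero_apply]
  apply hinj
  intro i
  rw [← mapCoeff_coeff, h i, MonoidAlgebra.coeff_zero, Finsupp.zero_apply]

/-- A function `C → R[M]` which becomes an algebra and coalgebra map after each member of a jointly
injective family of coefficient changes is a bialgebra map. -/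
theorem exists_bialgHom_of_jointly_injective
    (hinj : ∀ r : R, (∀ i, algebraMap R (K i) r = 0) → r = 0)
    (φ : C → MonoidAlgebra R M)
    (Φ : ∀ i, C →ₐ[R] MonoidAlgebra (K i) M)
    (hΦ : ∀ i, IsCoalgMapOver (K i) (Φ i).toLinearMap)
    (hφ : ∀ i c, mapCoeff (S := R) (S' := K i) M (φ c) = Φ i c) :
    ∃ ψ : C →ₐc[R] MonoidAlgebra R M, ∀ c, ψ c = φ c := by
  have hz := monoidAlgebra_eq_zero_of_forall_mapCoeff (M := M) K hinj
  have hadd : ∀ x y, φ (x + y) = φ x + φ y := by
    intro x y
    rw [← sub_eq_zero]
    apply hz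
    intro i
    rw [map_sub, map_add, hφ, hφ, hφ, map_add, sub_self]
  have hmul : ∀ x y, φ (x * y) = φ x * φ y := by
    intro x y
    rw [← sub_eq_zero]
    apply hz
    intro i
    rw [map_sub, map_mul, hφ, hφ, hφ, map_mul, sub_self]
  have hone : φ 1 = 1 := by
    rw [← sub_eq_zero]
    apply hz
    intro i
    rw [map_sub, hφ, map_one, map_one, sub_self]
  have hzero : φ 0 = 0 := by
    have := hadd 0 0
    rw [add_zero] at this
    exact left_eq_add.mp this
  have hcomm : ∀ r : R, φ (algebraMap R C r) = algebraMap R _ r := by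
    intro r
    rw [← sub_eq_zero]
    apply hz
    intro i
    rw [map_sub, hφ, AlgHom.commutes, AlgHom.commutes, sub_self]
  let ψ₀ : C →ₐ[R] MonoidAlgebra R M :=
    { toFun := φ
      map_one' := hone
      map_mul' := hmul
      map_zero' := hzero
      map_add' := hadd
      commutes' := hcomm }
  have hψ₀ : ∀ c, ψ₀ c = φ c := fun _ => rfl
  have hcomp : ∀ i, (mapCoeff (S := R) (S' := K i) M).toLinearMap ∘ₗ ψ₀.toLinearMap =
      (Φ i).toLinearMap := by
    intro i
    apply LinearMap.ext
    intro c
    exact hφ i c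
  refine ⟨BialgHom.ofAlgHom ψ₀ ?_ ?_, fun c => rfl⟩
  · ext c
    change Coalgebra.counit (R := R) (φ c) = Coalgebra.counit (R := R) c
    rw [← sub_eq_zero]
    apply hinj
    intro i
    rw [map_sub, sub_eq_zero]
    have h1 := (isCoalgMapOver_mapCoeff (S := R) (S' := K i) M).counit (φ c)
    have h2 := (hΦ i).counit c
    rw [← h1, ← h2]
    change _ = Coalgebra.counit (R := K i) (Φ i c)
    rw [← hφ i c]
    rfl
  · ext c
    change TensorProduct.map ψ₀.toLinearMap ψ₀.toLinearMap (Coalgebra.comul (R := R) c) =
      Coalgebra.comul (R := R) (φ c)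
    rw [← sub_eq_zero]
    apply eq_zero_of_coeffPair_eq_zero
    intro m n
    apply hinj
    intro i
    have h3 : ∀ z : MonoidAlgebra R M ⊗[R] MonoidAlgebra R M,
        algebraMap R (K i) (coeffPair m n z) =
          coeffPair m n (tmul₂ (K i) (mapCoeff (S := R) (S' := K i) M).toLinearMap z) := by
      intro z
      induction z with
      | zero => simp
      | add x y hx hy => rw [map_add, map_add, hx, hy, map_add, map_add]
      | tmul x y =>
        rw [tmul₂_tmul, coeffPair_tmul, coeffPair_tmul, map_mul]
        simp only [AlgHom.toLinearMap_apply, mapCoeff_coeff]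
    rw [h3, map_sub, ← Groth.Agent.H15.MTQ.tmul₂_comp_map, hcomp, ← (hΦ i).comul,
      ← (isCoalgMapOver_mapCoeff (S := R) (S' := K i) M).comul]
    change coeffPair m n (Coalgebra.comul (R := K i) (Φ i c) - Coalgebra.comul (R := K i)
      (mapCoeff (S := R) (S' := K i) M (φ c))) = 0
    rw [hφ, sub_self, map_zero]

end joint

end Groth.Agent.H15.MTA
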