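import Groth.Agent.H15.MTAlg1

/-!
# Algebraisation of formal homomorphisms from a diagonalisable group to an affine group
over a complete Noetherian ring
-/

set_option autoImplicit false
set_option linter.style.haveILetI false
universe u
open TensorProduct Coalgebra

namespace Groth.Agent.H15.MTA
open Groth.Agent.H26 Groth.Agent.H15.GLD Groth.Agent.H15.MTC Groth.Agent.H15.MTF

section proj
variable {A : Type u} [CommRing A] {C : Type u} [CommRing C] [HopfAlgebra A C]

lemma Tl_lTensor (a : C →ₗ[A] A) (f : C →ₗ[A] C) (z : C ⊗[A] C) :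
    Tl a (f.lTensor C z) = Tl (a ∘ₗ f) z := by
  induction z with
  | zero => simp
  | add x y hx hy => rw [map_add, map_add, hx, hy, map_add]
  | tmul x y => simp

lemma apply_Tl (a b : C →ₗ[A] A) (z : C ⊗[A] C) :
    a (Tl b z) = LinearMap.mul' A A (TensorProduct.map a b z) := by
  induction z with
  | zero => simp
  | add x y hx hy => rw [map_add, map_add, hx, hy, map_add, map_add]
  | tmul x y => simp [mul_comm]

lemma counit_Tl_comul (a : C →ₗ[A] A) (c : C) :
    Coalgebra.counit (R := A) (Tl a (Coalgebra.comul (R := A) c)) = a c := by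
  have key : ∀ z : C ⊗[A] C, Coalgebra.counit (R := A) (Tl a z) =
      a (TensorProduct.lid A C ((Coalgebra.counit (R := A)).rTensor C z)) := by
    intro z
    induction z with
    | zero => simp
    | add x y hx hy => rw [map_add, map_add, hx, hy, map_add, map_add, map_add]
    | tmul x y => simp [mul_comm]
  rw [key, Coalgebra.rTensor_counit_comul, TensorProduct.lid_tmul, one_smul]

/-- the projector attached to a functional -/
noncomputable def proj (a : C →ₗ[A] A) : C →ₗ[A] C := Tl a ∘ₗ Coalgebra.comul (R := A)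

lemma proj_proj (a b : C →ₗ[A] A) (c : C) :
    proj a (proj b c) =
      Tl (LinearMap.mul' A A ∘ₗ TensorProduct.map a b ∘ₗ Coalgebra.comul (R := A))
        (Coalgebra.comul (R := A) c) := by
  change Tl a (Coalgebra.comul (R := A) (Tl b (Coalgebra.comul (R := A) c))) = _
  rw [← Tl_lTensor_assoc_rTensor_comul, Coalgebra.coassoc_apply]
  have h1 : (Tl b).lTensor C ((Coalgebra.comul (R := A)).lTensor C (Coalgebra.comul (R := A) c)) =
      (Tl b ∘ₗ Coalgebra.comul (R := A)).lTensor C (Coalgebra.comul (R := A) c) := by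
    rw [LinearMap.lTensor_comp, LinearMap.comp_apply]
  rw [h1, Tl_lTensor]
  have h2 : a ∘ₗ Tl b ∘ₗ Coalgebra.comul (R := A) =
      LinearMap.mul' A A ∘ₗ TensorProduct.map a b ∘ₗ Coalgebra.comul (R := A) :=
    LinearMap.ext fun y => apply_Tl a b _
  rw [h2]

end proj

section fin
variable {A : Type u} [CommRing A] [IsNoetherianRing A] {C : Type u} [CommRing C] [HopfAlgebra A C]
  {M : Type u}

open Classical in
/-- a family of orthogonal idempotent functionals is locally finite -/
theorem finite_support_of_orthogonal (a : M → (C →ₗ[A] A))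
    (horth : ∀ s m c, LinearMap.mul' A A (TensorProduct.map (a s) (a m)
      (Coalgebra.comul (R := A) c)) = if s = m then a m c else 0) (c : C) :
    (Function.support fun m => a m c).Finite := by
  have hpp : ∀ s m x, proj (a s) (proj (a m) x) = if s = m then proj (a m) x else 0 := by
    intro s m x
    rw [proj_proj]
    have h1 : LinearMap.mul' A A ∘ₗ TensorProduct.map (a s) (a m) ∘ₗ Coalgebra.comul (R := A) =
        if s = m then a m else 0 := by
      apply LinearMap.ext
      intro y
      simp only [LinearMap.comp_apply]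
      rw [horth]
      split_ifs <;> rfl
    rw [h1]
    split_ifs with h
    · rfl
    · simp [Tl]
  obtain ⟨S, hS⟩ := TensorProduct.exists_finset (Coalgebra.comul (R := A) c)
  let V : Submodule A C := Submodule.span A (S.image Prod.fst : Set C)
  have hV : V.FG := ⟨S.image Prod.fst, rfl⟩
  have hpV : ∀ m, proj (a m) c ∈ V := by
    intro m
    change Tl (a m) (Coalgebra.comul (R := A) c) ∈ V
    rw [hS, map_sum]
    apply Submodule.sum_mem
    intro i hi
    rw [Tl_tmul]
    apply Submodule.smul_mem
    apply Submodule.subset_span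
    exact Finset.mem_coe.mpr (Finset.mem_image_of_mem _ hi)
  let W : Submodule A C := Submodule.span A (Set.range fun m => proj (a m) c)
  have hWV : W ≤ V := by
    rw [Submodule.span_le]
    rintro _ ⟨m, rfl⟩
    exact hpV m
  have hW : W.FG := Submodule.FG.of_le hV hWV
  obtain ⟨s', hs', hspan⟩ := (Submodule.fg_span_iff_fg_span_finset_subset _).mp hW
  have hidx : ∀ x : s', ∃ m, proj (a m) c = x.1 := fun x => hs' x.2
  choose idx hidx using hidx
  let T : Finset M := s'.attach.image idx
  have hzero : ∀ m, m ∉ T → proj (a m) c = 0 := by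
    intro m hm
    have h1 : proj (a m) c ∈ Submodule.span A (s' : Set C) := by
      rw [← hspan]
      exact Submodule.subset_span ⟨m, rfl⟩
    have h2 : proj (a m) (proj (a m) c) ∈ Submodule.map (proj (a m)) (Submodule.span A (s' : Set C)) :=
      Submodule.mem_map_of_mem h1
    rw [Submodule.map_span] at h2
    have h3 : (proj (a m)) '' (s' : Set C) ⊆ {0} := by
      rintro _ ⟨x, hx, rfl⟩
      have hx' : x = proj (a (idx ⟨x, hx⟩)) c := (hidx ⟨x, hx⟩).symm
      rw [hx', hpp]
      have : m ≠ idx ⟨x, hx⟩ :=
        fun h => hm (h ▸ Finset.mem_image_of_mem idx (Finset.mem_attach _ _))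
      rw [if_neg this]
      rfl
    have h4 := Submodule.span_mono (R := A) h3 h2
    rw [Submodule.span_singleton_eq_bot.mpr rfl, Submodule.mem_bot, hpp, if_pos rfl] at h4
    exact h4
  apply Set.Finite.subset T.finite_toSet
  intro m hm
  by_contra hmT
  apply hm
  change a m c = 0
  rw [← counit_Tl_comul (a m) c]
  change Coalgebra.counit (R := A) (proj (a m) c) = 0
  rw [hzero m hmT, map_zero]

end fin

section alg
variable {A : Type u} [CommRing A] [IsNoetherianRing A] (I : Ideal A) [IsAdicComplete I A]
  {C : Type u} [CommRing C] [HopfAlgebra A C] {M : Type u} [CommGroup M]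

omit [IsNoetherianRing A] in
lemma eq_zero_of_forall_mk_pow_eq_zero (x : A) (h : ∀ n, algebraMap A (A ⧸ I ^ n) x = 0) :
    x = 0 := by
  apply IsHausdorff.haus (inferInstance : IsHausdorff I A)
  intro n
  rw [SModEq.zero, smul_eq_mul, Ideal.mul_top]
  have := h n
  rwa [Ideal.Quotient.algebraMap_eq, Ideal.Quotient.eq_zero_iff_mem] at this

open Classical in
/-- **Algebraisation**: a compatible family of homomorphisms `D(M) → G` modulo the powers of `I`
comes from a homomorphism over `A`. -/
theorem exists_bialgHom_of_compatible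
    (Θ : ∀ n : ℕ, C →ₐ[A] MonoidAlgebra (A ⧸ I ^ n) M)
    (hΘ : ∀ n, IsCoalgMapOver (A ⧸ I ^ n) (Θ n).toLinearMap)
    (hcompat : ∀ n c m, Ideal.Quotient.factor (Ideal.pow_le_pow_right (Nat.le_succ n))
      ((Θ (n + 1) c).coeff m) = (Θ n c).coeff m) :
    ∃ Φ : C →ₐc[A] MonoidAlgebra A M,
      ∀ n c, mapCoeff (S := A) (S' := A ⧸ I ^ n) M (Φ c) = Θ n c := by
  -- general compatibility
  have hcompat' : ∀ k n (hkn : k ≤ n) c m, Ideal.Quotient.factor (Ideal.pow_le_pow_right hkn)
      ((Θ n c).coeff m) = (Θ k c).coeff m := by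
    intro k n hkn
    induction n, hkn using Nat.le_induction with
    | base =>
      intro c m
      obtain ⟨r, hr⟩ := Ideal.Quotient.mk_surjective ((Θ k c).coeff m)
      rw [← hr]
      rfl
    | succ n hkn ih =>
      intro c m
      rw [← ih c m, ← hcompat n c m]
      obtain ⟨r, hr⟩ := Ideal.Quotient.mk_surjective ((Θ (n + 1) c).coeff m)
      rw [← hr]
      rfl
  -- the coefficients
  have hex : ∀ c m, ∃ x : A, ∀ n, Ideal.Quotient.mk (I ^ n) x = (Θ n c).coeff m := by
    intro c m
    have hf : ∀ n, ∃ r : A, Ideal.Quotient.mk (I ^ n) r = (Θ n c).coeff m :=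
      fun n => Ideal.Quotient.mk_surjective _
    choose f hf using hf
    obtain ⟨L, hL⟩ := IsPrecomplete.prec (inferInstance : IsPrecomplete I A) (f := f) (by
      intro k n hkn
      rw [SModEq.sub_mem, smul_eq_mul, Ideal.mul_top, ← Ideal.Quotient.eq, hf k,
        ← hcompat' k n hkn c m, ← hf n]
      rfl)
    refine ⟨L, fun n => ?_⟩
    rw [← hf n]
    have := hL n
    rw [SModEq.sub_mem, smul_eq_mul, Ideal.mul_top, ← Ideal.Quotient.eq] at this
    exact this.symm
  choose a₀ ha₀ using hex
  have hinj : ∀ r : A, (∀ n, algebraMap A (A ⧸ I ^ n) r = 0) → r = 0 :=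
    eq_zero_of_forall_mk_pow_eq_zero I
  -- linearity
  let a : M → (C →ₗ[A] A) := fun m =>
    { toFun := fun c => a₀ c m
      map_add' := fun x y => by
        rw [← sub_eq_zero]
        apply hinj
        intro n
        rw [Ideal.Quotient.algebraMap_eq, map_sub, map_add, ha₀, ha₀, ha₀, map_add,
          MonoidAlgebra.coeff_add, Finsupp.add_apply, sub_self]
      map_smul' := fun r x => by
        rw [← sub_eq_zero]
        apply hinj
        intro n
        rw [Ideal.Quotient.algebraMap_eq, map_sub, RingHom.id_apply, smul_eq_mul, map_mul, ha₀,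
          ha₀, map_smul, MonoidAlgebra.coeff_smul, Finsupp.smul_apply, Algebra.smul_def,
          Ideal.Quotient.algebraMap_eq, sub_self] }
  have ha : ∀ n m c, Ideal.Quotient.mk (I ^ n) (a m c) = (Θ n c).coeff m := fun n m c => ha₀ c m n
  -- orthogonality
  have horth : ∀ s m c, LinearMap.mul' A A (TensorProduct.map (a s) (a m)
      (Coalgebra.comul (R := A) c)) = if s = m then a m c else 0 := by
    intro s m c
    rw [← sub_eq_zero]
    apply hinj
    intro n
    have h1 : ∀ z : C ⊗[A] C, algebraMap A (A ⧸ I ^ n)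
        (LinearMap.mul' A A (TensorProduct.map (a s) (a m) z)) =
        coeffPair s m (tmul₂ (A ⧸ I ^ n) (Θ n).toLinearMap z) := by
      intro z
      induction z with
      | zero => simp
      | add x y hx hy => rw [map_add, map_add, map_add, hx, hy, map_add, map_add]
      | tmul x y =>
        rw [TensorProduct.map_tmul, LinearMap.mul'_apply, map_mul, tmul₂_tmul, coeffPair_tmul,
          Ideal.Quotient.algebraMap_eq, ha, ha]
        rfl
    rw [map_sub, h1, ← (hΘ n).comul, coeffPair_comul', Ideal.Quotient.algebraMap_eq]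
    split_ifs with h
    · subst h
      rw [ha]
      exact sub_self _
    · rw [map_zero, sub_zero]
  have hfin : ∀ c, (Function.support fun m => a m c).Finite :=
    finite_support_of_orthogonal a horth
  let φ : C → MonoidAlgebra A M := fun c =>
    MonoidAlgebra.ofCoeff (Finsupp.ofSupportFinite (fun m => a m c) (hfin c))
  have hφc : ∀ c m, (φ c).coeff m = a m c := fun c m => rfl
  obtain ⟨ψ, hψ⟩ := exists_bialgHom_of_jointly_injective (fun n => A ⧸ I ^ n) hinj φ Θ hΘ (by
    intro n c
    ext m
    rw [mapCoeff_coeff, hφc, Ideal.Quotient.algebraMap_eq, ha])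
  refine ⟨ψ, fun n c => ?_⟩
  rw [hψ]
  ext m
  rw [mapCoeff_coeff, hφc, Ideal.Quotient.algebraMap_eq, ha]

end alg

end Groth.Agent.H15.MTA
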