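import Groth.Agent.H15.MTAlg2
import Groth.Agent.H15.MTLift3

/-!
# Descent of scalars along an atlas; cocommutativity of groups of multiplicative type
-/

set_option autoImplicit false
set_option linter.style.haveILetI false
universe u
open TensorProduct Coalgebra

namespace Groth.Agent.H15.MTA
open Groth.Agent.H26 Groth.Agent.H15.GLD Groth.Agent.H15.MTC Groth.Agent.H15.MTF

section desc
variable {R : Type u} [CommRing R] {A : Type u} [CommRing A] [HopfAlgebra R A]
  {ι : Type u} [Fintype ι] (c : ι → Chart R A)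

/-- joint injectivity of the component maps on `S ⊗ S`, `S` the product of the chart rings -/
theorem eq_zero_of_forall_map_proj_eq_zero (y : ProdRing c ⊗[R] ProdRing c)
    (h : ∀ i j, TensorProduct.map (LinearMap.proj i : ProdRing c →ₗ[R] (c i).R')
      (LinearMap.proj j : ProdRing c →ₗ[R] (c j).R') y = 0) : y = 0 := by
  classical
  let σ : ∀ i j, (c i).R' ⊗[R] (c j).R' →ₗ[R] ProdRing c ⊗[R] ProdRing c :=
    fun i j => TensorProduct.map (LinearMap.single R (fun i => (c i).R') i)
      (LinearMap.single R (fun i => (c i).R') j)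
  have key : ∀ y, y = ∑ i, ∑ j, σ i j (TensorProduct.map
      (LinearMap.proj i : ProdRing c →ₗ[R] (c i).R')
      (LinearMap.proj j : ProdRing c →ₗ[R] (c j).R') y) := by
    intro y
    induction y using TensorProduct.induction_on with
    | zero => simp
    | add x y hx hy =>
      conv_lhs => rw [hx, hy]
      simp only [map_add, Finset.sum_add_distrib]
    | tmul s s' =>
      simp only [σ, TensorProduct.map_tmul, LinearMap.proj_apply, LinearMap.coe_single]
      simp_rw [← TensorProduct.tmul_sum, ← TensorProduct.sum_tmul]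
      rw [Finset.univ_sum_single, Finset.univ_sum_single]
  rw [key y]
  simp [h]

variable {c}

/-- descent of scalars along an atlas -/
theorem exists_of_forall_tmul_eq
    (hc : ∀ (K : Ideal R) (x : R),
      (∀ i, algebraMap R (c i).R' x ∈ K.map (algebraMap R (c i).R')) → x ∈ K)
    (t : ∀ i, (c i).R')
    (h : ∀ i j, t i ⊗ₜ[R] (1 : (c j).R') = (1 : (c i).R') ⊗ₜ[R] t j) :
    ∃ r : R, ∀ i, algebraMap R (c i).R' r = t i := by
  haveI := prodRing_faithfullyFlat hc
  let T : ProdRing c := t
  have h1 : T ⊗ₜ[R] (1 : ProdRing c) = (1 : ProdRing c) ⊗ₜ[R] T := by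
    rw [← sub_eq_zero]
    apply eq_zero_of_forall_map_proj_eq_zero c
    intro i j
    rw [map_sub, TensorProduct.map_tmul, TensorProduct.map_tmul, sub_eq_zero]
    exact h i j
  have h2 : (1 : ProdRing c) ⊗ₜ[R] (T ⊗ₜ[R] (1 : R)) =
      FFD.d₂ R (ProdRing c) R (T ⊗ₜ[R] (1 : R)) := by
    rw [FFD.d₂_tmul]
    apply (LinearEquiv.lTensor (ProdRing c) (TensorProduct.rid R (ProdRing c))).injective
    rw [LinearEquiv.lTensor_tmul, LinearEquiv.lTensor_tmul, TensorProduct.rid_tmul,
      TensorProduct.rid_tmul, one_smul, one_smul]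
    exact h1.symm
  obtain ⟨r, hr⟩ := FFD.exists_of_eq R (ProdRing c) R (T ⊗ₜ[R] (1 : R)) h2
  refine ⟨r, fun i => ?_⟩
  have h3 := congrArg (TensorProduct.rid R (ProdRing c)) hr
  rw [TensorProduct.rid_tmul, TensorProduct.rid_tmul, one_smul] at h3
  have h4 := congrFun h3 i
  rw [Pi.smul_apply, Pi.one_apply, Algebra.smul_def, mul_one] at h4
  exact h4

end desc

section cocomm
variable {R : Type u} [CommRing R] {A : Type u} [CommRing A] [HopfAlgebra R A]
  {ι : Type u} [Fintype ι] {c : ι → Chart R A}

lemma tmul₂_comm {S : Type*} [CommRing S] [Algebra R S] {B : Type*} [AddCommGroup B] [Module R B]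
    {T : Type*} [AddCommGroup T] [Module R T] [Module S T] [IsScalarTower R S T]
    (l : B →ₗ[R] T) (z : B ⊗[R] B) :
    tmul₂ S l (TensorProduct.comm R B B z) = TensorProduct.comm S T T (tmul₂ S l z) := by
  induction z with
  | zero => simp
  | add x y hx hy => rw [map_add, map_add, hx, hy, map_add, map_add]
  | tmul x y => simp

/-- a Hopf algebra with an atlas of diagonalising charts is cocommutative -/
theorem isCocomm_of_atlas
    (hc : ∀ (K : Ideal R) (x : R),
      (∀ i, algebraMap R (c i).R' x ∈ K.map (algebraMap R (c i).R')) → x ∈ K) :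
    Coalgebra.IsCocomm R A := by
  refine ⟨LinearMap.ext fun a => ?_⟩
  rw [LinearMap.comp_apply, ← sub_eq_zero]
  apply eq_zero_of_forall_tmul₂_eq_zero hc
  intro i
  rw [map_sub, LinearEquiv.coe_coe, tmul₂_comm, ← (c i).isChart.coalg.comul, sub_eq_zero]
  exact LinearMap.congr_fun (Coalgebra.comm_comp_comul (c i).R' (MonoidAlgebra (c i).R' (c i).N)) _

end cocomm

end Groth.Agent.H15.MTA
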