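import Groth.Agent.H15.MTBC
import Groth.Agent.H47.EtaleLift

set_option autoImplicit false
set_option linter.style.haveILetI false
universe u
open TensorProduct Coalgebra

namespace Groth.Agent.H15.MTC
open Groth.Agent.H26 Groth.Agent.H15.GLD

section ringlemmas
variable {R : Type*} [CommRing R] {Rb : Type*} [CommRing Rb] [Algebra R Rb]
  {S : Type*} [CommRing S] [Algebra R S] {Rb' : Type*} [CommRing Rb'] [Algebra Rb Rb']
  [Algebra R Rb'] [IsScalarTower R Rb Rb'] [Algebra S Rb'] [IsScalarTower R S Rb']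

/-- faithful flatness lifts along nil thickenings -/
theorem faithfullyFlat_of_mod_nil (hsurj : Function.Surjective (algebraMap R Rb))
    (hnil : ∀ x ∈ RingHom.ker (algebraMap R Rb), IsNilpotent x) [Module.Flat R S]
    [Module.FaithfullyFlat Rb Rb'] : Module.FaithfullyFlat R S := by
  rw [Module.FaithfullyFlat.iff_flat_and_ideal_smul_eq_top]
  refine ⟨inferInstance, fun K hK => ?_⟩
  have h1 : (1 : S) ∈ (K • ⊤ : Submodule R S) := by rw [hK]; trivial
  have h2 : (1 : Rb') ∈ (K • ⊤ : Submodule R Rb') := by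
    have := map_mem_smul_top K (IsScalarTower.toAlgHom R S Rb').toLinearMap h1
    simpa using this
  have h3 : (1 : Rb') ∈ ((K.map (algebraMap R Rb)) • ⊤ : Submodule Rb Rb') := by
    refine Submodule.smul_induction_on h2 ?_ ?_
    · intro k hk y _
      rw [← algebraMap_smul Rb k y]
      exact Submodule.smul_mem_smul (Ideal.mem_map_of_mem _ hk) trivial
    · intro x y hx hy
      exact add_mem hx hy
  have h4 : (K.map (algebraMap R Rb)) • (⊤ : Submodule Rb Rb') = ⊤ := by
    rw [eq_top_iff]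
    intro y _
    have : y = y • (1 : Rb') := by rw [smul_eq_mul, mul_one]
    rw [this]
    rw [Ideal.smul_top_eq_map] at h3 ⊢
    exact Ideal.mul_mem_left _ y h3
  have h5 := ((Module.FaithfullyFlat.iff_flat_and_ideal_smul_eq_top Rb Rb').mp
    (inferInstance : Module.FaithfullyFlat Rb Rb')).2 _ h4
  have h6 : (1 : Rb) ∈ K.map (algebraMap R Rb) := by rw [h5]; trivial
  obtain ⟨k, hk, hk1⟩ := (Ideal.mem_map_iff_of_surjective _ hsurj).mp h6
  have h7 : IsNilpotent (1 - k) := by
    apply hnil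
    rw [RingHom.mem_ker, map_sub, map_one, hk1, sub_self]
  have h8 : IsUnit k := by
    have := h7.isUnit_one_sub
    rwa [sub_sub_cancel] at this
  exact Ideal.eq_top_of_isUnit_mem _ hk h8

/-- finiteness lifts along nil thickenings -/
theorem finite_of_mod_nil (hsurj : Function.Surjective (algebraMap R Rb))
    (hnil : ∀ x ∈ RingHom.ker (algebraMap S Rb'), IsNilpotent x) [Algebra.FiniteType R S]
    [Module.Finite Rb Rb'] : Module.Finite R S := by
  haveI : Algebra.IsIntegral R S := by
    refine ⟨fun s => ?_⟩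
    obtain ⟨pb, hpbm, hpb⟩ := Algebra.IsIntegral.isIntegral (R := Rb) (algebraMap S Rb' s)
    obtain ⟨p, hp, -, hpm⟩ := Polynomial.lifts_and_natDegree_eq_and_monic
      (Polynomial.mem_lifts_of_surjective hsurj pb) hpbm
    have h1 : algebraMap S Rb' (Polynomial.aeval s p) = 0 := by
      rw [← hp, Polynomial.eval₂_map] at hpb
      rw [Polynomial.aeval_def, Polynomial.hom_eval₂, ← hpb]
      congr 1
      ext r
      simp only [RingHom.comp_apply]
      rw [← IsScalarTower.algebraMap_apply, ← IsScalarTower.algebraMap_apply]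
    obtain ⟨k, hk⟩ := hnil _ (RingHom.mem_ker.mpr h1)
    refine ⟨p ^ k, hpm.pow k, ?_⟩
    rw [← Polynomial.aeval_def, map_pow, hk]
  exact Algebra.IsIntegral.finite

end ringlemmas

section thmL
variable {R : Type u} [CommRing R] {A : Type u} [CommRing A] [HopfAlgebra R A]
  {ι : Type u} [Fintype ι] (c : ι → Chart R A)
  {Rb : Type u} [CommRing Rb] [Algebra R Rb]
  {Rb' : Type u} [CommRing Rb'] [Algebra Rb Rb'] [Algebra R Rb'] [IsScalarTower R Rb Rb']
  [Algebra.Etale Rb Rb'] {M : Type u} [CommGroup M]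

/-- lifting a splitting etale algebra along a nil thickening of the base -/
theorem exists_etale_lift_split
    (hc : ∀ (K : Ideal R) (x : R),
      (∀ i, algebraMap R (c i).R' x ∈ K.map (algebraMap R (c i).R')) → x ∈ K)
    (hsurj : Function.Surjective (algebraMap R Rb))
    (hnil : ∀ x ∈ RingHom.ker (algebraMap R Rb), IsNilpotent x)
    (h : HasDChart R A Rb' M) :
    ∃ (S : Type u) (_ : CommRing S) (_ : Algebra R S), Algebra.Etale R S ∧
      (Module.FaithfullyFlat Rb Rb' → Module.FaithfullyFlat R S) ∧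
      (Module.Finite Rb Rb' → Module.Finite R S) ∧
      Nonempty (S ⊗[R] A ≃ₐc[S] MonoidAlgebra S M) := by
  let ρ : (R ⧸ RingHom.ker (algebraMap R Rb)) ≃+* Rb := RingHom.quotientKerEquivOfSurjective hsurj
  letI : Algebra (R ⧸ RingHom.ker (algebraMap R Rb)) Rb := ρ.toRingHom.toAlgebra
  letI : Algebra (R ⧸ RingHom.ker (algebraMap R Rb)) Rb' :=
    ((algebraMap Rb Rb').comp ρ.toRingHom).toAlgebra
  haveI : IsScalarTower (R ⧸ RingHom.ker (algebraMap R Rb)) Rb Rb' :=
    IsScalarTower.of_algebraMap_eq fun _ => rfl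
  haveI : IsScalarTower R (R ⧸ RingHom.ker (algebraMap R Rb)) Rb :=
    IsScalarTower.of_algebraMap_eq fun r => rfl
  haveI : IsScalarTower R (R ⧸ RingHom.ker (algebraMap R Rb)) Rb' :=
    IsScalarTower.of_algebraMap_eq fun r => by
      rw [IsScalarTower.algebraMap_apply R Rb Rb']; rfl
  haveI : Algebra.Etale (R ⧸ RingHom.ker (algebraMap R Rb)) Rb :=
    Algebra.Etale.of_equiv (AlgEquiv.ofRingEquiv (f := ρ) (fun _ => rfl))
  haveI : Algebra.Etale (R ⧸ RingHom.ker (algebraMap R Rb)) Rb' :=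
    Algebra.Etale.comp (R ⧸ RingHom.ker (algebraMap R Rb)) Rb Rb'
  obtain ⟨S, _, _, hSet, ⟨σ⟩⟩ :=
    Groth.Agent.H47.exists_etale_lift_quotient R (RingHom.ker (algebraMap R Rb)) Rb'
  let g : S →ₐ[R] Rb' := (σ.toAlgHom.restrictScalars R).comp Algebra.TensorProduct.includeRight
  letI : Algebra S Rb' := g.toRingHom.toAlgebra
  haveI : IsScalarTower R S Rb' := IsScalarTower.of_algebraMap_eq fun r => (g.commutes r).symm
  have hg : ∀ s : S, algebraMap S Rb' s = σ ((1 : R ⧸ RingHom.ker (algebraMap R Rb)) ⊗ₜ[R] s) :=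
    fun s => rfl
  have hgsurj : Function.Surjective (algebraMap S Rb') := by
    intro y
    obtain ⟨s, hs⟩ := TensorProduct.mk_surjective R S (R ⧸ RingHom.ker (algebraMap R Rb))
      Ideal.Quotient.mk_surjective (σ.symm y)
    refine ⟨s, ?_⟩
    rw [hg]
    change σ (TensorProduct.mk R _ S 1 s) = y
    rw [hs, AlgEquiv.apply_symm_apply]
  have hgnil : ∀ x ∈ RingHom.ker (algebraMap S Rb'), IsNilpotent x := by
    intro x hx
    rw [RingHom.mem_ker, hg] at hx
    have h1 : (1 : R ⧸ RingHom.ker (algebraMap R Rb)) ⊗ₜ[R] x = 0 := by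
      apply σ.injective
      rw [hx, map_zero]
    have h2 := mem_smul_top_of_one_tmul_eq_zero _ x h1
    rw [Ideal.smul_top_eq_map] at h2
    exact map_nil _ _ hnil x h2
  refine ⟨S, inferInstance, inferInstance, hSet, ?_, ?_, ?_⟩
  · intro hff
    haveI := hff
    exact faithfullyFlat_of_mod_nil (Rb := Rb) (Rb' := Rb') hsurj hnil
  · intro hfin
    haveI := hfin
    exact finite_of_mod_nil (Rb := Rb) (Rb' := Rb') hsurj hgnil
  · exact nonempty_equiv_of_atlas_of_dchart (fun i => (c i).baseChange S) (atlas_baseChange hc S)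
      hgsurj hgnil (h.baseChange S)

end thmL

section locquot
variable {R : Type*} [CommRing R] (I : Ideal R)

lemma awayMap_mk_surjective (f : R) :
    Function.Surjective (Localization.awayMap (Ideal.Quotient.mk I) f) := by
  rw [Localization.awayMap_surjective_iff]
  intro a
  obtain ⟨b, rfl⟩ := Ideal.Quotient.mk_surjective a
  exact ⟨b, 0, by simp⟩

lemma awayMap_mk_ker_nil (hI : ∀ x ∈ I, IsNilpotent x) (f : R) :
    ∀ z ∈ RingHom.ker (Localization.awayMap (Ideal.Quotient.mk I) f), IsNilpotent z := by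
  intro z hz
  rw [RingHom.mem_ker] at hz
  obtain ⟨n, r, hzr⟩ := IsLocalization.Away.surj f z
  have h1 : Localization.awayMap (Ideal.Quotient.mk I) f (algebraMap R _ r) = 0 := by
    rw [← hzr, map_mul, hz, zero_mul]
  have h2 : algebraMap (R ⧸ I) (Localization.Away (Ideal.Quotient.mk I f))
      (Ideal.Quotient.mk I r) = 0 := by
    rw [← h1]
    simp [Localization.awayMap, IsLocalization.Away.map]
  rw [IsLocalization.map_eq_zero_iff (Submonoid.powers (Ideal.Quotient.mk I f))] at h2
  obtain ⟨⟨_, k, rfl⟩, hk⟩ := h2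
  have h3 : f ^ k * r ∈ I := by
    rw [← Ideal.Quotient.eq_zero_iff_mem, map_mul, map_pow]
    exact hk
  obtain ⟨N, hN⟩ := hI _ h3
  have hu : IsUnit (algebraMap R (Localization.Away f) f) := IsLocalization.Away.algebraMap_isUnit f
  refine ⟨N, ?_⟩
  have h4 : (z * algebraMap R (Localization.Away f) f ^ n *
      algebraMap R (Localization.Away f) f ^ k) ^ N = 0 := by
    rw [hzr, ← map_pow, ← map_mul, ← map_pow, mul_comm, hN, map_zero]
  rw [mul_assoc, mul_pow] at h4
  have hu2 : IsUnit ((algebraMap R (Localization.Away f) f ^ n *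
      algebraMap R (Localization.Away f) f ^ k) ^ N) := ((hu.pow n).mul (hu.pow k)).pow N
  exact (hu2.mul_left_eq_zero).mp h4

lemma span_preimage_eq_top (hI : ∀ x ∈ I, IsNilpotent x) (sb : Set (R ⧸ I))
    (hsb : Ideal.span sb = ⊤) : Ideal.span ((Ideal.Quotient.mk I) ⁻¹' sb) = ⊤ := by
  have h1 : Ideal.map (Ideal.Quotient.mk I) (Ideal.span ((Ideal.Quotient.mk I) ⁻¹' sb)) = ⊤ := by
    rw [Ideal.map_span, Set.image_preimage_eq _ Ideal.Quotient.mk_surjective, hsb]
  have h2 : (1 : R ⧸ I) ∈ Ideal.map (Ideal.Quotient.mk I)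
      (Ideal.span ((Ideal.Quotient.mk I) ⁻¹' sb)) := by rw [h1]; trivial
  obtain ⟨k, hk, hk1⟩ := (Ideal.mem_map_iff_of_surjective _ Ideal.Quotient.mk_surjective).mp h2
  have h7 : IsNilpotent (1 - k) := by
    apply hI
    rw [← Ideal.Quotient.eq_zero_iff_mem, map_sub, map_one, hk1, sub_self]
  have h8 : IsUnit k := by
    have := h7.isUnit_one_sub
    rwa [sub_sub_cancel] at this
  exact Ideal.eq_top_of_isUnit_mem _ hk h8

end locquot

section final
variable (R : Type u) [CommRing R] (A : Type u) [CommRing A] [HopfAlgebra R A]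

theorem isIsotrivial_of_mod_nil (I : Ideal R) (hI : ∀ x ∈ I, IsNilpotent x)
    (h : SGA3b.IsMultType R A) (h0 : SGA3b.IsIsotrivial (R ⧸ I) ((R ⧸ I) ⊗[R] A)) :
    SGA3b.IsIsotrivial R A := by
  obtain ⟨ι, _, c, hc⟩ := exists_atlas R A h
  obtain ⟨Rb', _, _, het, hfin, hff, M, _, ⟨e₀⟩⟩ := h0
  letI : Algebra R Rb' := ((algebraMap (R ⧸ I) Rb').comp (Ideal.Quotient.mk I)).toAlgebra
  haveI : IsScalarTower R (R ⧸ I) Rb' := IsScalarTower.of_algebraMap_eq fun _ => rfl
  have h1 : HasDChart (R ⧸ I) ((R ⧸ I) ⊗[R] A) Rb' M := HasDChart.of_equiv e₀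
  have h2 : HasDChart R A Rb' M := HasDChart.of_baseChange (R ⧸ I) h1
  have hnil : ∀ x ∈ RingHom.ker (algebraMap R (R ⧸ I)), IsNilpotent x := by
    intro x hx
    apply hI
    rwa [RingHom.mem_ker, Ideal.Quotient.algebraMap_eq, Ideal.Quotient.eq_zero_iff_mem] at hx
  obtain ⟨S, _, _, hSet, hSff, hSfin, ⟨e⟩⟩ := exists_etale_lift_split c hc
    (Rb := R ⧸ I) (Rb' := Rb') Ideal.Quotient.mk_surjective hnil h2
  exact ⟨S, inferInstance, inferInstance, hSet, hSfin hfin, hSff hff, M, inferInstance, ⟨e⟩⟩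

theorem isQuasiIsotrivial_of_mod_nil (I : Ideal R) (hI : ∀ x ∈ I, IsNilpotent x)
    (h : SGA3b.IsMultType R A) (h0 : SGA3b.IsQuasiIsotrivial (R ⧸ I) ((R ⧸ I) ⊗[R] A)) :
    SGA3b.IsQuasiIsotrivial R A := by
  obtain ⟨ι, _, c, hc⟩ := exists_atlas R A h
  obtain ⟨sb, hsb, hloc⟩ := h0
  refine ⟨(Ideal.Quotient.mk I) ⁻¹' sb, span_preimage_eq_top I hI sb hsb, ?_⟩
  intro f hf
  obtain ⟨Rb', _, _, het, hff, M, _, ⟨e₀⟩⟩ := hloc (Ideal.Quotient.mk I f) hf
  letI : Algebra (Localization.Away f) (Localization.Away (Ideal.Quotient.mk I f)) :=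
    (Localization.awayMap (Ideal.Quotient.mk I) f).toAlgebra
  haveI : IsScalarTower R (Localization.Away f) (Localization.Away (Ideal.Quotient.mk I f)) :=
    IsScalarTower.of_algebraMap_eq fun r => by
      change _ = Localization.awayMap (Ideal.Quotient.mk I) f (algebraMap R _ r)
      rw [IsScalarTower.algebraMap_apply R (R ⧸ I) (Localization.Away (Ideal.Quotient.mk I f))]
      simp [Localization.awayMap, IsLocalization.Away.map]
  letI : Algebra (Localization.Away f) Rb' :=
    ((algebraMap (Localization.Away (Ideal.Quotient.mk I f)) Rb').comp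
      (algebraMap (Localization.Away f) (Localization.Away (Ideal.Quotient.mk I f)))).toAlgebra
  haveI : IsScalarTower (Localization.Away f) (Localization.Away (Ideal.Quotient.mk I f)) Rb' :=
    IsScalarTower.of_algebraMap_eq fun _ => rfl
  letI : Algebra (R ⧸ I) Rb' :=
    ((algebraMap (Localization.Away (Ideal.Quotient.mk I f)) Rb').comp
      (algebraMap (R ⧸ I) (Localization.Away (Ideal.Quotient.mk I f)))).toAlgebra
  haveI : IsScalarTower (R ⧸ I) (Localization.Away (Ideal.Quotient.mk I f)) Rb' :=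
    IsScalarTower.of_algebraMap_eq fun _ => rfl
  letI : Algebra R Rb' :=
    ((algebraMap (Localization.Away (Ideal.Quotient.mk I f)) Rb').comp
      (algebraMap R (Localization.Away (Ideal.Quotient.mk I f)))).toAlgebra
  haveI : IsScalarTower R (Localization.Away (Ideal.Quotient.mk I f)) Rb' :=
    IsScalarTower.of_algebraMap_eq fun _ => rfl
  haveI : IsScalarTower R (R ⧸ I) Rb' := IsScalarTower.of_algebraMap_eq fun r => by
    change algebraMap (Localization.Away (Ideal.Quotient.mk I f)) Rb' (algebraMap R _ r) =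
      algebraMap (Localization.Away (Ideal.Quotient.mk I f)) Rb'
        (algebraMap (R ⧸ I) _ (algebraMap R (R ⧸ I) r))
    rw [← IsScalarTower.algebraMap_apply R (R ⧸ I)]
  haveI : IsScalarTower R (Localization.Away f) Rb' := IsScalarTower.of_algebraMap_eq fun r => by
    change algebraMap (Localization.Away (Ideal.Quotient.mk I f)) Rb' (algebraMap R _ r) =
      algebraMap (Localization.Away (Ideal.Quotient.mk I f)) Rb'
        (algebraMap (Localization.Away f) _ (algebraMap R (Localization.Away f) r))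
    rw [← IsScalarTower.algebraMap_apply R (Localization.Away f)]
  have h1 : HasDChart (Localization.Away (Ideal.Quotient.mk I f))
      (Localization.Away (Ideal.Quotient.mk I f) ⊗[R ⧸ I] ((R ⧸ I) ⊗[R] A)) Rb' M :=
    HasDChart.of_equiv e₀
  have h2 : HasDChart (R ⧸ I) ((R ⧸ I) ⊗[R] A) Rb' M :=
    HasDChart.of_baseChange (Localization.Away (Ideal.Quotient.mk I f)) h1
  have h3 : HasDChart R A Rb' M := HasDChart.of_baseChange (R ⧸ I) h2
  have h4 : HasDChart (Localization.Away f) (Localization.Away f ⊗[R] A) Rb' M :=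
    h3.baseChange (Localization.Away f)
  obtain ⟨S, _, _, hSet, hSff, -, ⟨e⟩⟩ := exists_etale_lift_split
    (fun i => (c i).baseChange (Localization.Away f)) (atlas_baseChange hc (Localization.Away f))
    (Rb := Localization.Away (Ideal.Quotient.mk I f)) (Rb' := Rb')
    (awayMap_mk_surjective I f) (awayMap_mk_ker_nil I hI f) h4
  exact ⟨S, inferInstance, inferInstance, hSet, hSff hff, M, inferInstance, ⟨e⟩⟩

end final

end Groth.Agent.H15.MTC
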