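import Groth.Agent.H15.MTFlat2
import Groth.Agent.H15.MTEtLift

/-!
# Flat affine groups which are of multiplicative type modulo a nilpotent ideal
-/

set_option autoImplicit false
set_option linter.style.haveILetI false
universe u
open TensorProduct Coalgebra

namespace Groth.Agent.H15.MTF
open Groth.Agent.H26 Groth.Agent.H15.GLD Groth.Agent.H15.MTC

section ringlemmas
variable {R : Type*} [CommRing R]

lemma nil_of_isNilpotent_ideal {J : Ideal R} (hJ : IsNilpotent J) : ∀ x ∈ J, IsNilpotent x := by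
  intro x hx
  obtain ⟨n, hn⟩ := hJ
  refine ⟨n, ?_⟩
  have h1 := Ideal.pow_mem_pow hx n
  rw [hn, Ideal.zero_eq_bot, Ideal.mem_bot] at h1
  exact h1

lemma isNilpotent_of_le_map {S : Type*} [CommRing S] [Algebra R S] {J : Ideal R}
    (hJ : IsNilpotent J) {K : Ideal S} (hK : K ≤ J.map (algebraMap R S)) : IsNilpotent K := by
  obtain ⟨n, hn⟩ := hJ
  refine ⟨n, ?_⟩
  rw [Ideal.zero_eq_bot, eq_bot_iff]
  calc K ^ n ≤ (J.map (algebraMap R S)) ^ n := Ideal.pow_right_mono hK n
    _ = (J ^ n).map (algebraMap R S) := (Ideal.map_pow _ _ _).symm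
    _ = ⊥ := by rw [hn, Ideal.zero_eq_bot, Ideal.map_bot]

lemma awayMap_mk_ker_le (I : Ideal R) (f : R) :
    RingHom.ker (Localization.awayMap (Ideal.Quotient.mk I) f) ≤
      I.map (algebraMap R (Localization.Away f)) := by
  intro z hz
  rw [RingHom.mem_ker] at hz
  obtain ⟨n, r, hzr⟩ := IsLocalization.Away.surj f z
  have h1 : Localization.awayMap (Ideal.Quotient.mk I) f (algebraMap R _ r) = 0 := by
    rw [← hzr, map_mul, hz, zero_mul]
  have h2 : algebraMap (R ⧸ I) (Localization.Away (Ideal.Quotient.mk I f))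
      (Ideal.Quotient.mk I r) = 0 := by
    rw [← h1]
    simp [Localization.awayMap, IsLocalization.Away.map]
  rw [IsLocalization.map_eq_zero_iff (Submonoid.powers (Ideal.Quotient.mk I f))] at h2
  obtain ⟨⟨_, k, rfl⟩, hk⟩ := h2
  have h3 : f ^ k * r ∈ I := by
    rw [← Ideal.Quotient.eq_zero_iff_mem, map_mul, map_pow]
    exact hk
  have hu : IsUnit (algebraMap R (Localization.Away f) f) := IsLocalization.Away.algebraMap_isUnit f
  have hu2 : IsUnit (algebraMap R (Localization.Away f) f ^ n *
      algebraMap R (Localization.Away f) f ^ k) := (hu.pow n).mul (hu.pow k)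
  have h4 : z * (algebraMap R (Localization.Away f) f ^ n *
      algebraMap R (Localization.Away f) f ^ k) = algebraMap R (Localization.Away f) (f ^ k * r) := by
    rw [← mul_assoc, hzr, map_mul, map_pow, mul_comm]
  obtain ⟨v, hv⟩ := hu2
  have h5 : z = algebraMap R (Localization.Away f) (f ^ k * r) * ((v⁻¹ : (Localization.Away f)ˣ) : _) := by
    rw [← h4, ← hv, mul_assoc, Units.mul_inv, mul_one]
  rw [h5]
  exact Ideal.mul_mem_right _ _ (Ideal.mem_map_of_mem _ h3)

end ringlemmas

section thmL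
variable {R : Type u} [CommRing R] {A : Type u} [CommRing A] [HopfAlgebra R A] [Module.Flat R A]
  {Rb : Type u} [CommRing Rb] [Algebra R Rb]
  {Rb' : Type u} [CommRing Rb'] [Algebra Rb Rb'] [Algebra R Rb'] [IsScalarTower R Rb Rb']
  [Algebra.Etale Rb Rb'] {M : Type u} [CommGroup M]

/-- lifting a splitting etale algebra along a nilpotent thickening of the base, flat case -/
theorem exists_etale_lift_split_flat
    (hsurj : Function.Surjective (algebraMap R Rb))
    (hnilp : IsNilpotent (RingHom.ker (algebraMap R Rb)))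
    (h : HasDChart R A Rb' M) :
    ∃ (S : Type u) (_ : CommRing S) (_ : Algebra R S), Algebra.Etale R S ∧
      (Module.FaithfullyFlat Rb Rb' → Module.FaithfullyFlat R S) ∧
      (Module.Finite Rb Rb' → Module.Finite R S) ∧
      Nonempty (S ⊗[R] A ≃ₐc[S] MonoidAlgebra S M) := by
  have hnil : ∀ x ∈ RingHom.ker (algebraMap R Rb), IsNilpotent x := nil_of_isNilpotent_ideal hnilp
  let ρ : (R ⧸ RingHom.ker (algebraMap R Rb)) ≃+* Rb := RingHom.quotientKerEquivOfSurjective hsurj
  letI : Algebra (R ⧸ RingHom.ker (algebraMap R Rb)) Rb := ρ.toRingHom.toAlgebra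
  letI : Algebra (R ⧸ RingHom.ker (algebraMap R Rb)) Rb' :=
    ((algebraMap Rb Rb').comp ρ.toRingHom).toAlgebra
  haveI : IsScalarTower (R ⧸ RingHom.ker (algebraMap R Rb)) Rb Rb' :=
    IsScalarTower.of_algebraMap_eq fun _ => rfl
  haveI : IsScalarTower R (R ⧸ RingHom.ker (algebraMap R Rb)) Rb :=
    IsScalarTower.of_algebraMap_eq fun r => rfl
  haveI : IsScalarTower R (R ⧸ RingHom.ker (algebraMap R Rb)) Rb' :=
    IsScalarTower.of_algebraMap_eq fun r => by
      rw [IsScalarTower.algebraMap_apply R Rb Rb']; rfl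
  haveI : Algebra.Etale (R ⧸ RingHom.ker (algebraMap R Rb)) Rb :=
    Algebra.Etale.of_equiv (AlgEquiv.ofRingEquiv (f := ρ) (fun _ => rfl))
  haveI : Algebra.Etale (R ⧸ RingHom.ker (algebraMap R Rb)) Rb' :=
    Algebra.Etale.comp (R ⧸ RingHom.ker (algebraMap R Rb)) Rb Rb'
  obtain ⟨S, _, _, hSet, ⟨σ⟩⟩ :=
    Groth.Agent.H47.exists_etale_lift_quotient R (RingHom.ker (algebraMap R Rb)) Rb'
  let g : S →ₐ[R] Rb' := (σ.toAlgHom.restrictScalars R).comp Algebra.TensorProduct.includeRight
  letI : Algebra S Rb' := g.toRingHom.toAlgebra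
  haveI : IsScalarTower R S Rb' := IsScalarTower.of_algebraMap_eq fun r => (g.commutes r).symm
  have hg : ∀ s : S, algebraMap S Rb' s = σ ((1 : R ⧸ RingHom.ker (algebraMap R Rb)) ⊗ₜ[R] s) :=
    fun s => rfl
  have hgsurj : Function.Surjective (algebraMap S Rb') := by
    intro y
    obtain ⟨s, hs⟩ := TensorProduct.mk_surjective R S (R ⧸ RingHom.ker (algebraMap R Rb))
      Ideal.Quotient.mk_surjective (σ.symm y)
    refine ⟨s, ?_⟩
    rw [hg]
    change σ (TensorProduct.mk R _ S 1 s) = y
    rw [hs, AlgEquiv.apply_symm_apply]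
  have hgle : RingHom.ker (algebraMap S Rb') ≤
      (RingHom.ker (algebraMap R Rb)).map (algebraMap R S) := by
    intro x hx
    rw [RingHom.mem_ker, hg] at hx
    have h1 : (1 : R ⧸ RingHom.ker (algebraMap R Rb)) ⊗ₜ[R] x = 0 := by
      apply σ.injective
      rw [hx, map_zero]
    have h2 := mem_smul_top_of_one_tmul_eq_zero _ x h1
    rw [Ideal.smul_top_eq_map] at h2
    exact h2
  have hgnilp : IsNilpotent (RingHom.ker (algebraMap S Rb')) := isNilpotent_of_le_map hnilp hgle
  have hgnil : ∀ x ∈ RingHom.ker (algebraMap S Rb'), IsNilpotent x :=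
    nil_of_isNilpotent_ideal hgnilp
  refine ⟨S, inferInstance, inferInstance, hSet, ?_, ?_, ?_⟩
  · intro hff
    haveI := hff
    exact faithfullyFlat_of_mod_nil (Rb := Rb) (Rb' := Rb') hsurj hnil
  · intro hfin
    haveI := hfin
    exact finite_of_mod_nil (Rb := Rb) (Rb' := Rb') hsurj hgnil
  · exact nonempty_equiv_of_nilpotent hgsurj hgnilp (h.baseChange S)

end thmL

section final
variable (R : Type u) [CommRing R] (A : Type u) [CommRing A] [HopfAlgebra R A] [Module.Flat R A]

theorem isQuasiIsotrivial_of_flat_mod_nilpotent (I : Ideal R) (hI : IsNilpotent I)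
    (h0 : SGA3b.IsQuasiIsotrivial (R ⧸ I) ((R ⧸ I) ⊗[R] A)) :
    SGA3b.IsQuasiIsotrivial R A := by
  obtain ⟨sb, hsb, hloc⟩ := h0
  refine ⟨(Ideal.Quotient.mk I) ⁻¹' sb,
    span_preimage_eq_top I (nil_of_isNilpotent_ideal hI) sb hsb, ?_⟩
  intro f hf
  obtain ⟨Rb', _, _, het, hff, M, _, ⟨e₀⟩⟩ := hloc (Ideal.Quotient.mk I f) hf
  letI : Algebra (Localization.Away f) (Localization.Away (Ideal.Quotient.mk I f)) :=
    (Localization.awayMap (Ideal.Quotient.mk I) f).toAlgebra
  haveI : IsScalarTower R (Localization.Away f) (Localization.Away (Ideal.Quotient.mk I f)) :=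
    IsScalarTower.of_algebraMap_eq fun r => by
      change _ = Localization.awayMap (Ideal.Quotient.mk I) f (algebraMap R _ r)
      rw [IsScalarTower.algebraMap_apply R (R ⧸ I) (Localization.Away (Ideal.Quotient.mk I f))]
      simp [Localization.awayMap, IsLocalization.Away.map]
  letI : Algebra (Localization.Away f) Rb' :=
    ((algebraMap (Localization.Away (Ideal.Quotient.mk I f)) Rb').comp
      (algebraMap (Localization.Away f) (Localization.Away (Ideal.Quotient.mk I f)))).toAlgebra
  haveI : IsScalarTower (Localization.Away f) (Localization.Away (Ideal.Quotient.mk I f)) Rb' :=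
    IsScalarTower.of_algebraMap_eq fun _ => rfl
  letI : Algebra (R ⧸ I) Rb' :=
    ((algebraMap (Localization.Away (Ideal.Quotient.mk I f)) Rb').comp
      (algebraMap (R ⧸ I) (Localization.Away (Ideal.Quotient.mk I f)))).toAlgebra
  haveI : IsScalarTower (R ⧸ I) (Localization.Away (Ideal.Quotient.mk I f)) Rb' :=
    IsScalarTower.of_algebraMap_eq fun _ => rfl
  letI : Algebra R Rb' :=
    ((algebraMap (Localization.Away (Ideal.Quotient.mk I f)) Rb').comp
      (algebraMap R (Localization.Away (Ideal.Quotient.mk I f)))).toAlgebra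
  haveI : IsScalarTower R (Localization.Away (Ideal.Quotient.mk I f)) Rb' :=
    IsScalarTower.of_algebraMap_eq fun _ => rfl
  haveI : IsScalarTower R (R ⧸ I) Rb' := IsScalarTower.of_algebraMap_eq fun r => by
    change algebraMap (Localization.Away (Ideal.Quotient.mk I f)) Rb' (algebraMap R _ r) =
      algebraMap (Localization.Away (Ideal.Quotient.mk I f)) Rb'
        (algebraMap (R ⧸ I) _ (algebraMap R (R ⧸ I) r))
    rw [← IsScalarTower.algebraMap_apply R (R ⧸ I)]
  haveI : IsScalarTower R (Localization.Away f) Rb' := IsScalarTower.of_algebraMap_eq fun r => by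
    change algebraMap (Localization.Away (Ideal.Quotient.mk I f)) Rb' (algebraMap R _ r) =
      algebraMap (Localization.Away (Ideal.Quotient.mk I f)) Rb'
        (algebraMap (Localization.Away f) _ (algebraMap R (Localization.Away f) r))
    rw [← IsScalarTower.algebraMap_apply R (Localization.Away f)]
  have h1 : HasDChart (Localization.Away (Ideal.Quotient.mk I f))
      (Localization.Away (Ideal.Quotient.mk I f) ⊗[R ⧸ I] ((R ⧸ I) ⊗[R] A)) Rb' M :=
    HasDChart.of_equiv e₀
  have h2 : HasDChart (R ⧸ I) ((R ⧸ I) ⊗[R] A) Rb' M :=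
    HasDChart.of_baseChange (Localization.Away (Ideal.Quotient.mk I f)) h1
  have h3 : HasDChart R A Rb' M := HasDChart.of_baseChange (R ⧸ I) h2
  have h4 : HasDChart (Localization.Away f) (Localization.Away f ⊗[R] A) Rb' M :=
    h3.baseChange (Localization.Away f)
  have hker : IsNilpotent (RingHom.ker (algebraMap (Localization.Away f)
      (Localization.Away (Ideal.Quotient.mk I f)))) :=
    isNilpotent_of_le_map hI (awayMap_mk_ker_le I f)
  obtain ⟨S, _, _, hSet, hSff, -, ⟨e⟩⟩ := exists_etale_lift_split_flat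
    (R := Localization.Away f) (A := Localization.Away f ⊗[R] A)
    (Rb := Localization.Away (Ideal.Quotient.mk I f)) (Rb' := Rb')
    (awayMap_mk_surjective I f) hker h4
  exact ⟨S, inferInstance, inferInstance, hSet, hSff hff, M, inferInstance, ⟨e⟩⟩

end final

end Groth.Agent.H15.MTF
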