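import Groth.Agent.H15.MTAlg3
import Groth.Agent.H15.MTFlat3

/-!
# Lifting homomorphisms `D(M) → G` along nilpotent thickenings, `G` of multiplicative type:
the diagonalisable case
-/

set_option autoImplicit false
set_option linter.style.haveILetI false
universe u
open TensorProduct Coalgebra

namespace Groth.Agent.H15.MTA
open Groth.Agent.H26 Groth.Agent.H15.GLD Groth.Agent.H15.MTC Groth.Agent.H15.MTF

section diaglift
variable {K : Type u} [CommRing K] (J : Ideal K) {M : Type u} [CommGroup M]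

/-- group-like elements of `(K/J)[M]` lift to group-like elements of `K[M]`, `J` nil -/
theorem exists_groupLike_of_mod (hJ : ∀ x ∈ J, IsNilpotent x) (y : MonoidAlgebra (K ⧸ J) M)
    (hy : IsGroupLikeElem (K ⧸ J) y) :
    ∃ g : MonoidAlgebra K M, IsGroupLikeElem K g ∧ mapCoeff (S := K) (S' := K ⧸ J) M g = y := by
  classical
  obtain ⟨z, hz⟩ := mapCoeff_surjective J y
  have hzc : ∀ m, Ideal.Quotient.mk J (z.coeff m) = y.coeff m := by
    intro m
    rw [← hz, mapCoeff_coeff, Ideal.Quotient.algebraMap_eq]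
  obtain ⟨g, hg, hgz⟩ := exists_groupLike_lift J hJ z (by
    intro m n
    rw [← Ideal.Quotient.eq_zero_iff_mem, map_sub, map_mul, hzc, hzc, coeff_mul_coeff hy]
    split_ifs
    · rw [hzc, sub_self]
    · rw [map_zero, sub_self]) (by
    rw [← Ideal.Quotient.eq_zero_iff_mem, map_sub, map_one, ← counit_eq_sum]
    have h1 := (isCoalgMapOver_mapCoeff (S := K) (S' := K ⧸ J) M).counit z
    rw [Ideal.Quotient.algebraMap_eq] at h1
    rw [← h1]
    change Coalgebra.counit (R := K ⧸ J) (mapCoeff (S := K) (S' := K ⧸ J) M z) - 1 = 0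
    rw [hz, hy.counit_eq_one, sub_self])
  refine ⟨g, hg, ?_⟩
  rw [← hz]
  exact (mapCoeff_eq_iff J g z).mpr hgz

/-- uniqueness of group-like lifts -/
theorem groupLike_eq_of_mod (hJ : ∀ x ∈ J, IsNilpotent x) {g g' : MonoidAlgebra K M}
    (hg : IsGroupLikeElem K g) (hg' : IsGroupLikeElem K g')
    (h : mapCoeff (S := K) (S' := K ⧸ J) M g = mapCoeff (S := K) (S' := K ⧸ J) M g') : g = g' :=
  eq_of_coeff_sub_mem J hJ hg hg' ((mapCoeff_eq_iff J g g').mp h)

variable {N : Type u} [CommGroup N]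

/-- **Lifting for diagonalisable groups**: an algebra map `K[N] → (K/J)[M]` compatible with the
coalgebra structures lifts to a bialgebra map `K[N] → K[M]`, `J` nil. -/
theorem exists_bialgHom_lift_diag (hJ : ∀ x ∈ J, IsNilpotent x)
    (θ : MonoidAlgebra K N →ₗ[K] MonoidAlgebra (K ⧸ J) M)
    (hgl : ∀ ν : N, IsGroupLikeElem (K ⧸ J) (θ (MonoidAlgebra.single ν 1)))
    (hθ1 : θ 1 = 1) (hθm : ∀ x y, θ (x * y) = θ x * θ y) :
    ∃ Ψ : MonoidAlgebra K N →ₐc[K] MonoidAlgebra K M,
      ∀ y, mapCoeff (S := K) (S' := K ⧸ J) M (Ψ y) = θ y := by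
  classical
  choose γ hγgl hγ using fun ν => exists_groupLike_of_mod J hJ _ (hgl ν)
  let χ : N →* GroupLike K (MonoidAlgebra K M) :=
    { toFun := fun ν => ⟨γ ν, hγgl ν⟩
      map_one' := by
        apply GroupLike.val_injective
        apply groupLike_eq_of_mod J hJ (hγgl 1) IsGroupLikeElem.one
        rw [hγ, ← MonoidAlgebra.one_def, hθ1]
        exact (map_one _).symm
      map_mul' := fun a b => by
        apply GroupLike.val_injective
        apply groupLike_eq_of_mod J hJ (hγgl (a * b)) ((hγgl a).mul (hγgl b))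
        have h1 : (MonoidAlgebra.single (a * b) 1 : MonoidAlgebra K N) =
            MonoidAlgebra.single a 1 * MonoidAlgebra.single b 1 := by
          rw [MonoidAlgebra.single_mul_single, one_mul]
        rw [hγ, h1, hθm, ← hγ, ← hγ]
        exact (map_mul _ _ _).symm }
  refine ⟨liftHom χ, ?_⟩
  intro y
  induction y using MonoidAlgebra.induction_linear with
  | zero => simp
  | add x y hx hy => rw [map_add, map_add, map_add, hx, hy]
  | single ν r =>
    have h1 : (MonoidAlgebra.single ν r : MonoidAlgebra K N) = r • MonoidAlgebra.single ν 1 := by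
      rw [MonoidAlgebra.smul_single, smul_eq_mul, mul_one]
    rw [liftHom_single, h1, map_smul, map_smul]
    change r • mapCoeff (S := K) (S' := K ⧸ J) M (γ ν) = _
    rw [hγ]

end diaglift

section chartlift
variable {R : Type u} [CommRing R] {D : Type u} [CommRing D] [HopfAlgebra R D]

section equivmul
variable {K : Type u} [CommRing K] [Algebra R K] {N : Type u} [CommGroup N]
  (L : D →ₐ[R] MonoidAlgebra K N) (hbc : IsBaseChange K L.toLinearMap)

include hbc in
lemma equiv_eq_liftAlg (t : K ⊗[R] D) : hbc.equiv t = liftAlg K L t := by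
  rw [← liftBaseChange_eq_equiv hbc, ← liftAlg_toLinearMap]
  rfl

lemma equiv_symm_one : hbc.equiv.symm 1 = 1 := by
  rw [LinearEquiv.symm_apply_eq, equiv_eq_liftAlg L hbc, map_one]

lemma equiv_symm_mul (x y : MonoidAlgebra K N) :
    hbc.equiv.symm (x * y) = hbc.equiv.symm x * hbc.equiv.symm y := by
  rw [LinearEquiv.symm_apply_eq, equiv_eq_liftAlg L hbc, map_mul, ← equiv_eq_liftAlg L hbc,
    ← equiv_eq_liftAlg L hbc, LinearEquiv.apply_symm_apply, LinearEquiv.apply_symm_apply]

lemma equiv_symm_apply_chart (d : D) : hbc.equiv.symm (L d) = (1 : K) ⊗ₜ[R] d := by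
  rw [LinearEquiv.symm_apply_eq, IsBaseChange.equiv_tmul, one_smul]
  rfl

end equivmul

variable (J : Ideal R) {M : Type u} [CommGroup M]

/-- lifting on a chart -/
theorem exists_lift_on_chart (hJ : ∀ x ∈ J, IsNilpotent x) (c : Chart R D)
    (φb : D →ₐ[R] MonoidAlgebra (R ⧸ J) M) (hφb : IsCoalgMapOver (R ⧸ J) φb.toLinearMap) :
    ∃ Φ : D →ₐ[R] MonoidAlgebra c.R' M, IsCoalgMapOver c.R' Φ.toLinearMap ∧
      ∀ d, mapCoeff (S := c.R') (S' := c.R' ⧸ J.map (algebraMap R c.R')) M (Φ d) =
        mapCoeff (S := R ⧸ J) (S' := c.R' ⧸ J.map (algebraMap R c.R')) M (φb d) := by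
  have hJK : ∀ x ∈ J.map (algebraMap R c.R'), IsNilpotent x := map_nil _ J hJ
  let θ : D →ₐ[R] MonoidAlgebra (c.R' ⧸ J.map (algebraMap R c.R')) M :=
    ((mapCoeff (S := R ⧸ J) (S' := c.R' ⧸ J.map (algebraMap R c.R')) M).restrictScalars R).comp φb
  have hθ : IsCoalgMapOver (c.R' ⧸ J.map (algebraMap R c.R')) θ.toLinearMap :=
    IsCoalgMapOver.comp (isCoalgMapOver_mapCoeff M) hφb
  have hα := isCoalgMapOver_liftAlg (K := c.R' ⧸ J.map (algebraMap R c.R'))
    (B := MonoidAlgebra (c.R' ⧸ J.map (algebraMap R c.R')) M) c.R' hθ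
  let θ' : MonoidAlgebra c.R' c.N →ₗ[c.R'] MonoidAlgebra (c.R' ⧸ J.map (algebraMap R c.R')) M :=
    (liftAlg c.R' θ).toLinearMap ∘ₗ c.isChart.bc.equiv.symm.toLinearMap
  have hθ' : ∀ y, θ' y = liftAlg c.R' θ (c.isChart.bc.equiv.symm y) := fun y => rfl
  obtain ⟨Ψ, hΨ⟩ := exists_bialgHom_lift_diag (J.map (algebraMap R c.R')) hJK θ'
    (fun ν => by
      rw [hθ']
      exact hα.isGroupLikeElem (isGroupLikeElem_equiv_symm c.isChart.coalg c.isChart.bc
        (MonoidAlgebra.isGroupLikeElem_single_one ν)))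
    (by rw [hθ', equiv_symm_one c.L c.isChart.bc, map_one])
    (fun x y => by rw [hθ', hθ', hθ', equiv_symm_mul c.L c.isChart.bc, map_mul])
  refine ⟨((Ψ : MonoidAlgebra c.R' c.N →ₐ[c.R'] MonoidAlgebra c.R' M).restrictScalars R).comp c.L,
    IsCoalgMapOver.comp (S₂ := c.R')
      (isCoalgMapOver_of_coalgHom (Ψ : MonoidAlgebra c.R' c.N →ₗc[c.R'] MonoidAlgebra c.R' M))
      c.isChart.coalg, ?_⟩
  intro d
  change mapCoeff (S := c.R') (S' := c.R' ⧸ J.map (algebraMap R c.R')) M (Ψ (c.L d)) = _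
  rw [hΨ, hθ', equiv_symm_apply_chart c.L c.isChart.bc, liftAlg_tmul, one_smul]
  rfl

end chartlift

section glue
variable {R : Type u} [CommRing R] {D : Type u} [CommRing D] [HopfAlgebra R D]
  {ι : Type u} [Fintype ι] {c : ι → Chart R D}
  (J : Ideal R) {M : Type u} [CommGroup M]

attribute [local instance] Algebra.TensorProduct.rightAlgebra

/-- **Lifting homomorphisms `D(M) → G` along a nilpotent thickening**, `G = Spec D` of
multiplicative type (given by an atlas). -/
theorem exists_bialgHom_lift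
    (hc : ∀ (K : Ideal R) (x : R),
      (∀ i, algebraMap R (c i).R' x ∈ K.map (algebraMap R (c i).R')) → x ∈ K)
    (hJ : IsNilpotent J)
    (φb : D →ₐ[R] MonoidAlgebra (R ⧸ J) M) (hφb : IsCoalgMapOver (R ⧸ J) φb.toLinearMap) :
    ∃ Φ : D →ₐc[R] MonoidAlgebra R M, ∀ d, mapCoeff (S := R) (S' := R ⧸ J) M (Φ d) = φb d := by
  classical
  haveI : Coalgebra.IsCocomm R D := isCocomm_of_atlas (c := c) hc
  have hJnil : ∀ x ∈ J, IsNilpotent x := nil_of_isNilpotent_ideal hJ
  choose Φ hΦco hΦred using fun i => exists_lift_on_chart J hJnil (c i) φb hφb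
  -- coefficients modulo `J`
  have hcoef : ∀ i d m (r : R), Ideal.Quotient.mk J r = (φb d).coeff m →
      (Φ i d).coeff m - algebraMap R (c i).R' r ∈ J.map (algebraMap R (c i).R') := by
    intro i d m r hr
    have h1 := congrArg (fun y => y.coeff m) (hΦred i d)
    simp only [mapCoeff_coeff] at h1
    rw [← hr, Ideal.Quotient.algebraMap_quotient_map_quotient, Ideal.Quotient.algebraMap_eq] at h1
    exact Ideal.Quotient.eq.mp h1
  -- the equaliser condition
  have heq : ∀ i j d m, (Φ i d).coeff m ⊗ₜ[R] (1 : (c j).R') =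
      (1 : (c i).R') ⊗ₜ[R] (Φ j d).coeff m := by
    intro i j d m
    let θ₁ : D →ₐ[R] MonoidAlgebra ((c i).R' ⊗[R] (c j).R') M :=
      ((mapCoeff (S := (c i).R') (S' := (c i).R' ⊗[R] (c j).R') M).restrictScalars R).comp (Φ i)
    let θ₂ : D →ₐ[R] MonoidAlgebra ((c i).R' ⊗[R] (c j).R') M :=
      ((mapCoeff (S := (c j).R') (S' := (c i).R' ⊗[R] (c j).R') M).restrictScalars R).comp (Φ j)
    have h₁ : IsCoalgMapOver ((c i).R' ⊗[R] (c j).R') θ₁.toLinearMap :=
      IsCoalgMapOver.comp (isCoalgMapOver_mapCoeff M) (hΦco i)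
    have h₂ : IsCoalgMapOver ((c i).R' ⊗[R] (c j).R') θ₂.toLinearMap :=
      IsCoalgMapOver.comp (isCoalgMapOver_mapCoeff M) (hΦco j)
    have hc₁ : ∀ d m, (θ₁ d).coeff m = (Φ i d).coeff m ⊗ₜ[R] (1 : (c j).R') := by
      intro d m
      change (mapCoeff (S := (c i).R') (S' := (c i).R' ⊗[R] (c j).R') M (Φ i d)).coeff m = _
      rw [mapCoeff_coeff]
      rfl
    have hc₂ : ∀ d m, (θ₂ d).coeff m = (1 : (c i).R') ⊗ₜ[R] (Φ j d).coeff m := by
      intro d m
      change (mapCoeff (S := (c j).R') (S' := (c i).R' ⊗[R] (c j).R') M (Φ j d)).coeff m = _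
      rw [mapCoeff_coeff]
      rfl
    have hsub : ∀ d, θ₁.toLinearMap d - θ₂.toLinearMap d ∈
        (J • ⊤ : Submodule R (MonoidAlgebra ((c i).R' ⊗[R] (c j).R') M)) := by
      intro d
      apply mem_smul_top_of_coeff_mem
      intro m
      rw [MonoidAlgebra.coeff_sub, Finsupp.sub_apply]
      change (θ₁ d).coeff m - (θ₂ d).coeff m ∈ _
      rw [hc₁, hc₂]
      obtain ⟨r, hr⟩ := Ideal.Quotient.mk_surjective ((φb d).coeff m)
      have e1 : (Φ i d).coeff m ⊗ₜ[R] (1 : (c j).R') - (1 : (c i).R') ⊗ₜ[R] (Φ j d).coeff m =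
          ((Φ i d).coeff m - algebraMap R (c i).R' r) ⊗ₜ[R] (1 : (c j).R') -
            (1 : (c i).R') ⊗ₜ[R] ((Φ j d).coeff m - algebraMap R (c j).R' r) := by
        rw [sub_tmul, tmul_sub, Algebra.algebraMap_eq_smul_one, Algebra.algebraMap_eq_smul_one,
          smul_tmul]
        abel
      rw [e1]
      apply Ideal.sub_mem
      · have h3 := Ideal.mem_map_of_mem
          (Algebra.TensorProduct.includeLeft : (c i).R' →ₐ[R] (c i).R' ⊗[R] (c j).R').toRingHom
          (hcoef i d m r hr)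
        rw [Ideal.map_map] at h3
        have h4 : ((Algebra.TensorProduct.includeLeft :
            (c i).R' →ₐ[R] (c i).R' ⊗[R] (c j).R').toRingHom).comp (algebraMap R (c i).R') =
            algebraMap R ((c i).R' ⊗[R] (c j).R') := by
          ext x; simp [Algebra.TensorProduct.algebraMap_apply]
        rw [h4] at h3
        exact h3
      · have h3 := Ideal.mem_map_of_mem
          (Algebra.TensorProduct.includeRight : (c j).R' →ₐ[R] (c i).R' ⊗[R] (c j).R').toRingHom
          (hcoef j d m r hr)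
        rw [Ideal.map_map] at h3
        have h4 : ((Algebra.TensorProduct.includeRight :
            (c j).R' →ₐ[R] (c i).R' ⊗[R] (c j).R').toRingHom).comp (algebraMap R (c j).R') =
            algebraMap R ((c i).R' ⊗[R] (c j).R') := by
          ext x
          simp only [AlgHom.toRingHom_eq_coe, RingHom.coe_comp, RingHom.coe_coe,
            Function.comp_apply, AlgHom.commutes]
        rw [h4] at h3
        exact h3
    have h5 := coalgMap_eq_of_sub_mem J hJ θ₁.toLinearMap θ₂.toLinearMap h₁ h₂ hsub d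
    have h6 := congrArg (fun y => y.coeff m) h5
    change (θ₁ d).coeff m = (θ₂ d).coeff m at h6
    rw [hc₁, hc₂] at h6
    exact h6
  -- descent of the coefficients
  choose a ha using fun d m => exists_of_forall_tmul_eq hc (fun i => (Φ i d).coeff m)
    (fun i j => heq i j d m)
  have hinj : ∀ r : R, (∀ i, algebraMap R (c i).R' r = 0) → r = 0 := by
    intro r hr
    have h1 : r ∈ (⊥ : Ideal R) := by
      apply hc
      intro i
      rw [hr i]
      exact Ideal.zero_mem _
    exact h1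
  have hfin : ∀ d, (Function.support (a d)).Finite := by
    intro d
    apply Set.Finite.subset (Set.finite_iUnion (fun i : ι => ((Φ i d).coeff.support).finite_toSet))
    intro m hm
    rw [Function.mem_support] at hm
    by_contra hcon
    apply hm
    apply hinj
    intro i
    rw [ha]
    by_contra h2
    apply hcon
    rw [Set.mem_iUnion]
    exact ⟨i, Finsupp.mem_support_iff.mpr h2⟩
  let φ : D → MonoidAlgebra R M := fun d =>
    MonoidAlgebra.ofCoeff (Finsupp.ofSupportFinite (a d) (hfin d))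
  have hφc : ∀ d m, (φ d).coeff m = a d m := fun d m => rfl
  have hφ : ∀ i d, mapCoeff (S := R) (S' := (c i).R') M (φ d) = Φ i d := by
    intro i d
    ext m
    rw [mapCoeff_coeff, hφc, ha]
  obtain ⟨ψ, hψ⟩ := exists_bialgHom_of_jointly_injective (fun i => (c i).R') hinj φ Φ hΦco hφ
  refine ⟨ψ, ?_⟩
  intro d
  ext m
  rw [mapCoeff_coeff, hψ, hφc, Ideal.Quotient.algebraMap_eq]
  obtain ⟨r, hr⟩ := Ideal.Quotient.mk_surjective ((φb d).coeff m)
  rw [← hr, Ideal.Quotient.eq]
  apply hc
  intro i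
  rw [map_sub, ha]
  exact hcoef i d m r hr

end glue

end Groth.Agent.H15.MTA
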