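import Groth.Agent.H15.MTAlg4

/-!
# Lifting and rigidity of homomorphisms `D(M) → G` in relative form
-/

set_option autoImplicit false
set_option linter.style.haveILetI false
universe u
open TensorProduct Coalgebra

namespace Groth.Agent.H15.MTA
open Groth.Agent.H26 Groth.Agent.H15.GLD Groth.Agent.H15.MTC Groth.Agent.H15.MTF

section liftK
variable {R : Type u} [CommRing R] {D : Type u} [CommRing D] [HopfAlgebra R D]
  {ι : Type u} [Fintype ι] {c : ι → Chart R D}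
  {K : Type u} [CommRing K] [Algebra R K] {M : Type u} [CommGroup M]

/-- lifting along a nilpotent ideal of an `R`-algebra `K` -/
theorem exists_lift_over
    (hc : ∀ (K : Ideal R) (x : R),
      (∀ i, algebraMap R (c i).R' x ∈ K.map (algebraMap R (c i).R')) → x ∈ K)
    (𝔧 : Ideal K) (h𝔧 : IsNilpotent 𝔧)
    (φb : D →ₐ[R] MonoidAlgebra (K ⧸ 𝔧) M) (hφb : IsCoalgMapOver (K ⧸ 𝔧) φb.toLinearMap) :
    ∃ Φ : D →ₐ[R] MonoidAlgebra K M, IsCoalgMapOver K Φ.toLinearMap ∧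
      ∀ d, mapCoeff (S := K) (S' := K ⧸ 𝔧) M (Φ d) = φb d := by
  have hcK := atlas_baseChange hc K
  have hco := isCoalgMapOver_liftAlg (K := K ⧸ 𝔧) (B := MonoidAlgebra (K ⧸ 𝔧) M) K hφb
  obtain ⟨Φ', hΦ'⟩ := exists_bialgHom_lift (c := fun i => (c i).baseChange K) 𝔧 hcK h𝔧
    (liftAlg K φb) hco
  refine ⟨((Φ' : K ⊗[R] D →ₐ[K] MonoidAlgebra K M).restrictScalars R).comp
    Algebra.TensorProduct.includeRight, ?_, ?_⟩
  · exact IsCoalgMapOver.comp (S₂ := K)
      (isCoalgMapOver_of_coalgHom (Φ' : K ⊗[R] D →ₗc[K] MonoidAlgebra K M))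
      (isCoalgMapOver_inc (R := R) K D)
  · intro d
    change mapCoeff (S := K) (S' := K ⧸ 𝔧) M (Φ' ((1 : K) ⊗ₜ[R] d)) = _
    rw [hΦ', liftAlg_tmul, one_smul]

/-- lifting along a surjection `K → K₀` with nilpotent kernel -/
theorem exists_lift_of_surjective
    (hc : ∀ (K : Ideal R) (x : R),
      (∀ i, algebraMap R (c i).R' x ∈ K.map (algebraMap R (c i).R')) → x ∈ K)
    {K₀ : Type u} [CommRing K₀] [Algebra K K₀] [Algebra R K₀] [IsScalarTower R K K₀]
    (hsurj : Function.Surjective (algebraMap K K₀))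
    (hnilp : IsNilpotent (RingHom.ker (algebraMap K K₀)))
    (φb : D →ₐ[R] MonoidAlgebra K₀ M) (hφb : IsCoalgMapOver K₀ φb.toLinearMap) :
    ∃ Φ : D →ₐ[R] MonoidAlgebra K M, IsCoalgMapOver K Φ.toLinearMap ∧
      ∀ d, mapCoeff (S := K) (S' := K₀) M (Φ d) = φb d := by
  let ρ : (K ⧸ RingHom.ker (algebraMap K K₀)) ≃+* K₀ := RingHom.quotientKerEquivOfSurjective hsurj
  letI : Algebra K₀ (K ⧸ RingHom.ker (algebraMap K K₀)) := ρ.symm.toRingHom.toAlgebra
  have hρ : ∀ x : K, ρ (Ideal.Quotient.mk _ x) = algebraMap K K₀ x := fun x => rfl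
  haveI : IsScalarTower K K₀ (K ⧸ RingHom.ker (algebraMap K K₀)) := by
    refine IsScalarTower.of_algebraMap_eq fun t => ?_
    change _ = ρ.symm (algebraMap K K₀ t)
    rw [RingEquiv.eq_symm_apply]
    rfl
  haveI : IsScalarTower R K₀ (K ⧸ RingHom.ker (algebraMap K K₀)) := by
    refine IsScalarTower.of_algebraMap_eq fun t => ?_
    change _ = ρ.symm (algebraMap R K₀ t)
    rw [RingEquiv.eq_symm_apply, IsScalarTower.algebraMap_apply R K K₀,
      IsScalarTower.algebraMap_apply R K (K ⧸ RingHom.ker (algebraMap K K₀))]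
    rfl
  let φb' : D →ₐ[R] MonoidAlgebra (K ⧸ RingHom.ker (algebraMap K K₀)) M :=
    ((mapCoeff (S := K₀) (S' := K ⧸ RingHom.ker (algebraMap K K₀)) M).restrictScalars R).comp φb
  have hφb' : IsCoalgMapOver (K ⧸ RingHom.ker (algebraMap K K₀)) φb'.toLinearMap :=
    IsCoalgMapOver.comp (isCoalgMapOver_mapCoeff M) hφb
  obtain ⟨Φ, hΦ, hΦr⟩ := exists_lift_over hc _ hnilp φb' hφb'
  refine ⟨Φ, hΦ, ?_⟩
  intro d
  ext m
  have h1 := congrArg (fun y => y.coeff m) (hΦr d)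
  change (mapCoeff (S := K) (S' := K ⧸ RingHom.ker (algebraMap K K₀)) M (Φ d)).coeff m =
    (mapCoeff (S := K₀) (S' := K ⧸ RingHom.ker (algebraMap K K₀)) M (φb d)).coeff m at h1
  rw [mapCoeff_coeff, mapCoeff_coeff] at h1
  rw [mapCoeff_coeff]
  have h2 : algebraMap K₀ (K ⧸ RingHom.ker (algebraMap K K₀)) ((φb d).coeff m) =
      ρ.symm ((φb d).coeff m) := rfl
  rw [h2, Ideal.Quotient.algebraMap_eq, RingEquiv.eq_symm_apply, hρ] at h1
  exact h1

end liftK

section rigid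
variable {A : Type u} [CommRing A] {C : Type u} [CommRing C] [HopfAlgebra A C]
  (I : Ideal A) (n : ℕ) {M : Type u} [CommGroup M]

/-- rigidity over an algebra killed by `I ^ n` -/
theorem eq_of_coeff_sub_mem_of_isCocomm [Coalgebra.IsCocomm (A ⧸ I ^ n) ((A ⧸ I ^ n) ⊗[A] C)]
    {K : Type u} [CommRing K] [Algebra A K] (hK : (I ^ n).map (algebraMap A K) = ⊥)
    (θ₁ θ₂ : C →ₐ[A] MonoidAlgebra K M) (h₁ : IsCoalgMapOver K θ₁.toLinearMap)
    (h₂ : IsCoalgMapOver K θ₂.toLinearMap)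
    (h : ∀ c m, (θ₁ c).coeff m - (θ₂ c).coeff m ∈ I.map (algebraMap A K)) (c : C) :
    θ₁ c = θ₂ c := by
  letI : Algebra (A ⧸ I ^ n) K := (Ideal.Quotient.lift (I ^ n) (algebraMap A K) (fun a ha => by
    have h1 := Ideal.mem_map_of_mem (algebraMap A K) ha
    rw [hK] at h1
    exact h1)).toAlgebra
  haveI : IsScalarTower A (A ⧸ I ^ n) K := IsScalarTower.of_algebraMap_eq fun a => rfl
  have H₁ := isCoalgMapOver_liftAlg (K := K) (B := MonoidAlgebra K M) (A ⧸ I ^ n) h₁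
  have H₂ := isCoalgMapOver_liftAlg (K := K) (B := MonoidAlgebra K M) (A ⧸ I ^ n) h₂
  have hIn : IsNilpotent (I.map (Ideal.Quotient.mk (I ^ n))) := by
    refine ⟨n, ?_⟩
    rw [← Ideal.map_pow, Ideal.map_quotient_self, Ideal.zero_eq_bot]
  have hmap : (I.map (Ideal.Quotient.mk (I ^ n))).map (algebraMap (A ⧸ I ^ n) K) =
      I.map (algebraMap A K) := by
    rw [Ideal.map_map]
    rfl
  have hsub : ∀ x : (A ⧸ I ^ n) ⊗[A] C,
      (liftAlg (A ⧸ I ^ n) θ₁).toLinearMap x - (liftAlg (A ⧸ I ^ n) θ₂).toLinearMap x ∈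
        ((I.map (Ideal.Quotient.mk (I ^ n))) • ⊤ :
          Submodule (A ⧸ I ^ n) (MonoidAlgebra K M)) := by
    intro x
    induction x using TensorProduct.induction_on with
    | zero => simp
    | add x y hx hy =>
      rw [map_add, map_add, add_sub_add_comm]
      exact Submodule.add_mem _ hx hy
    | tmul a c =>
      rw [AlgHom.toLinearMap_apply, AlgHom.toLinearMap_apply, liftAlg_tmul, liftAlg_tmul,
        ← smul_sub]
      apply Submodule.smul_mem
      apply mem_smul_top_of_coeff_mem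
      intro m
      rw [MonoidAlgebra.coeff_sub, Finsupp.sub_apply, hmap]
      exact h c m
  have h5 := coalgMap_eq_of_sub_mem (I.map (Ideal.Quotient.mk (I ^ n))) hIn
    (liftAlg (A ⧸ I ^ n) θ₁).toLinearMap (liftAlg (A ⧸ I ^ n) θ₂).toLinearMap H₁ H₂ hsub
    ((1 : A ⧸ I ^ n) ⊗ₜ[A] c)
  rw [AlgHom.toLinearMap_apply, AlgHom.toLinearMap_apply, liftAlg_tmul, liftAlg_tmul, one_smul,
    one_smul] at h5
  exact h5

/-- rigidity modulo `I ^ n` -/
theorem coeff_sub_mem_pow_of_isCocomm [Coalgebra.IsCocomm (A ⧸ I ^ n) ((A ⧸ I ^ n) ⊗[A] C)]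
    {K : Type u} [CommRing K] [Algebra A K]
    (θ₁ θ₂ : C →ₐ[A] MonoidAlgebra K M) (h₁ : IsCoalgMapOver K θ₁.toLinearMap)
    (h₂ : IsCoalgMapOver K θ₂.toLinearMap)
    (h : ∀ c m, (θ₁ c).coeff m - (θ₂ c).coeff m ∈ I.map (algebraMap A K)) (c : C) (m : M) :
    (θ₁ c).coeff m - (θ₂ c).coeff m ∈ (I ^ n).map (algebraMap A K) := by
  let θ₁' : C →ₐ[A] MonoidAlgebra (K ⧸ (I ^ n).map (algebraMap A K)) M :=
    ((mapCoeff (S := K) (S' := K ⧸ (I ^ n).map (algebraMap A K)) M).restrictScalars A).comp θ₁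
  let θ₂' : C →ₐ[A] MonoidAlgebra (K ⧸ (I ^ n).map (algebraMap A K)) M :=
    ((mapCoeff (S := K) (S' := K ⧸ (I ^ n).map (algebraMap A K)) M).restrictScalars A).comp θ₂
  have h₁' : IsCoalgMapOver (K ⧸ (I ^ n).map (algebraMap A K)) θ₁'.toLinearMap :=
    IsCoalgMapOver.comp (isCoalgMapOver_mapCoeff M) h₁
  have h₂' : IsCoalgMapOver (K ⧸ (I ^ n).map (algebraMap A K)) θ₂'.toLinearMap :=
    IsCoalgMapOver.comp (isCoalgMapOver_mapCoeff M) h₂
  have hK : (I ^ n).map (algebraMap A (K ⧸ (I ^ n).map (algebraMap A K))) = ⊥ := by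
    rw [IsScalarTower.algebraMap_eq A K (K ⧸ (I ^ n).map (algebraMap A K)), ← Ideal.map_map,
      Ideal.Quotient.algebraMap_eq, Ideal.map_quotient_self]
  have h' : ∀ c m, (θ₁' c).coeff m - (θ₂' c).coeff m ∈
      I.map (algebraMap A (K ⧸ (I ^ n).map (algebraMap A K))) := by
    intro c m
    change (mapCoeff (S := K) (S' := K ⧸ (I ^ n).map (algebraMap A K)) M (θ₁ c)).coeff m -
      (mapCoeff (S := K) (S' := K ⧸ (I ^ n).map (algebraMap A K)) M (θ₂ c)).coeff m ∈ _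
    rw [mapCoeff_coeff, mapCoeff_coeff, ← map_sub,
      IsScalarTower.algebraMap_eq A K (K ⧸ (I ^ n).map (algebraMap A K)), ← Ideal.map_map]
    exact Ideal.mem_map_of_mem _ (h c m)
  have h5 := eq_of_coeff_sub_mem_of_isCocomm I n hK θ₁' θ₂' h₁' h₂' h' c
  have h6 := (mapCoeff_eq_iff ((I ^ n).map (algebraMap A K)) (θ₁ c) (θ₂ c)).mp h5 m
  rwa [MonoidAlgebra.coeff_sub, Finsupp.sub_apply] at h6

end rigid

section sep
variable {A : Type u} [CommRing A] [IsNoetherianRing A] (I : Ideal A)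
  {K : Type u} [CommRing K] [Algebra A K] [Module.Finite A K] {M : Type u}

/-- separatedness of group algebras over finite algebras -/
theorem eq_of_forall_coeff_sub_mem_pow (hI : I ≤ Ideal.jacobson ⊥) (y z : MonoidAlgebra K M)
    (h : ∀ (n : ℕ) (m : M), y.coeff m - z.coeff m ∈ (I ^ n).map (algebraMap A K)) : y = z := by
  ext m
  rw [← sub_eq_zero]
  have h1 : y.coeff m - z.coeff m ∈ (⨅ i : ℕ, I ^ i • ⊤ : Submodule A K) := by
    rw [Submodule.mem_iInf]
    intro n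
    rw [Ideal.smul_top_eq_map]
    exact h n m
  rw [Ideal.iInf_pow_smul_eq_bot_of_le_jacobson I hI] at h1
  exact h1

end sep

end Groth.Agent.H15.MTA
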