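import Groth.Agent.H15.MTAlg5

/-!
# Flatness and quasi-isotriviality of the infinitesimal neighbourhoods
-/

set_option autoImplicit false
set_option linter.style.haveILetI false
universe u
open TensorProduct

namespace Groth.Agent.H15.MTA
open Groth.Agent.H26 Groth.Agent.H15.GLD Groth.Agent.H15.MTC Groth.Agent.H15.MTF

section flatloc
variable {A : Type u} [CommRing A] {C : Type u} [CommRing C] [Algebra A C] (I 𝔞 : Ideal A)

attribute [local instance] Algebra.TensorProduct.rightAlgebra


theorem flat_quotient_tensor (n : ℕ) (h𝔞 : I ^ n ≤ 𝔞)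
    (hfl : ∀ (q : Ideal C) [q.IsPrime], Ideal.map (algebraMap A C) I ≤ q →
      Module.Flat A (Localization.AtPrime q)) :
    Module.Flat (A ⧸ 𝔞) ((A ⧸ 𝔞) ⊗[A] C) := by
  apply Module.flat_of_isLocalized_maximal ((A ⧸ 𝔞) ⊗[A] C) ((A ⧸ 𝔞) ⊗[A] C)
    (fun P _ => Localization.AtPrime P)
    (fun P _ => Algebra.linearMap ((A ⧸ 𝔞) ⊗[A] C) (Localization.AtPrime P))
  intro P hP
  let q : Ideal C := P.comap (algebraMap C ((A ⧸ 𝔞) ⊗[A] C))
  haveI : q.IsPrime := Ideal.comap_isPrime _ P
  have hq : Ideal.map (algebraMap A C) I ≤ q := by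
    rw [Ideal.map_le_iff_le_comap]
    intro a ha
    rw [Ideal.mem_comap, Ideal.mem_comap, ← IsScalarTower.algebraMap_apply A C ((A ⧸ 𝔞) ⊗[A] C)]
    apply Ideal.IsPrime.mem_of_pow_mem inferInstance n
    rw [← map_pow, IsScalarTower.algebraMap_apply A (A ⧸ 𝔞) ((A ⧸ 𝔞) ⊗[A] C),
      Ideal.Quotient.algebraMap_eq, Ideal.Quotient.eq_zero_iff_mem.mpr (h𝔞 (Ideal.pow_mem_pow ha n)),
      map_zero]
    exact P.zero_mem
  haveI := hfl q hq
  letI : Algebra (Localization.AtPrime q) (Localization.AtPrime P) :=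
    (Localization.localRingHom q P (algebraMap C ((A ⧸ 𝔞) ⊗[A] C)) rfl).toAlgebra
  haveI : IsScalarTower C (Localization.AtPrime q) (Localization.AtPrime P) :=
    IsScalarTower.of_algebraMap_eq fun c => by
      change _ = Localization.localRingHom q P (algebraMap C ((A ⧸ 𝔞) ⊗[A] C)) rfl
        (algebraMap C _ c)
      rw [Localization.localRingHom_to_map]
      exact IsScalarTower.algebraMap_apply C ((A ⧸ 𝔞) ⊗[A] C) (Localization.AtPrime P) c
  haveI : IsScalarTower A (Localization.AtPrime q) (Localization.AtPrime P) :=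
    IsScalarTower.of_algebraMap_eq fun a => by
      rw [IsScalarTower.algebraMap_apply A C (Localization.AtPrime q),
        ← IsScalarTower.algebraMap_apply C (Localization.AtPrime q) (Localization.AtPrime P),
        ← IsScalarTower.algebraMap_apply A C (Localization.AtPrime P)]
  have hsurjC : Function.Surjective (algebraMap C ((A ⧸ 𝔞) ⊗[A] C)) := by
    intro x
    induction x using TensorProduct.induction_on with
    | zero => exact ⟨0, map_zero _⟩
    | add x y hx hy =>
      obtain ⟨a, rfl⟩ := hx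
      obtain ⟨b, rfl⟩ := hy
      exact ⟨a + b, map_add _ _ _⟩
    | tmul r c =>
      obtain ⟨r, rfl⟩ := Ideal.Quotient.mk_surjective r
      refine ⟨r • c, ?_⟩
      change (1 : A ⧸ 𝔞) ⊗ₜ[A] (r • c) = _
      rw [← TensorProduct.smul_tmul]
      congr 1
      rw [Algebra.smul_def, mul_one]
      rfl
  have hsub : Algebra.algebraMapSubmonoid ((A ⧸ 𝔞) ⊗[A] C) q.primeCompl = P.primeCompl := by
    ext x
    constructor
    · rintro ⟨c, hc, rfl⟩
      exact hc
    · intro hx
      obtain ⟨c, rfl⟩ := hsurjC x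
      exact ⟨c, hx, rfl⟩
  haveI : IsLocalization (Algebra.algebraMapSubmonoid ((A ⧸ 𝔞) ⊗[A] C) q.primeCompl)
      (Localization.AtPrime P) := by
    rw [hsub]
    infer_instance
  haveI h2 : Algebra.IsPushout C ((A ⧸ 𝔞) ⊗[A] C) (Localization.AtPrime q)
      (Localization.AtPrime P) :=
    Algebra.isPushout_of_isLocalization q.primeCompl (Localization.AtPrime q)
      ((A ⧸ 𝔞) ⊗[A] C) (Localization.AtPrime P)
  haveI h1 : Algebra.IsPushout A C (A ⧸ 𝔞) ((A ⧸ 𝔞) ⊗[A] C) := TensorProduct.isPushout'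
  have h3 : Algebra.IsPushout A (Localization.AtPrime q) (A ⧸ 𝔞) (Localization.AtPrime P) :=
    (Algebra.IsPushout.comp_iff A C (A ⧸ 𝔞) ((A ⧸ 𝔞) ⊗[A] C)).mpr h2.symm
  exact Module.Flat.isBaseChange A (A ⧸ 𝔞) (Localization.AtPrime q) (Localization.AtPrime P)
    h3.symm.out

end flatloc

section ringsurj
variable {R : Type*} [CommRing R] {R₀ : Type*} [CommRing R₀] (π : R →+* R₀)

lemma awayMap_surjective_of_surjective (hπ : Function.Surjective π) (f : R) :
    Function.Surjective (Localization.awayMap π f) := by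
  rw [Localization.awayMap_surjective_iff]
  intro a
  obtain ⟨b, rfl⟩ := hπ a
  exact ⟨b, 0, by simp⟩

lemma awayMap_ker_le (f : R) :
    RingHom.ker (Localization.awayMap π f) ≤
      (RingHom.ker π).map (algebraMap R (Localization.Away f)) := by
  intro z hz
  rw [RingHom.mem_ker] at hz
  obtain ⟨n, r, hzr⟩ := IsLocalization.Away.surj f z
  have h1 : Localization.awayMap π f (algebraMap R _ r) = 0 := by
    rw [← hzr, map_mul, hz, zero_mul]
  have h2 : algebraMap R₀ (Localization.Away (π f)) (π r) = 0 := by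
    rw [← h1]
    simp [Localization.awayMap, IsLocalization.Away.map]
  rw [IsLocalization.map_eq_zero_iff (Submonoid.powers (π f))] at h2
  obtain ⟨⟨_, k, rfl⟩, hk⟩ := h2
  have h3 : f ^ k * r ∈ RingHom.ker π := by
    rw [RingHom.mem_ker, map_mul, map_pow]
    exact hk
  have hu : IsUnit (algebraMap R (Localization.Away f) f) := IsLocalization.Away.algebraMap_isUnit f
  have hu2 : IsUnit (algebraMap R (Localization.Away f) f ^ n *
      algebraMap R (Localization.Away f) f ^ k) := (hu.pow n).mul (hu.pow k)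
  have h4 : z * (algebraMap R (Localization.Away f) f ^ n *
      algebraMap R (Localization.Away f) f ^ k) = algebraMap R (Localization.Away f) (f ^ k * r) := by
    rw [← mul_assoc, hzr, map_mul, map_pow, mul_comm]
  obtain ⟨v, hv⟩ := hu2
  have h5 : z = algebraMap R (Localization.Away f) (f ^ k * r) * ((v⁻¹ : (Localization.Away f)ˣ) : _) := by
    rw [← h4, ← hv, mul_assoc, Units.mul_inv, mul_one]
  rw [h5]
  exact Ideal.mul_mem_right _ _ (Ideal.mem_map_of_mem _ h3)

lemma span_preimage_eq_top_of_surjective (hπ : Function.Surjective π)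
    (hnil : ∀ x ∈ RingHom.ker π, IsNilpotent x) (sb : Set R₀)
    (hsb : Ideal.span sb = ⊤) : Ideal.span (π ⁻¹' sb) = ⊤ := by
  have h1 : Ideal.map π (Ideal.span (π ⁻¹' sb)) = ⊤ := by
    rw [Ideal.map_span, Set.image_preimage_eq _ hπ, hsb]
  have h2 : (1 : R₀) ∈ Ideal.map π (Ideal.span (π ⁻¹' sb)) := by rw [h1]; trivial
  obtain ⟨k, hk, hk1⟩ := (Ideal.mem_map_iff_of_surjective _ hπ).mp h2
  have h7 : IsNilpotent (1 - k) := by
    apply hnil
    rw [RingHom.mem_ker, map_sub, map_one, hk1, sub_self]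
  have h8 : IsUnit k := by
    have := h7.isUnit_one_sub
    rwa [sub_sub_cancel] at this
  exact Ideal.eq_top_of_isUnit_mem _ hk h8

end ringsurj

section ql
variable (A : Type u) [CommRing A] (C : Type u) [CommRing C] [HopfAlgebra A C]
  (R : Type u) [CommRing R] [Algebra A R] (R₀ : Type u) [CommRing R₀] [Algebra A R₀]
  [Algebra R R₀] [IsScalarTower A R R₀]

/-- a flat base change of `C` which is quasi-isotrivial modulo a nilpotent ideal is
quasi-isotrivial -/
theorem isQuasiIsotrivial_of_flat_of_surjective [Module.Flat R (R ⊗[A] C)]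
    (hsurj : Function.Surjective (algebraMap R R₀))
    (hnilp : IsNilpotent (RingHom.ker (algebraMap R R₀)))
    (h0 : SGA3b.IsQuasiIsotrivial R₀ (R₀ ⊗[A] C)) :
    SGA3b.IsQuasiIsotrivial R (R ⊗[A] C) := by
  obtain ⟨sb, hsb, hloc⟩ := h0
  refine ⟨(algebraMap R R₀) ⁻¹' sb,
    span_preimage_eq_top_of_surjective _ hsurj (nil_of_isNilpotent_ideal hnilp) sb hsb, ?_⟩
  intro f hf
  obtain ⟨Rb', _, _, het, hff, M, _, ⟨e₀⟩⟩ := hloc (algebraMap R R₀ f) hf
  letI : Algebra (Localization.Away f) (Localization.Away (algebraMap R R₀ f)) :=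
    (Localization.awayMap (algebraMap R R₀) f).toAlgebra
  haveI : IsScalarTower R (Localization.Away f) (Localization.Away (algebraMap R R₀ f)) :=
    IsScalarTower.of_algebraMap_eq fun r => by
      change _ = Localization.awayMap (algebraMap R R₀) f (algebraMap R _ r)
      rw [IsScalarTower.algebraMap_apply R R₀ (Localization.Away (algebraMap R R₀ f))]
      simp [Localization.awayMap, IsLocalization.Away.map]
  letI : Algebra (Localization.Away f) Rb' :=
    ((algebraMap (Localization.Away (algebraMap R R₀ f)) Rb').comp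
      (algebraMap (Localization.Away f) (Localization.Away (algebraMap R R₀ f)))).toAlgebra
  haveI : IsScalarTower (Localization.Away f) (Localization.Away (algebraMap R R₀ f)) Rb' :=
    IsScalarTower.of_algebraMap_eq fun _ => rfl
  letI : Algebra R₀ Rb' :=
    ((algebraMap (Localization.Away (algebraMap R R₀ f)) Rb').comp
      (algebraMap R₀ (Localization.Away (algebraMap R R₀ f)))).toAlgebra
  haveI : IsScalarTower R₀ (Localization.Away (algebraMap R R₀ f)) Rb' :=
    IsScalarTower.of_algebraMap_eq fun _ => rfl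
  letI : Algebra R Rb' :=
    ((algebraMap (Localization.Away (algebraMap R R₀ f)) Rb').comp
      (algebraMap R (Localization.Away (algebraMap R R₀ f)))).toAlgebra
  haveI : IsScalarTower R (Localization.Away (algebraMap R R₀ f)) Rb' :=
    IsScalarTower.of_algebraMap_eq fun _ => rfl
  letI : Algebra A Rb' :=
    ((algebraMap (Localization.Away (algebraMap R R₀ f)) Rb').comp
      (algebraMap A (Localization.Away (algebraMap R R₀ f)))).toAlgebra
  haveI : IsScalarTower A (Localization.Away (algebraMap R R₀ f)) Rb' :=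
    IsScalarTower.of_algebraMap_eq fun _ => rfl
  haveI : IsScalarTower A R₀ Rb' := IsScalarTower.of_algebraMap_eq fun r => by
    change algebraMap (Localization.Away (algebraMap R R₀ f)) Rb' (algebraMap A _ r) =
      algebraMap (Localization.Away (algebraMap R R₀ f)) Rb'
        (algebraMap R₀ _ (algebraMap A R₀ r))
    rw [← IsScalarTower.algebraMap_apply A R₀]
  haveI : IsScalarTower A R Rb' := IsScalarTower.of_algebraMap_eq fun r => by
    change algebraMap (Localization.Away (algebraMap R R₀ f)) Rb' (algebraMap A _ r) =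
      algebraMap (Localization.Away (algebraMap R R₀ f)) Rb'
        (algebraMap R _ (algebraMap A R r))
    rw [← IsScalarTower.algebraMap_apply A R]
  haveI : IsScalarTower R (Localization.Away f) Rb' := IsScalarTower.of_algebraMap_eq fun r => by
    change algebraMap (Localization.Away (algebraMap R R₀ f)) Rb' (algebraMap R _ r) =
      algebraMap (Localization.Away (algebraMap R R₀ f)) Rb'
        (algebraMap (Localization.Away f) _ (algebraMap R (Localization.Away f) r))
    rw [← IsScalarTower.algebraMap_apply R (Localization.Away f)]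
  have h1 : HasDChart (Localization.Away (algebraMap R R₀ f))
      (Localization.Away (algebraMap R R₀ f) ⊗[R₀] (R₀ ⊗[A] C)) Rb' M :=
    HasDChart.of_equiv e₀
  have h2 : HasDChart R₀ (R₀ ⊗[A] C) Rb' M :=
    HasDChart.of_baseChange (Localization.Away (algebraMap R R₀ f)) h1
  have h3 : HasDChart A C Rb' M := HasDChart.of_baseChange R₀ h2
  have h4 : HasDChart R (R ⊗[A] C) Rb' M := h3.baseChange R
  have h5 : HasDChart (Localization.Away f) (Localization.Away f ⊗[R] (R ⊗[A] C)) Rb' M :=
    h4.baseChange (Localization.Away f)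
  have hker : IsNilpotent (RingHom.ker (algebraMap (Localization.Away f)
      (Localization.Away (algebraMap R R₀ f)))) :=
    isNilpotent_of_le_map hnilp (awayMap_ker_le (algebraMap R R₀) f)
  obtain ⟨S, _, _, hSet, hSff, -, ⟨e⟩⟩ := exists_etale_lift_split_flat
    (R := Localization.Away f) (A := Localization.Away f ⊗[R] (R ⊗[A] C))
    (Rb := Localization.Away (algebraMap R R₀ f)) (Rb' := Rb')
    (awayMap_surjective_of_surjective (algebraMap R R₀) hsurj f) hker h5
  exact ⟨S, inferInstance, inferInstance, hSet, hSff hff, M, inferInstance, ⟨e⟩⟩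

end ql

section pow
variable (A : Type u) [CommRing A] (C : Type u) [CommRing C] [HopfAlgebra A C] (I : Ideal A)

theorem isMultType_of_isQuasiIsotrivial (R : Type u) [CommRing R] (D : Type u) [CommRing D]
    [HopfAlgebra R D] (h : SGA3b.IsQuasiIsotrivial R D) : SGA3b.IsMultType R D := by
  obtain ⟨s, hs, hloc⟩ := h
  refine ⟨s, hs, fun f hf => ?_⟩
  obtain ⟨R', _, _, -, hff, hd⟩ := hloc f hf
  exact ⟨R', inferInstance, inferInstance, hff, hd⟩

/-- the infinitesimal neighbourhoods of `H₀` in `H` are quasi-isotrivial -/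
theorem isQuasiIsotrivial_quotient_pow (n : ℕ)
    (hfl : ∀ (q : Ideal C) [q.IsPrime], Ideal.map (algebraMap A C) I ≤ q →
      Module.Flat A (Localization.AtPrime q))
    (h0 : SGA3b.IsQuasiIsotrivial (A ⧸ I) ((A ⧸ I) ⊗[A] C)) :
    SGA3b.IsQuasiIsotrivial (A ⧸ I ^ (n + 1)) ((A ⧸ I ^ (n + 1)) ⊗[A] C) := by
  have hle : I ^ (n + 1) ≤ I := Ideal.pow_le_self (Nat.succ_ne_zero n)
  letI : Algebra (A ⧸ I ^ (n + 1)) (A ⧸ I) := (Ideal.Quotient.factor hle).toAlgebra
  haveI : IsScalarTower A (A ⧸ I ^ (n + 1)) (A ⧸ I) := IsScalarTower.of_algebraMap_eq fun a => rfl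
  haveI := flat_quotient_tensor (C := C) I (I ^ (n + 1)) (n + 1) le_rfl hfl
  apply isQuasiIsotrivial_of_flat_of_surjective A C (A ⧸ I ^ (n + 1)) (A ⧸ I)
    (Ideal.Quotient.factor_surjective hle) _ h0
  refine ⟨n + 1, ?_⟩
  change RingHom.ker (Ideal.Quotient.factor hle) ^ (n + 1) = 0
  rw [Ideal.Quotient.factor_ker hle, ← Ideal.map_pow, Ideal.map_quotient_self, Ideal.zero_eq_bot]

/-- the infinitesimal neighbourhoods of `H₀` in `H` have atlases -/
theorem exists_atlas_quotient_pow (n : ℕ)
    (hfl : ∀ (q : Ideal C) [q.IsPrime], Ideal.map (algebraMap A C) I ≤ q →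
      Module.Flat A (Localization.AtPrime q))
    (h0 : SGA3b.IsQuasiIsotrivial (A ⧸ I) ((A ⧸ I) ⊗[A] C)) :
    ∃ (ι : Type u) (_ : Fintype ι) (c : ι → Chart (A ⧸ I ^ (n + 1)) ((A ⧸ I ^ (n + 1)) ⊗[A] C)),
      ∀ (K : Ideal (A ⧸ I ^ (n + 1))) (x : A ⧸ I ^ (n + 1)),
        (∀ i, algebraMap _ (c i).R' x ∈ K.map (algebraMap _ (c i).R')) → x ∈ K :=
  exists_atlas _ _ (isMultType_of_isQuasiIsotrivial _ _
    (isQuasiIsotrivial_quotient_pow A C I n hfl h0))

/-- the infinitesimal neighbourhoods of `H₀` in `H` are commutative -/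
theorem isCocomm_quotient_pow (n : ℕ)
    (hfl : ∀ (q : Ideal C) [q.IsPrime], Ideal.map (algebraMap A C) I ≤ q →
      Module.Flat A (Localization.AtPrime q))
    (h0 : SGA3b.IsQuasiIsotrivial (A ⧸ I) ((A ⧸ I) ⊗[A] C)) :
    Coalgebra.IsCocomm (A ⧸ I ^ (n + 1)) ((A ⧸ I ^ (n + 1)) ⊗[A] C) := by
  obtain ⟨ι, _, c, hc⟩ := exists_atlas_quotient_pow A C I n hfl h0
  exact isCocomm_of_atlas (c := c) hc

end pow

end Groth.Agent.H15.MTA
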