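import Groth.Agent.H15.MTAlg7

/-!
# SGA3 IX 7.1: uniqueness, reduction of charts, lifts to infinitesimal neighbourhoods
-/

set_option autoImplicit false
set_option linter.style.haveILetI false
universe u
open TensorProduct Coalgebra

namespace Groth.Agent.H15.MTA
open Groth.Agent.H26 Groth.Agent.H15.GLD Groth.Agent.H15.MTC Groth.Agent.H15.MTF

section inst
variable {A : Type u} [CommRing A] (I : Ideal A) (A' : Type u) [CommRing A'] [Algebra A A']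

/-- `A/I^n → A'/(IA')^n` -/
noncomputable abbrev algPow (n : ℕ) : Algebra (A ⧸ I ^ n) (A' ⧸ (I.map (algebraMap A A')) ^ n) :=
  Ideal.Quotient.algebraQuotientOfLEComap (by rw [← Ideal.map_pow]; exact Ideal.le_comap_map)

/-- `A'/J^(n+1) → A'/J` -/
noncomputable abbrev algFactor (J : Ideal A') (n : ℕ) : Algebra (A' ⧸ J ^ (n + 1)) (A' ⧸ J) :=
  (Ideal.Quotient.factor (Ideal.pow_le_self (Nat.succ_ne_zero n))).toAlgebra

end inst

attribute [local instance] algPow algFactor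

section part1
variable {A : Type u} [CommRing A] [IsNoetherianRing A] (I : Ideal A)
  {B : Type u} [CommRing B] [HopfAlgebra A B] {C : Type u} [CommRing C] [HopfAlgebra A C]
  {A' : Type u} [CommRing A'] [Algebra A A'] [Module.Finite A A'] [Module.FaithfullyFlat A A']
  {M : Type u} [CommGroup M] (e : A' ⊗[A] B ≃ₐc[A'] MonoidAlgebra A' M)

omit [IsNoetherianRing A] [Module.Finite A A'] in
include e in
lemma LB_injective : Function.Injective (LB e) := by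
  intro b b' h
  rw [LB_apply, LB_apply] at h
  exact Module.FaithfullyFlat.tensorProduct_mk_injective (A := A) (B := A') B (e.injective h)

include e in
/-- uniqueness part of SGA3 IX 7.1 -/
theorem bialgHom_ext_of_mod (hI : I ≤ Ideal.jacobson ⊥)
    (hcocomm : ∀ n, Coalgebra.IsCocomm (A ⧸ I ^ (n + 1)) ((A ⧸ I ^ (n + 1)) ⊗[A] C))
    (φ ψ : C →ₐc[A] B)
    (h : ∀ c : C, (1 : A ⧸ I) ⊗ₜ[A] (φ c) = (1 : A ⧸ I) ⊗ₜ[A] (ψ c)) : φ = ψ := by
  apply BialgHom.ext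
  intro c
  apply LB_injective e
  let θ₁ : C →ₐ[A] MonoidAlgebra A' M := (LB e).comp (φ : C →ₐ[A] B)
  let θ₂ : C →ₐ[A] MonoidAlgebra A' M := (LB e).comp (ψ : C →ₐ[A] B)
  have h₁ : IsCoalgMapOver A' θ₁.toLinearMap :=
    IsCoalgMapOver.comp (S₁ := A) (LB_coalg e) (isCoalgMapOver_of_coalgHom (φ : C →ₗc[A] B))
  have h₂ : IsCoalgMapOver A' θ₂.toLinearMap :=
    IsCoalgMapOver.comp (S₁ := A) (LB_coalg e) (isCoalgMapOver_of_coalgHom (ψ : C →ₗc[A] B))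
  have hbase : ∀ c m, (θ₁ c).coeff m - (θ₂ c).coeff m ∈ I.map (algebraMap A A') := by
    intro c m
    have h1 : φ c - ψ c ∈ (I • ⊤ : Submodule A B) := by
      apply mem_smul_top_of_one_tmul_eq_zero
      rw [tmul_sub, h c, sub_self]
    have h2 := map_mem_smul_top_of_mem I (LB e).toLinearMap h1
    have h3 := mem_map_of_mem_smul_top I
      ((coeffL m : MonoidAlgebra A' M →ₗ[A'] A').restrictScalars A) h2
    simpa [coeffL_apply, θ₁, θ₂] using h3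
  change θ₁ c = θ₂ c
  apply eq_of_forall_coeff_sub_mem_pow I hI
  intro n m
  cases n with
  | zero =>
    rw [pow_zero, Ideal.one_eq_top, Ideal.map_top]
    trivial
  | succ n =>
    haveI := hcocomm n
    exact coeff_sub_mem_pow_of_isCocomm I (n + 1) θ₁ θ₂ h₁ h₂ hbase c m

end part1

section part2
variable {A : Type u} [CommRing A] (I : Ideal A)
  {B : Type u} [CommRing B] [HopfAlgebra A B] {C : Type u} [CommRing C] [HopfAlgebra A C]
  {A' : Type u} [CommRing A'] [Algebra A A']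
  {M : Type u} [CommGroup M] (e : A' ⊗[A] B ≃ₐc[A'] MonoidAlgebra A' M)
  (φ₀ : ((A ⧸ I) ⊗[A] C) →ₐc[A ⧸ I] ((A ⧸ I) ⊗[A] B))

/-- reduction of the chart modulo `I` -/
noncomputable def ellB : B →ₐ[A] MonoidAlgebra (A' ⧸ I.map (algebraMap A A')) M :=
  ((mapCoeff (S := A') (S' := A' ⧸ I.map (algebraMap A A')) M).restrictScalars A).comp (LB e)

lemma ellB_coalg : IsCoalgMapOver (A' ⧸ I.map (algebraMap A A')) (ellB I e).toLinearMap :=
  IsCoalgMapOver.comp (isCoalgMapOver_mapCoeff M) (LB_coalg e)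

/-- the homomorphism modulo `I`, in the chart -/
noncomputable def thetaBar : C →ₐ[A] MonoidAlgebra (A' ⧸ I.map (algebraMap A A')) M :=
  ((liftAlg (A ⧸ I) (ellB I e)).restrictScalars A).comp
    (((φ₀ : ((A ⧸ I) ⊗[A] C) →ₐ[A ⧸ I] ((A ⧸ I) ⊗[A] B)).restrictScalars A).comp
      Algebra.TensorProduct.includeRight)

lemma thetaBar_apply (c : C) :
    thetaBar I e φ₀ c = liftAlg (A ⧸ I) (ellB I e) (φ₀ ((1 : A ⧸ I) ⊗ₜ[A] c)) := rfl

lemma thetaBar_coalg :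
    IsCoalgMapOver (A' ⧸ I.map (algebraMap A A')) (thetaBar I e φ₀).toLinearMap := by
  have h1 := isCoalgMapOver_liftAlg (K := A' ⧸ I.map (algebraMap A A'))
    (B := MonoidAlgebra (A' ⧸ I.map (algebraMap A A')) M) (A ⧸ I) (ellB_coalg I e)
  have h2 : IsCoalgMapOver (A ⧸ I)
      ((φ₀ : ((A ⧸ I) ⊗[A] C) →ₗc[A ⧸ I] ((A ⧸ I) ⊗[A] B)) :
        ((A ⧸ I) ⊗[A] C) →ₗ[A ⧸ I] ((A ⧸ I) ⊗[A] B)) :=
    isCoalgMapOver_of_coalgHom (φ₀ : ((A ⧸ I) ⊗[A] C) →ₗc[A ⧸ I] ((A ⧸ I) ⊗[A] B))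
  exact IsCoalgMapOver.comp h1 (IsCoalgMapOver.comp (S₂ := A ⧸ I) h2
    (isCoalgMapOver_inc (R := A) (A ⧸ I) C))

lemma exists_one_tmul_eq (y : (A ⧸ I) ⊗[A] B) : ∃ b : B, (1 : A ⧸ I) ⊗ₜ[A] b = y := by
  induction y using TensorProduct.induction_on with
  | zero => exact ⟨0, tmul_zero _ _⟩
  | add x y hx hy =>
    obtain ⟨a, rfl⟩ := hx
    obtain ⟨b, rfl⟩ := hy
    exact ⟨a + b, tmul_add _ _ _⟩
  | tmul r b =>
    obtain ⟨r, rfl⟩ := Ideal.Quotient.mk_surjective r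
    refine ⟨r • b, ?_⟩
    rw [← TensorProduct.smul_tmul]
    congr 1
    rw [Algebra.smul_def, mul_one]
    rfl

/-- (F1) -/
lemma thetaBar_eq (c : C) (b : B) (hb : φ₀ ((1 : A ⧸ I) ⊗ₜ[A] c) = (1 : A ⧸ I) ⊗ₜ[A] b) :
    thetaBar I e φ₀ c = mapCoeff (S := A') (S' := A' ⧸ I.map (algebraMap A A')) M (LB e b) := by
  rw [thetaBar_apply, hb, liftAlg_tmul, one_smul]
  rfl

end part2

section part2b
variable {A : Type u} [CommRing A] (I : Ideal A)
  {C : Type u} [CommRing C] [HopfAlgebra A C]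
  {A' : Type u} [CommRing A'] [Algebra A A']
  {M : Type u} [CommGroup M]
  (n : ℕ) {ι : Type u} [Fintype ι] {c : ι → Chart (A ⧸ I ^ (n + 1)) ((A ⧸ I ^ (n + 1)) ⊗[A] C)}

/-- (F2) lifting to the `n`-th infinitesimal neighbourhood -/
theorem exists_lift_pow
    (hc : ∀ (K : Ideal (A ⧸ I ^ (n + 1))) (x : A ⧸ I ^ (n + 1)),
      (∀ i, algebraMap _ (c i).R' x ∈ K.map (algebraMap _ (c i).R')) → x ∈ K)
    (θb : C →ₐ[A] MonoidAlgebra (A' ⧸ I.map (algebraMap A A')) M)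
    (hθb : IsCoalgMapOver (A' ⧸ I.map (algebraMap A A')) θb.toLinearMap) :
    ∃ Ψ : C →ₐ[A] MonoidAlgebra (A' ⧸ (I.map (algebraMap A A')) ^ (n + 1)) M,
      IsCoalgMapOver (A' ⧸ (I.map (algebraMap A A')) ^ (n + 1)) Ψ.toLinearMap ∧
      ∀ x, mapCoeff (S := A' ⧸ (I.map (algebraMap A A')) ^ (n + 1))
        (S' := A' ⧸ I.map (algebraMap A A')) M (Ψ x) = θb x := by
  letI : Algebra (A ⧸ I ^ (n + 1)) (A' ⧸ I.map (algebraMap A A')) :=
    ((algebraMap (A' ⧸ (I.map (algebraMap A A')) ^ (n + 1)) (A' ⧸ I.map (algebraMap A A'))).comp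
      (algebraMap (A ⧸ I ^ (n + 1)) (A' ⧸ (I.map (algebraMap A A')) ^ (n + 1)))).toAlgebra
  haveI : IsScalarTower (A ⧸ I ^ (n + 1)) (A' ⧸ (I.map (algebraMap A A')) ^ (n + 1))
      (A' ⧸ I.map (algebraMap A A')) := IsScalarTower.of_algebraMap_eq fun _ => rfl
  haveI : IsScalarTower A (A ⧸ I ^ (n + 1)) (A' ⧸ I.map (algebraMap A A')) :=
    IsScalarTower.of_algebraMap_eq fun _ => rfl
  haveI : IsScalarTower A (A ⧸ I ^ (n + 1)) (A' ⧸ (I.map (algebraMap A A')) ^ (n + 1)) :=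
    IsScalarTower.of_algebraMap_eq fun _ => rfl
  have hφb := isCoalgMapOver_liftAlg (K := A' ⧸ I.map (algebraMap A A'))
    (B := MonoidAlgebra (A' ⧸ I.map (algebraMap A A')) M) (A ⧸ I ^ (n + 1)) hθb
  have hsurj : Function.Surjective (algebraMap (A' ⧸ (I.map (algebraMap A A')) ^ (n + 1))
      (A' ⧸ I.map (algebraMap A A'))) :=
    Ideal.Quotient.factor_surjective (Ideal.pow_le_self (Nat.succ_ne_zero n))
  have hnilp : IsNilpotent (RingHom.ker (algebraMap (A' ⧸ (I.map (algebraMap A A')) ^ (n + 1))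
      (A' ⧸ I.map (algebraMap A A')))) := by
    refine ⟨n + 1, ?_⟩
    change RingHom.ker (Ideal.Quotient.factor (Ideal.pow_le_self (Nat.succ_ne_zero n))) ^ (n + 1) = 0
    rw [Ideal.Quotient.factor_ker,
      ← Ideal.map_pow (Ideal.Quotient.mk ((I.map (algebraMap A A')) ^ (n + 1)))
        (I.map (algebraMap A A')) (n + 1), Ideal.map_quotient_self, Ideal.zero_eq_bot]
  obtain ⟨Ψ', hΨ', hΨ'r⟩ := exists_lift_of_surjective hc hsurj hnilp
    (liftAlg (A ⧸ I ^ (n + 1)) θb) hφb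
  refine ⟨(Ψ'.restrictScalars A).comp Algebra.TensorProduct.includeRight, ?_, ?_⟩
  · exact IsCoalgMapOver.comp (S₁ := A ⧸ I ^ (n + 1)) hΨ'
      (isCoalgMapOver_inc (R := A) (A ⧸ I ^ (n + 1)) C)
  · intro x
    change mapCoeff (S := A' ⧸ (I.map (algebraMap A A')) ^ (n + 1))
      (S' := A' ⧸ I.map (algebraMap A A')) M (Ψ' ((1 : A ⧸ I ^ (n + 1)) ⊗ₜ[A] x)) = _
    rw [hΨ'r, liftAlg_tmul, one_smul]

/-- (F3) lifts to consecutive infinitesimal neighbourhoods are compatible -/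
theorem factor_coeff_eq_of_lifts
    [Coalgebra.IsCocomm (A ⧸ I ^ (n + 1)) ((A ⧸ I ^ (n + 1)) ⊗[A] C)]
    (θb : C →ₐ[A] MonoidAlgebra (A' ⧸ I.map (algebraMap A A')) M)
    (Ψ₁ : C →ₐ[A] MonoidAlgebra (A' ⧸ (I.map (algebraMap A A')) ^ (n + 1 + 1)) M)
    (hΨ₁ : IsCoalgMapOver (A' ⧸ (I.map (algebraMap A A')) ^ (n + 1 + 1)) Ψ₁.toLinearMap)
    (hΨ₁r : ∀ x, mapCoeff (S := A' ⧸ (I.map (algebraMap A A')) ^ (n + 1 + 1))
        (S' := A' ⧸ I.map (algebraMap A A')) M (Ψ₁ x) = θb x)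
    (Ψ₀ : C →ₐ[A] MonoidAlgebra (A' ⧸ (I.map (algebraMap A A')) ^ (n + 1)) M)
    (hΨ₀ : IsCoalgMapOver (A' ⧸ (I.map (algebraMap A A')) ^ (n + 1)) Ψ₀.toLinearMap)
    (hΨ₀r : ∀ x, mapCoeff (S := A' ⧸ (I.map (algebraMap A A')) ^ (n + 1))
        (S' := A' ⧸ I.map (algebraMap A A')) M (Ψ₀ x) = θb x) (x : C) (m : M) :
    Ideal.Quotient.factor (Ideal.pow_le_pow_right (Nat.le_succ (n + 1))) ((Ψ₁ x).coeff m) =
      (Ψ₀ x).coeff m := by
  letI : Algebra (A' ⧸ (I.map (algebraMap A A')) ^ (n + 1 + 1))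
      (A' ⧸ (I.map (algebraMap A A')) ^ (n + 1)) :=
    (Ideal.Quotient.factor (Ideal.pow_le_pow_right (Nat.le_succ (n + 1)))).toAlgebra
  haveI : IsScalarTower A (A' ⧸ (I.map (algebraMap A A')) ^ (n + 1 + 1))
      (A' ⧸ (I.map (algebraMap A A')) ^ (n + 1)) := IsScalarTower.of_algebraMap_eq fun _ => rfl
  let θ₁ : C →ₐ[A] MonoidAlgebra (A' ⧸ (I.map (algebraMap A A')) ^ (n + 1)) M :=
    ((mapCoeff (S := A' ⧸ (I.map (algebraMap A A')) ^ (n + 1 + 1))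
      (S' := A' ⧸ (I.map (algebraMap A A')) ^ (n + 1)) M).restrictScalars A).comp Ψ₁
  have h₁ : IsCoalgMapOver (A' ⧸ (I.map (algebraMap A A')) ^ (n + 1)) θ₁.toLinearMap :=
    IsCoalgMapOver.comp (isCoalgMapOver_mapCoeff M) hΨ₁
  have hθ₁c : ∀ x m, (θ₁ x).coeff m =
      Ideal.Quotient.factor (Ideal.pow_le_pow_right (Nat.le_succ (n + 1))) ((Ψ₁ x).coeff m) := by
    intro x m
    change (mapCoeff (S := A' ⧸ (I.map (algebraMap A A')) ^ (n + 1 + 1))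
      (S' := A' ⧸ (I.map (algebraMap A A')) ^ (n + 1)) M (Ψ₁ x)).coeff m = _
    rw [mapCoeff_coeff]
    rfl
  have hK : (I ^ (n + 1)).map
      (algebraMap A (A' ⧸ (I.map (algebraMap A A')) ^ (n + 1))) = ⊥ := by
    rw [IsScalarTower.algebraMap_eq A A' (A' ⧸ (I.map (algebraMap A A')) ^ (n + 1)),
      ← Ideal.map_map, Ideal.map_pow (algebraMap A A'), Ideal.Quotient.algebraMap_eq,
      Ideal.map_quotient_self]
  have hker : I.map (algebraMap A (A' ⧸ (I.map (algebraMap A A')) ^ (n + 1))) =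
      RingHom.ker (algebraMap (A' ⧸ (I.map (algebraMap A A')) ^ (n + 1))
        (A' ⧸ I.map (algebraMap A A'))) := by
    change _ = RingHom.ker (Ideal.Quotient.factor (Ideal.pow_le_self (Nat.succ_ne_zero n)))
    rw [Ideal.Quotient.factor_ker,
      IsScalarTower.algebraMap_eq A A' (A' ⧸ (I.map (algebraMap A A')) ^ (n + 1)),
      ← Ideal.map_map, Ideal.Quotient.algebraMap_eq]
  have hbase : ∀ x m, (θ₁ x).coeff m - (Ψ₀ x).coeff m ∈
      I.map (algebraMap A (A' ⧸ (I.map (algebraMap A A')) ^ (n + 1))) := by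
    intro x m
    rw [hker, RingHom.mem_ker, map_sub, sub_eq_zero, hθ₁c]
    have e1 := congrArg (fun y => y.coeff m) (hΨ₁r x)
    have e0 := congrArg (fun y => y.coeff m) (hΨ₀r x)
    simp only [mapCoeff_coeff] at e1 e0
    rw [e0, ← e1]
    obtain ⟨r, hr⟩ := Ideal.Quotient.mk_surjective ((Ψ₁ x).coeff m)
    rw [← hr]
    rfl
  have h5 := eq_of_coeff_sub_mem_of_isCocomm I (n + 1) hK θ₁ Ψ₀ h₁ hΨ₀ hbase x
  rw [← hθ₁c, h5]

end part2b

end Groth.Agent.H15.MTA
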