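import Groth.Agent.H15.MTAlg8

/-!
# SGA3 IX 7.1: existence of the lift of a homomorphism `G₀ → H₀`
-/

set_option autoImplicit false
set_option linter.style.haveILetI false
universe u
open TensorProduct Coalgebra

namespace Groth.Agent.H15.MTA
open Groth.Agent.H26 Groth.Agent.H15.GLD Groth.Agent.H15.MTC Groth.Agent.H15.MTF

attribute [local instance] algPow algFactor

section main
variable {A : Type u} [CommRing A] [IsNoetherianRing A] (I : Ideal A) [IsAdicComplete I A]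
  {B : Type u} [CommRing B] [HopfAlgebra A B] {C : Type u} [CommRing C] [HopfAlgebra A C]
  {A' : Type u} [CommRing A'] [Algebra A A'] [Module.Finite A A'] [Module.FaithfullyFlat A A']
  {M : Type u} [CommGroup M] (e : A' ⊗[A] B ≃ₐc[A'] MonoidAlgebra A' M)

include e in
/-- existence part of SGA3 IX 7.1 -/
theorem exists_bialgHom_of_mod
    (hat : ∀ n, ∃ (ι : Type u) (_ : Fintype ι)
      (c : ι → Chart (A ⧸ I ^ (n + 1)) ((A ⧸ I ^ (n + 1)) ⊗[A] C)),
      ∀ (K : Ideal (A ⧸ I ^ (n + 1))) (x : A ⧸ I ^ (n + 1)),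
        (∀ i, algebraMap _ (c i).R' x ∈ K.map (algebraMap _ (c i).R')) → x ∈ K)
    (φ₀ : ((A ⧸ I) ⊗[A] C) →ₐc[A ⧸ I] ((A ⧸ I) ⊗[A] B)) :
    ∃ φ : C →ₐc[A] B, ∀ c : C, φ₀ ((1 : A ⧸ I) ⊗ₜ[A] c) = (1 : A ⧸ I) ⊗ₜ[A] (φ c) := by
  have hcocomm : ∀ n, Coalgebra.IsCocomm (A ⧸ I ^ (n + 1)) ((A ⧸ I ^ (n + 1)) ⊗[A] C) := by
    intro n
    obtain ⟨ι, _, c, hc⟩ := hat n
    exact isCocomm_of_atlas (c := c) hc
  have hI : I ≤ Ideal.jacobson ⊥ := IsAdicComplete.le_jacobson_bot I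
  -- the lifts to the infinitesimal neighbourhoods
  have hΨ : ∀ n, ∃ Ψ : C →ₐ[A] MonoidAlgebra (A' ⧸ (I.map (algebraMap A A')) ^ (n + 1)) M,
      IsCoalgMapOver (A' ⧸ (I.map (algebraMap A A')) ^ (n + 1)) Ψ.toLinearMap ∧
      ∀ x, mapCoeff (S := A' ⧸ (I.map (algebraMap A A')) ^ (n + 1))
        (S' := A' ⧸ I.map (algebraMap A A')) M (Ψ x) = thetaBar I e φ₀ x := by
    intro n
    obtain ⟨ι, _, c, hc⟩ := hat n
    exact exists_lift_pow I n hc _ (thetaBar_coalg I e φ₀)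
  choose Ψ hΨco hΨr using hΨ
  have hcompat : ∀ n x m,
      Ideal.Quotient.factor (Ideal.pow_le_pow_right (Nat.le_succ (n + 1)))
        ((Ψ (n + 1) x).coeff m) = (Ψ n x).coeff m := by
    intro n x m
    haveI := hcocomm n
    exact factor_coeff_eq_of_lifts I n _ (Ψ (n + 1)) (hΨco (n + 1)) (hΨr (n + 1)) (Ψ n)
      (hΨco n) (hΨr n) x m
  -- the compatible family over `A'`
  have hΘ : ∀ n, ∃ θ : A' ⊗[A] C →ₐ[A'] MonoidAlgebra (A' ⧸ (I.map (algebraMap A A')) ^ n) M,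
      IsCoalgMapOver (A' ⧸ (I.map (algebraMap A A')) ^ n) θ.toLinearMap ∧
      ∀ (a : A') (x : C) (m : M), (θ (a ⊗ₜ[A] x)).coeff m =
        Ideal.Quotient.mk _ a * Ideal.Quotient.factor (Ideal.pow_le_pow_right (Nat.le_succ n))
          ((Ψ n x).coeff m) := by
    intro n
    letI : Algebra (A' ⧸ (I.map (algebraMap A A')) ^ (n + 1))
        (A' ⧸ (I.map (algebraMap A A')) ^ n) :=
      (Ideal.Quotient.factor (Ideal.pow_le_pow_right (Nat.le_succ n))).toAlgebra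
    haveI : IsScalarTower A (A' ⧸ (I.map (algebraMap A A')) ^ (n + 1))
        (A' ⧸ (I.map (algebraMap A A')) ^ n) := IsScalarTower.of_algebraMap_eq fun _ => rfl
    let θ₀ : C →ₐ[A] MonoidAlgebra (A' ⧸ (I.map (algebraMap A A')) ^ n) M :=
      ((mapCoeff (S := A' ⧸ (I.map (algebraMap A A')) ^ (n + 1))
        (S' := A' ⧸ (I.map (algebraMap A A')) ^ n) M).restrictScalars A).comp (Ψ n)
    have hθ₀ : IsCoalgMapOver (A' ⧸ (I.map (algebraMap A A')) ^ n) θ₀.toLinearMap :=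
      IsCoalgMapOver.comp (isCoalgMapOver_mapCoeff M) (hΨco n)
    have hθ₀c : ∀ x m, (θ₀ x).coeff m =
        Ideal.Quotient.factor (Ideal.pow_le_pow_right (Nat.le_succ n)) ((Ψ n x).coeff m) := by
      intro x m
      change (mapCoeff (S := A' ⧸ (I.map (algebraMap A A')) ^ (n + 1))
        (S' := A' ⧸ (I.map (algebraMap A A')) ^ n) M (Ψ n x)).coeff m = _
      rw [mapCoeff_coeff]
      rfl
    refine ⟨liftAlg A' θ₀, isCoalgMapOver_liftAlg (K := A' ⧸ (I.map (algebraMap A A')) ^ n)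
      (B := MonoidAlgebra (A' ⧸ (I.map (algebraMap A A')) ^ n) M) A' hθ₀, ?_⟩
    intro a x m
    rw [liftAlg_tmul, MonoidAlgebra.coeff_smul, Finsupp.smul_apply, hθ₀c, Algebra.smul_def]
    rfl
  choose Θ hΘco hΘc using hΘ
  have hΘcompat : ∀ n y m, Ideal.Quotient.factor (Ideal.pow_le_pow_right (Nat.le_succ n))
      ((Θ (n + 1) y).coeff m) = (Θ n y).coeff m := by
    intro n y m
    induction y using TensorProduct.induction_on with
    | zero => simp
    | add x y hx hy =>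
      rw [map_add, map_add, MonoidAlgebra.coeff_add, MonoidAlgebra.coeff_add, Finsupp.add_apply,
        Finsupp.add_apply, map_add, hx, hy]
    | tmul a x =>
      rw [hΘc, hΘc, map_mul, hcompat n x m]
      rfl
  -- algebraisation
  haveI : IsNoetherianRing A' := IsNoetherianRing.of_finite A A'
  haveI : IsAdicComplete (I.map (algebraMap A A')) A' := isAdicComplete_map_of_finite I A'
  obtain ⟨Φ', hΦ'⟩ := exists_bialgHom_of_compatible (I.map (algebraMap A A')) Θ hΘco hΘcompat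
  let Φ : C →ₐ[A] MonoidAlgebra A' M :=
    ((Φ' : A' ⊗[A] C →ₐ[A'] MonoidAlgebra A' M).restrictScalars A).comp
      Algebra.TensorProduct.includeRight
  have hΦapp : ∀ x, Φ x = Φ' ((1 : A') ⊗ₜ[A] x) := fun x => rfl
  have hΦco : IsCoalgMapOver A' Φ.toLinearMap :=
    IsCoalgMapOver.comp (S₂ := A')
      (isCoalgMapOver_of_coalgHom (Φ' : A' ⊗[A] C →ₗc[A'] MonoidAlgebra A' M))
      (isCoalgMapOver_inc (R := A) A' C)
  -- reduction of `Φ` modulo `I`
  have hΦr : ∀ x, mapCoeff (S := A') (S' := A' ⧸ I.map (algebraMap A A')) M (Φ x) =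
      thetaBar I e φ₀ x := by
    intro x
    ext m
    rw [mapCoeff_coeff, ← hΨr 1 x, mapCoeff_coeff]
    have h1 := congrArg (fun y => y.coeff m) (hΦ' 1 ((1 : A') ⊗ₜ[A] x))
    simp only [mapCoeff_coeff] at h1
    rw [hΘc, map_one, one_mul, ← hΦapp] at h1
    obtain ⟨r, hr⟩ := Ideal.Quotient.mk_surjective ((Ψ 1 x).coeff m)
    rw [← hr] at h1 ⊢
    rw [Ideal.Quotient.algebraMap_eq] at h1 ⊢
    have h2 : (Φ x).coeff m - r ∈ (I.map (algebraMap A A')) ^ 1 := Ideal.Quotient.eq.mp h1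
    rw [pow_one] at h2
    rw [Ideal.Quotient.eq.mpr h2]
    rfl
  have hmod : ∀ x b, φ₀ ((1 : A ⧸ I) ⊗ₜ[A] x) = (1 : A ⧸ I) ⊗ₜ[A] b →
      ∀ m, (Φ x).coeff m - (LB e b).coeff m ∈ I.map (algebraMap A A') := by
    intro x b hb m
    have h1 := hΦr x
    rw [thetaBar_eq I e φ₀ x b hb] at h1
    have h2 := (mapCoeff_eq_iff (I.map (algebraMap A A')) (Φ x) (LB e b)).mp h1 m
    rwa [MonoidAlgebra.coeff_sub, Finsupp.sub_apply] at h2
  have hmod' : ∀ x, ∃ b : B, ∀ m,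
      (Φ x).coeff m - (LB e b).coeff m ∈ I.map (algebraMap A A') := by
    intro x
    obtain ⟨b, hb⟩ := exists_one_tmul_eq I (φ₀ ((1 : A ⧸ I) ⊗ₜ[A] x))
    exact ⟨b, hmod x b hb.symm⟩
  -- descent
  have hdesc : ∀ x, ∃ b : B, LB e b = Φ x := by
    intro x
    have h1 := map_eq_map_of_mod (T := A' ⊗[A] A') e I hI hcocomm
      Algebra.TensorProduct.includeLeft Algebra.TensorProduct.includeRight Φ hΦco hmod' x
    obtain ⟨b, hb⟩ := exists_of_map_include_eq A A' B (e.symm (Φ x)) h1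
    exact ⟨b, by rw [LB_apply, hb, BialgEquiv.apply_symm_apply]⟩
  choose φ hφ using hdesc
  let ch : PUnit.{u + 1} → Chart A B := fun _ =>
    ⟨A', M, LB e, ⟨LB_coalg e, LB_bc e⟩, inferInstance⟩
  have hch : ∀ (K : Ideal A) (x : A),
      (∀ i, algebraMap A (ch i).R' x ∈ K.map (algebraMap A (ch i).R')) → x ∈ K := by
    intro K x h
    have h1 := h PUnit.unit
    change algebraMap A A' x ∈ K.map (algebraMap A A') at h1
    rwa [← Ideal.mem_comap, Ideal.comap_map_eq_self_of_faithfullyFlat] at h1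
  obtain ⟨ψ, hψ⟩ := exists_bialgHom_of_atlas_target (c := ch) hch φ (fun _ => Φ)
    (fun _ => hΦco) (fun _ x => hφ x)
  refine ⟨ψ, fun x => ?_⟩
  obtain ⟨b, hb⟩ := exists_one_tmul_eq I (φ₀ ((1 : A ⧸ I) ⊗ₜ[A] x))
  rw [← hb, hψ, ← sub_eq_zero, ← tmul_sub]
  apply one_tmul_eq_zero_of_mem_smul_top
  apply mem_smul_top_of_forall_chart_mem (c := ch) hch I
  intro _
  change LB e (b - φ x) ∈ _
  rw [map_sub, hφ]
  apply mem_smul_top_of_coeff_mem
  intro m
  rw [MonoidAlgebra.coeff_sub, Finsupp.sub_apply, ← neg_sub]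
  exact neg_mem (hmod x b hb.symm m)

end main

end Groth.Agent.H15.MTA
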