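import Groth.Agent.H15.MTChart

/-!
# Atlases of diagonalising charts for groups of multiplicative type, and group-like elements of
group algebras
-/

set_option autoImplicit false
set_option linter.style.haveILetI false
universe u
open TensorProduct Coalgebra

namespace Groth.Agent.H15.MTC
open Groth.Agent.H26

/-- A bundled flat diagonalising chart. -/
structure Chart (R : Type u) [CommRing R] (A : Type u) [CommRing A] [HopfAlgebra R A] where
  R' : Type u
  [commRing : CommRing R']
  [algebra : Algebra R R']
  N : Type u
  [commGroup : CommGroup N]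
  L : A →ₐ[R] MonoidAlgebra R' N
  isChart : IsChart R A R' N L
  flat : Module.Flat R R'

attribute [instance] Chart.commRing Chart.algebra Chart.commGroup

section atlas
variable (R : Type u) [CommRing R] (A : Type u) [CommRing A] [HopfAlgebra R A]

lemma exists_chart_of_mem (f : R)
    (h : SGA3b.IsMultTypeConst (Localization.Away f) (Localization.Away f ⊗[R] A)) :
    ∃ c : Chart R A, ∀ (K : Ideal R) (x : R),
      algebraMap R c.R' x ∈ K.map (algebraMap R c.R') →
      algebraMap R (Localization.Away f) x ∈ K.map (algebraMap R (Localization.Away f)) := by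
  obtain ⟨R', hR', hA1, hA2, hST, N, hN, L, hFF, hL⟩ := exists_chart R A f h
  have hflat : Module.Flat R R' := Module.Flat.trans R (Localization.Away f) R'
  refine ⟨⟨R', N, L, hL, hflat⟩, ?_⟩
  intro K x hx
  change algebraMap R R' x ∈ K.map (algebraMap R R') at hx
  rw [IsScalarTower.algebraMap_eq R (Localization.Away f) R', ← Ideal.map_map,
    RingHom.comp_apply, ← Ideal.mem_comap, Ideal.comap_map_eq_self_of_faithfullyFlat] at hx
  exact hx

/-- membership in an ideal can be tested on a spanning family of basic opens -/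
lemma mem_of_forall_mem_map_away (t : Set R) (ht : Ideal.span t = ⊤) (K : Ideal R) (x : R)
    (h : ∀ f ∈ t, algebraMap R (Localization.Away f) x ∈
      K.map (algebraMap R (Localization.Away f))) : x ∈ K := by
  let I : Ideal R := Submodule.comap (LinearMap.toSpanSingleton R R x) K
  have hI : ∀ r, r ∈ I ↔ r * x ∈ K := by
    intro r
    simp only [I, Submodule.mem_comap, LinearMap.toSpanSingleton_apply, smul_eq_mul]
  suffices hI1 : (1 : R) ∈ I by simpa using (hI 1).mp hI1
  rw [← Ideal.eq_top_iff_one, ← Ideal.radical_eq_top, eq_top_iff, ← ht, Ideal.span_le]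
  intro f hf
  obtain ⟨⟨k, m⟩, hkm⟩ :=
    (IsLocalization.mem_map_algebraMap_iff (Submonoid.powers f) (Localization.Away f)).mp (h f hf)
  rw [← map_mul, IsLocalization.eq_iff_exists (Submonoid.powers f)] at hkm
  obtain ⟨m', hm'⟩ := hkm
  obtain ⟨a, ha⟩ := m.2
  obtain ⟨b, hb⟩ := m'.2
  simp only at ha hb hm'
  refine ⟨b + a, (hI _).mpr ?_⟩
  have : f ^ (b + a) * x = (m' : R) * (k : R) := by
    rw [pow_add, hb, ha, ← hm']; ring
  rw [this]
  exact K.mul_mem_left _ k.2

/-- A group of multiplicative type has a finite atlas of flat charts which is jointly faithful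
for membership in ideals. -/
theorem exists_atlas (hH : SGA3b.IsMultType R A) :
    ∃ (ι : Type u) (_ : Fintype ι) (c : ι → Chart R A),
      ∀ (K : Ideal R) (x : R),
        (∀ i, algebraMap R (c i).R' x ∈ K.map (algebraMap R (c i).R')) → x ∈ K := by
  obtain ⟨s, hs, hloc⟩ := hH
  obtain ⟨t, hts, ht⟩ := (Ideal.span_eq_top_iff_finite s).mp hs
  have key : ∀ f : (t : Set R), ∃ c : Chart R A, ∀ (K : Ideal R) (x : R),
      algebraMap R c.R' x ∈ K.map (algebraMap R c.R') →
      algebraMap R (Localization.Away f.1) x ∈ K.map (algebraMap R (Localization.Away f.1)) :=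
    fun f => exists_chart_of_mem R A f.1 (hloc f.1 (hts f.2))
  choose c hc using key
  refine ⟨(t : Set R), inferInstance, c, ?_⟩
  intro K x hx
  apply mem_of_forall_mem_map_away R (t : Set R) ht K x
  intro f hf
  exact hc ⟨f, hf⟩ K x (hx ⟨f, hf⟩)

end atlas

end Groth.Agent.H15.MTC
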