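import Groth.Prelude.Def_SGA3b
import Groth.Agent.H26.DiagRigid
import Groth.Agent.H26.DiagField
import Mathlib

/-!
# Diagonalising charts for groups of multiplicative type (Hopf-algebra form)

A chart for `(R, A)` is a semilinear coalgebra + algebra map `L : A → R'[N]` which exhibits `R'[N]`
as the base change `R' ⊗[R] A`.
-/

set_option autoImplicit false
set_option linter.style.haveILetI false
universe u
open TensorProduct Coalgebra

namespace Groth.Agent.H15.MTC
open Groth.Agent.H26

/-- A diagonalising chart of the `R`-Hopf algebra `A` over the `R`-algebra `R'`. -/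
structure IsChart (R : Type u) [CommRing R] (A : Type u) [CommRing A] [HopfAlgebra R A]
    (R' : Type u) [CommRing R'] [Algebra R R'] (N : Type u) [CommGroup N]
    (L : A →ₐ[R] MonoidAlgebra R' N) : Prop where
  coalg : IsCoalgMapOver R' L.toLinearMap
  bc : IsBaseChange R' L.toLinearMap

/-- a constant-type multiplicative group over `R_f` gives a chart of `A` over `R`. -/
theorem exists_chart (R : Type u) [CommRing R] (A : Type u) [CommRing A] [HopfAlgebra R A]
    (f : R) (h : SGA3b.IsMultTypeConst (Localization.Away f) (Localization.Away f ⊗[R] A)) :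
    ∃ (R' : Type u) (_ : CommRing R') (_ : Algebra R R') (_ : Algebra (Localization.Away f) R')
      (_ : IsScalarTower R (Localization.Away f) R')
      (N : Type u) (_ : CommGroup N) (L : A →ₐ[R] MonoidAlgebra R' N),
      Module.FaithfullyFlat (Localization.Away f) R' ∧ IsChart R A R' N L := by
  obtain ⟨R', hR', hAlg, hFF, M, hM, ⟨e⟩⟩ := h
  let _ : Algebra R R' :=
    ((algebraMap (Localization.Away f) R').comp (algebraMap R (Localization.Away f))).toAlgebra
  have hST : IsScalarTower R (Localization.Away f) R' := IsScalarTower.of_algebraMap_eq (fun _ => rfl)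
  let ι₁ : A →ₗ[R] Localization.Away f ⊗[R] A := TensorProduct.mk R (Localization.Away f) A 1
  let ι₂ : (Localization.Away f ⊗[R] A) →ₗ[Localization.Away f]
      R' ⊗[Localization.Away f] (Localization.Away f ⊗[R] A) :=
    TensorProduct.mk (Localization.Away f) R' _ 1
  have h₂ : IsCoalgMapOver (Localization.Away f) ι₁ := isCoalgMapOver_inc _ A
  have h₃ : IsCoalgMapOver R' ι₂ := isCoalgMapOver_inc R' _
  let eL : (R' ⊗[Localization.Away f] (Localization.Away f ⊗[R] A)) →ₗc[R']
      MonoidAlgebra R' M := e.toCoalgEquiv.toCoalgHom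
  have h₄ := isCoalgMapOver_of_coalgHom (R := R') eL
  have h₃₂ := h₃.comp h₂
  have h₄₃₂ := h₄.comp h₃₂
  have b₁ : IsBaseChange (Localization.Away f) ι₁ := TensorProduct.isBaseChange R A _
  have b₂ : IsBaseChange R' ι₂ := TensorProduct.isBaseChange _ _ R'
  have b₃ : IsBaseChange R' (e.toCoalgEquiv.toLinearEquiv.toLinearMap) :=
    IsBaseChange.ofEquiv e.toCoalgEquiv.toLinearEquiv
  have b₃₂ := b₂.comp b₃
  have b₃₂₁ := b₁.comp b₃₂
  let Llin : A →ₗ[R] MonoidAlgebra R' M :=
    ((eL : _ →ₗ[R'] _).restrictScalars R) ∘ₗ ((ι₂.restrictScalars R) ∘ₗ ι₁)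
  have hL1 : Llin 1 = 1 := by
    change e ((1 : R') ⊗ₜ ((1 : Localization.Away f) ⊗ₜ (1 : A))) = 1
    rw [← Algebra.TensorProduct.one_def, ← Algebra.TensorProduct.one_def]
    exact map_one e
  have hLmul : ∀ a b, Llin (a * b) = Llin a * Llin b := by
    intro a b
    change e ((1 : R') ⊗ₜ ((1 : Localization.Away f) ⊗ₜ (a * b))) =
      e ((1 : R') ⊗ₜ ((1 : Localization.Away f) ⊗ₜ a)) * e ((1 : R') ⊗ₜ ((1 : Localization.Away f) ⊗ₜ b))
    rw [← map_mul, Algebra.TensorProduct.tmul_mul_tmul, Algebra.TensorProduct.tmul_mul_tmul, one_mul,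
      one_mul]
  refine ⟨R', hR', inferInstance, hAlg, hST, M, hM, AlgHom.ofLinearMap Llin hL1 hLmul, hFF, ?_, ?_⟩
  · exact h₄₃₂
  · exact b₃₂₁

end Groth.Agent.H15.MTC
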