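import Groth.Agent.H15.MTDiag

set_option autoImplicit false
set_option linter.style.haveILetI false
universe u
open TensorProduct Coalgebra

namespace Groth.Agent.H15.MTC
open Groth.Agent.H26 Groth.Agent.H15.GLD

section lemD
variable {S : Type*} [CommRing S] (J : Ideal S) {M : Type*} [CommGroup M] {N : Type*} [CommGroup N]

lemma mapCoeff_surjective (y : MonoidAlgebra (S ⧸ J) M) :
    ∃ z : MonoidAlgebra S M, mapCoeff (S := S) (S' := S ⧸ J) M z = y := by
  induction y using MonoidAlgebra.induction_linear with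
  | zero => exact ⟨0, map_zero _⟩
  | add x y hx hy =>
    obtain ⟨a, rfl⟩ := hx
    obtain ⟨b, rfl⟩ := hy
    exact ⟨a + b, map_add _ _ _⟩
  | single n r =>
    obtain ⟨r, rfl⟩ := Ideal.Quotient.mk_surjective r
    exact ⟨MonoidAlgebra.single n r, by simp [mapCoeff, Algebra.ofId_apply]⟩

lemma mapCoeff_eq_iff (y z : MonoidAlgebra S M) :
    mapCoeff (S := S) (S' := S ⧸ J) M y = mapCoeff (S := S) (S' := S ⧸ J) M z ↔
      ∀ ν, (y - z).coeff ν ∈ J := by
  constructor
  · intro h ν
    have := congrArg (fun w => w.coeff ν) h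
    simp only [mapCoeff_coeff, Ideal.Quotient.algebraMap_eq] at this
    rw [MonoidAlgebra.coeff_sub, Finsupp.sub_apply, ← Ideal.Quotient.eq]
    exact this
  · intro h
    ext ν
    rw [mapCoeff_coeff, mapCoeff_coeff, Ideal.Quotient.algebraMap_eq, Ideal.Quotient.eq]
    have := h ν
    rwa [MonoidAlgebra.coeff_sub, Finsupp.sub_apply] at this

/-- a bialgebra map of group algebras which is bijective modulo a nil ideal is surjective -/
theorem surjective_of_bijective_mod_nil (hJ : ∀ x ∈ J, IsNilpotent x)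
    (Θ : MonoidAlgebra S M →ₐc[S] MonoidAlgebra S N)
    (Ψ : MonoidAlgebra (S ⧸ J) M →ₐc[S ⧸ J] MonoidAlgebra (S ⧸ J) N)
    (hΨ : Function.Bijective Ψ)
    (hcomp : ∀ y, mapCoeff (S := S) (S' := S ⧸ J) N (Θ y) = Ψ (mapCoeff (S := S) (S' := S ⧸ J) M y)) :
    Function.Surjective Θ := by
  classical
  have key : ∀ ν : N, ∃ y' : MonoidAlgebra S M, Θ y' = MonoidAlgebra.single ν 1 := by
    intro ν
    let E := BialgEquiv.ofBijective Ψ hΨ
    set y := E.symm (MonoidAlgebra.single ν 1) with hy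
    have hΨy : Ψ y = MonoidAlgebra.single ν 1 := by
      change E y = _
      rw [hy, BialgEquiv.apply_symm_apply]
    have hygl : IsGroupLikeElem (S ⧸ J) y := by
      rw [hy, isGroupLikeElem_map_equiv]
      exact MonoidAlgebra.isGroupLikeElem_single_one ν
    obtain ⟨z, hz⟩ := mapCoeff_surjective J y
    have hzc : ∀ m, Ideal.Quotient.mk J (z.coeff m) = y.coeff m := by
      intro m
      rw [← hz, mapCoeff_coeff, Ideal.Quotient.algebraMap_eq]
    have hz1 : ∀ m n, z.coeff m * z.coeff n - (if m = n then z.coeff m else 0) ∈ J := by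
      intro m n
      rw [← Ideal.Quotient.eq]
      simp only [map_mul, hzc]
      rw [coeff_mul_coeff hygl]
      split_ifs
      · rw [hzc]
      · rw [map_zero]
    have hz2 : z.coeff.sum (fun _ r => r) - 1 ∈ J := by
      rw [← Ideal.Quotient.eq, map_one, ← counit_eq_sum]
      have h1 := (isCoalgMapOver_mapCoeff (S := S) (S' := S ⧸ J) M).counit z
      rw [Ideal.Quotient.algebraMap_eq] at h1
      rw [← h1]
      change Coalgebra.counit (mapCoeff (S := S) (S' := S ⧸ J) M z) = 1
      rw [hz, hygl.counit_eq_one]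
    obtain ⟨y', hy'gl, hy'z⟩ := exists_groupLike_lift J hJ z hz1 hz2
    refine ⟨y', ?_⟩
    apply eq_of_coeff_sub_mem J hJ (hy'gl.map Θ) (MonoidAlgebra.isGroupLikeElem_single_one ν)
    rw [← mapCoeff_eq_iff, hcomp, (mapCoeff_eq_iff J y' z).mpr hy'z, hz, hΨy]
    simp [mapCoeff, Algebra.ofId_apply]
  intro G
  induction G using MonoidAlgebra.induction_linear with
  | zero => exact ⟨0, map_zero _⟩
  | add x y hx hy =>
    obtain ⟨a, rfl⟩ := hx
    obtain ⟨b, rfl⟩ := hy
    exact ⟨a + b, map_add _ _ _⟩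
  | single n r =>
    obtain ⟨y', hy'⟩ := key n
    refine ⟨r • y', ?_⟩
    rw [map_smul, hy', MonoidAlgebra.smul_single, smul_eq_mul, mul_one]

end lemD

section push
variable {R : Type u} [CommRing R] {A : Type u} [CommRing A] [HopfAlgebra R A]
  {R' : Type u} [CommRing R'] [Algebra R R'] {B : Type u} [CommRing B] [HopfAlgebra R' B]
  [Algebra R B] [IsScalarTower R R' B]

/-- transport of a character family along a coalgebra map over a base change -/
noncomputable def pushChar (L : A →ₐ[R] B) (hL : IsCoalgMapOver R' L.toLinearMap)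
    {Γ : Type u} [CommGroup Γ] (χ : Γ →* GroupLike R A) : Γ →* GroupLike R' B where
  toFun m := ⟨L (χ m).val, IsCoalgMapOver.isGroupLikeElem hL (χ m).isGroupLikeElem_val⟩
  map_one' := by
    apply GroupLike.val_injective
    simp
  map_mul' a b := by
    apply GroupLike.val_injective
    simp

@[simp] lemma pushChar_val (L : A →ₐ[R] B) (hL : IsCoalgMapOver R' L.toLinearMap)
    {Γ : Type u} [CommGroup Γ] (χ : Γ →* GroupLike R A) (m : Γ) :
    ((pushChar L hL χ m).val : B) = L (χ m).val := rfl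

lemma map_liftHom (L : A →ₐ[R] B) (hL : IsCoalgMapOver R' L.toLinearMap)
    {Γ : Type u} [CommGroup Γ] (χ : Γ →* GroupLike R A) (x : MonoidAlgebra R Γ) :
    L (liftHom χ x) = liftHom (pushChar L hL χ) (mapCoeff (S := R) (S' := R') Γ x) := by
  induction x using MonoidAlgebra.induction_linear with
  | zero => simp
  | add x y hx hy => rw [map_add, map_add, map_add, map_add, hx, hy]
  | single n r =>
    rw [liftHom_single, map_smul]
    simp only [mapCoeff, MonoidAlgebra.mapAlgHom_single, Algebra.ofId_apply]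
    rw [liftHom_single, pushChar_val, algebraMap_smul]

end push

section bij
variable {R : Type u} [CommRing R] {A : Type u} [CommRing A] [HopfAlgebra R A] (I : Ideal R)
  {M : Type u} [CommGroup M]
  (e : (R ⧸ I) ⊗[R] A ≃ₐc[R ⧸ I] MonoidAlgebra (R ⧸ I) M)
  {S : Type u} [CommRing S] [Algebra R S] [Algebra (R ⧸ I) S] [IsScalarTower R (R ⧸ I) S]
  {N : Type u} [CommGroup N]

theorem bijective_liftHom_pushChar (lam : A →ₐ[R] MonoidAlgebra S N)
    (hco : IsCoalgMapOver S lam.toLinearMap) (hbc : IsBaseChange S lam.toLinearMap)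
    (χ : M →* GroupLike R A)
    (hχ : ∀ m, (1 : R ⧸ I) ⊗ₜ[R] ((χ m).val : A) = e.symm (MonoidAlgebra.single m 1)) :
    Function.Bijective (liftHom (pushChar lam hco χ)) := by
  let Lb : (R ⧸ I) ⊗[R] A →ₗ[R ⧸ I] MonoidAlgebra S N := lam.toLinearMap.liftBaseChange (R ⧸ I)
  have hcomp : ((Lb : (R ⧸ I) ⊗[R] A →ₗ[R] MonoidAlgebra S N) ∘ₗ (TensorProduct.mk R (R ⧸ I) A 1))
      = lam.toLinearMap := by
    ext a
    simp [Lb]
  have hLb : IsBaseChange S Lb := by
    apply IsBaseChange.of_comp (TensorProduct.isBaseChange R A (R ⧸ I))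
    rw [hcomp]
    exact hbc
  let Ψ : MonoidAlgebra (R ⧸ I) M →ₗ[R ⧸ I] MonoidAlgebra S N :=
    Lb ∘ₗ e.symm.toLinearEquiv.toLinearMap
  have hΨ : IsBaseChange S Ψ := IsBaseChange.comp_equiv e.symm.toLinearEquiv Lb hLb
  let T := (isBaseChange_mapCoeff (S := R ⧸ I) (S' := S) M).equiv
  let Ξ : MonoidAlgebra S M ≃ₗ[S] MonoidAlgebra S N := T.symm ≪≫ₗ hΨ.equiv
  have key : ∀ y, liftHom (pushChar lam hco χ) y = Ξ y := by
    intro y
    induction y using MonoidAlgebra.induction_linear with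
    | zero => simp
    | add x y hx hy => rw [map_add, map_add, hx, hy]
    | single m r =>
      have h1 : (MonoidAlgebra.single m r : MonoidAlgebra S M) =
          r • mapCoeff (S := R ⧸ I) (S' := S) M (MonoidAlgebra.single m 1) := by
        simp [mapCoeff, Algebra.ofId_apply]
      rw [liftHom_single, pushChar_val, h1, map_smul]
      congr 1
      change _ = hΨ.equiv (T.symm ((mapCoeff (S := R ⧸ I) (S' := S) M).toLinearMap _))
      rw [IsBaseChange.equiv_symm_apply, IsBaseChange.equiv_tmul, one_smul]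
      change _ = Lb (e.symm (MonoidAlgebra.single m 1))
      rw [← hχ]
      simp [Lb]
  constructor
  · intro x y hxy
    rw [key, key] at hxy
    exact Ξ.injective hxy
  · intro y
    obtain ⟨x, rfl⟩ := Ξ.surjective y
    exact ⟨x, key x⟩

end bij

section chartsurj
variable {R : Type u} [CommRing R] {A : Type u} [CommRing A] [HopfAlgebra R A] (I : Ideal R)
  {M : Type u} [CommGroup M]
  (e : (R ⧸ I) ⊗[R] A ≃ₐc[R ⧸ I] MonoidAlgebra (R ⧸ I) M)

theorem chart_surjective (hI : ∀ x ∈ I, IsNilpotent x) (c₀ : Chart R A)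
    (χ : M →* GroupLike R A)
    (hχ : ∀ m, (1 : R ⧸ I) ⊗ₜ[R] ((χ m).val : A) = e.symm (MonoidAlgebra.single m 1)) :
    Function.Surjective (liftHom (pushChar c₀.L c₀.isChart.coalg χ)) := by
  have hJ := map_nil (algebraMap R c₀.R') I hI
  let mc := mapCoeff (S := c₀.R') (S' := c₀.R' ⧸ Ideal.map (algebraMap R c₀.R') I) c₀.N
  have hmc : IsCoalgMapOver (c₀.R' ⧸ Ideal.map (algebraMap R c₀.R') I) mc.toLinearMap :=
    isCoalgMapOver_mapCoeff c₀.N
  let χ' := pushChar c₀.L c₀.isChart.coalg χ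
  let lam : A →ₐ[R] MonoidAlgebra (c₀.R' ⧸ Ideal.map (algebraMap R c₀.R') I) c₀.N :=
    (mc.restrictScalars R).comp c₀.L
  have hco : IsCoalgMapOver (c₀.R' ⧸ Ideal.map (algebraMap R c₀.R') I) lam.toLinearMap :=
    IsCoalgMapOver.comp hmc c₀.isChart.coalg
  have hbc0 := c₀.isChart.bc.comp (isBaseChange_mapCoeff (S := c₀.R')
    (S' := c₀.R' ⧸ Ideal.map (algebraMap R c₀.R') I) c₀.N)
  have hbc : IsBaseChange (c₀.R' ⧸ Ideal.map (algebraMap R c₀.R') I) lam.toLinearMap := by
    have h1 : lam.toLinearMap = (mc.toLinearMap.restrictScalars R).comp c₀.L.toLinearMap :=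
      LinearMap.ext fun _ => rfl
    rw [h1]
    exact hbc0
  have hbij := bijective_liftHom_pushChar I e lam hco hbc χ hχ
  have heq : pushChar lam hco χ = pushChar mc hmc χ' := by
    ext m
    rfl
  rw [heq] at hbij
  exact surjective_of_bijective_mod_nil _ hJ (liftHom χ') (liftHom (pushChar mc hmc χ')) hbij
    (fun y => map_liftHom mc hmc χ' y)

theorem chart_exists_tensor (hI : ∀ x ∈ I, IsNilpotent x) (c₀ : Chart R A)
    (χ : M →* GroupLike R A)
    (hχ : ∀ m, (1 : R ⧸ I) ⊗ₜ[R] ((χ m).val : A) = e.symm (MonoidAlgebra.single m 1)) (a : A) :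
    ∃ t : c₀.R' ⊗[R] MonoidAlgebra R M,
      (liftHom χ).toLinearMap.lTensor c₀.R' t = (1 : c₀.R') ⊗ₜ[R] a := by
  obtain ⟨w, hw⟩ := chart_surjective I e hI c₀ χ hχ (c₀.L a)
  let T' := (isBaseChange_mapCoeff (S := R) (S' := c₀.R') M).equiv
  have key : ∀ t : c₀.R' ⊗[R] MonoidAlgebra R M,
      c₀.isChart.bc.equiv ((liftHom χ).toLinearMap.lTensor c₀.R' t) =
        liftHom (pushChar c₀.L c₀.isChart.coalg χ) (T' t) := by
    intro t
    induction t using TensorProduct.induction_on with
    | zero => simp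
    | add x y hx hy => rw [map_add, map_add, map_add, map_add, hx, hy]
    | tmul r x =>
      rw [LinearMap.lTensor_tmul, IsBaseChange.equiv_tmul, IsBaseChange.equiv_tmul, map_smul]
      congr 1
      exact map_liftHom c₀.L c₀.isChart.coalg χ x
  refine ⟨T'.symm w, ?_⟩
  apply c₀.isChart.bc.equiv.injective
  rw [key, LinearEquiv.apply_symm_apply, hw, IsBaseChange.equiv_tmul, one_smul]
  rfl

end chartsurj

section main
variable (R : Type u) [CommRing R] (A : Type u) [CommRing A] [HopfAlgebra R A]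

theorem isDiag_of_isDiag_mod_nil (I : Ideal R) (hI : ∀ x ∈ I, IsNilpotent x)
    (h : SGA3b.IsMultType R A) (h0 : SGA3b.IsDiag (R ⧸ I) ((R ⧸ I) ⊗[R] A)) :
    SGA3b.IsDiag R A := by
  classical
  obtain ⟨ι, _, c, hc⟩ := exists_atlas R A h
  obtain ⟨M, _, ⟨e⟩⟩ := h0
  have hγ : ∀ m : M, ∃ g : A, IsGroupLikeElem R g ∧
      (1 : R ⧸ I) ⊗ₜ[R] g = e.symm (MonoidAlgebra.single m 1) := fun m =>
    exists_lift_groupLike hc I hI _ (by
      rw [isGroupLikeElem_map_equiv]
      exact MonoidAlgebra.isGroupLikeElem_single_one m)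
  choose γ hγgl hγe using hγ
  let χ : M →* GroupLike R A :=
    { toFun := fun m => ⟨γ m, hγgl m⟩
      map_one' := by
        apply GroupLike.val_injective
        apply groupLike_lift_unique hc I hI (hγgl 1) IsGroupLikeElem.one
        rw [hγe, ← MonoidAlgebra.one_def, map_one]
        rfl
      map_mul' := fun a b => by
        apply GroupLike.val_injective
        apply groupLike_lift_unique hc I hI (hγgl (a * b)) ((hγgl a).mul (hγgl b))
        have h1 : (MonoidAlgebra.single (a * b) 1 : MonoidAlgebra (R ⧸ I) M) =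
            MonoidAlgebra.single a 1 * MonoidAlgebra.single b 1 := by
          rw [MonoidAlgebra.single_mul_single, one_mul]
        rw [hγe, h1, map_mul, ← hγe, ← hγe, Algebra.TensorProduct.tmul_mul_tmul, one_mul] }
  have hχ : ∀ m, (1 : R ⧸ I) ⊗ₜ[R] ((χ m).val : A) = e.symm (MonoidAlgebra.single m 1) := hγe
  have hinj : Function.Injective (liftHom χ) := by
    apply liftHom_injective hc χ
    intro u hu i
    apply coeff_one_eq_zero_of_ann_le (c i) I hI _ (χ u).isGroupLikeElem_val
    intro r hr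
    rw [LinearMap.mem_ker, LinearMap.toSpanSingleton_apply] at hr
    have h1 : (1 : R ⧸ I) ⊗ₜ[R] (r • ((χ u).val - 1 : A)) = 0 := by rw [hr, tmul_zero]
    rw [TensorProduct.tmul_smul, tmul_sub, hχ] at h1
    have h2 : ((1 : R ⧸ I) ⊗ₜ[R] (1 : A)) = e.symm 1 := by
      rw [map_one]; rfl
    rw [← algebraMap_smul (R ⧸ I) r, h2, ← map_sub, ← map_smul] at h1
    have h3 := (EmbeddingLike.map_eq_zero_iff (f := e.symm)).mp h1
    have h4 := congrArg (fun y => y.coeff u) h3
    simp only [MonoidAlgebra.coeff_smul, Finsupp.smul_apply, MonoidAlgebra.coeff_sub,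
      Finsupp.sub_apply, MonoidAlgebra.coeff_single, Finsupp.single_apply, MonoidAlgebra.one_def,
      MonoidAlgebra.coeff_zero, Finsupp.zero_apply, if_neg (Ne.symm hu), if_true, sub_zero,
      smul_eq_mul, mul_one, Ideal.Quotient.algebraMap_eq] at h4
    exact Ideal.Quotient.eq_zero_iff_mem.mp h4
  have hsurj : Function.Surjective (liftHom χ) := by
    intro a
    have h1 : (LinearMap.range (liftHom χ).toLinearMap).mkQ a = 0 := by
      apply eq_zero_of_forall_tmul_eq_zero hc
      intro i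
      obtain ⟨t, ht⟩ := chart_exists_tensor I e hI (c i) χ hχ a
      have h2 : (1 : (c i).R') ⊗ₜ[R] ((LinearMap.range (liftHom χ).toLinearMap).mkQ a) =
          LinearMap.lTensor (c i).R' (LinearMap.range (liftHom χ).toLinearMap).mkQ
            ((1 : (c i).R') ⊗ₜ[R] a) := rfl
      rw [h2, ← ht, ← LinearMap.comp_apply, ← LinearMap.lTensor_comp, LinearMap.range_mkQ_comp,
        LinearMap.lTensor_zero, LinearMap.zero_apply]
    rw [Submodule.mkQ_apply, Submodule.Quotient.mk_eq_zero] at h1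
    obtain ⟨x, hx⟩ := h1
    exact ⟨x, hx⟩
  exact ⟨M, inferInstance, ⟨(BialgEquiv.ofBijective (liftHom χ) ⟨hinj, hsurj⟩).symm⟩⟩

end main

end Groth.Agent.H15.MTC
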