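import Groth.Agent.H15.MTDiag2
import Groth.Agent.H19.NilpProj

/-!
# Lifting group-like elements of a flat Hopf algebra along a square-zero thickening

`A` a flat Hopf algebra over `R`, `J` an ideal with `J ^ 2 = ⊥`, and the reduction of `A`
modulo `J` a group algebra `(R/J)[M]`.  Every group-like element `single m 1` of the reduction has
exactly one group-like lift to `A` (Hochschild cocycle argument with the Haar functional).
-/

set_option autoImplicit false
set_option linter.style.haveILetI false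
universe u
open TensorProduct Coalgebra

namespace Groth.Agent.H15.MTF
open Groth.Agent.H26 Groth.Agent.H15.GLD Groth.Agent.H15.MTC

section gen
variable {R : Type*} [CommRing R] (J : Ideal R)

lemma smul_eq_zero_of_mem (hJ : J ^ 2 = ⊥) {P : Type*} [AddCommGroup P] [Module R P] {j : R}
    (hj : j ∈ J) {x : P} (hx : x ∈ (J • ⊤ : Submodule R P)) : j • x = 0 := by
  refine Submodule.smul_induction_on hx ?_ ?_
  · intro r hr n _
    have h1 : j * r ∈ J ^ 2 := by rw [pow_two]; exact Ideal.mul_mem_mul hj hr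
    rw [hJ, Ideal.mem_bot] at h1
    rw [← mul_smul, h1, zero_smul]
  · intro x y hx hy
    rw [smul_add, hx, hy, add_zero]

lemma map_mem_smul_top_of_mem {N N' : Type*} [AddCommGroup N] [Module R N] [AddCommGroup N']
    [Module R N'] (f : N →ₗ[R] N') {x : N} (hx : x ∈ (J • ⊤ : Submodule R N)) :
    f x ∈ (J • ⊤ : Submodule R N') := by
  refine Submodule.smul_induction_on hx ?_ ?_
  · intro r hr n _
    rw [map_smul]
    exact Submodule.smul_mem_smul hr trivial
  · intro x y hx hy
    rw [map_add]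
    exact add_mem hx hy

lemma lTensor_mem_smul_top {P N N' : Type*} [AddCommGroup P] [Module R P] [AddCommGroup N]
    [Module R N] [AddCommGroup N'] [Module R N'] (f : N →ₗ[R] N')
    (hf : ∀ n, f n ∈ (J • ⊤ : Submodule R N')) (x : P ⊗[R] N) :
    f.lTensor P x ∈ (J • ⊤ : Submodule R (P ⊗[R] N')) := by
  induction x with
  | zero => simp
  | add x y hx hy => rw [map_add]; exact add_mem hx hy
  | tmul p n =>
    rw [LinearMap.lTensor_tmul]
    exact map_mem_smul_top_of_mem J (TensorProduct.mk R P N' p) (hf n)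

lemma lTensor_apply_eq_zero (hJ : J ^ 2 = ⊥) {P N N' : Type*} [AddCommGroup P] [Module R P]
    [AddCommGroup N] [Module R N] [AddCommGroup N'] [Module R N'] (f : N →ₗ[R] N')
    (hf : ∀ n, f n ∈ (J • ⊤ : Submodule R N')) {x : P ⊗[R] N}
    (hx : x ∈ (J • ⊤ : Submodule R (P ⊗[R] N))) : f.lTensor P x = 0 := by
  refine Submodule.smul_induction_on hx ?_ ?_
  · intro r hr z _
    rw [map_smul]
    exact smul_eq_zero_of_mem J hJ hr (lTensor_mem_smul_top J f hf z)
  · intro x y hx hy
    rw [map_add, hx, hy, add_zero]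

lemma apply_eq_zero_of_mem (hJ : J ^ 2 = ⊥) {N N' : Type*} [AddCommGroup N] [Module R N]
    [AddCommGroup N'] [Module R N'] (f : N →ₗ[R] N')
    (hf : ∀ n, f n ∈ (J • ⊤ : Submodule R N')) {x : N}
    (hx : x ∈ (J • ⊤ : Submodule R N)) : f x = 0 := by
  refine Submodule.smul_induction_on hx ?_ ?_
  · intro r hr z _
    rw [map_smul]
    exact smul_eq_zero_of_mem J hJ hr (hf z)
  · intro x y hx hy
    rw [map_add, hx, hy, add_zero]

lemma tmul_eq_zero_of_mem (hJ : J ^ 2 = ⊥) {P Q : Type*} [AddCommGroup P] [Module R P]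
    [AddCommGroup Q] [Module R Q] {x : P} (hx : x ∈ (J • ⊤ : Submodule R P)) {y : Q}
    (hy : y ∈ (J • ⊤ : Submodule R Q)) : x ⊗ₜ[R] y = 0 := by
  refine Submodule.smul_induction_on hx ?_ ?_
  · intro r hr p _
    rw [TensorProduct.smul_tmul, smul_eq_zero_of_mem J hJ hr hy, tmul_zero]
  · intro x x' hx hx'
    rw [add_tmul, hx, hx', add_zero]

lemma mul_eq_zero_of_mem (hJ : J ^ 2 = ⊥) {j j' : R} (hj : j ∈ J) (hj' : j' ∈ J) : j * j' = 0 := by
  have h1 : j * j' ∈ J ^ 2 := by rw [pow_two]; exact Ideal.mul_mem_mul hj hj'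
  rwa [hJ, Ideal.mem_bot] at h1

end gen

section haar
variable {R : Type u} [CommRing R] {A : Type u} [CommRing A] [HopfAlgebra R A]

/-- `b ⊗ c ↦ lam c • b` -/
noncomputable def Tl (lam : A →ₗ[R] R) : A ⊗[R] A →ₗ[R] A :=
  (TensorProduct.rid R A).toLinearMap ∘ₗ lam.lTensor A

@[simp] lemma Tl_tmul (lam : A →ₗ[R] R) (b c : A) : Tl lam (b ⊗ₜ[R] c) = lam c • b := by
  simp [Tl]

/-- (I1) -/
lemma Tl_lTensor_assoc_tmul (lam : A →ₗ[R] R) (z : A ⊗[R] A) (a : A) :
    (Tl lam).lTensor A (TensorProduct.assoc R A A A (z ⊗ₜ[R] a)) = lam a • z := by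
  induction z with
  | zero => simp
  | add x y hx hy => rw [add_tmul, map_add, map_add, hx, hy, smul_add]
  | tmul b c =>
    rw [TensorProduct.assoc_tmul, LinearMap.lTensor_tmul, Tl_tmul, TensorProduct.tmul_smul]

/-- (I2) -/
lemma Tl_lTensor_assoc_rTensor_comul (lam : A →ₗ[R] R) (z : A ⊗[R] A) :
    (Tl lam).lTensor A (TensorProduct.assoc R A A A ((Coalgebra.comul (R := R)).rTensor A z)) =
      Coalgebra.comul (R := R) (Tl lam z) := by
  induction z with
  | zero => simp
  | add x y hx hy => rw [map_add, map_add, map_add, hx, hy, map_add, map_add]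
  | tmul b c =>
    rw [LinearMap.rTensor_tmul, Tl_lTensor_assoc_tmul, Tl_tmul, map_smul]

/-- (I5) -/
lemma smulRight_lTensor (lam : A →ₗ[R] R) (a : A) (z : A ⊗[R] A) :
    (lam.smulRight a).lTensor A z = Tl lam z ⊗ₜ[R] a := by
  induction z with
  | zero => simp
  | add x y hx hy => rw [map_add, map_add, hx, hy, add_tmul]
  | tmul b c =>
    rw [LinearMap.lTensor_tmul, LinearMap.smulRight_apply, Tl_tmul, TensorProduct.tmul_smul,
      TensorProduct.smul_tmul']

end haar


section core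
variable {R : Type u} [CommRing R] {A : Type u} [CommRing A] [HopfAlgebra R A]
  (J : Ideal R) {M : Type u} [CommGroup M]
  (e : (R ⧸ J) ⊗[R] A ≃ₐc[R ⧸ J] MonoidAlgebra (R ⧸ J) M)

/-- the chart `A → (R/J)[M]` -/
noncomputable def chartL : A →ₗ[R] MonoidAlgebra (R ⧸ J) M :=
  ((e : (R ⧸ J) ⊗[R] A →ₗ[R ⧸ J] MonoidAlgebra (R ⧸ J) M).restrictScalars R) ∘ₗ
    TensorProduct.mk R (R ⧸ J) A 1

lemma chartL_apply (a : A) : chartL J e a = e ((1 : R ⧸ J) ⊗ₜ[R] a) := rfl

lemma chartL_coalg : IsCoalgMapOver (R ⧸ J) (chartL J e) :=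
  IsCoalgMapOver.comp (S₂ := R ⧸ J)
    (isCoalgMapOver_of_coalgHom (e : (R ⧸ J) ⊗[R] A →ₗc[R ⧸ J] MonoidAlgebra (R ⧸ J) M))
    (isCoalgMapOver_inc (R := R) (R ⧸ J) A)

lemma chartL_smul (r : R) (a : A) :
    chartL J e (r • a) = Ideal.Quotient.mk J r • chartL J e a := by
  rw [map_smul]
  rw [← Ideal.Quotient.algebraMap_eq, algebraMap_smul]

lemma mem_smul_top_of_chartL_eq_zero (a : A) (h : chartL J e a = 0) :
    a ∈ (J • ⊤ : Submodule R A) := by
  apply mem_smul_top_of_one_tmul_eq_zero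
  rw [chartL_apply] at h
  exact (EmbeddingLike.map_eq_zero_iff (f := e)).mp h

lemma chartL_eq_zero_of_mem (a : A) (h : a ∈ (J • ⊤ : Submodule R A)) : chartL J e a = 0 := by
  rw [chartL_apply, one_tmul_eq_zero_of_mem_smul_top J a h, map_zero]

/-- `y ⊗ z ↦ z.coeff m • y` on the group algebra -/
noncomputable def Tb (m : M) :
    MonoidAlgebra (R ⧸ J) M ⊗[R ⧸ J] MonoidAlgebra (R ⧸ J) M →ₗ[R ⧸ J] MonoidAlgebra (R ⧸ J) M :=
  (TensorProduct.rid (R ⧸ J) (MonoidAlgebra (R ⧸ J) M)).toLinearMap ∘ₗ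
    (coeffL m).lTensor (MonoidAlgebra (R ⧸ J) M)

@[simp] lemma Tb_tmul (m : M) (y z : MonoidAlgebra (R ⧸ J) M) :
    Tb J m (y ⊗ₜ z) = z.coeff m • y := by
  simp [Tb, coeffL_apply]

open Classical in
lemma Tb_comul (m : M) (z : MonoidAlgebra (R ⧸ J) M) :
    Tb J m (Coalgebra.comul (R := R ⧸ J) z) = MonoidAlgebra.single m (z.coeff m) := by
  induction z using MonoidAlgebra.induction_linear with
  | zero => simp
  | add x y hx hy =>
    rw [map_add, map_add, hx, hy, MonoidAlgebra.coeff_add, Finsupp.add_apply,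
      MonoidAlgebra.single_add]
  | single n r =>
    rw [MonoidAlgebra.comul_single, CommSemiring.comul_apply, TensorProduct.map_tmul]
    simp only [MonoidAlgebra.lsingle_apply, Tb_tmul, MonoidAlgebra.coeff_single,
      Finsupp.single_apply]
    split_ifs with h
    · subst h; simp
    · simp

end core


section main
variable {R : Type u} [CommRing R] {A : Type u} [CommRing A] [HopfAlgebra R A] [Module.Flat R A]
  (J : Ideal R) (hJ : J ^ 2 = ⊥) {M : Type u} [CommGroup M]
  (e : (R ⧸ J) ⊗[R] A ≃ₐc[R ⧸ J] MonoidAlgebra (R ⧸ J) M)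

include hJ e in
lemma projective_of_sqZero : Module.Projective R A := by
  apply Groth.Agent.H19.NilpProj.main J ⟨2, by rw [hJ]; rfl⟩
  exact Module.Projective.of_equiv e.symm.toLinearEquiv

include hJ in
/-- a lift of the coefficient functional -/
lemma exists_functional (m : M) :
    ∃ lam : A →ₗ[R] R, ∀ a, Ideal.Quotient.mk J (lam a) = (chartL J e a).coeff m := by
  haveI := projective_of_sqZero J hJ e
  obtain ⟨h, hh⟩ := Module.projective_lifting_property (Submodule.mkQ J)
    (((coeffL m : MonoidAlgebra (R ⧸ J) M →ₗ[R ⧸ J] R ⧸ J).restrictScalars R) ∘ₗ chartL J e)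
    (Submodule.mkQ_surjective J)
  refine ⟨h, fun a => ?_⟩
  have := LinearMap.congr_fun hh a
  exact this

variable {J} {e}

omit [Module.Flat R A] in
/-- `chartL (Tl lam x) = Tb m (tmul₂ chartL x)` -/
lemma chartL_Tl {m : M} {lam : A →ₗ[R] R}
    (hlam : ∀ a, Ideal.Quotient.mk J (lam a) = (chartL J e a).coeff m) (x : A ⊗[R] A) :
    chartL J e (Tl lam x) = Tb J m (tmul₂ (R ⧸ J) (chartL J e) x) := by
  induction x with
  | zero => simp
  | add x y hx hy => rw [map_add, map_add, hx, hy, map_add, map_add]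
  | tmul b c => rw [Tl_tmul, chartL_smul, tmul₂_tmul, Tb_tmul, hlam]

omit [Module.Flat R A] in
/-- key lemma: `(id ⊗ lam) ∘ Δ - lam(·) a` has values in `J A` -/
lemma Tl_comul_sub_mem {m : M} {lam : A →ₗ[R] R}
    (hlam : ∀ a, Ideal.Quotient.mk J (lam a) = (chartL J e a).coeff m) {a : A}
    (ha : chartL J e a = MonoidAlgebra.single m 1) (y : A) :
    (Tl lam ∘ₗ Coalgebra.comul (R := R) - lam.smulRight a) y ∈ (J • ⊤ : Submodule R A) := by
  apply mem_smul_top_of_chartL_eq_zero J e
  rw [LinearMap.sub_apply, LinearMap.comp_apply, LinearMap.smulRight_apply, map_sub,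
    chartL_Tl hlam, ← (chartL_coalg J e).comul, Tb_comul, chartL_smul, ha, hlam,
    MonoidAlgebra.smul_single, smul_eq_mul, mul_one, sub_self]

include hJ in
/-- existence of a group-like lift of `single m 1` -/
theorem exists_groupLike_lift (m : M) :
    ∃ g : A, IsGroupLikeElem R g ∧ chartL J e g = MonoidAlgebra.single m 1 := by
  obtain ⟨lam, hlam⟩ := exists_functional J hJ e m
  obtain ⟨a, ha'⟩ := TensorProduct.mk_surjective R A (R ⧸ J) Ideal.Quotient.mk_surjective
    (e.symm (MonoidAlgebra.single m 1))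
  have ha : chartL J e a = MonoidAlgebra.single m 1 := by
    rw [chartL_apply]
    change e (TensorProduct.mk R _ A 1 a) = _
    rw [ha', BialgEquiv.apply_symm_apply]
  have hgl : IsGroupLikeElem (R ⧸ J) ((1 : R ⧸ J) ⊗ₜ[R] a) := by
    have h1 : (1 : R ⧸ J) ⊗ₜ[R] a = e.symm (MonoidAlgebra.single m 1) := ha'
    rw [h1, isGroupLikeElem_map_equiv]
    exact MonoidAlgebra.isGroupLikeElem_single_one m
  obtain ⟨hd, -⟩ := glmod_of_isGroupLikeElem J a hgl
  set d : A ⊗[R] A := Coalgebra.comul (R := R) a - a ⊗ₜ[R] a with hd_def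
  have hΔ : Coalgebra.comul (R := R) a = a ⊗ₜ[R] a + d := by rw [hd_def]; abel
  -- the cocycle identity
  have hco := Coalgebra.coassoc_apply (R := R) a
  rw [hΔ] at hco
  simp only [map_add, LinearMap.rTensor_tmul, LinearMap.lTensor_tmul, hΔ, add_tmul, tmul_add,
    TensorProduct.assoc_tmul] at hco
  have hco2 := congrArg ((Tl lam).lTensor A) hco
  simp only [map_add, LinearMap.lTensor_tmul, Tl_lTensor_assoc_tmul,
    Tl_lTensor_assoc_rTensor_comul, Tl_tmul] at hco2
  -- `lam a • d = d`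
  have hlama : lam a - 1 ∈ J := by
    rw [← Ideal.Quotient.eq, hlam, ha, map_one]
    simp
  have h1 : lam a • d = d := by
    have := smul_eq_zero_of_mem J hJ hlama hd
    rw [sub_smul, one_smul, sub_eq_zero] at this
    exact this
  -- the last term
  have h2 : (Tl lam).lTensor A ((Coalgebra.comul (R := R)).lTensor A d) = Tl lam d ⊗ₜ[R] a := by
    rw [← LinearMap.comp_apply, ← LinearMap.lTensor_comp]
    have h3 : Tl lam ∘ₗ Coalgebra.comul (R := R) =
        lam.smulRight a + (Tl lam ∘ₗ Coalgebra.comul (R := R) - lam.smulRight a) := by abel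
    rw [h3, LinearMap.lTensor_add, LinearMap.add_apply, smulRight_lTensor,
      lTensor_apply_eq_zero J hJ _ (Tl_comul_sub_mem hlam ha) hd, add_zero]
  rw [h1, h2] at hco2
  set η : A := Tl lam d with hη_def
  have hη : η ∈ (J • ⊤ : Submodule R A) := map_mem_smul_top_of_mem J (Tl lam) hd
  have hηη : η ⊗ₜ[R] η = 0 := tmul_eq_zero_of_mem J hJ hη hη
  have hcomul : Coalgebra.comul (R := R) (a + η) = (a + η) ⊗ₜ[R] (a + η) := by
    rw [map_add, hΔ, add_tmul, tmul_add, tmul_add, hηη, add_zero]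
    have h5 : d + Coalgebra.comul (R := R) η = a ⊗ₜ[R] η + η ⊗ₜ[R] a := by
      have h6 := hco2
      rw [add_assoc, add_assoc] at h6
      exact add_left_cancel h6
    rw [add_assoc, h5]
    abel
  have hchart : chartL J e (a + η) = MonoidAlgebra.single m 1 := by
    rw [map_add, ha, chartL_eq_zero_of_mem J e η hη, add_zero]
  refine ⟨a + η, ⟨?_, hcomul⟩, hchart⟩
  -- the counit
  have h7 := Coalgebra.rTensor_counit_comul (R := R) (a + η)
  rw [hcomul, LinearMap.rTensor_tmul] at h7
  have h8 := congrArg (TensorProduct.lid R A) h7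
  rw [TensorProduct.lid_tmul, TensorProduct.lid_tmul, one_smul] at h8
  have h9 := congrArg lam h8
  rw [map_smul, smul_eq_mul] at h9
  have hlam' : lam (a + η) - 1 ∈ J := by
    rw [← Ideal.Quotient.eq, hlam, hchart, map_one]
    simp
  have hcou : Coalgebra.counit (R := R) (a + η) - 1 ∈ J := by
    have h10 := (chartL_coalg J e).counit (a + η)
    rw [hchart, MonoidAlgebra.counit_single, CommSemiring.counit_apply] at h10
    rw [← Ideal.Quotient.eq, map_one, ← Ideal.Quotient.algebraMap_eq, ← h10]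
  have h11 := mul_eq_zero_of_mem J hJ hcou hlam'
  linear_combination h9 - h11

include hJ in
/-- uniqueness of group-like lifts of `single m 1` -/
theorem groupLike_lift_unique_flat {u v : A} (hu : IsGroupLikeElem R u)
    (hv : IsGroupLikeElem R v) (m : M) (hum : chartL J e u = MonoidAlgebra.single m 1)
    (hvm : chartL J e v = MonoidAlgebra.single m 1) : u = v := by
  obtain ⟨lam, hlam⟩ := exists_functional J hJ e m
  set η : A := v - u with hη_def
  have hη : η ∈ (J • ⊤ : Submodule R A) := by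
    apply mem_smul_top_of_chartL_eq_zero J e
    rw [hη_def, map_sub, hum, hvm, sub_self]
  have hv' : v = u + η := by rw [hη_def]; abel
  have hηη : η ⊗ₜ[R] η = 0 := tmul_eq_zero_of_mem J hJ hη hη
  have h1 : Coalgebra.comul (R := R) η = u ⊗ₜ[R] η + η ⊗ₜ[R] u := by
    have h2 := hv.comul_eq_tmul_self
    rw [hv', map_add, hu.comul_eq_tmul_self, add_tmul, tmul_add, tmul_add, hηη, add_zero] at h2
    have h3 : u ⊗ₜ[R] u + Coalgebra.comul (R := R) η = u ⊗ₜ[R] u + (u ⊗ₜ[R] η + η ⊗ₜ[R] u) := by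
      rw [h2]; abel
    exact add_left_cancel h3
  have h4 := congrArg (Tl lam) h1
  rw [map_add, Tl_tmul, Tl_tmul] at h4
  have h5 : Tl lam (Coalgebra.comul (R := R) η) = lam η • u := by
    have h6 := apply_eq_zero_of_mem J hJ _ (Tl_comul_sub_mem hlam hum) hη
    rw [LinearMap.sub_apply, LinearMap.comp_apply, LinearMap.smulRight_apply, sub_eq_zero] at h6
    exact h6
  rw [h5] at h4
  have h7 : lam u • η = 0 := by
    have : lam η • u + 0 = lam η • u + lam u • η := by rw [add_zero]; exact h4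
    exact (add_left_cancel this).symm
  have hlamu : lam u - 1 ∈ J := by
    rw [← Ideal.Quotient.eq, hlam, hum, map_one]
    simp
  have h8 := smul_eq_zero_of_mem J hJ hlamu hη
  rw [sub_smul, one_smul, h7, zero_sub, neg_eq_zero] at h8
  rw [hv', h8, add_zero]

end main

end Groth.Agent.H15.MTF
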