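import Groth.Agent.H15.MTFlat1
import Groth.Agent.H15.MTBC
import Groth.Agent.H47.SqZeroIso

/-!
# A flat Hopf algebra which is diagonalisable modulo a nilpotent ideal is diagonalisable
-/

set_option autoImplicit false
set_option linter.style.haveILetI false
universe u
open TensorProduct Coalgebra

namespace Groth.Agent.H15.MTF
open Groth.Agent.H26 Groth.Agent.H15.GLD Groth.Agent.H15.MTC

section sq
variable {R : Type u} [CommRing R] {A : Type u} [CommRing A] [HopfAlgebra R A]
  (J : Ideal R) {M : Type u} [CommGroup M]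
  (e : (R ⧸ J) ⊗[R] A ≃ₐc[R ⧸ J] MonoidAlgebra (R ⧸ J) M)

lemma chartL_one : chartL J e (1 : A) = 1 := by
  rw [chartL_apply]
  exact map_one e

lemma chartL_mul (x y : A) : chartL J e (x * y) = chartL J e x * chartL J e y := by
  rw [chartL_apply, chartL_apply, chartL_apply, ← map_mul, Algebra.TensorProduct.tmul_mul_tmul,
    one_mul]

variable {J} {e}

lemma chartL_liftHom (χ : M →* GroupLike R A)
    (hχ : ∀ m, chartL J e ((χ m).val : A) = MonoidAlgebra.single m 1) (x : MonoidAlgebra R M) :
    chartL J e (liftHom χ x) = mapCoeff (S := R) (S' := R ⧸ J) M x := by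
  induction x using MonoidAlgebra.induction_linear with
  | zero => simp
  | add x y hx hy => rw [map_add, map_add, hx, hy, map_add]
  | single n r =>
    rw [liftHom_single, chartL_smul, hχ, MonoidAlgebra.smul_single, smul_eq_mul, mul_one]
    simp [mapCoeff, Algebra.ofId_apply]

variable [Module.Flat R A]

theorem nonempty_equiv_of_sqZero (hJ : J ^ 2 = ⊥)
    (e : (R ⧸ J) ⊗[R] A ≃ₐc[R ⧸ J] MonoidAlgebra (R ⧸ J) M) :
    Nonempty (A ≃ₐc[R] MonoidAlgebra R M) := by
  classical
  have hγ : ∀ m : M, ∃ g : A, IsGroupLikeElem R g ∧ chartL J e g = MonoidAlgebra.single m 1 :=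
    fun m => exists_groupLike_lift hJ m
  choose γ hγgl hγe using hγ
  let χ : M →* GroupLike R A :=
    { toFun := fun m => ⟨γ m, hγgl m⟩
      map_one' := by
        apply GroupLike.val_injective
        apply groupLike_lift_unique_flat hJ (hγgl 1) IsGroupLikeElem.one 1 (hγe 1)
        rw [chartL_one, MonoidAlgebra.one_def]
      map_mul' := fun a b => by
        apply GroupLike.val_injective
        apply groupLike_lift_unique_flat hJ (hγgl (a * b)) ((hγgl a).mul (hγgl b)) (a * b)
          (hγe (a * b))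
        rw [chartL_mul, hγe, hγe, MonoidAlgebra.single_mul_single, one_mul] }
  have hχ : ∀ m, chartL J e ((χ m).val : A) = MonoidAlgebra.single m 1 := hγe
  have hbij : Function.Bijective (liftHom χ) := by
    have := Groth.Agent.H47.bijective_of_sqZero J hJ ((liftHom χ : MonoidAlgebra R M →ₐ[R] A))
      ?_ ?_ ?_
    · exact this
    · intro b
      obtain ⟨x, hx⟩ := mapCoeff_surjective J (chartL J e b)
      refine ⟨x, ?_⟩
      apply mem_smul_top_of_chartL_eq_zero J e
      rw [map_sub]
      change _ - chartL J e (liftHom χ x) = 0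
      rw [chartL_liftHom χ hχ, hx, sub_self]
    · intro x hx
      have h1 := chartL_eq_zero_of_mem J e _ hx
      change chartL J e (liftHom χ x) = 0 at h1
      rw [chartL_liftHom χ hχ] at h1
      have h2 : mapCoeff (S := R) (S' := R ⧸ J) M x = mapCoeff (S := R) (S' := R ⧸ J) M 0 := by
        rw [h1, map_zero]
      rw [mapCoeff_eq_iff, sub_zero] at h2
      apply mem_smul_top_of_coeff_mem
      intro ν
      rw [Algebra.algebraMap_self, Ideal.map_id]
      exact h2 ν
    · have h3 : (J.subtype.baseChange A : A ⊗[R] J → A ⊗[R] R) = J.subtype.lTensor A := rfl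
      rw [h3]
      exact Module.Flat.lTensor_preserves_injective_linearMap _ (Submodule.injective_subtype J)
  exact ⟨(BialgEquiv.ofBijective (liftHom χ) hbij).symm⟩

end sq

section pow

/-- general `K` form of the square-zero case -/
theorem nonempty_equiv_of_sqZero_of_dchart {R : Type u} [CommRing R] {A : Type u} [CommRing A]
    [HopfAlgebra R A] [Module.Flat R A] {K : Type u} [CommRing K] [Algebra R K] {M : Type u}
    [CommGroup M] (hsurj : Function.Surjective (algebraMap R K))
    (hsq : (RingHom.ker (algebraMap R K)) ^ 2 = ⊥) (h : HasDChart R A K M) :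
    Nonempty (A ≃ₐc[R] MonoidAlgebra R M) := by
  let ρ : (R ⧸ RingHom.ker (algebraMap R K)) ≃+* K := RingHom.quotientKerEquivOfSurjective hsurj
  letI : Algebra K (R ⧸ RingHom.ker (algebraMap R K)) := ρ.symm.toRingHom.toAlgebra
  haveI : IsScalarTower R K (R ⧸ RingHom.ker (algebraMap R K)) := by
    refine IsScalarTower.of_algebraMap_eq fun t => ?_
    change _ = ρ.symm (algebraMap R K t)
    rw [RingEquiv.eq_symm_apply]
    rfl
  have h1 : HasDChart R A (R ⧸ RingHom.ker (algebraMap R K)) M := h.map _
  have h2 := (h1.baseChange (R ⧸ RingHom.ker (algebraMap R K))).nonempty_equiv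
  obtain ⟨e⟩ := h2
  exact nonempty_equiv_of_sqZero hsq e

/-- the nilpotent case, by induction on the order of nilpotency -/
theorem nonempty_equiv_of_pow (n : ℕ) : ∀ (R : Type u) [CommRing R] (A : Type u) [CommRing A]
    [HopfAlgebra R A] [Module.Flat R A] (K : Type u) [CommRing K] [Algebra R K] (M : Type u)
    [CommGroup M], Function.Surjective (algebraMap R K) →
    (RingHom.ker (algebraMap R K)) ^ (n + 1) = ⊥ → HasDChart R A K M →
    Nonempty (A ≃ₐc[R] MonoidAlgebra R M) := by
  induction n with
  | zero =>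
    intro R _ A _ _ _ K _ _ M _ hsurj hker h
    apply nonempty_equiv_of_sqZero_of_dchart hsurj _ h
    rw [zero_add, pow_one] at hker
    rw [hker]
    rw [← Ideal.zero_eq_bot]; exact zero_pow (by norm_num)
  | succ n ih =>
    intro R _ A _ _ _ K _ _ M _ hsurj hker h
    set J : Ideal R := RingHom.ker (algebraMap R K) with hJ_def
    set J' : Ideal R := J ^ (n + 1) with hJ'_def
    have hJ'J : J' ≤ J := Ideal.pow_le_self (by omega)
    have hJ'2 : J' ^ 2 = ⊥ := by
      rw [hJ'_def, ← pow_mul, eq_bot_iff, ← hker]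
      exact Ideal.pow_le_pow_right (by omega)
    let f : R ⧸ J' →+* K := Ideal.Quotient.lift J' (algebraMap R K) (fun x hx => hJ'J hx)
    letI : Algebra (R ⧸ J') K := f.toAlgebra
    haveI : IsScalarTower R (R ⧸ J') K := IsScalarTower.of_algebraMap_eq fun r => rfl
    have h₁ : HasDChart (R ⧸ J') ((R ⧸ J') ⊗[R] A) K M := h.baseChange (R ⧸ J')
    have hsurj₁ : Function.Surjective (algebraMap (R ⧸ J') K) := by
      intro y
      obtain ⟨r, rfl⟩ := hsurj y
      exact ⟨Ideal.Quotient.mk J' r, rfl⟩
    have hker₁ : (RingHom.ker (algebraMap (R ⧸ J') K)) ^ (n + 1) = ⊥ := by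
      have h3 : RingHom.ker (algebraMap (R ⧸ J') K) = J.map (Ideal.Quotient.mk J') :=
        Ideal.ker_quotient_lift (algebraMap R K) (fun x hx => hJ'J hx)
      rw [h3, ← Ideal.map_pow, ← hJ'_def, Ideal.map_quotient_self]
    obtain ⟨e₁⟩ := ih (R ⧸ J') ((R ⧸ J') ⊗[R] A) K M hsurj₁ hker₁ h₁
    exact nonempty_equiv_of_sqZero hJ'2 e₁

/-- **Main theorem**: flat + diagonalisable modulo a nilpotent ideal implies diagonalisable -/
theorem nonempty_equiv_of_nilpotent {R : Type u} [CommRing R] {A : Type u} [CommRing A]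
    [HopfAlgebra R A] [Module.Flat R A] {K : Type u} [CommRing K] [Algebra R K] {M : Type u}
    [CommGroup M] (hsurj : Function.Surjective (algebraMap R K))
    (hnil : IsNilpotent (RingHom.ker (algebraMap R K))) (h : HasDChart R A K M) :
    Nonempty (A ≃ₐc[R] MonoidAlgebra R M) := by
  obtain ⟨n, hn⟩ := hnil
  apply nonempty_equiv_of_pow n R A K M hsurj _ h
  rw [pow_succ, hn, Ideal.zero_eq_bot, Ideal.bot_mul]

end pow

end Groth.Agent.H15.MTF
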