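import Mathlib.RingTheory.HopfAlgebra.Convolution

/-!
# The group of points of an affine group with values in an arbitrary commutative algebra

Mathlib states the group structure on `WithConv (A →ₐ[R] C)` for `C` a bialgebra; only the
algebra structure of `C` is used.  We restate it for an arbitrary commutative algebra.
-/

set_option autoImplicit false
universe u
open TensorProduct WithConv Coalgebra Algebra.TensorProduct Bialgebra

namespace Groth.Agent.H15.MTH

variable {R : Type*} [CommRing R] {A : Type*} [CommRing A] [HopfAlgebra R A]
  {T : Type*} [CommRing T] [Algebra R T]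

/-- inverse of a point -/
noncomputable scoped instance convInv' : Inv (WithConv (A →ₐ[R] T)) where
  inv f := toConv <| f.ofConv.comp (HopfAlgebra.antipodeAlgHom R A)

lemma inv_def (f : WithConv (A →ₐ[R] T)) :
    f⁻¹ = toConv (f.ofConv.comp (HopfAlgebra.antipodeAlgHom R A)) := rfl

/-- the group of points -/
noncomputable scoped instance convGroup' : Group (WithConv (A →ₐ[R] T)) where
  inv_mul_cancel f := by
    have H : (lmul' R).comp (Algebra.TensorProduct.map f.ofConv f.ofConv) =
      f.ofConv.comp (lmul' R) := by ext <;> simp
    trans toConv <| ((lmul' R).comp (Algebra.TensorProduct.map f.ofConv f.ofConv)).comp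
      ((Algebra.TensorProduct.map
      (HopfAlgebra.antipodeAlgHom R A) (.id _ _)).comp (comulAlgHom R A))
    · rw [AlgHom.comp_assoc, ← AlgHom.comp_assoc (Algebra.TensorProduct.map f.ofConv f.ofConv),
        ← Algebra.TensorProduct.map_comp]; rfl
    rw [H, AlgHom.comp_assoc, WithConv.ext_iff, ← AlgHom.toLinearMap_injective.eq_iff]
    change f.ofConv.toLinearMap.comp (toConv (HopfAlgebra.antipode R (A := A)) *
      toConv LinearMap.id).ofConv = ofConv (1 : WithConv <| A →ₗ[R] T)
    rw [LinearMap.antipode_mul_id]
    ext
    simp

end Groth.Agent.H15.MTH
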