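import Groth.Agent.H15.MTH0
import Groth.Agent.H26.AdicSepDiag
import Mathlib.Tactic.NoncommRing

/-!
# Points of an affine group near the identity modulo a square-zero ideal
-/

set_option autoImplicit false
set_option linter.style.haveILetI false
universe u
open TensorProduct WithConv Coalgebra

namespace Groth.Agent.H15.MTH

variable {R : Type u} [CommRing R] (𝔟 : Ideal R)

/-- the extension of `𝔟` to an `R`-algebra -/
def nil (T : Type u) [CommRing T] [Algebra R T] : Ideal T := Ideal.map (algebraMap R T) 𝔟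

/-- `𝔟² = 0` in `T` -/
class SqZ (T : Type u) [CommRing T] [Algebra R T] : Prop where
  le_ker : 𝔟 * 𝔟 ≤ RingHom.ker (algebraMap R T)

section basic
variable (T : Type u) [CommRing T] [Algebra R T]

lemma nil_mul_nil [SqZ 𝔟 T] {x y : T} (hx : x ∈ nil 𝔟 T) (hy : y ∈ nil 𝔟 T) : x * y = 0 := by
  have h1 : x * y ∈ nil 𝔟 T * nil 𝔟 T := Ideal.mul_mem_mul hx hy
  unfold nil at h1
  rw [← Ideal.map_mul] at h1
  have h2 : Ideal.map (algebraMap R T) (𝔟 * 𝔟) ≤ ⊥ := by
    rw [Ideal.map_le_iff_le_comap]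
    intro r hr
    have := SqZ.le_ker (𝔟 := 𝔟) (T := T) hr
    rw [RingHom.mem_ker] at this
    rw [Ideal.mem_comap, this]
    exact Ideal.zero_mem _
  exact (Submodule.mem_bot T).mp (h2 h1)

variable {T}

lemma map_mem_nil {T' : Type u} [CommRing T'] [Algebra R T'] (l : T →ₗ[R] T') {x : T}
    (hx : x ∈ nil 𝔟 T) : l x ∈ nil 𝔟 T' := by
  unfold nil at hx ⊢
  have hx' : x ∈ (𝔟 • ⊤ : Submodule R T) := by rw [Ideal.smul_top_eq_map]; exact hx
  have h1 := Groth.Agent.H26.map_mem_smul_top 𝔟 l hx'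
  rw [Ideal.smul_top_eq_map] at h1
  exact h1

variable (T) in
lemma SqZ.of_tower (T' : Type u) [CommRing T'] [Algebra R T'] [Algebra T T']
    [IsScalarTower R T T'] [SqZ 𝔟 T] : SqZ 𝔟 T' where
  le_ker := by
    intro r hr
    have := SqZ.le_ker (𝔟 := 𝔟) (T := T) hr
    rw [RingHom.mem_ker] at this ⊢
    rw [IsScalarTower.algebraMap_apply R T T', this, map_zero]

end basic

variable {C : Type u} [CommRing C] [HopfAlgebra R C]

section near
variable {T : Type u} [CommRing T] [Algebra R T]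

/-- the underlying element of the convolution ring of linear maps -/
noncomputable def lin (g : WithConv (C →ₐ[R] T)) : WithConv (C →ₗ[R] T) :=
  toConv g.ofConv.toLinearMap

lemma lin_mul (g g' : WithConv (C →ₐ[R] T)) : lin (g * g') = lin g * lin g' :=
  AlgHom.toLinearMap_convMul g g'

lemma lin_one : lin (1 : WithConv (C →ₐ[R] T)) = 1 := AlgHom.toLinearMap_convOne

lemma lin_injective : Function.Injective (lin : WithConv (C →ₐ[R] T) → WithConv (C →ₗ[R] T)) := by
  intro g g' h
  apply WithConv.ofConv_injective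
  apply AlgHom.toLinearMap_injective
  exact congrArg WithConv.ofConv h

/-- a linear map with values in the square-zero ideal -/
def Small (D : WithConv (C →ₗ[R] T)) : Prop := ∀ c, D.ofConv c ∈ nil 𝔟 T

/-- a point congruent to the unit point -/
def IsNear (g : WithConv (C →ₐ[R] T)) : Prop := Small 𝔟 (lin g - 1)

lemma one_apply' (c : C) : (1 : WithConv (C →ₗ[R] T)).ofConv c = algebraMap R T (counit c) := rfl

lemma isNear_iff (g : WithConv (C →ₐ[R] T)) :
    IsNear 𝔟 g ↔ ∀ c, g.ofConv c - algebraMap R T (counit c) ∈ nil 𝔟 T := Iff.rfl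

variable {𝔟}

lemma Small.add {D D' : WithConv (C →ₗ[R] T)} (h : Small 𝔟 D) (h' : Small 𝔟 D') :
    Small 𝔟 (D + D') := fun c => Ideal.add_mem _ (h c) (h' c)

lemma Small.neg {D : WithConv (C →ₗ[R] T)} (h : Small 𝔟 D) : Small 𝔟 (-D) :=
  fun c => Ideal.neg_mem_iff _ |>.mpr (h c)

lemma small_zero : Small 𝔟 (0 : WithConv (C →ₗ[R] T)) := fun _ => Ideal.zero_mem _

/-- products with a small factor are small -/
lemma Small.mul_left {D : WithConv (C →ₗ[R] T)} (h : Small 𝔟 D) (E : WithConv (C →ₗ[R] T)) :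
    Small 𝔟 (E * D) := by
  intro c
  change LinearMap.mul' R T (TensorProduct.map E.ofConv D.ofConv (comul c)) ∈ _
  generalize comul (R := R) c = z
  induction z using TensorProduct.induction_on with
  | zero => simp
  | add a b ha hb => rw [map_add, map_add]; exact Ideal.add_mem _ ha hb
  | tmul a b =>
    rw [TensorProduct.map_tmul, LinearMap.mul'_apply]
    exact Ideal.mul_mem_left _ _ (h b)

lemma Small.mul_right {D : WithConv (C →ₗ[R] T)} (h : Small 𝔟 D) (E : WithConv (C →ₗ[R] T)) :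
    Small 𝔟 (D * E) := by
  intro c
  change LinearMap.mul' R T (TensorProduct.map D.ofConv E.ofConv (comul c)) ∈ _
  generalize comul (R := R) c = z
  induction z using TensorProduct.induction_on with
  | zero => simp
  | add a b ha hb => rw [map_add, map_add]; exact Ideal.add_mem _ ha hb
  | tmul a b =>
    rw [TensorProduct.map_tmul, LinearMap.mul'_apply]
    exact Ideal.mul_mem_right _ _ (h a)

/-- the product of two small maps vanishes -/
lemma Small.mul_eq_zero [SqZ 𝔟 T] {D D' : WithConv (C →ₗ[R] T)} (h : Small 𝔟 D)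
    (h' : Small 𝔟 D') : D * D' = 0 := by
  apply WithConv.ofConv_injective
  ext c
  change LinearMap.mul' R T (TensorProduct.map D.ofConv D'.ofConv (comul c)) = 0
  generalize comul (R := R) c = z
  induction z using TensorProduct.induction_on with
  | zero => simp
  | add a b ha hb => rw [map_add, map_add, ha, hb, add_zero]
  | tmul a b =>
    rw [TensorProduct.map_tmul, LinearMap.mul'_apply]
    exact nil_mul_nil 𝔟 T (h a) (h' b)

lemma isNear_one : IsNear 𝔟 (1 : WithConv (C →ₐ[R] T)) := by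
  unfold IsNear
  rw [lin_one, sub_self]
  exact small_zero

lemma IsNear.mul [SqZ 𝔟 T] {g g' : WithConv (C →ₐ[R] T)} (h : IsNear 𝔟 g) (h' : IsNear 𝔟 g') :
    IsNear 𝔟 (g * g') := by
  unfold IsNear at *
  have : lin (g * g') - 1 = (lin g - 1) + (lin g' - 1) + (lin g - 1) * (lin g' - 1) := by
    rw [lin_mul]; noncomm_ring
  rw [this, h.mul_eq_zero h', add_zero]
  exact h.add h'

/-- the derivation part is additive -/
lemma lin_mul_sub_one [SqZ 𝔟 T] {g g' : WithConv (C →ₐ[R] T)} (h : IsNear 𝔟 g)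
    (h' : IsNear 𝔟 g') : lin (g * g') - 1 = (lin g - 1) + (lin g' - 1) := by
  have : lin (g * g') - 1 = (lin g - 1) + (lin g' - 1) + (lin g - 1) * (lin g' - 1) := by
    rw [lin_mul]; noncomm_ring
  rw [this, Small.mul_eq_zero h h', add_zero]

lemma IsNear.inv [SqZ 𝔟 T] {g : WithConv (C →ₐ[R] T)} (h : IsNear 𝔟 g) : IsNear 𝔟 g⁻¹ := by
  unfold IsNear at *
  have h1 : lin g * lin g⁻¹ = 1 := by rw [← lin_mul, mul_inv_cancel, lin_one]
  have h2 : lin g⁻¹ - 1 = -((lin g - 1) * lin g⁻¹) := by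
    have : (lin g - 1) * lin g⁻¹ = 1 - lin g⁻¹ := by rw [sub_mul, h1, one_mul]
    rw [this, neg_sub]
  rw [h2]
  exact (h.mul_right _).neg

/-- conjugates of near points are near -/
lemma IsNear.conj [SqZ 𝔟 T] {g : WithConv (C →ₐ[R] T)} (h : IsNear 𝔟 g)
    (u : WithConv (C →ₐ[R] T)) : IsNear 𝔟 (u * g * u⁻¹) := by
  unfold IsNear at *
  have h1 : lin u * lin u⁻¹ = 1 := by rw [← lin_mul, mul_inv_cancel, lin_one]
  have h2 : lin (u * g * u⁻¹) - 1 = lin u * (lin g - 1) * lin u⁻¹ := by
    rw [lin_mul, lin_mul, mul_sub, sub_mul, mul_one, h1]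
  rw [h2]
  exact (h.mul_left _).mul_right _

lemma lin_conj_sub_one (g u : WithConv (C →ₐ[R] T)) :
    lin (u * g * u⁻¹) - 1 = lin u * (lin g - 1) * lin u⁻¹ := by
  have h1 : lin u * lin u⁻¹ = 1 := by rw [← lin_mul, mul_inv_cancel, lin_one]
  rw [lin_mul, lin_mul, mul_sub, sub_mul, mul_one, h1]

end near

end Groth.Agent.H15.MTH
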