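import Groth.Agent.H15.MTH9

/-!
# Homomorphisms modulo an ideal evaluated at a coalgebra-like point give coalgebra maps
-/

set_option autoImplicit false
set_option linter.style.haveILetI false
universe u
open TensorProduct WithConv Coalgebra

namespace Groth.Agent.H15.MTH
open Groth.Agent.H26

variable {R : Type u} [CommRing R] (𝔠 : Ideal R)
  {A : Type u} [CommRing A] [HopfAlgebra R A] {C : Type u} [CommRing C] [HopfAlgebra R C]

section M2
variable {S : Type u} [CommRing S] [Algebra R S] {D : Type u} [CommRing D] [Bialgebra S D]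
  [Algebra R D] [IsScalarTower R S D]

instance kills_tensorS [Kills 𝔠 D] : Kills 𝔠 (D ⊗[S] D) where
  le_ker := by
    intro r hr
    have := Kills.le_ker (𝔞 := 𝔠) (T := D) hr
    rw [RingHom.mem_ker] at this ⊢
    rw [Algebra.TensorProduct.algebraMap_apply, this, zero_tmul]

lemma lift_incl_eq_tmul₂ (f : A →ₐ[R] D) (z : A ⊗[R] A) :
    Algebra.TensorProduct.lift
      ((Algebra.TensorProduct.includeLeft : D →ₐ[R] D ⊗[S] D).comp f)
      (((Algebra.TensorProduct.includeRight : D →ₐ[S] D ⊗[S] D).restrictScalars R).comp f)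
      (fun _ _ => Commute.all _ _) z = tmul₂ S f.toLinearMap z := by
  induction z using TensorProduct.induction_on with
  | zero => simp
  | add x y hx hy => rw [map_add, map_add, hx, hy]
  | tmul a₁ a₂ =>
    rw [Algebra.TensorProduct.lift_tmul, tmul₂_tmul]
    change (f a₁ ⊗ₜ[S] (1 : D)) * ((1 : D) ⊗ₜ[S] f a₂) = _
    rw [Algebra.TensorProduct.tmul_mul_tmul, mul_one, one_mul]
    rfl

lemma psi_one_of_isHomMod {θ : C →ₐ[R] (R ⧸ 𝔠) ⊗[R] A} (hθ : IsHomMod 𝔠 θ)
    (T : Type u) [CommRing T] [Algebra R T] [Kills 𝔠 T] :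
    Psi 𝔠 θ (1 : WithConv (A →ₐ[R] T)) = 1 := by
  have h2 := hθ T 1 1
  rw [mul_one] at h2
  have h4 : Psi 𝔠 θ (1 : WithConv (A →ₐ[R] T)) * Psi 𝔠 θ 1 = Psi 𝔠 θ 1 * 1 := by
    rw [mul_one]; exact h2.symm
  exact mul_left_cancel h4

/-- evaluating a homomorphism modulo `𝔠` at a point which is a semilinear coalgebra map gives a
semilinear coalgebra map -/
theorem isCoalgMapOver_comp_of_isHomMod [Kills 𝔠 S] [Kills 𝔠 D]
    {θ : C →ₐ[R] (R ⧸ 𝔠) ⊗[R] A} (hθ : IsHomMod 𝔠 θ)
    (h : A →ₐ[R] D) (hh : IsCoalgMapOver S h.toLinearMap) :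
    IsCoalgMapOver S ((liftR 𝔠 h).comp θ).toLinearMap where
  comul c := by
    let iL : D →ₐ[R] D ⊗[S] D := Algebra.TensorProduct.includeLeft
    let iR : D →ₐ[R] D ⊗[S] D :=
      (Algebra.TensorProduct.includeRight : D →ₐ[S] D ⊗[S] D).restrictScalars R
    let Δ : D →ₐ[R] D ⊗[S] D := (Bialgebra.comulAlgHom S D).restrictScalars R
    let Ψ : C →ₐ[R] D := (liftR 𝔠 h).comp θ
    have h1 := hθ (D ⊗[S] D) (toConv (iL.comp h)) (toConv (iR.comp h))
    have e1 : (toConv (iL.comp h) : WithConv (A →ₐ[R] D ⊗[S] D)) * toConv (iR.comp h) =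
        cmp Δ (toConv h) := by
      apply WithConv.ofConv_injective
      apply AlgHom.ext
      intro a
      change ((toConv (iL.comp h) : WithConv (A →ₐ[R] D ⊗[S] D)) * toConv (iR.comp h)) a =
        comul (R := S) (h a)
      rw [AlgHom.convMul_apply]
      have := hh.comul a
      change comul (R := S) (h a) = _ at this
      rw [this]
      exact lift_incl_eq_tmul₂ h _
    have e2 : Psi 𝔠 θ (toConv (iL.comp h)) = cmp iL (toConv Ψ) :=
      (cmp_Psi 𝔠 θ iL (toConv h)).symm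
    have e3 : Psi 𝔠 θ (toConv (iR.comp h)) = cmp iR (toConv Ψ) :=
      (cmp_Psi 𝔠 θ iR (toConv h)).symm
    have e4 : Psi 𝔠 θ (cmp Δ (toConv h)) = cmp Δ (toConv Ψ) :=
      (cmp_Psi 𝔠 θ Δ (toConv h)).symm
    rw [e1, e2, e3, e4] at h1
    have h2 := congrArg (fun f => f.ofConv c) h1
    change comul (R := S) (Ψ c) = (cmp iL (toConv Ψ) * cmp iR (toConv Ψ)) c at h2
    rw [AlgHom.convMul_apply] at h2
    rw [← lift_incl_eq_tmul₂ Ψ]
    exact h2
  counit c := by
    let ε : D →ₐ[R] S := (Bialgebra.counitAlgHom S D).restrictScalars R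
    let Ψ : C →ₐ[R] D := (liftR 𝔠 h).comp θ
    have e1 : cmp ε (toConv h) = (1 : WithConv (A →ₐ[R] S)) := by
      apply WithConv.ofConv_injective
      apply AlgHom.ext
      intro a
      exact hh.counit a
    have e2 : Psi 𝔠 θ (cmp ε (toConv h)) = cmp ε (toConv Ψ) :=
      (cmp_Psi 𝔠 θ ε (toConv h)).symm
    rw [e1, psi_one_of_isHomMod 𝔠 hθ S] at e2
    have h2 := congrArg (fun f => f.ofConv c) e2
    exact h2.symm

end M2

end Groth.Agent.H15.MTH
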