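import Groth.Agent.H15.MTH10
import Groth.Agent.H15.MTAlg9

/-!
# Lifting homomorphisms from an isotrivial group to a smooth affine group over a complete base
-/

set_option autoImplicit false
set_option linter.style.haveILetI false
universe u
open TensorProduct Coalgebra

namespace Groth.Agent.H15.MTA
open Groth.Agent.H26 Groth.Agent.H15.GLD Groth.Agent.H15.MTC Groth.Agent.H15.MTF
open Groth.Agent.H15.MTH

attribute [local instance] algPow algFactor

section descent
variable {A : Type u} [CommRing A] [IsNoetherianRing A]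
  {A' : Type u} [CommRing A'] [Algebra A A'] {B : Type u} [CommRing B] [HopfAlgebra A B]
  {M : Type u} [CommGroup M] (e : A' ⊗[A] B ≃ₐc[A'] MonoidAlgebra A' M)
  {T : Type u} [CommRing T] [Algebra A T] [Module.Finite A T]
  (I : Ideal A)

/-- an element of `A'[M]` which is congruent to elements coming from `B` modulo all powers of `I`
has the same image under the two pullbacks -/
theorem map_eq_map_of_mod_pow (hI : I ≤ Ideal.jacobson ⊥) (g₁ g₂ : A' →ₐ[A] T)
    (y : MonoidAlgebra A' M)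
    (hmod : ∀ n : ℕ, ∃ b : B, y - LB e b ∈ (I ^ n • ⊤ : Submodule A (MonoidAlgebra A' M))) :
    TensorProduct.map g₁.toLinearMap (LinearMap.id : B →ₗ[A] B) (e.symm y) =
      TensorProduct.map g₂.toLinearMap (LinearMap.id : B →ₗ[A] B) (e.symm y) := by
  obtain ⟨hLTco, hLTbc⟩ := LT_coalg_bc e g₂
  have hεbc := isBaseChange_liftAlg (K := T) (B := MonoidAlgebra T M) T hLTbc
  have hinj : Function.Injective (liftAlg T (LT e g₂)) := injective_of_isBaseChange_self hεbc
  have key : ∀ (g : A' →ₐ[A] T) (x : A' ⊗[A] B),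
      liftAlg T (LT e g₂) (TensorProduct.map g.toLinearMap (LinearMap.id : B →ₗ[A] B) x) =
        Lam g (LT e g₂) x := by
    intro g x
    induction x using TensorProduct.induction_on with
    | zero => simp
    | add x y hx hy => rw [map_add, map_add, map_add, hx, hy]
    | tmul s b =>
      rw [TensorProduct.map_tmul, LinearMap.id_apply, AlgHom.toLinearMap_apply, liftAlg_tmul,
        Lam_tmul]
  apply hinj
  rw [key, key]
  apply eq_of_forall_coeff_sub_mem_pow I hI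
  intro n m
  obtain ⟨b, hr⟩ := hmod n
  have hx : e.symm y = (1 : A') ⊗ₜ[A] b + e.symm (y - LB e b) := by
    rw [map_sub, LB_apply, BialgEquiv.symm_apply_apply]
    abel
  rw [hx, map_add, map_add, Lam_tmul, Lam_tmul, map_one, map_one, one_smul,
    MonoidAlgebra.coeff_add, MonoidAlgebra.coeff_add, Finsupp.add_apply, Finsupp.add_apply,
    add_sub_add_left_eq_sub]
  let f₁ : MonoidAlgebra A' M →ₗ[A] MonoidAlgebra T M :=
    (Lam g₁ (LT e g₂)).toLinearMap ∘ₗ (e.symm.toLinearEquiv.toLinearMap.restrictScalars A)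
  let f₂ : MonoidAlgebra A' M →ₗ[A] MonoidAlgebra T M :=
    (Lam g₂ (LT e g₂)).toLinearMap ∘ₗ (e.symm.toLinearEquiv.toLinearMap.restrictScalars A)
  have h1 : f₁ (y - LB e b) - f₂ (y - LB e b) ∈
      (I ^ n • ⊤ : Submodule A (MonoidAlgebra T M)) :=
    Submodule.sub_mem _ (map_mem_smul_top_of_mem (I ^ n) f₁ hr)
      (map_mem_smul_top_of_mem (I ^ n) f₂ hr)
  have h2 := mem_map_of_mem_smul_top (I ^ n)
    ((coeffL m : MonoidAlgebra T M →ₗ[T] T).restrictScalars A) h1
  exact h2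

end descent

section kills
variable {A : Type u} [CommRing A]

lemma kills_of_le {𝔞 𝔟 : Ideal A} (h : 𝔞 ≤ 𝔟) (T : Type u) [CommRing T] [Algebra A T]
    [Kills 𝔟 T] : Kills 𝔞 T :=
  ⟨h.trans Kills.le_ker⟩

lemma kills_quot_map_pow (I : Ideal A) (A' : Type u) [CommRing A'] [Algebra A A'] (n k : ℕ)
    (hk : n ≤ k) : Kills (I ^ k) (A' ⧸ (I.map (algebraMap A A')) ^ n) where
  le_ker := by
    intro r hr
    rw [RingHom.mem_ker, IsScalarTower.algebraMap_apply A A' (A' ⧸ (I.map (algebraMap A A')) ^ n),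
      Ideal.Quotient.algebraMap_eq, Ideal.Quotient.eq_zero_iff_mem, ← Ideal.map_pow]
    exact Ideal.mem_map_of_mem _ (Ideal.pow_le_pow_right hk hr)

lemma kills_monoidAlgebra {𝔠 : Ideal A} (S : Type u) [CommRing S] [Algebra A S] [Kills 𝔠 S]
    (M : Type u) [CommGroup M] : Kills 𝔠 (MonoidAlgebra S M) where
  le_ker := by
    intro r hr
    have := Kills.le_ker (𝔞 := 𝔠) (T := S) hr
    rw [RingHom.mem_ker] at this ⊢
    rw [IsScalarTower.algebraMap_apply A S (MonoidAlgebra S M), this, map_zero]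

end kills

section main
variable {A : Type u} [CommRing A] [IsNoetherianRing A] (I : Ideal A) [IsAdicComplete I A]
  {B : Type u} [CommRing B] [HopfAlgebra A B] {C : Type u} [CommRing C] [HopfAlgebra A C]
  {A' : Type u} [CommRing A'] [Algebra A A'] [Module.Finite A A'] [Module.FaithfullyFlat A A']
  {M : Type u} [CommGroup M] (e : A' ⊗[A] B ≃ₐc[A'] MonoidAlgebra A' M)

/-- the chart modulo `I^(n+1)` -/
noncomputable def ellPow (n : ℕ) :
    B →ₐ[A] MonoidAlgebra (A' ⧸ (I.map (algebraMap A A')) ^ (n + 1)) M :=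
  ((mapCoeff (S := A') (S' := A' ⧸ (I.map (algebraMap A A')) ^ (n + 1)) M).restrictScalars A).comp
    (LB e)

omit [IsNoetherianRing A] [IsAdicComplete I A] [Module.Finite A A']
  [Module.FaithfullyFlat A A'] in
lemma ellPow_coalg (n : ℕ) :
    IsCoalgMapOver (A' ⧸ (I.map (algebraMap A A')) ^ (n + 1)) (ellPow I e n).toLinearMap :=
  IsCoalgMapOver.comp (isCoalgMapOver_mapCoeff M) (LB_coalg e)

omit [IsNoetherianRing A] [IsAdicComplete I A] [Module.Finite A A']
  [Module.FaithfullyFlat A A'] in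
include e in
/-- compatible coalgebra maps in the chart from compatible homomorphisms modulo `I^(n+1)` -/
theorem exists_chart_system
    (θ : ∀ n : ℕ, C →ₐ[A] (A ⧸ I ^ (n + 1)) ⊗[A] B)
    (hθ : ∀ n, IsHomMod (I ^ (n + 1)) (θ n))
    (hs : ∀ (n : ℕ) (T : Type u) [CommRing T] [Algebra A T] [Kills (I ^ (n + 1 + 1)) T]
        [Kills (I ^ (n + 1)) T] (h : WithConv (B →ₐ[A] T)),
        Psi (I ^ (n + 1 + 1)) (θ (n + 1)) h = Psi (I ^ (n + 1)) (θ n) h) :
    ∃ Ψ : ∀ n : ℕ, C →ₐ[A] MonoidAlgebra (A' ⧸ (I.map (algebraMap A A')) ^ (n + 1)) M,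
      (∀ n, IsCoalgMapOver (A' ⧸ (I.map (algebraMap A A')) ^ (n + 1)) (Ψ n).toLinearMap) ∧
      (∀ n x m, Ideal.Quotient.factor (Ideal.pow_le_pow_right (Nat.le_succ (n + 1)))
        ((Ψ (n + 1) x).coeff m) = (Ψ n x).coeff m) ∧
      (∀ n x b, θ n x = (1 : A ⧸ I ^ (n + 1)) ⊗ₜ[A] b →
        Ψ n x = mapCoeff (S := A') (S' := A' ⧸ (I.map (algebraMap A A')) ^ (n + 1)) M (LB e b)) := by
  have k1 : ∀ n k : ℕ, n ≤ k → Kills (I ^ k) (A' ⧸ (I.map (algebraMap A A')) ^ n) :=
    fun n k hk => kills_quot_map_pow I A' n k hk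
  have k2 : ∀ n k : ℕ, n ≤ k →
      Kills (I ^ k) (MonoidAlgebra (A' ⧸ (I.map (algebraMap A A')) ^ n) M) := by
    intro n k hk
    haveI := k1 n k hk
    exact kills_monoidAlgebra _ M
  let Ψ : ∀ n : ℕ, C →ₐ[A] MonoidAlgebra (A' ⧸ (I.map (algebraMap A A')) ^ (n + 1)) M :=
    fun n =>
      haveI := k2 (n + 1) (n + 1) le_rfl
      (liftR (I ^ (n + 1)) (ellPow I e n)).comp (θ n)
  refine ⟨Ψ, ?_, ?_, ?_⟩
  · intro n
    haveI := k1 (n + 1) (n + 1) le_rfl
    haveI := k2 (n + 1) (n + 1) le_rfl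
    exact isCoalgMapOver_comp_of_isHomMod (I ^ (n + 1)) (hθ n) (ellPow I e n) (ellPow_coalg I e n)
  · intro n x m
    letI : Algebra (A' ⧸ (I.map (algebraMap A A')) ^ (n + 1 + 1))
        (A' ⧸ (I.map (algebraMap A A')) ^ (n + 1)) :=
      (Ideal.Quotient.factor (Ideal.pow_le_pow_right (Nat.le_succ (n + 1)))).toAlgebra
    haveI : IsScalarTower A (A' ⧸ (I.map (algebraMap A A')) ^ (n + 1 + 1))
        (A' ⧸ (I.map (algebraMap A A')) ^ (n + 1)) := IsScalarTower.of_algebraMap_eq fun _ => rfl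
    haveI : IsScalarTower A' (A' ⧸ (I.map (algebraMap A A')) ^ (n + 1 + 1))
        (A' ⧸ (I.map (algebraMap A A')) ^ (n + 1)) := IsScalarTower.of_algebraMap_eq fun _ => rfl
    let g : MonoidAlgebra (A' ⧸ (I.map (algebraMap A A')) ^ (n + 1 + 1)) M →ₐ[A]
        MonoidAlgebra (A' ⧸ (I.map (algebraMap A A')) ^ (n + 1)) M :=
      (mapCoeff (S := A' ⧸ (I.map (algebraMap A A')) ^ (n + 1 + 1))
        (S' := A' ⧸ (I.map (algebraMap A A')) ^ (n + 1)) M).restrictScalars A
    haveI i1 := k2 (n + 1 + 1) (n + 1 + 1) le_rfl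
    haveI i2 := k2 (n + 1) (n + 1 + 1) (Nat.le_succ _)
    haveI i3 := k2 (n + 1) (n + 1) le_rfl
    have e1 : cmp g (WithConv.toConv (ellPow I e (n + 1))) = WithConv.toConv (ellPow I e n) := by
      apply WithConv.ofConv_injective
      apply AlgHom.ext
      intro b
      change mapCoeff (S := A' ⧸ (I.map (algebraMap A A')) ^ (n + 1 + 1))
        (S' := A' ⧸ (I.map (algebraMap A A')) ^ (n + 1)) M
        (mapCoeff (S := A') (S' := A' ⧸ (I.map (algebraMap A A')) ^ (n + 1 + 1)) M (LB e b)) =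
        mapCoeff (S := A') (S' := A' ⧸ (I.map (algebraMap A A')) ^ (n + 1)) M (LB e b)
      ext ν
      rw [mapCoeff_coeff, mapCoeff_coeff, mapCoeff_coeff]
      rfl
    have e2 : cmp g (Psi (I ^ (n + 1 + 1)) (θ (n + 1)) (WithConv.toConv (ellPow I e (n + 1)))) =
        Psi (I ^ (n + 1)) (θ n) (WithConv.toConv (ellPow I e n)) := by
      rw [cmp_Psi, e1]
      exact hs n _ _
    have e3 := congrArg (fun f => (f.ofConv x).coeff m) e2
    change (g (Ψ (n + 1) x)).coeff m = (Ψ n x).coeff m at e3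
    rw [← e3]
    change _ = (mapCoeff (S := A' ⧸ (I.map (algebraMap A A')) ^ (n + 1 + 1))
        (S' := A' ⧸ (I.map (algebraMap A A')) ^ (n + 1)) M (Ψ (n + 1) x)).coeff m
    rw [mapCoeff_coeff]
    rfl
  · intro n x b hb
    haveI := k2 (n + 1) (n + 1) le_rfl
    change liftR (I ^ (n + 1)) (ellPow I e n) (θ n x) = _
    rw [hb, liftR_one_tmul]
    rfl

include e in
/-- algebraisation and descent of a compatible system of coalgebra maps in the chart, each of
which comes from `B` modulo `I^(n+1)` -/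
theorem exists_bialgHom_of_chart_system
    (Ψ : ∀ n : ℕ, C →ₐ[A] MonoidAlgebra (A' ⧸ (I.map (algebraMap A A')) ^ (n + 1)) M)
    (hΨco : ∀ n, IsCoalgMapOver (A' ⧸ (I.map (algebraMap A A')) ^ (n + 1)) (Ψ n).toLinearMap)
    (hcompat : ∀ n x m, Ideal.Quotient.factor (Ideal.pow_le_pow_right (Nat.le_succ (n + 1)))
        ((Ψ (n + 1) x).coeff m) = (Ψ n x).coeff m)
    (hb : ∀ n x, ∃ b : B,
      Ψ n x = mapCoeff (S := A') (S' := A' ⧸ (I.map (algebraMap A A')) ^ (n + 1)) M (LB e b)) :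
    ∃ φ : C →ₐc[A] B, ∀ n x,
      mapCoeff (S := A') (S' := A' ⧸ (I.map (algebraMap A A')) ^ (n + 1)) M (LB e (φ x)) =
        Ψ n x := by
  have hI : I ≤ Ideal.jacobson ⊥ := IsAdicComplete.le_jacobson_bot I
  -- the compatible family over `A'`
  have hΘ : ∀ n, ∃ θ : A' ⊗[A] C →ₐ[A'] MonoidAlgebra (A' ⧸ (I.map (algebraMap A A')) ^ n) M,
      IsCoalgMapOver (A' ⧸ (I.map (algebraMap A A')) ^ n) θ.toLinearMap ∧
      ∀ (a : A') (x : C) (m : M), (θ (a ⊗ₜ[A] x)).coeff m =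
        Ideal.Quotient.mk _ a * Ideal.Quotient.factor (Ideal.pow_le_pow_right (Nat.le_succ n))
          ((Ψ n x).coeff m) := by
    intro n
    letI : Algebra (A' ⧸ (I.map (algebraMap A A')) ^ (n + 1))
        (A' ⧸ (I.map (algebraMap A A')) ^ n) :=
      (Ideal.Quotient.factor (Ideal.pow_le_pow_right (Nat.le_succ n))).toAlgebra
    haveI : IsScalarTower A (A' ⧸ (I.map (algebraMap A A')) ^ (n + 1))
        (A' ⧸ (I.map (algebraMap A A')) ^ n) := IsScalarTower.of_algebraMap_eq fun _ => rfl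
    let θ₀ : C →ₐ[A] MonoidAlgebra (A' ⧸ (I.map (algebraMap A A')) ^ n) M :=
      ((mapCoeff (S := A' ⧸ (I.map (algebraMap A A')) ^ (n + 1))
        (S' := A' ⧸ (I.map (algebraMap A A')) ^ n) M).restrictScalars A).comp (Ψ n)
    have hθ₀ : IsCoalgMapOver (A' ⧸ (I.map (algebraMap A A')) ^ n) θ₀.toLinearMap :=
      IsCoalgMapOver.comp (isCoalgMapOver_mapCoeff M) (hΨco n)
    have hθ₀c : ∀ x m, (θ₀ x).coeff m =
        Ideal.Quotient.factor (Ideal.pow_le_pow_right (Nat.le_succ n)) ((Ψ n x).coeff m) := by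
      intro x m
      change (mapCoeff (S := A' ⧸ (I.map (algebraMap A A')) ^ (n + 1))
        (S' := A' ⧸ (I.map (algebraMap A A')) ^ n) M (Ψ n x)).coeff m = _
      rw [mapCoeff_coeff]
      rfl
    refine ⟨liftAlg A' θ₀, isCoalgMapOver_liftAlg (K := A' ⧸ (I.map (algebraMap A A')) ^ n)
      (B := MonoidAlgebra (A' ⧸ (I.map (algebraMap A A')) ^ n) M) A' hθ₀, ?_⟩
    intro a x m
    rw [liftAlg_tmul, MonoidAlgebra.coeff_smul, Finsupp.smul_apply, hθ₀c, Algebra.smul_def]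
    rfl
  choose Θ hΘco hΘc using hΘ
  have hΘcompat : ∀ n y m, Ideal.Quotient.factor (Ideal.pow_le_pow_right (Nat.le_succ n))
      ((Θ (n + 1) y).coeff m) = (Θ n y).coeff m := by
    intro n y m
    induction y using TensorProduct.induction_on with
    | zero => simp
    | add x y hx hy =>
      rw [map_add, map_add, MonoidAlgebra.coeff_add, MonoidAlgebra.coeff_add, Finsupp.add_apply,
        Finsupp.add_apply, map_add, hx, hy]
    | tmul a x =>
      rw [hΘc, hΘc, map_mul, hcompat n x m]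
      rfl
  -- algebraisation
  haveI : IsNoetherianRing A' := IsNoetherianRing.of_finite A A'
  haveI : IsAdicComplete (I.map (algebraMap A A')) A' := isAdicComplete_map_of_finite I A'
  obtain ⟨Φ', hΦ'⟩ := exists_bialgHom_of_compatible (I.map (algebraMap A A')) Θ hΘco hΘcompat
  let Φ : C →ₐ[A] MonoidAlgebra A' M :=
    ((Φ' : A' ⊗[A] C →ₐ[A'] MonoidAlgebra A' M).restrictScalars A).comp
      Algebra.TensorProduct.includeRight
  have hΦapp : ∀ x, Φ x = Φ' ((1 : A') ⊗ₜ[A] x) := fun x => rfl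
  have hΦco : IsCoalgMapOver A' Φ.toLinearMap :=
    IsCoalgMapOver.comp (S₂ := A')
      (isCoalgMapOver_of_coalgHom (Φ' : A' ⊗[A] C →ₗc[A'] MonoidAlgebra A' M))
      (isCoalgMapOver_inc (R := A) A' C)
  -- reduction of `Φ` modulo `I^(n+1)`
  have hΦr : ∀ n x, mapCoeff (S := A') (S' := A' ⧸ (I.map (algebraMap A A')) ^ (n + 1)) M (Φ x) =
      Ψ n x := by
    intro n x
    ext m
    have h1 := congrArg (fun y => y.coeff m) (hΦ' (n + 1) ((1 : A') ⊗ₜ[A] x))
    beta_reduce at h1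
    rw [hΘc, map_one, one_mul, hcompat n x m, ← hΦapp] at h1
    exact h1
  -- descent
  have hdesc : ∀ x, ∃ b : B, LB e b = Φ x := by
    intro x
    have h1 := map_eq_map_of_mod_pow (T := A' ⊗[A] A') e I hI
      Algebra.TensorProduct.includeLeft Algebra.TensorProduct.includeRight (Φ x) (by
        intro n
        cases n with
        | zero =>
          refine ⟨0, ?_⟩
          rw [pow_zero, Ideal.one_eq_top, Submodule.top_smul]
          trivial
        | succ n =>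
          obtain ⟨b, hbn⟩ := hb n x
          refine ⟨b, ?_⟩
          apply mem_smul_top_of_coeff_mem
          rw [Ideal.map_pow]
          exact (mapCoeff_eq_iff ((I.map (algebraMap A A')) ^ (n + 1)) (Φ x) (LB e b)).mp
            ((hΦr n x).trans hbn))
    obtain ⟨b, hb'⟩ := exists_of_map_include_eq A A' B (e.symm (Φ x)) h1
    exact ⟨b, by rw [LB_apply, hb', BialgEquiv.apply_symm_apply]⟩
  choose φ hφ using hdesc
  let ch : PUnit.{u + 1} → Chart A B := fun _ =>
    ⟨A', M, LB e, ⟨LB_coalg e, LB_bc e⟩, inferInstance⟩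
  have hch : ∀ (K : Ideal A) (x : A),
      (∀ i, algebraMap A (ch i).R' x ∈ K.map (algebraMap A (ch i).R')) → x ∈ K := by
    intro K x h
    have h1 := h PUnit.unit
    change algebraMap A A' x ∈ K.map (algebraMap A A') at h1
    rwa [← Ideal.mem_comap, Ideal.comap_map_eq_self_of_faithfullyFlat] at h1
  obtain ⟨ψ, hψ⟩ := exists_bialgHom_of_atlas_target (c := ch) hch φ (fun _ => Φ)
    (fun _ => hΦco) (fun _ x => hφ x)
  refine ⟨ψ, fun n x => ?_⟩
  rw [hψ, hφ, hΦr]

include e in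
/-- **SGA3 IX 7.1 for a smooth target**: over a complete Noetherian base, homomorphisms from an
isotrivial group with an invariant integral to a smooth affine group lift from the reduction. -/
theorem exists_bialgHom_of_adic [Algebra.FormallySmooth A C]
    (I₀ : B →ₗ[A] A) (h1 : I₀ 1 = 1)
    (hinv : ∀ a, TensorProduct.rid A B (I₀.lTensor B (comul a)) = I₀ a • (1 : B))
    (φ₀ : ((A ⧸ I) ⊗[A] C) →ₐc[A ⧸ I] ((A ⧸ I) ⊗[A] B)) :
    ∃ φ : C →ₐc[A] B, ∀ c : C, φ₀ ((1 : A ⧸ I) ⊗ₜ[A] c) = (1 : A ⧸ I) ⊗ₜ[A] (φ c) := by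
  let θ₁ : C →ₐ[A] (A ⧸ I) ⊗[A] B :=
    ((φ₀ : (A ⧸ I) ⊗[A] C →ₐ[A ⧸ I] (A ⧸ I) ⊗[A] B).restrictScalars A).comp
      Algebra.TensorProduct.includeRight
  have hco : IsCoalgMapOver (A ⧸ I) θ₁.toLinearMap :=
    IsCoalgMapOver.comp (S₁ := A ⧸ I) (isCoalgMapOver_of_coalgHom (φ₀.toCoalgHom))
      (isCoalgMapOver_inc (A ⧸ I) C)
  have hθ₁ := isHomMod_of_isCoalgMapOver I θ₁ hco
  obtain ⟨θ, hθ, h0, hs⟩ := exists_levels I I₀ h1 hinv θ₁ hθ₁
  obtain ⟨Ψ, hΨco, hcompat, hΨb⟩ := exists_chart_system I e θ hθ hs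
  have hb : ∀ n x, ∃ b : B,
      Ψ n x = mapCoeff (S := A') (S' := A' ⧸ (I.map (algebraMap A A')) ^ (n + 1)) M (LB e b) := by
    intro n x
    obtain ⟨b, hb⟩ := exists_one_tmul_eq (I ^ (n + 1)) (θ n x)
    exact ⟨b, hΨb n x b hb.symm⟩
  obtain ⟨φ, hφ⟩ := exists_bialgHom_of_chart_system I e Ψ hΨco hcompat hb
  refine ⟨φ, fun x => ?_⟩
  obtain ⟨b, hb0⟩ := exists_one_tmul_eq (I ^ (0 + 1)) (θ 0 x)
  have e1 : θ₁ x = (1 : A ⧸ I) ⊗ₜ[A] b := by
    haveI : Kills (I ^ (0 + 1)) ((A ⧸ I) ⊗[A] B) := kills_pow I _ (0 + 1) (by omega)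
    have h2 := h0 ((A ⧸ I) ⊗[A] B) (WithConv.toConv Algebra.TensorProduct.includeRight)
    rw [Psi_includeRight] at h2
    have h3 := congrArg (fun f => f.ofConv x) h2
    change liftR (I ^ (0 + 1)) (Algebra.TensorProduct.includeRight : B →ₐ[A] (A ⧸ I) ⊗[A] B)
      (θ 0 x) = θ₁ x at h3
    rw [← hb0, liftR_one_tmul] at h3
    exact h3.symm
  have e2 : mapCoeff (S := A') (S' := A' ⧸ (I.map (algebraMap A A')) ^ (0 + 1)) M (LB e (φ x)) =
      mapCoeff (S := A') (S' := A' ⧸ (I.map (algebraMap A A')) ^ (0 + 1)) M (LB e b) :=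
    (hφ 0 x).trans (hΨb 0 x b hb0.symm)
  have e3 := (mapCoeff_eq_iff ((I.map (algebraMap A A')) ^ (0 + 1)) _ _).mp e2
  let ch : PUnit.{u + 1} → Chart A B := fun _ =>
    ⟨A', M, LB e, ⟨LB_coalg e, LB_bc e⟩, inferInstance⟩
  have hch : ∀ (K : Ideal A) (x : A),
      (∀ i, algebraMap A (ch i).R' x ∈ K.map (algebraMap A (ch i).R')) → x ∈ K := by
    intro K x h
    have h1 := h PUnit.unit
    change algebraMap A A' x ∈ K.map (algebraMap A A') at h1
    rwa [← Ideal.mem_comap, Ideal.comap_map_eq_self_of_faithfullyFlat] at h1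
  change θ₁ x = _
  rw [e1, ← sub_eq_zero, ← tmul_sub]
  apply one_tmul_eq_zero_of_mem_smul_top
  apply mem_smul_top_of_forall_chart_mem (c := ch) hch I
  intro _
  change LB e (b - φ x) ∈ _
  apply mem_smul_top_of_coeff_mem
  intro m
  have e4 := e3 m
  rw [zero_add, pow_one] at e4
  rw [map_sub, ← neg_sub, MonoidAlgebra.coeff_neg, Finsupp.neg_apply]
  exact neg_mem e4

end main

end Groth.Agent.H15.MTA
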