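import Groth.Agent.H15.MTH9

/-!
# Conjugacy of homomorphisms which agree modulo a square-zero ideal
-/

set_option autoImplicit false
set_option linter.style.haveILetI false
universe u
open TensorProduct WithConv Coalgebra

namespace Groth.Agent.H15.MTH

variable {R : Type u} [CommRing R] {𝔟 : Ideal R}
  {A : Type u} [CommRing A] [HopfAlgebra R A] {C : Type u} [CommRing C] [HopfAlgebra R C]

section conj
variable (F F' : ∀ (T : Type u) [CommRing T] [Algebra R T],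
    WithConv (A →ₐ[R] T) → WithConv (C →ₐ[R] T))

/-- the difference cocycle of two maps on points -/
noncomputable def dd (T : Type u) [CommRing T] [Algebra R T] (h : WithConv (A →ₐ[R] T)) :
    WithConv (C →ₐ[R] T) :=
  F' T h * (F T h)⁻¹

variable
  (hFn : ∀ (T T' : Type u) [CommRing T] [Algebra R T] [CommRing T'] [Algebra R T']
    (f : T →ₐ[R] T') (h : WithConv (A →ₐ[R] T)), cmp f (F T h) = F T' (cmp f h))
  (hF'n : ∀ (T T' : Type u) [CommRing T] [Algebra R T] [CommRing T'] [Algebra R T']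
    (f : T →ₐ[R] T') (h : WithConv (A →ₐ[R] T)), cmp f (F' T h) = F' T' (cmp f h))
  (hFm : ∀ (T : Type u) [CommRing T] [Algebra R T] (h h' : WithConv (A →ₐ[R] T)),
    F T (h * h') = F T h * F T h')
  (hF'm : ∀ (T : Type u) [CommRing T] [Algebra R T] (h h' : WithConv (A →ₐ[R] T)),
    F' T (h * h') = F' T h * F' T h')
  (hb : ∀ (T : Type u) [CommRing T] [Algebra R T] [Kills 𝔟 T] (h : WithConv (A →ₐ[R] T)),
    F' T h = F T h)

include hFn hF'n in
lemma cmp_dd {T T' : Type u} [CommRing T] [Algebra R T] [CommRing T'] [Algebra R T']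
    (f : T →ₐ[R] T') (h : WithConv (A →ₐ[R] T)) :
    cmp f (dd F F' T h) = dd F F' T' (cmp f h) := by
  unfold dd
  rw [cmp_mul, cmp_inv, hFn, hF'n]

include hFm hF'm in
lemma dd_mul {T : Type u} [CommRing T] [Algebra R T] (h₁ h₂ : WithConv (A →ₐ[R] T)) :
    dd F F' T (h₁ * h₂) = (F' T h₁ * dd F F' T h₂ * (F' T h₁)⁻¹) * dd F F' T h₁ := by
  unfold dd
  rw [hFm, hF'm]
  group

include hFn hF'n hb in
lemma isNear_dd {T : Type u} [CommRing T] [Algebra R T] (h : WithConv (A →ₐ[R] T)) :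
    IsNear 𝔟 (dd F F' T h) := by
  rw [isNear_iff_cmp_mk, cmp_dd F F' hFn hF'n]
  unfold dd
  rw [hb, mul_inv_cancel]

variable (I₀ : A →ₗ[R] R)

/-- the average of the difference cocycle -/
noncomputable def nn (T : Type u) [CommRing T] [Algebra R T] [SqZ 𝔟 T] : WithConv (C →ₐ[R] T) :=
  push (IT I₀ T) (dd F F' (T ⊗[R] A) (xx T)) (isNear_dd F F' hFn hF'n hb _)

lemma isNear_nn (T : Type u) [CommRing T] [Algebra R T] [SqZ 𝔟 T] :
    IsNear 𝔟 (nn F F' hFn hF'n hb I₀ T) :=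
  isNear_push _ _ _

lemma cmp_nn {T T' : Type u} [CommRing T] [Algebra R T] [SqZ 𝔟 T] [CommRing T'] [Algebra R T']
    [SqZ 𝔟 T'] (f : T →ₐ[R] T') :
    cmp f (nn F F' hFn hF'n hb I₀ T) = nn F F' hFn hF'n hb I₀ T' := by
  unfold nn
  rw [cmp_push]
  have n1 : IsNear 𝔟 (dd F F' (T ⊗[R] A) (xx T)) := isNear_dd F F' hFn hF'n hb _
  have n2 : IsNear 𝔟 (toConv ((Algebra.TensorProduct.map f (AlgHom.id R A)).comp
      (dd F F' (T ⊗[R] A) (xx T)).ofConv)) := isNear_comp _ _ n1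
  have e1 : push (f.toLinearMap ∘ₗ IT I₀ T) (dd F F' (T ⊗[R] A) (xx T)) n1 =
      push (IT I₀ T' ∘ₗ (Algebra.TensorProduct.map f (AlgHom.id R A)).toLinearMap)
        (dd F F' (T ⊗[R] A) (xx T)) n1 := by
    congr 1
    exact IT_natural I₀ f
  rw [e1, ← push_comp (IT I₀ T') (Algebra.TensorProduct.map f (AlgHom.id R A)) _ n1 n2]
  apply push_congr
  change cmp (Algebra.TensorProduct.map f (AlgHom.id R A)) (dd F F' (T ⊗[R] A) (xx T)) = _
  rw [cmp_dd F F' hFn hF'n, cmp_map_xx]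

include hFm hF'm in
/-- **Conjugacy step**: two multiplicative natural maps on points which agree modulo `𝔟` are
conjugate, over algebras in which `𝔟² = 0`, by an element near the identity. -/
theorem conj_step (h1 : I₀ 1 = 1)
    (hinv : ∀ a, TensorProduct.rid R A (I₀.lTensor A (comul a)) = I₀ a • (1 : A))
    (T : Type u) [CommRing T] [Algebra R T] [SqZ 𝔟 T] (h : WithConv (A →ₐ[R] T)) :
    F' T h = nn F F' hFn hF'n hb I₀ T * F T h * (nn F F' hFn hF'n hb I₀ T)⁻¹ := by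
  have hc := dd_mul F F' hFm hF'm (up (A := A) h) (xx T)
  have m1 : IsNear 𝔟 (dd F F' (T ⊗[R] A) (up (A := A) h * xx T)) := isNear_dd F F' hFn hF'n hb _
  have m2 : IsNear 𝔟 (dd F F' (T ⊗[R] A) (xx T)) := isNear_dd F F' hFn hF'n hb _
  have m3 : IsNear 𝔟 (dd F F' (T ⊗[R] A) (up (A := A) h)) := isNear_dd F F' hFn hF'n hb _
  have e1 : push (IT I₀ T) (dd F F' (T ⊗[R] A) (up (A := A) h * xx T)) m1 =
      push (IT I₀ T) (F' (T ⊗[R] A) (up (A := A) h) * dd F F' (T ⊗[R] A) (xx T) *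
        (F' (T ⊗[R] A) (up (A := A) h))⁻¹ * dd F F' (T ⊗[R] A) (up (A := A) h))
        ((m2.conj _).mul m3) := push_congr _ hc _ _
  rw [push_mul (IT I₀ T) _ _ (m2.conj _) m3] at e1
  -- the left hand side
  have f1 : push (IT I₀ T) (dd F F' (T ⊗[R] A) (up (A := A) h * xx T)) m1 =
      nn F F' hFn hF'n hb I₀ T := by
    have e : dd F F' (T ⊗[R] A) (up (A := A) h * xx T) =
        toConv ((tau h).comp (dd F F' (T ⊗[R] A) (xx T)).ofConv) := by
      change _ = cmp (tau h) (dd F F' (T ⊗[R] A) (xx T))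
      rw [cmp_dd F F' hFn hF'n, cmp_tau_xx]
    have m6 : IsNear 𝔟 (toConv ((tau h).comp (dd F F' (T ⊗[R] A) (xx T)).ofConv)) := by
      rw [← e]; exact m1
    rw [push_congr (IT I₀ T) e m1 m6, push_comp (IT I₀ T) (tau h) _ m2 m6]
    unfold nn
    congr 1
    exact IT_comp_tau I₀ hinv h
  have f2 : push (IT I₀ T) (F' (T ⊗[R] A) (up (A := A) h) * dd F F' (T ⊗[R] A) (xx T) *
      (F' (T ⊗[R] A) (up (A := A) h))⁻¹) (m2.conj _) =
      F' T h * nn F F' hFn hF'n hb I₀ T * (F' T h)⁻¹ := by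
    have e : F' (T ⊗[R] A) (up (A := A) h) * dd F F' (T ⊗[R] A) (xx T) *
        (F' (T ⊗[R] A) (up (A := A) h))⁻¹ =
        up (F' T h) * dd F F' (T ⊗[R] A) (xx T) * (up (F' T h))⁻¹ := by
      have : F' (T ⊗[R] A) (up (A := A) h) = up (F' T h) := (hF'n _ _ _ h).symm
      rw [this]
    rw [push_congr (IT I₀ T) e (m2.conj _) (m2.conj _)]
    exact push_IT_conj I₀ _ _ m2
  have f3 : push (IT I₀ T) (dd F F' (T ⊗[R] A) (up (A := A) h)) m3 = dd F F' T h := by
    have e : dd F F' (T ⊗[R] A) (up (A := A) h) = up (dd F F' T h) :=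
      (cmp_dd F F' hFn hF'n _ h).symm
    have m3' : IsNear 𝔟 (up (A := A) (dd F F' T h)) := by rw [← e]; exact m3
    rw [push_congr (IT I₀ T) e m3 m3']
    exact push_IT_up I₀ h1 _ (isNear_dd F F' hFn hF'n hb _) m3'
  rw [f1, f2, f3] at e1
  unfold dd at e1
  generalize nn F F' hFn hF'n hb I₀ T = n at e1 ⊢
  generalize F' T h = P' at e1 ⊢
  generalize F T h = P at e1 ⊢
  -- e1 : n = P' * n * P'⁻¹ * (P' * P⁻¹)
  have e2 : P = n⁻¹ * P' * n := by
    have : P = (P' * n * P'⁻¹ * (P' * P⁻¹))⁻¹ * P' * n := by group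
    rw [this, ← e1]
  rw [e2]
  group

end conj

end Groth.Agent.H15.MTH
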