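import Groth.Agent.H15.MTH12

/-!
# Conjugacy of homomorphisms which agree modulo a nilpotent ideal
-/

set_option autoImplicit false
set_option linter.style.haveILetI false
universe u
open TensorProduct WithConv Coalgebra

namespace Groth.Agent.H15.MTH

variable {R : Type u} [CommRing R]
  {A : Type u} [CommRing A] [HopfAlgebra R A] {C : Type u} [CommRing C] [HopfAlgebra R C]

section Phi
variable {T T' : Type u} [CommRing T] [Algebra R T] [CommRing T'] [Algebra R T']

/-- the map on points induced by an algebra map -/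
noncomputable def Phi (φ : C →ₐ[R] A) (T : Type u) [CommRing T] [Algebra R T]
    (h : WithConv (A →ₐ[R] T)) : WithConv (C →ₐ[R] T) :=
  toConv (h.ofConv.comp φ)

lemma cmp_Phi (φ : C →ₐ[R] A) (f : T →ₐ[R] T') (h : WithConv (A →ₐ[R] T)) :
    cmp f (Phi φ T h) = Phi φ T' (cmp f h) := rfl

lemma Phi_mul (φ : C →ₐc[R] A) (h h' : WithConv (A →ₐ[R] T)) :
    Phi (φ : C →ₐ[R] A) T (h * h') = Phi (φ : C →ₐ[R] A) T h * Phi (φ : C →ₐ[R] A) T h' := by
  apply WithConv.ofConv_injective
  exact AlgHom.convMul_comp_bialgHom_distrib h h' φ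

/-- the constant point attached to an `R`-point -/
noncomputable def cst (g : WithConv (C →ₐ[R] R)) (T : Type u) [CommRing T] [Algebra R T] :
    WithConv (C →ₐ[R] T) :=
  cmp (Algebra.ofId R T) g

lemma cmp_cst (g : WithConv (C →ₐ[R] R)) (f : T →ₐ[R] T') : cmp f (cst g T) = cst g T' := by
  unfold cst
  rw [cmp_cmp]
  congr 1
  apply AlgHom.ext
  intro r
  exact f.commutes r

lemma cst_mul (g g' : WithConv (C →ₐ[R] R)) : cst (g * g') T = cst g T * cst g' T :=
  cmp_mul _ _ _

end Phi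

section main
variable (I : Ideal R)

lemma isNear_mul_of_isNear {g g' : WithConv (C →ₐ[R] R)} (h : IsNear I g) (h' : IsNear I g') :
    IsNear I (g * g') := by
  rw [isNear_iff_cmp_mk] at h h' ⊢
  rw [cmp_mul, h, h', mul_one]

lemma isNear_of_comp_mk {𝔟 𝔞 : Ideal R} (hle : 𝔞 ≤ 𝔟) (g' : C →ₐ[R] R)
    (h : IsNear 𝔟 (toConv ((Ideal.Quotient.mkₐ R 𝔞).comp g') : WithConv (C →ₐ[R] R ⧸ 𝔞))) :
    IsNear 𝔟 (toConv g' : WithConv (C →ₐ[R] R)) := by
  intro c
  have h2 := h c
  change Ideal.Quotient.mk 𝔞 (g' c) - algebraMap R (R ⧸ 𝔞) (counit c) ∈ nil 𝔟 (R ⧸ 𝔞) at h2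
  change g' c - algebraMap R R (counit c) ∈ nil 𝔟 R
  unfold nil at h2 ⊢
  rw [Ideal.Quotient.algebraMap_eq, ← map_sub, Ideal.mem_quotient_iff_mem_sup] at h2
  rw [Algebra.algebraMap_self, Ideal.map_id]
  rw [sup_eq_left.mpr hle] at h2
  exact h2

/-- **Conjugacy**: two homomorphisms from a group with an invariant integral to a smooth affine
group which agree modulo a nilpotent ideal `I` are conjugate by an `R`-point congruent to the
identity modulo `I`. -/
theorem conj_of_nilpotent [Algebra.FormallySmooth R C] (hI : IsNilpotent I)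
    (I₀ : A →ₗ[R] R) (h1 : I₀ 1 = 1)
    (hinv : ∀ a, TensorProduct.rid R A (I₀.lTensor A (comul a)) = I₀ a • (1 : A))
    (φ φ' : C →ₐc[R] A)
    (hmod : ∀ (T : Type u) [CommRing T] [Algebra R T] [Kills I T] (h : WithConv (A →ₐ[R] T)),
      Phi (φ' : C →ₐ[R] A) T h = Phi (φ : C →ₐ[R] A) T h) :
    ∃ g : WithConv (C →ₐ[R] R), IsNear I g ∧
      ∀ (T : Type u) [CommRing T] [Algebra R T] (h : WithConv (A →ₐ[R] T)),
        Phi (φ' : C →ₐ[R] A) T h = cst g T * Phi (φ : C →ₐ[R] A) T h * (cst g T)⁻¹ := by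
  have key : ∀ k : ℕ, ∃ g : WithConv (C →ₐ[R] R), IsNear I g ∧
      ∀ (T : Type u) [CommRing T] [Algebra R T] [Kills (I ^ (k + 1)) T]
        (h : WithConv (A →ₐ[R] T)),
        Phi (φ' : C →ₐ[R] A) T h = cst g T * Phi (φ : C →ₐ[R] A) T h * (cst g T)⁻¹ := by
    intro k
    induction k with
    | zero =>
      refine ⟨1, isNear_one, ?_⟩
      intro T _ _ _ h
      haveI : Kills I T := ⟨by
        have := Kills.le_ker (𝔞 := I ^ (0 + 1)) (T := T)
        rwa [zero_add, pow_one] at this⟩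
      have e : cst (1 : WithConv (C →ₐ[R] R)) T = 1 := cmp_one _
      rw [e, one_mul, inv_one, mul_one]
      exact hmod T h
    | succ k ih =>
      obtain ⟨g, hg, hgk⟩ := ih
      let F : ∀ (T : Type u) [CommRing T] [Algebra R T],
          WithConv (A →ₐ[R] T) → WithConv (C →ₐ[R] T) :=
        fun T _ _ h => cst g T * Phi (φ : C →ₐ[R] A) T h * (cst g T)⁻¹
      let F' : ∀ (T : Type u) [CommRing T] [Algebra R T],
          WithConv (A →ₐ[R] T) → WithConv (C →ₐ[R] T) :=
        fun T _ _ h => Phi (φ' : C →ₐ[R] A) T h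
      have hFn : ∀ (T T' : Type u) [CommRing T] [Algebra R T] [CommRing T'] [Algebra R T']
          (f : T →ₐ[R] T') (h : WithConv (A →ₐ[R] T)), cmp f (F T h) = F T' (cmp f h) := by
        intro T T' _ _ _ _ f h
        change cmp f (cst g T * Phi (φ : C →ₐ[R] A) T h * (cst g T)⁻¹) = _
        rw [cmp_mul, cmp_mul, cmp_inv, cmp_cst, cmp_Phi]
      have hF'n : ∀ (T T' : Type u) [CommRing T] [Algebra R T] [CommRing T'] [Algebra R T']
          (f : T →ₐ[R] T') (h : WithConv (A →ₐ[R] T)), cmp f (F' T h) = F' T' (cmp f h) :=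
        fun T T' _ _ _ _ f h => rfl
      have hFm : ∀ (T : Type u) [CommRing T] [Algebra R T] (h h' : WithConv (A →ₐ[R] T)),
          F T (h * h') = F T h * F T h' := by
        intro T _ _ h h'
        change cst g T * Phi (φ : C →ₐ[R] A) T (h * h') * (cst g T)⁻¹ = _
        rw [Phi_mul]
        change _ = (cst g T * Phi (φ : C →ₐ[R] A) T h * (cst g T)⁻¹) *
          (cst g T * Phi (φ : C →ₐ[R] A) T h' * (cst g T)⁻¹)
        group
      have hF'm : ∀ (T : Type u) [CommRing T] [Algebra R T] (h h' : WithConv (A →ₐ[R] T)),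
          F' T (h * h') = F' T h * F' T h' := fun T _ _ h h' => Phi_mul φ' h h'
      have hb : ∀ (T : Type u) [CommRing T] [Algebra R T] [Kills (I ^ (k + 1)) T]
          (h : WithConv (A →ₐ[R] T)), F' T h = F T h := fun T _ _ _ h => hgk T h
      have hle : I ^ (k + 1) * I ^ (k + 1) ≤ I ^ (k + 1 + 1) := by
        rw [← pow_add]; exact Ideal.pow_le_pow_right (by omega)
      haveI : SqZ (I ^ (k + 1)) (R ⧸ I ^ (k + 1 + 1)) := sqZ_quot (I ^ (k + 1 + 1)) hle
      -- lift the conjugating element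
      have hsurj : Function.Surjective (Ideal.Quotient.mkₐ R (I ^ (k + 1 + 1))) :=
        Ideal.Quotient.mkₐ_surjective R _
      have hnil : IsNilpotent (RingHom.ker
          (Ideal.Quotient.mkₐ R (I ^ (k + 1 + 1)) : R →+* R ⧸ I ^ (k + 1 + 1))) := by
        have : RingHom.ker (Ideal.Quotient.mkₐ R (I ^ (k + 1 + 1)) : R →+* R ⧸ I ^ (k + 1 + 1)) =
            I ^ (k + 1 + 1) := Ideal.mk_ker
        rw [this]
        exact hI.pow_succ (k + 1)
      let n₀ := nn F F' hFn hF'n hb I₀ (R ⧸ I ^ (k + 1 + 1))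
      let g' : C →ₐ[R] R :=
        Algebra.FormallySmooth.liftOfSurjective n₀.ofConv _ hsurj hnil
      have hg' : (Ideal.Quotient.mkₐ R (I ^ (k + 1 + 1))).comp g' = n₀.ofConv :=
        Algebra.FormallySmooth.comp_liftOfSurjective _ _ hsurj hnil
      have hg'near : IsNear (I ^ (k + 1)) (toConv g' : WithConv (C →ₐ[R] R)) := by
        apply isNear_of_comp_mk (Ideal.pow_le_pow_right (Nat.le_succ (k + 1)))
        rw [hg']
        exact isNear_nn F F' hFn hF'n hb I₀ _
      have hg'I : IsNear I (toConv g' : WithConv (C →ₐ[R] R)) := by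
        intro c
        have := hg'near c
        unfold nil at this ⊢
        exact Ideal.map_mono (Ideal.pow_le_self (Nat.succ_ne_zero k)) this
      refine ⟨toConv g' * g, isNear_mul_of_isNear I hg'I hg, ?_⟩
      intro T _ _ _ h
      haveI : SqZ (I ^ (k + 1)) T := sqZ_of_kills (I ^ (k + 1 + 1)) hle T
      have hc := conj_step F F' hFn hF'n hFm hF'm hb I₀ h1 hinv T h
      have e1 : nn F F' hFn hF'n hb I₀ T = cst (toConv g') T := by
        rw [← cmp_nn F F' hFn hF'n hb I₀ (ofQ (I ^ (k + 1 + 1)) T)]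
        change cmp (ofQ (I ^ (k + 1 + 1)) T) n₀ = _
        have : n₀ = cmp (Ideal.Quotient.mkₐ R (I ^ (k + 1 + 1))) (toConv g') := by
          apply WithConv.ofConv_injective
          exact hg'.symm
        rw [this, cmp_cmp]
        rfl
      rw [e1] at hc
      change Phi (φ' : C →ₐ[R] A) T h = cst (toConv g') T *
        (cst g T * Phi (φ : C →ₐ[R] A) T h * (cst g T)⁻¹) * (cst (toConv g') T)⁻¹ at hc
      rw [hc, cst_mul]
      group
  obtain ⟨n, hn⟩ := hI
  have hbot : I ^ (n + 1) = ⊥ := by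
    rw [pow_succ, hn, Ideal.zero_eq_bot, Ideal.bot_mul]
  obtain ⟨g, hg, hgk⟩ := key n
  refine ⟨g, hg, ?_⟩
  intro T _ _ h
  haveI : Kills (I ^ (n + 1)) T := kills_of_eq_bot hbot T
  exact hgk T h

end main

end Groth.Agent.H15.MTH
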