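import Groth.Agent.H15.MTH13

/-!
# Relative lifting of homomorphisms (formal smoothness of `w ↦ w ∘ u`)
-/

set_option autoImplicit false
set_option linter.style.haveILetI false
universe u
open TensorProduct WithConv Coalgebra

namespace Groth.Agent.H15.MTH

variable {R : Type u} [CommRing R] (I : Ideal R)
  {A₁ : Type u} [CommRing A₁] [HopfAlgebra R A₁] {A₂ : Type u} [CommRing A₂] [HopfAlgebra R A₂]
  {C : Type u} [CommRing C] [HopfAlgebra R C]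

lemma conj_eq_of_eq_one {G : Type*} [Group G] (x p : G) (hx : x = 1) : x * p * x⁻¹ = p := by
  subst hx
  group

theorem exists_relative_lift [Algebra.FormallySmooth R C] (hI : IsNilpotent I)
    (I₀ : A₁ →ₗ[R] R) (h1 : I₀ 1 = 1)
    (hinv : ∀ a, TensorProduct.rid R A₁ (I₀.lTensor A₁ (comul a)) = I₀ a • (1 : A₁))
    (α : A₂ →ₐc[R] A₁) (β : C →ₐc[R] A₁) (γ' : C →ₐc[R] A₂)
    (hmod : ∀ c, (1 : R ⧸ I) ⊗ₜ[R] α (γ' c) = (1 : R ⧸ I) ⊗ₜ[R] β c) :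
    ∃ γ : C →ₐc[R] A₂, (∀ c, (1 : R ⧸ I) ⊗ₜ[R] γ c = (1 : R ⧸ I) ⊗ₜ[R] γ' c) ∧
      ∀ c, α (γ c) = β c := by
  have hmod' : ∀ (T : Type u) [CommRing T] [Algebra R T] [Kills I T] (h : WithConv (A₁ →ₐ[R] T)),
      Phi (β : C →ₐ[R] A₁) T h = Phi ((α.comp γ' : C →ₐc[R] A₁) : C →ₐ[R] A₁) T h := by
    intro T _ _ _ h
    apply WithConv.ofConv_injective
    apply AlgHom.ext
    intro c
    change h.ofConv (β c) = h.ofConv (α (γ' c))
    rw [← liftR_one_tmul I h.ofConv (β c), ← liftR_one_tmul I h.ofConv (α (γ' c)), hmod]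
  obtain ⟨g, hg, hconj⟩ := conj_of_nilpotent I hI I₀ h1 hinv (α.comp γ') β hmod'
  let γa : C →ₐ[R] A₂ := (cst g A₂ * toConv (γ' : C →ₐ[R] A₂) * (cst g A₂)⁻¹).ofConv
  have hγa : ∀ (T : Type u) [CommRing T] [Algebra R T] (h : WithConv (A₂ →ₐ[R] T)),
      (toConv (h.ofConv.comp γa) : WithConv (C →ₐ[R] T)) =
        cst g T * Phi (γ' : C →ₐ[R] A₂) T h * (cst g T)⁻¹ := by
    intro T _ _ h
    change cmp h.ofConv (cst g A₂ * toConv (γ' : C →ₐ[R] A₂) * (cst g A₂)⁻¹) = _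
    rw [cmp_mul, cmp_mul, cmp_inv, cmp_cst]
    rfl
  obtain ⟨γ, hγ⟩ := exists_bialgHom_of_mul γa (by
    intro T _ _ h h'
    rw [hγa, hγa, hγa, Phi_mul]
    group)
  refine ⟨γ, ?_, ?_⟩
  · intro c
    rw [hγ]
    have e1 : cst g ((R ⧸ I) ⊗[R] A₂) = 1 :=
      eq_one_of_isNear_of_kills I (isNear_comp _ _ hg)
    have e : (toConv ((toConv (Algebra.TensorProduct.includeRight :
        A₂ →ₐ[R] (R ⧸ I) ⊗[R] A₂)).ofConv.comp γa) : WithConv (C →ₐ[R] (R ⧸ I) ⊗[R] A₂)) =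
        Phi (γ' : C →ₐ[R] A₂) ((R ⧸ I) ⊗[R] A₂) (toConv Algebra.TensorProduct.includeRight) := by
      rw [hγa]
      exact conj_eq_of_eq_one (G := WithConv (C →ₐ[R] (R ⧸ I) ⊗[R] A₂)) _ _ e1
    exact congrArg (fun f => f.ofConv c) e
  · intro c
    rw [hγ]
    have e := hγa A₁ (toConv (α : A₂ →ₐ[R] A₁))
    have e2 := hconj A₁ (toConv (AlgHom.id R A₁))
    have e3 : Phi (γ' : C →ₐ[R] A₂) A₁ (toConv (α : A₂ →ₐ[R] A₁)) =
        Phi ((α.comp γ' : C →ₐc[R] A₁) : C →ₐ[R] A₁) A₁ (toConv (AlgHom.id R A₁)) := rfl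
    rw [e3, ← e2] at e
    exact congrArg (fun f => f.ofConv c) e

end Groth.Agent.H15.MTH
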