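import Groth.Agent.H15.MTH1

/-!
# Pushing forward points near the identity along linear maps
-/

set_option autoImplicit false
set_option linter.style.haveILetI false
universe u
open TensorProduct WithConv Coalgebra

namespace Groth.Agent.H15.MTH

variable {R : Type u} [CommRing R] (𝔟 : Ideal R) {C : Type u} [CommRing C] [HopfAlgebra R C]

section push
variable {T T' : Type u} [CommRing T] [Algebra R T] [CommRing T'] [Algebra R T']

/-- the linear map underlying the pushforward -/
noncomputable def pushLin (l : T →ₗ[R] T') (g : WithConv (C →ₐ[R] T)) : WithConv (C →ₗ[R] T') :=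
  1 + toConv (l ∘ₗ (lin g - 1).ofConv)

lemma pushLin_apply (l : T →ₗ[R] T') (g : WithConv (C →ₐ[R] T)) (c : C) :
    (pushLin l g).ofConv c = algebraMap R T' (counit c) + l (g.ofConv c - algebraMap R T (counit c)) :=
  rfl

variable {𝔟}

lemma small_comp (l : T →ₗ[R] T') {D : WithConv (C →ₗ[R] T)} (h : Small 𝔟 D) :
    Small 𝔟 (toConv (l ∘ₗ D.ofConv) : WithConv (C →ₗ[R] T')) :=
  fun c => map_mem_nil 𝔟 l (h c)

/-- pushforward of a point near the identity along a linear map -/
noncomputable def push [SqZ 𝔟 T] [SqZ 𝔟 T'] (l : T →ₗ[R] T') (g : WithConv (C →ₐ[R] T))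
    (hg : IsNear 𝔟 g) : WithConv (C →ₐ[R] T') :=
  toConv (AlgHom.ofLinearMap (pushLin l g).ofConv
    (by
      rw [pushLin_apply, Bialgebra.counit_one, map_one, map_one, map_one, sub_self, map_zero,
        add_zero])
    (by
      intro x y
      have hx : g.ofConv x - algebraMap R T (counit x) ∈ nil 𝔟 T := hg x
      have hy : g.ofConv y - algebraMap R T (counit y) ∈ nil 𝔟 T := hg y
      set dx := g.ofConv x - algebraMap R T (counit x) with hdx
      set dy := g.ofConv y - algebraMap R T (counit y) with hdy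
      have h0 : dx * dy = 0 := nil_mul_nil 𝔟 T hx hy
      have h0' : l dx * l dy = 0 := nil_mul_nil 𝔟 T' (map_mem_nil 𝔟 l hx) (map_mem_nil 𝔟 l hy)
      have hgx : g.ofConv x = algebraMap R T (counit x) + dx := by rw [hdx]; ring
      have hgy : g.ofConv y = algebraMap R T (counit y) + dy := by rw [hdy]; ring
      have h1 : g.ofConv (x * y) - algebraMap R T (counit (x * y)) =
          counit (R := R) x • dy + counit (R := R) y • dx := by
        rw [map_mul, Bialgebra.counit_mul, map_mul, hgx, hgy, Algebra.smul_def, Algebra.smul_def]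
        linear_combination h0
      rw [pushLin_apply, pushLin_apply, pushLin_apply, h1, map_add, map_smul, map_smul,
        Bialgebra.counit_mul, map_mul, Algebra.smul_def, Algebra.smul_def]
      linear_combination (-1 : T') * h0'))

lemma lin_push [SqZ 𝔟 T] [SqZ 𝔟 T'] (l : T →ₗ[R] T') (g : WithConv (C →ₐ[R] T))
    (hg : IsNear 𝔟 g) : lin (push l g hg) = pushLin l g := rfl

lemma lin_push_sub_one [SqZ 𝔟 T] [SqZ 𝔟 T'] (l : T →ₗ[R] T') (g : WithConv (C →ₐ[R] T))
    (hg : IsNear 𝔟 g) : lin (push l g hg) - 1 = toConv (l ∘ₗ (lin g - 1).ofConv) := by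
  rw [lin_push, pushLin, add_sub_cancel_left]

lemma isNear_push [SqZ 𝔟 T] [SqZ 𝔟 T'] (l : T →ₗ[R] T') (g : WithConv (C →ₐ[R] T))
    (hg : IsNear 𝔟 g) : IsNear 𝔟 (push l g hg) := by
  unfold IsNear
  rw [lin_push_sub_one]
  exact small_comp l hg

/-- two near points with the same derivation part are equal -/
lemma eq_of_lin_sub_one_eq {g g' : WithConv (C →ₐ[R] T)} (h : lin g - 1 = lin g' - 1) : g = g' := by
  apply lin_injective
  exact sub_left_injective h

lemma comp_add (l : T →ₗ[R] T') (D D' : WithConv (C →ₗ[R] T)) :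
    (toConv (l ∘ₗ (D + D').ofConv) : WithConv (C →ₗ[R] T')) =
      toConv (l ∘ₗ D.ofConv) + toConv (l ∘ₗ D'.ofConv) := by
  apply WithConv.ofConv_injective
  ext c
  change l (D.ofConv c + D'.ofConv c) = l (D.ofConv c) + l (D'.ofConv c)
  rw [map_add]

theorem push_mul [SqZ 𝔟 T] [SqZ 𝔟 T'] (l : T →ₗ[R] T') (g g' : WithConv (C →ₐ[R] T))
    (hg : IsNear 𝔟 g) (hg' : IsNear 𝔟 g') :
    push l (g * g') (hg.mul hg') = push l g hg * push l g' hg' := by
  apply eq_of_lin_sub_one_eq
  rw [lin_mul_sub_one (isNear_push l g hg) (isNear_push l g' hg'), lin_push_sub_one,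
    lin_push_sub_one, lin_push_sub_one, lin_mul_sub_one hg hg', comp_add]

/-- the pushforward only depends on the point -/
lemma push_congr [SqZ 𝔟 T] [SqZ 𝔟 T'] (l : T →ₗ[R] T') {g g' : WithConv (C →ₐ[R] T)}
    (h : g = g') (hg : IsNear 𝔟 g) (hg' : IsNear 𝔟 g') : push l g hg = push l g' hg' := by
  subst h
  rfl

/-- pushforward along an algebra homomorphism is composition -/
theorem push_algHom [SqZ 𝔟 T] [SqZ 𝔟 T'] (f : T →ₐ[R] T') (g : WithConv (C →ₐ[R] T))
    (hg : IsNear 𝔟 g) : push f.toLinearMap g hg = toConv (f.comp g.ofConv) := by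
  apply lin_injective
  apply WithConv.ofConv_injective
  ext c
  change algebraMap R T' (counit c) + f (g.ofConv c - algebraMap R T (counit c)) = f (g.ofConv c)
  rw [map_sub, AlgHom.commutes]
  ring

/-- naturality in the source -/
theorem push_comp {T₀ : Type u} [CommRing T₀] [Algebra R T₀] [SqZ 𝔟 T₀] [SqZ 𝔟 T] [SqZ 𝔟 T']
    (l : T →ₗ[R] T') (f : T₀ →ₐ[R] T) (g : WithConv (C →ₐ[R] T₀)) (hg : IsNear 𝔟 g)
    (hfg : IsNear 𝔟 (toConv (f.comp g.ofConv))) :
    push l (toConv (f.comp g.ofConv)) hfg = push (l ∘ₗ f.toLinearMap) g hg := by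
  apply lin_injective
  apply WithConv.ofConv_injective
  ext c
  change algebraMap R T' (counit c) + l (f (g.ofConv c) - algebraMap R T (counit c)) =
    algebraMap R T' (counit c) + l (f (g.ofConv c - algebraMap R T₀ (counit c)))
  rw [map_sub f, AlgHom.commutes]

lemma isNear_comp {T₀ : Type u} [CommRing T₀] [Algebra R T₀] (f : T₀ →ₐ[R] T)
    (g : WithConv (C →ₐ[R] T₀)) (hg : IsNear 𝔟 g) : IsNear 𝔟 (toConv (f.comp g.ofConv)) := by
  intro c
  change f (g.ofConv c) - algebraMap R T (counit c) ∈ nil 𝔟 T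
  have h1 : f (g.ofConv c) - algebraMap R T (counit c) =
      f.toLinearMap (g.ofConv c - algebraMap R T₀ (counit c)) := by
    change _ = f (g.ofConv c - algebraMap R T₀ (counit c))
    rw [map_sub, AlgHom.commutes]
  rw [h1]
  exact map_mem_nil 𝔟 f.toLinearMap (hg c)

end push

end Groth.Agent.H15.MTH
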