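import Groth.Agent.H15.MTH2

/-!
# Pushforward and conjugation
-/

set_option autoImplicit false
set_option linter.style.haveILetI false
universe u
open TensorProduct WithConv Coalgebra

namespace Groth.Agent.H15.MTH

variable {R : Type u} [CommRing R] {𝔟 : Ideal R} {C : Type u} [CommRing C] [HopfAlgebra R C]

section conj
variable {T₀ T T' : Type u} [CommRing T₀] [Algebra R T₀] [CommRing T] [Algebra R T]
  [CommRing T'] [Algebra R T']

/-- composition of a point with an algebra homomorphism -/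
noncomputable def cmp (f : T₀ →ₐ[R] T) (u : WithConv (C →ₐ[R] T₀)) : WithConv (C →ₐ[R] T) :=
  toConv (f.comp u.ofConv)

lemma cmp_mul (f : T₀ →ₐ[R] T) (u v : WithConv (C →ₐ[R] T₀)) :
    cmp f (u * v) = cmp f u * cmp f v := by
  apply WithConv.ofConv_injective
  exact AlgHom.comp_convMul_distrib f u v

lemma cmp_one (f : T₀ →ₐ[R] T) : cmp f (1 : WithConv (C →ₐ[R] T₀)) = 1 := by
  apply WithConv.ofConv_injective
  ext c
  change f ((1 : WithConv (C →ₐ[R] T₀)) c) = (1 : WithConv (C →ₐ[R] T)) c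
  rw [AlgHom.convOne_apply, AlgHom.convOne_apply, AlgHom.commutes]

lemma cmp_inv (f : T₀ →ₐ[R] T) (u : WithConv (C →ₐ[R] T₀)) : cmp f u⁻¹ = (cmp f u)⁻¹ := rfl

lemma cmp_cmp {T₁ : Type u} [CommRing T₁] [Algebra R T₁] (f : T₀ →ₐ[R] T) (f' : T →ₐ[R] T₁)
    (u : WithConv (C →ₐ[R] T₀)) : cmp f' (cmp f u) = cmp (f'.comp f) u := rfl

lemma cmp_id (u : WithConv (C →ₐ[R] T)) : cmp (AlgHom.id R T) u = u := rfl

lemma lin_cmp (f : T₀ →ₐ[R] T) (u : WithConv (C →ₐ[R] T₀)) :
    lin (cmp f u) = toConv (f.toLinearMap ∘ₗ (lin u).ofConv) := rfl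

/-- a linear map which is semilinear over `T₀` commutes with left convolution by `T₀`-points -/
lemma comp_convMul_left (l : T →ₗ[R] T') (j : T₀ →ₐ[R] T) (j' : T₀ →ₐ[R] T')
    (hl : ∀ t s, l (j t * s) = j' t * l s) (a : WithConv (C →ₗ[R] T₀))
    (E : WithConv (C →ₗ[R] T)) :
    (toConv (l ∘ₗ ((toConv (j.toLinearMap ∘ₗ a.ofConv) : WithConv (C →ₗ[R] T)) * E).ofConv) :
      WithConv (C →ₗ[R] T')) =
      toConv (j'.toLinearMap ∘ₗ a.ofConv) * toConv (l ∘ₗ E.ofConv) := by
  apply WithConv.ofConv_injective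
  ext c
  change l (LinearMap.mul' R T (TensorProduct.map (j.toLinearMap ∘ₗ a.ofConv) E.ofConv (comul c))) =
    LinearMap.mul' R T' (TensorProduct.map (j'.toLinearMap ∘ₗ a.ofConv) (l ∘ₗ E.ofConv) (comul c))
  generalize comul (R := R) c = z
  induction z using TensorProduct.induction_on with
  | zero => simp
  | add x y hx hy => rw [map_add, map_add, map_add, map_add, map_add, hx, hy]
  | tmul x y =>
    rw [TensorProduct.map_tmul, TensorProduct.map_tmul, LinearMap.mul'_apply, LinearMap.mul'_apply]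
    exact hl _ _

lemma comp_convMul_right (l : T →ₗ[R] T') (j : T₀ →ₐ[R] T) (j' : T₀ →ₐ[R] T')
    (hl : ∀ t s, l (j t * s) = j' t * l s) (a : WithConv (C →ₗ[R] T₀))
    (E : WithConv (C →ₗ[R] T)) :
    (toConv (l ∘ₗ (E * (toConv (j.toLinearMap ∘ₗ a.ofConv) : WithConv (C →ₗ[R] T))).ofConv) :
      WithConv (C →ₗ[R] T')) =
      toConv (l ∘ₗ E.ofConv) * toConv (j'.toLinearMap ∘ₗ a.ofConv) := by
  apply WithConv.ofConv_injective
  ext c
  change l (LinearMap.mul' R T (TensorProduct.map E.ofConv (j.toLinearMap ∘ₗ a.ofConv) (comul c))) =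
    LinearMap.mul' R T' (TensorProduct.map (l ∘ₗ E.ofConv) (j'.toLinearMap ∘ₗ a.ofConv) (comul c))
  generalize comul (R := R) c = z
  induction z using TensorProduct.induction_on with
  | zero => simp
  | add x y hx hy => rw [map_add, map_add, map_add, map_add, map_add, hx, hy]
  | tmul x y =>
    rw [TensorProduct.map_tmul, TensorProduct.map_tmul, LinearMap.mul'_apply, LinearMap.mul'_apply]
    change l (E.ofConv x * j (a.ofConv y)) = l (E.ofConv x) * j' (a.ofConv y)
    rw [mul_comm, hl, mul_comm]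

/-- pushforward commutes with conjugation by constant points -/
theorem push_conj [SqZ 𝔟 T] [SqZ 𝔟 T'] (l : T →ₗ[R] T') (j : T₀ →ₐ[R] T) (j' : T₀ →ₐ[R] T')
    (hl : ∀ t s, l (j t * s) = j' t * l s) (u : WithConv (C →ₐ[R] T₀))
    (g : WithConv (C →ₐ[R] T)) (hg : IsNear 𝔟 g) :
    push l (cmp j u * g * (cmp j u)⁻¹) (hg.conj _) =
      cmp j' u * push l g hg * (cmp j' u)⁻¹ := by
  apply eq_of_lin_sub_one_eq
  rw [lin_conj_sub_one, lin_push_sub_one, lin_push_sub_one, lin_conj_sub_one, ← cmp_inv, ← cmp_inv,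
    lin_cmp, lin_cmp, lin_cmp, lin_cmp]
  rw [comp_convMul_right l j j' hl, comp_convMul_left l j j' hl]

end conj

end Groth.Agent.H15.MTH
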