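import Groth.Agent.H15.MTH3

/-!
# Natural transformations from points of `A` to points of `C`, on algebras killed by `𝔞`
-/

set_option autoImplicit false
set_option linter.style.haveILetI false
universe u
open TensorProduct WithConv Coalgebra

namespace Groth.Agent.H15.MTH

variable {R : Type u} [CommRing R] (𝔞 : Ideal R)

/-- `𝔞` vanishes in `T` -/
class Kills (T : Type u) [CommRing T] [Algebra R T] : Prop where
  le_ker : 𝔞 ≤ RingHom.ker (algebraMap R T)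

instance kills_quot : Kills 𝔞 (R ⧸ 𝔞) where
  le_ker := by
    intro r hr
    rw [RingHom.mem_ker, Ideal.Quotient.algebraMap_eq, Ideal.Quotient.eq_zero_iff_mem]
    exact hr

instance kills_tensor (T : Type u) [CommRing T] [Algebra R T] [Kills 𝔞 T] (B : Type u)
    [CommRing B] [Algebra R B] : Kills 𝔞 (T ⊗[R] B) where
  le_ker := by
    intro r hr
    have := Kills.le_ker (𝔞 := 𝔞) (T := T) hr
    rw [RingHom.mem_ker] at this ⊢
    rw [Algebra.TensorProduct.algebraMap_apply, this, zero_tmul]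

instance sqZ_tensor (𝔟 : Ideal R) (T : Type u) [CommRing T] [Algebra R T] [SqZ 𝔟 T] (B : Type u)
    [CommRing B] [Algebra R B] : SqZ 𝔟 (T ⊗[R] B) where
  le_ker := by
    intro r hr
    have := SqZ.le_ker (𝔟 := 𝔟) (T := T) hr
    rw [RingHom.mem_ker] at this ⊢
    rw [Algebra.TensorProduct.algebraMap_apply, this, zero_tmul]

lemma sqZ_quot {𝔟 : Ideal R} (h : 𝔟 * 𝔟 ≤ 𝔞) : SqZ 𝔟 (R ⧸ 𝔞) where
  le_ker := by
    intro r hr
    rw [RingHom.mem_ker, Ideal.Quotient.algebraMap_eq, Ideal.Quotient.eq_zero_iff_mem]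
    exact h hr

section lift
variable {A : Type u} [CommRing A] [Algebra R A] {T : Type u} [CommRing T] [Algebra R T]
  [Kills 𝔞 T]

/-- the structure map `R/𝔞 → T` -/
noncomputable def ofQ (T : Type u) [CommRing T] [Algebra R T] [Kills 𝔞 T] : (R ⧸ 𝔞) →ₐ[R] T :=
  Ideal.Quotient.liftₐ 𝔞 (Algebra.ofId R T) (by
    intro r hr
    have := Kills.le_ker (𝔞 := 𝔞) (T := T) hr
    rwa [RingHom.mem_ker] at this)

/-- the map `(R/𝔞) ⊗ A → T` attached to a point of `A` -/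
noncomputable def liftR (h : A →ₐ[R] T) : (R ⧸ 𝔞) ⊗[R] A →ₐ[R] T :=
  Algebra.TensorProduct.lift (ofQ 𝔞 T) h (fun _ _ => Commute.all _ _)

lemma liftR_tmul (h : A →ₐ[R] T) (q : R ⧸ 𝔞) (a : A) :
    liftR 𝔞 h (q ⊗ₜ[R] a) = ofQ 𝔞 T q * h a := by
  unfold liftR
  rw [Algebra.TensorProduct.lift_tmul]

lemma liftR_one_tmul (h : A →ₐ[R] T) (a : A) : liftR 𝔞 h ((1 : R ⧸ 𝔞) ⊗ₜ[R] a) = h a := by
  rw [liftR_tmul, map_one, one_mul]

lemma comp_ofQ {T' : Type u} [CommRing T'] [Algebra R T'] [Kills 𝔞 T'] (f : T →ₐ[R] T') :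
    f.comp (ofQ 𝔞 T) = ofQ 𝔞 T' := by
  apply Ideal.Quotient.algHom_ext
  ext

lemma comp_liftR {T' : Type u} [CommRing T'] [Algebra R T'] [Kills 𝔞 T'] (f : T →ₐ[R] T')
    (h : A →ₐ[R] T) : f.comp (liftR 𝔞 h) = liftR 𝔞 (f.comp h) := by
  apply Algebra.TensorProduct.ext'
  intro q a
  change f (liftR 𝔞 h (q ⊗ₜ[R] a)) = liftR 𝔞 (f.comp h) (q ⊗ₜ[R] a)
  rw [liftR_tmul, liftR_tmul, map_mul, ← comp_ofQ 𝔞 f]
  rfl

lemma ofQ_mk (T : Type u) [CommRing T] [Algebra R T] [Kills 𝔞 T] (r : R) :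
    ofQ 𝔞 T (Ideal.Quotient.mk 𝔞 r) = algebraMap R T r := rfl

lemma liftR_includeRight :
    liftR 𝔞 (Algebra.TensorProduct.includeRight : A →ₐ[R] (R ⧸ 𝔞) ⊗[R] A) =
      AlgHom.id R ((R ⧸ 𝔞) ⊗[R] A) := by
  apply Algebra.TensorProduct.ext'
  intro q a
  rw [liftR_tmul, AlgHom.id_apply]
  obtain ⟨r, rfl⟩ := Ideal.Quotient.mk_surjective q
  rw [ofQ_mk, Algebra.TensorProduct.algebraMap_apply, Algebra.TensorProduct.includeRight_apply,
    Algebra.TensorProduct.tmul_mul_tmul, one_mul, mul_one, Ideal.Quotient.algebraMap_eq]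

end lift

end Groth.Agent.H15.MTH
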