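import Groth.Agent.H15.MTH4

/-!
# Averaging the obstruction cocycle with an invariant integral
-/

set_option autoImplicit false
set_option linter.style.haveILetI false
universe u
open TensorProduct WithConv Coalgebra

namespace Groth.Agent.H15.MTH

variable {R : Type u} [CommRing R] (𝔞 : Ideal R) {𝔟 : Ideal R}
  {A : Type u} [CommRing A] [HopfAlgebra R A] {C : Type u} [CommRing C] [HopfAlgebra R C]
  (ψ : C →ₐ[R] (R ⧸ 𝔞) ⊗[R] A)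

section Psi
variable {T T' : Type u} [CommRing T] [Algebra R T] [Kills 𝔞 T] [CommRing T'] [Algebra R T']
  [Kills 𝔞 T']

/-- the map on points attached to an algebra map `ψ : C → (R/𝔞) ⊗ A` -/
noncomputable def Psi (h : WithConv (A →ₐ[R] T)) : WithConv (C →ₐ[R] T) :=
  toConv ((liftR 𝔞 h.ofConv).comp ψ)

lemma cmp_Psi (f : T →ₐ[R] T') (h : WithConv (A →ₐ[R] T)) :
    cmp f (Psi 𝔞 ψ h) = Psi 𝔞 ψ (cmp f h) := by
  unfold cmp Psi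
  apply congrArg toConv
  rw [WithConv.ofConv_toConv, WithConv.ofConv_toConv, ← AlgHom.comp_assoc, comp_liftR]

lemma Psi_includeRight :
    Psi 𝔞 ψ (toConv (Algebra.TensorProduct.includeRight : A →ₐ[R] (R ⧸ 𝔞) ⊗[R] A)) = toConv ψ := by
  unfold Psi
  rw [WithConv.ofConv_toConv, liftR_includeRight, AlgHom.id_comp]

/-- the obstruction cocycle -/
noncomputable def cc (h h' : WithConv (A →ₐ[R] T)) : WithConv (C →ₐ[R] T) :=
  Psi 𝔞 ψ h * Psi 𝔞 ψ h' * (Psi 𝔞 ψ (h * h'))⁻¹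

lemma cmp_cc (f : T →ₐ[R] T') (h h' : WithConv (A →ₐ[R] T)) :
    cmp f (cc 𝔞 ψ h h') = cc 𝔞 ψ (cmp f h) (cmp f h') := by
  unfold cc
  rw [cmp_mul, cmp_mul, cmp_inv, cmp_Psi, cmp_Psi, cmp_Psi, cmp_mul]

lemma cc_cocycle (h₁ h₂ h₃ : WithConv (A →ₐ[R] T)) :
    cc 𝔞 ψ h₁ h₂ * cc 𝔞 ψ (h₁ * h₂) h₃ =
      (Psi 𝔞 ψ h₁ * cc 𝔞 ψ h₂ h₃ * (Psi 𝔞 ψ h₁)⁻¹) * cc 𝔞 ψ h₁ (h₂ * h₃) := by
  unfold cc
  rw [mul_assoc h₁ h₂ h₃]
  group

end Psi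

section avg
variable {T T' : Type u} [CommRing T] [Algebra R T] [CommRing T'] [Algebra R T']

/-- constant points of `T ⊗ A` -/
noncomputable def up {D : Type u} [CommRing D] [HopfAlgebra R D] (h : WithConv (D →ₐ[R] T)) :
    WithConv (D →ₐ[R] T ⊗[R] A) :=
  cmp (Algebra.TensorProduct.includeLeft : T →ₐ[R] T ⊗[R] A) h

/-- the universal point of `T ⊗ A` -/
noncomputable def xx (T : Type u) [CommRing T] [Algebra R T] : WithConv (A →ₐ[R] T ⊗[R] A) :=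
  toConv Algebra.TensorProduct.includeRight

variable (I₀ : A →ₗ[R] R)

/-- integration along the fibres of `T ⊗ A → T` -/
noncomputable def IT (T : Type u) [CommRing T] [Algebra R T] : T ⊗[R] A →ₗ[R] T :=
  (TensorProduct.rid R T).toLinearMap ∘ₗ (LinearMap.lTensor T I₀)

lemma IT_tmul (t : T) (a : A) : IT I₀ T (t ⊗ₜ[R] a) = I₀ a • t := by
  unfold IT
  rw [LinearMap.comp_apply, LinearMap.lTensor_tmul]
  exact TensorProduct.rid_tmul _ _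

lemma IT_mul (t : T) (s : T ⊗[R] A) :
    IT I₀ T ((Algebra.TensorProduct.includeLeft : T →ₐ[R] T ⊗[R] A) t * s) =
      (AlgHom.id R T) t * IT I₀ T s := by
  induction s using TensorProduct.induction_on with
  | zero => simp
  | add x y hx hy => rw [mul_add, map_add, hx, hy, map_add, mul_add]
  | tmul t' a =>
    rw [Algebra.TensorProduct.includeLeft_apply, Algebra.TensorProduct.tmul_mul_tmul, one_mul,
      IT_tmul, IT_tmul, AlgHom.id_apply, mul_smul_comm]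

lemma IT_comp_includeLeft (h1 : I₀ 1 = 1) :
    IT I₀ T ∘ₗ (Algebra.TensorProduct.includeLeft : T →ₐ[R] T ⊗[R] A).toLinearMap =
      (AlgHom.id R T).toLinearMap := by
  ext t
  change IT I₀ T (t ⊗ₜ[R] (1 : A)) = t
  rw [IT_tmul, h1, one_smul]

lemma IT_natural (f : T →ₐ[R] T') :
    f.toLinearMap ∘ₗ IT I₀ T =
      IT I₀ T' ∘ₗ (Algebra.TensorProduct.map f (AlgHom.id R A)).toLinearMap := by
  ext t a
  change f (IT I₀ T (t ⊗ₜ[R] a)) = IT I₀ T' (Algebra.TensorProduct.map f (AlgHom.id R A) (t ⊗ₜ[R] a))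
  rw [Algebra.TensorProduct.map_tmul, IT_tmul, IT_tmul, map_smul, AlgHom.id_apply]

end avg

section beta
variable (I₀ : A →ₗ[R] R)
  (hnear : ∀ (T : Type u) [CommRing T] [Algebra R T] [Kills 𝔞 T] [SqZ 𝔟 T]
    (h h' : WithConv (A →ₐ[R] T)), IsNear 𝔟 (cc 𝔞 ψ h h'))
variable {T T' : Type u} [CommRing T] [Algebra R T] [Kills 𝔞 T] [SqZ 𝔟 T]
  [CommRing T'] [Algebra R T'] [Kills 𝔞 T'] [SqZ 𝔟 T']

/-- the average of the obstruction cocycle over the second variable -/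
noncomputable def beta (h : WithConv (A →ₐ[R] T)) : WithConv (C →ₐ[R] T) :=
  push (IT I₀ T) (cc 𝔞 ψ (up h) (xx T)) (hnear (T ⊗[R] A) (up h) (xx T))

lemma up_mul {D : Type u} [CommRing D] [HopfAlgebra R D] (h h' : WithConv (D →ₐ[R] T)) :
    up (A := A) (h * h') = up h * up h' := cmp_mul _ _ _

omit [SqZ 𝔟 T] in
lemma Psi_up (h : WithConv (A →ₐ[R] T)) : Psi 𝔞 ψ (up (A := A) h) = up (Psi 𝔞 ψ h) :=
  (cmp_Psi 𝔞 ψ _ h).symm

omit [SqZ 𝔟 T] in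
lemma cc_up (h h' : WithConv (A →ₐ[R] T)) :
    cc 𝔞 ψ (up (A := A) h) (up h') = up (cc 𝔞 ψ h h') :=
  (cmp_cc 𝔞 ψ _ h h').symm

omit [Kills 𝔞 T] in
lemma push_IT_up (h1 : I₀ 1 = 1) (g : WithConv (C →ₐ[R] T)) (hg : IsNear 𝔟 g)
    (hg' : IsNear 𝔟 (up (A := A) g)) : push (IT I₀ T) (up g) hg' = g := by
  have e := push_comp (IT I₀ T) (Algebra.TensorProduct.includeLeft : T →ₐ[R] T ⊗[R] A) g hg hg'
  have e2 : push (IT I₀ T) (up g) hg' =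
      push (IT I₀ T ∘ₗ (Algebra.TensorProduct.includeLeft : T →ₐ[R] T ⊗[R] A).toLinearMap) g hg := e
  rw [e2]
  have e3 : push (IT I₀ T ∘ₗ (Algebra.TensorProduct.includeLeft : T →ₐ[R] T ⊗[R] A).toLinearMap)
      g hg = push (AlgHom.id R T).toLinearMap g hg := by
    congr 1
    exact IT_comp_includeLeft I₀ h1
  rw [e3, push_algHom]
  rfl

omit [Kills 𝔞 T] in
lemma push_IT_conj (u : WithConv (C →ₐ[R] T)) (g : WithConv (C →ₐ[R] T ⊗[R] A))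
    (hg : IsNear 𝔟 g) :
    push (IT I₀ T) (up u * g * (up u)⁻¹) (hg.conj _) = u * push (IT I₀ T) g hg * u⁻¹ :=
  push_conj (IT I₀ T) (Algebra.TensorProduct.includeLeft : T →ₐ[R] T ⊗[R] A) (AlgHom.id R T)
    (IT_mul I₀) u g hg

/-- translation by a point -/
noncomputable def tau (h₂ : WithConv (A →ₐ[R] T)) : T ⊗[R] A →ₐ[R] T ⊗[R] A :=
  Algebra.TensorProduct.lift (Algebra.TensorProduct.includeLeft : T →ₐ[R] T ⊗[R] A)
    (up h₂ * xx T).ofConv (fun _ _ => Commute.all _ _)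

omit [Kills 𝔞 T] [SqZ 𝔟 T] in
lemma cmp_tau_up {D : Type u} [CommRing D] [HopfAlgebra R D] (h₂ : WithConv (A →ₐ[R] T))
    (h : WithConv (D →ₐ[R] T)) : cmp (tau h₂) (up (A := A) h) = up h := by
  apply WithConv.ofConv_injective
  apply AlgHom.ext
  intro d
  change tau h₂ (h.ofConv d ⊗ₜ[R] (1 : A)) = h.ofConv d ⊗ₜ[R] (1 : A)
  unfold tau
  rw [Algebra.TensorProduct.lift_tmul, map_one, mul_one]
  rfl

omit [Kills 𝔞 T] [SqZ 𝔟 T] in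
lemma cmp_tau_xx (h₂ : WithConv (A →ₐ[R] T)) : cmp (tau h₂) (xx T) = up h₂ * xx T := by
  apply WithConv.ofConv_injective
  apply AlgHom.ext
  intro a
  change tau h₂ ((1 : T) ⊗ₜ[R] a) = _
  unfold tau
  rw [Algebra.TensorProduct.lift_tmul, map_one, one_mul]

omit [Kills 𝔞 T] [SqZ 𝔟 T] in
lemma IT_up_mul_xx
    (hinv : ∀ a, TensorProduct.rid R A (I₀.lTensor A (comul a)) = I₀ a • (1 : A))
    (h₂ : WithConv (A →ₐ[R] T)) (a : A) :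
    IT I₀ T ((up h₂ * xx T).ofConv a) = I₀ a • (1 : T) := by
  have key : ∀ z : A ⊗[R] A,
      IT I₀ T (LinearMap.mul' R (T ⊗[R] A)
        (TensorProduct.map (lin (up (A := A) h₂)).ofConv (lin (xx T)).ofConv z)) =
      h₂.ofConv (TensorProduct.rid R A (I₀.lTensor A z)) := by
    intro z
    induction z using TensorProduct.induction_on with
    | zero => simp
    | add x y hx hy => simp only [map_add, hx, hy]
    | tmul a₁ a₂ =>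
      rw [TensorProduct.map_tmul, LinearMap.mul'_apply, LinearMap.lTensor_tmul,
        TensorProduct.rid_tmul, map_smul]
      change IT I₀ T ((h₂.ofConv a₁ ⊗ₜ[R] (1 : A)) * ((1 : T) ⊗ₜ[R] a₂)) = _
      rw [Algebra.TensorProduct.tmul_mul_tmul, mul_one, one_mul, IT_tmul]
  have e : (up h₂ * xx T).ofConv a = LinearMap.mul' R (T ⊗[R] A)
      (TensorProduct.map (lin (up (A := A) h₂)).ofConv (lin (xx T)).ofConv (comul a)) := by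
    change (lin (up h₂ * xx T)).ofConv a = _
    rw [lin_mul]
    rfl
  rw [e, key, hinv, map_smul, map_one]

omit [Kills 𝔞 T] [SqZ 𝔟 T] in
lemma IT_comp_tau
    (hinv : ∀ a, TensorProduct.rid R A (I₀.lTensor A (comul a)) = I₀ a • (1 : A))
    (h₂ : WithConv (A →ₐ[R] T)) :
    IT I₀ T ∘ₗ (tau h₂).toLinearMap = IT I₀ T := by
  ext t a
  change IT I₀ T (tau h₂ (t ⊗ₜ[R] a)) = IT I₀ T (t ⊗ₜ[R] a)
  unfold tau
  rw [Algebra.TensorProduct.lift_tmul, IT_mul, IT_up_mul_xx I₀ hinv, IT_tmul, AlgHom.id_apply,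
    mul_smul_comm, mul_one]

/-- the key identity: the averaged cochain bounds the obstruction cocycle -/
theorem cc_mul_beta (h1 : I₀ 1 = 1)
    (hinv : ∀ a, TensorProduct.rid R A (I₀.lTensor A (comul a)) = I₀ a • (1 : A))
    (h₁ h₂ : WithConv (A →ₐ[R] T)) :
    cc 𝔞 ψ h₁ h₂ * beta 𝔞 ψ I₀ hnear (h₁ * h₂) =
      (Psi 𝔞 ψ h₁ * beta 𝔞 ψ I₀ hnear h₂ * (Psi 𝔞 ψ h₁)⁻¹) * beta 𝔞 ψ I₀ hnear h₁ := by
  have hc := cc_cocycle 𝔞 ψ (up (A := A) h₁) (up h₂) (xx T)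
  have n1 : IsNear 𝔟 (cc 𝔞 ψ (up (A := A) h₁) (up h₂)) := hnear _ _ _
  have n2 : IsNear 𝔟 (cc 𝔞 ψ (up (A := A) h₁ * up h₂) (xx T)) := hnear _ _ _
  have n3 : IsNear 𝔟 (cc 𝔞 ψ (up (A := A) h₂) (xx T)) := hnear _ _ _
  have n4 : IsNear 𝔟 (cc 𝔞 ψ (up (A := A) h₁) (up h₂ * xx T)) := hnear _ _ _
  have e1 : push (IT I₀ T) (cc 𝔞 ψ (up (A := A) h₁) (up h₂) * cc 𝔞 ψ (up h₁ * up h₂) (xx T))
      (n1.mul n2) =
      push (IT I₀ T) (Psi 𝔞 ψ (up (A := A) h₁) * cc 𝔞 ψ (up h₂) (xx T) * (Psi 𝔞 ψ (up h₁))⁻¹ *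
        cc 𝔞 ψ (up h₁) (up h₂ * xx T)) ((n3.conj _).mul n4) := push_congr _ hc _ _
  rw [push_mul (IT I₀ T) _ _ n1 n2, push_mul (IT I₀ T) _ _ (n3.conj _) n4] at e1
  -- first factor
  have f1 : push (IT I₀ T) (cc 𝔞 ψ (up (A := A) h₁) (up h₂)) n1 = cc 𝔞 ψ h₁ h₂ := by
    have n1' : IsNear 𝔟 (up (A := A) (cc 𝔞 ψ h₁ h₂)) := by rw [← cc_up]; exact n1
    rw [push_congr (IT I₀ T) (cc_up 𝔞 ψ h₁ h₂) n1 n1']
    exact push_IT_up I₀ h1 _ (hnear _ _ _) n1'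
  -- second factor
  have f2 : push (IT I₀ T) (cc 𝔞 ψ (up (A := A) h₁ * up h₂) (xx T)) n2 =
      beta 𝔞 ψ I₀ hnear (h₁ * h₂) := by
    unfold beta
    apply push_congr
    rw [up_mul]
  -- third factor
  have f3 : push (IT I₀ T)
      (Psi 𝔞 ψ (up (A := A) h₁) * cc 𝔞 ψ (up h₂) (xx T) * (Psi 𝔞 ψ (up h₁))⁻¹) (n3.conj _) =
      Psi 𝔞 ψ h₁ * beta 𝔞 ψ I₀ hnear h₂ * (Psi 𝔞 ψ h₁)⁻¹ := by
    have e : Psi 𝔞 ψ (up (A := A) h₁) * cc 𝔞 ψ (up h₂) (xx T) * (Psi 𝔞 ψ (up h₁))⁻¹ =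
        up (Psi 𝔞 ψ h₁) * cc 𝔞 ψ (up h₂) (xx T) * (up (Psi 𝔞 ψ h₁))⁻¹ := by rw [Psi_up]
    rw [push_congr (IT I₀ T) e (n3.conj _) (n3.conj _)]
    exact push_IT_conj I₀ _ _ n3
  -- fourth factor
  have f4 : push (IT I₀ T) (cc 𝔞 ψ (up (A := A) h₁) (up h₂ * xx T)) n4 =
      beta 𝔞 ψ I₀ hnear h₁ := by
    have n5 : IsNear 𝔟 (cc 𝔞 ψ (up (A := A) h₁) (xx T)) := hnear _ _ _
    have e : cc 𝔞 ψ (up (A := A) h₁) (up h₂ * xx T) =
        toConv ((tau h₂).comp (cc 𝔞 ψ (up (A := A) h₁) (xx T)).ofConv) := by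
      change _ = cmp (tau h₂) (cc 𝔞 ψ (up (A := A) h₁) (xx T))
      rw [cmp_cc, cmp_tau_up, cmp_tau_xx]
    have n6 : IsNear 𝔟 (toConv ((tau h₂).comp (cc 𝔞 ψ (up (A := A) h₁) (xx T)).ofConv)) := by
      rw [← e]; exact n4
    rw [push_congr (IT I₀ T) e n4 n6, push_comp (IT I₀ T) (tau h₂) _ n5 n6]
    unfold beta
    congr 1
    exact IT_comp_tau I₀ hinv h₂
  rw [f1, f2, f3, f4] at e1
  exact e1

/-- the corrected map on points -/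
noncomputable def Psi' (h : WithConv (A →ₐ[R] T)) : WithConv (C →ₐ[R] T) :=
  (beta 𝔞 ψ I₀ hnear h)⁻¹ * Psi 𝔞 ψ h

theorem Psi'_mul (h1 : I₀ 1 = 1)
    (hinv : ∀ a, TensorProduct.rid R A (I₀.lTensor A (comul a)) = I₀ a • (1 : A))
    (h₁ h₂ : WithConv (A →ₐ[R] T)) :
    Psi' 𝔞 ψ I₀ hnear (h₁ * h₂) = Psi' 𝔞 ψ I₀ hnear h₁ * Psi' 𝔞 ψ I₀ hnear h₂ := by
  have hs := cc_mul_beta 𝔞 ψ I₀ hnear h1 hinv h₁ h₂
  unfold Psi'
  unfold cc at hs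
  generalize beta 𝔞 ψ I₀ hnear (h₁ * h₂) = b12 at hs ⊢
  generalize beta 𝔞 ψ I₀ hnear h₁ = b1 at hs ⊢
  generalize beta 𝔞 ψ I₀ hnear h₂ = b2 at hs ⊢
  generalize Psi 𝔞 ψ (h₁ * h₂) = P12 at hs ⊢
  generalize Psi 𝔞 ψ h₁ = P1 at hs ⊢
  generalize Psi 𝔞 ψ h₂ = P2 at hs ⊢
  have e0 : b12⁻¹ * P12 = (P12⁻¹ * b12)⁻¹ := by group
  have e : P12⁻¹ * b12 = P2⁻¹ * P1⁻¹ * (P1 * P2 * P12⁻¹ * b12) := by group
  rw [e0, e, hs]
  group

omit [Kills 𝔞 T] in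
lemma cmp_push {T₁ T₂ : Type u} [CommRing T₁] [Algebra R T₁] [SqZ 𝔟 T₁] [CommRing T₂]
    [Algebra R T₂] [SqZ 𝔟 T₂] (f : T₁ →ₐ[R] T₂) (l : T →ₗ[R] T₁) (g : WithConv (C →ₐ[R] T))
    (hg : IsNear 𝔟 g) : cmp f (push l g hg) = push (f.toLinearMap ∘ₗ l) g hg := by
  apply lin_injective
  apply WithConv.ofConv_injective
  ext c
  change f (algebraMap R T₁ (counit c) + l (g.ofConv c - algebraMap R T (counit c))) =
    algebraMap R T₂ (counit c) + f (l (g.ofConv c - algebraMap R T (counit c)))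
  rw [map_add, AlgHom.commutes]

omit [Kills 𝔞 T] [SqZ 𝔟 T] [Kills 𝔞 T'] [SqZ 𝔟 T'] in
lemma cmp_map_up {D : Type u} [CommRing D] [HopfAlgebra R D] (f : T →ₐ[R] T')
    (h : WithConv (D →ₐ[R] T)) :
    cmp (Algebra.TensorProduct.map f (AlgHom.id R A)) (up (A := A) h) = up (cmp f h) := by
  apply WithConv.ofConv_injective
  apply AlgHom.ext
  intro d
  change Algebra.TensorProduct.map f (AlgHom.id R A) (h.ofConv d ⊗ₜ[R] (1 : A)) =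
    f (h.ofConv d) ⊗ₜ[R] (1 : A)
  rw [Algebra.TensorProduct.map_tmul, map_one]

omit [Kills 𝔞 T] [SqZ 𝔟 T] [Kills 𝔞 T'] [SqZ 𝔟 T'] in
lemma cmp_map_xx (f : T →ₐ[R] T') :
    cmp (Algebra.TensorProduct.map f (AlgHom.id R A)) (xx (A := A) T) = xx T' := by
  apply WithConv.ofConv_injective
  apply AlgHom.ext
  intro a
  change Algebra.TensorProduct.map f (AlgHom.id R A) ((1 : T) ⊗ₜ[R] a) = (1 : T') ⊗ₜ[R] a
  rw [Algebra.TensorProduct.map_tmul, map_one, AlgHom.id_apply]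

lemma cmp_beta (f : T →ₐ[R] T') (h : WithConv (A →ₐ[R] T)) :
    cmp f (beta 𝔞 ψ I₀ hnear h) = beta 𝔞 ψ I₀ hnear (cmp f h) := by
  unfold beta
  rw [cmp_push]
  have n1 : IsNear 𝔟 (cc 𝔞 ψ (up (A := A) h) (xx T)) := hnear _ _ _
  have n2 : IsNear 𝔟 (toConv ((Algebra.TensorProduct.map f (AlgHom.id R A)).comp
      (cc 𝔞 ψ (up (A := A) h) (xx T)).ofConv)) := isNear_comp _ _ n1
  have e1 : push (f.toLinearMap ∘ₗ IT I₀ T) (cc 𝔞 ψ (up (A := A) h) (xx T)) n1 =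
      push (IT I₀ T' ∘ₗ (Algebra.TensorProduct.map f (AlgHom.id R A)).toLinearMap)
        (cc 𝔞 ψ (up (A := A) h) (xx T)) n1 := by
    congr 1
    exact IT_natural I₀ f
  rw [e1, ← push_comp (IT I₀ T') (Algebra.TensorProduct.map f (AlgHom.id R A)) _ n1 n2]
  apply push_congr
  change cmp (Algebra.TensorProduct.map f (AlgHom.id R A)) (cc 𝔞 ψ (up (A := A) h) (xx T)) = _
  rw [cmp_cc, cmp_map_up, cmp_map_xx]

lemma cmp_Psi' (f : T →ₐ[R] T') (h : WithConv (A →ₐ[R] T)) :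
    cmp f (Psi' 𝔞 ψ I₀ hnear h) = Psi' 𝔞 ψ I₀ hnear (cmp f h) := by
  unfold Psi'
  rw [cmp_mul, cmp_inv, cmp_beta, cmp_Psi]

end beta

section final

lemma sqZ_of_kills (hle : 𝔟 * 𝔟 ≤ 𝔞) (T : Type u) [CommRing T] [Algebra R T] [Kills 𝔞 T] :
    SqZ 𝔟 T :=
  ⟨hle.trans Kills.le_ker⟩

omit [HopfAlgebra R C] in
lemma cmp_liftR_includeRight {T : Type u} [CommRing T] [Algebra R T] [Kills 𝔞 T]
    (h : WithConv (A →ₐ[R] T)) :
    cmp (liftR 𝔞 h.ofConv)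
      (toConv (Algebra.TensorProduct.includeRight : A →ₐ[R] (R ⧸ 𝔞) ⊗[R] A)) = h := by
  apply WithConv.ofConv_injective
  apply AlgHom.ext
  intro a
  change liftR 𝔞 h.ofConv ((1 : R ⧸ 𝔞) ⊗ₜ[R] a) = h.ofConv a
  rw [liftR_one_tmul]

/-- **Correction of a lift**: if the obstruction cocycle of `ψ` is near the identity, then `ψ`
can be corrected by elements near the identity to a map multiplicative on points. -/
theorem exists_corrected (hle : 𝔟 * 𝔟 ≤ 𝔞) (I₀ : A →ₗ[R] R) (h1 : I₀ 1 = 1)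
    (hinv : ∀ a, TensorProduct.rid R A (I₀.lTensor A (comul a)) = I₀ a • (1 : A))
    (hnear : ∀ (T : Type u) [CommRing T] [Algebra R T] [Kills 𝔞 T] [SqZ 𝔟 T]
      (h h' : WithConv (A →ₐ[R] T)), IsNear 𝔟 (cc 𝔞 ψ h h')) :
    ∃ θ : C →ₐ[R] (R ⧸ 𝔞) ⊗[R] A,
      (∀ (T : Type u) [CommRing T] [Algebra R T] [Kills 𝔞 T] (h h' : WithConv (A →ₐ[R] T)),
        Psi 𝔞 θ (h * h') = Psi 𝔞 θ h * Psi 𝔞 θ h') ∧
      (∀ (T : Type u) [CommRing T] [Algebra R T] [Kills 𝔞 T] [SqZ 𝔟 T]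
        (h : WithConv (A →ₐ[R] T)),
        ∃ b : WithConv (C →ₐ[R] T), IsNear 𝔟 b ∧ Psi 𝔞 θ h = b * Psi 𝔞 ψ h) := by
  haveI : SqZ 𝔟 ((R ⧸ 𝔞) ⊗[R] A) := sqZ_of_kills 𝔞 hle _
  let x₀ : WithConv (A →ₐ[R] (R ⧸ 𝔞) ⊗[R] A) := toConv Algebra.TensorProduct.includeRight
  let θ : C →ₐ[R] (R ⧸ 𝔞) ⊗[R] A := (Psi' 𝔞 ψ I₀ hnear x₀).ofConv
  have key : ∀ (T : Type u) [CommRing T] [Algebra R T] [Kills 𝔞 T] [SqZ 𝔟 T]
      (h : WithConv (A →ₐ[R] T)), Psi 𝔞 θ h = Psi' 𝔞 ψ I₀ hnear h := by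
    intro T _ _ _ _ h
    change cmp (liftR 𝔞 h.ofConv) (Psi' 𝔞 ψ I₀ hnear x₀) = _
    rw [cmp_Psi', cmp_liftR_includeRight]
  refine ⟨θ, ?_, ?_⟩
  · intro T _ _ _ h h'
    haveI : SqZ 𝔟 T := sqZ_of_kills 𝔞 hle T
    rw [key, key, key]
    exact Psi'_mul 𝔞 ψ I₀ hnear h1 hinv h h'
  · intro T _ _ _ _ h
    refine ⟨(beta 𝔞 ψ I₀ hnear h)⁻¹, ?_, ?_⟩
    · exact (isNear_push _ _ _).inv
    · rw [key]
      rfl

end final

end Groth.Agent.H15.MTH
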