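import Groth.Agent.H15.MTH5
import Mathlib.RingTheory.Smooth.Basic

/-!
# One step of the lifting of homomorphisms from a group with an invariant integral to a smooth
affine group, along a square-zero thickening
-/

set_option autoImplicit false
set_option linter.style.haveILetI false
universe u
open TensorProduct WithConv Coalgebra

namespace Groth.Agent.H15.MTH

variable {R : Type u} [CommRing R] (𝔞 𝔟 : Ideal R)
  {A : Type u} [CommRing A] [HopfAlgebra R A] {C : Type u} [CommRing C] [HopfAlgebra R C]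

section quot
variable (T : Type u) [CommRing T] [Algebra R T]

instance kills_quotient [Kills 𝔞 T] (J : Ideal T) : Kills 𝔞 (T ⧸ J) where
  le_ker := by
    intro r hr
    have := Kills.le_ker (𝔞 := 𝔞) (T := T) hr
    rw [RingHom.mem_ker] at this ⊢
    rw [IsScalarTower.algebraMap_apply R T (T ⧸ J), this, map_zero]

instance kills_nilQuot : Kills 𝔟 (T ⧸ nil 𝔟 T) where
  le_ker := by
    intro r hr
    rw [RingHom.mem_ker, IsScalarTower.algebraMap_apply R T (T ⧸ nil 𝔟 T),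
      Ideal.Quotient.algebraMap_eq, Ideal.Quotient.eq_zero_iff_mem]
    exact Ideal.mem_map_of_mem _ hr

lemma nil_eq_bot [Kills 𝔟 T] : nil 𝔟 T = ⊥ := by
  unfold nil
  rw [eq_bot_iff, Ideal.map_le_iff_le_comap]
  intro r hr
  have := Kills.le_ker (𝔞 := 𝔟) (T := T) hr
  rw [RingHom.mem_ker] at this
  rw [Ideal.mem_comap, this]
  exact Ideal.zero_mem _

variable {T}

lemma isNear_iff_cmp_mk (g : WithConv (C →ₐ[R] T)) :
    IsNear 𝔟 g ↔ cmp (Ideal.Quotient.mkₐ R (nil 𝔟 T)) g = 1 := by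
  rw [isNear_iff]
  constructor
  · intro h
    apply WithConv.ofConv_injective
    apply AlgHom.ext
    intro c
    change Ideal.Quotient.mk (nil 𝔟 T) (g.ofConv c) = (1 : WithConv (C →ₐ[R] T ⧸ nil 𝔟 T)) c
    rw [AlgHom.convOne_apply, IsScalarTower.algebraMap_apply R T (T ⧸ nil 𝔟 T),
      Ideal.Quotient.algebraMap_eq, Ideal.Quotient.eq]
    exact h c
  · intro h c
    have h2 := congrArg (fun f => f.ofConv c) h
    change Ideal.Quotient.mk (nil 𝔟 T) (g.ofConv c) = (1 : WithConv (C →ₐ[R] T ⧸ nil 𝔟 T)) c at h2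
    rw [AlgHom.convOne_apply, IsScalarTower.algebraMap_apply R T (T ⧸ nil 𝔟 T),
      Ideal.Quotient.algebraMap_eq, Ideal.Quotient.eq] at h2
    exact h2

lemma eq_one_of_isNear_of_kills [Kills 𝔟 T] {g : WithConv (C →ₐ[R] T)} (hg : IsNear 𝔟 g) :
    g = 1 := by
  apply WithConv.ofConv_injective
  apply AlgHom.ext
  intro c
  have h := hg c
  rw [nil_eq_bot 𝔟 T] at h
  change g.ofConv c - algebraMap R T (counit c) ∈ (⊥ : Ideal T) at h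
  rw [Ideal.mem_bot, sub_eq_zero] at h
  rw [h]
  exact (AlgHom.convOne_apply (R := R) (A := T) (C := C) c).symm

end quot

section step

/-- multiplicativity on points of an algebra map `C → (R/𝔠) ⊗ A` -/
def IsHomMod (𝔠 : Ideal R) (θ : C →ₐ[R] (R ⧸ 𝔠) ⊗[R] A) : Prop :=
  ∀ (T : Type u) [CommRing T] [Algebra R T] [Kills 𝔠 T] (h h' : WithConv (A →ₐ[R] T)),
    Psi 𝔠 θ (h * h') = Psi 𝔠 θ h * Psi 𝔠 θ h'

variable {𝔞 𝔟}

lemma nil_pow_two (T : Type u) [CommRing T] [Algebra R T] [SqZ 𝔟 T] : nil 𝔟 T ^ 2 = ⊥ := by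
  rw [eq_bot_iff, pow_two, Ideal.mul_le]
  intro x hx y hy
  rw [Ideal.mem_bot]
  exact nil_mul_nil 𝔟 T hx hy

/-- **The step**: lifting a homomorphism modulo `𝔟` to a homomorphism modulo `𝔞`, when
`𝔟² ⊆ 𝔞 ⊆ 𝔟`, the target group is smooth and the source has an invariant integral. -/
theorem step [Algebra.FormallySmooth R C] (hle : 𝔟 * 𝔟 ≤ 𝔞)
    (I₀ : A →ₗ[R] R) (h1 : I₀ 1 = 1)
    (hinv : ∀ a, TensorProduct.rid R A (I₀.lTensor A (comul a)) = I₀ a • (1 : A))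
    (θb : C →ₐ[R] (R ⧸ 𝔟) ⊗[R] A) (hθb : IsHomMod 𝔟 θb) :
    ∃ θa : C →ₐ[R] (R ⧸ 𝔞) ⊗[R] A, IsHomMod 𝔞 θa ∧
      ∀ (T : Type u) [CommRing T] [Algebra R T] [Kills 𝔞 T] [Kills 𝔟 T]
        (h : WithConv (A →ₐ[R] T)), Psi 𝔞 θa h = Psi 𝔟 θb h := by
  -- the universal algebra killed by `𝔞` and its reduction modulo `𝔟`
  haveI : SqZ 𝔟 ((R ⧸ 𝔞) ⊗[R] A) := sqZ_of_kills 𝔞 hle _
  let κ : (R ⧸ 𝔟) ⊗[R] A →ₐ[R] ((R ⧸ 𝔞) ⊗[R] A) ⧸ nil 𝔟 ((R ⧸ 𝔞) ⊗[R] A) :=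
    liftR 𝔟 ((Ideal.Quotient.mkₐ R (nil 𝔟 ((R ⧸ 𝔞) ⊗[R] A))).comp
      Algebra.TensorProduct.includeRight)
  have hsurj : Function.Surjective (Ideal.Quotient.mkₐ R (nil 𝔟 ((R ⧸ 𝔞) ⊗[R] A))) :=
    Ideal.Quotient.mkₐ_surjective R _
  have hnil : IsNilpotent (RingHom.ker
      (Ideal.Quotient.mkₐ R (nil 𝔟 ((R ⧸ 𝔞) ⊗[R] A)) :
        (R ⧸ 𝔞) ⊗[R] A →+* ((R ⧸ 𝔞) ⊗[R] A) ⧸ nil 𝔟 ((R ⧸ 𝔞) ⊗[R] A))) := by
    refine ⟨2, ?_⟩
    have : RingHom.ker (Ideal.Quotient.mkₐ R (nil 𝔟 ((R ⧸ 𝔞) ⊗[R] A)) :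
        (R ⧸ 𝔞) ⊗[R] A →+* ((R ⧸ 𝔞) ⊗[R] A) ⧸ nil 𝔟 ((R ⧸ 𝔞) ⊗[R] A)) =
        nil 𝔟 ((R ⧸ 𝔞) ⊗[R] A) := Ideal.mk_ker
    rw [this]
    exact nil_pow_two _
  let ψ : C →ₐ[R] (R ⧸ 𝔞) ⊗[R] A :=
    Algebra.FormallySmooth.liftOfSurjective (κ.comp θb) _ hsurj hnil
  have hψ : (Ideal.Quotient.mkₐ R (nil 𝔟 ((R ⧸ 𝔞) ⊗[R] A))).comp ψ = κ.comp θb :=
    Algebra.FormallySmooth.comp_liftOfSurjective _ _ hsurj hnil
  -- on algebras killed by `𝔟`, `ψ` induces the same map on points as `θb`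
  have claimA : ∀ (T : Type u) [CommRing T] [Algebra R T] [Kills 𝔞 T] [Kills 𝔟 T]
      (h : WithConv (A →ₐ[R] T)), Psi 𝔞 ψ h = Psi 𝔟 θb h := by
    intro T _ _ _ _ h
    have hL : ∀ x ∈ nil 𝔟 ((R ⧸ 𝔞) ⊗[R] A), liftR 𝔞 h.ofConv x = 0 := by
      intro x hx
      have := map_mem_nil 𝔟 (liftR 𝔞 h.ofConv).toLinearMap hx
      rw [nil_eq_bot 𝔟 T] at this
      exact this
    let lam : ((R ⧸ 𝔞) ⊗[R] A) ⧸ nil 𝔟 ((R ⧸ 𝔞) ⊗[R] A) →ₐ[R] T :=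
      Ideal.Quotient.liftₐ _ (liftR 𝔞 h.ofConv) hL
    have hlam : lam.comp (Ideal.Quotient.mkₐ R _) = liftR 𝔞 h.ofConv := by
      apply AlgHom.ext
      intro x
      rfl
    have hlk : lam.comp κ = liftR 𝔟 h.ofConv := by
      change lam.comp (liftR 𝔟 _) = _
      rw [comp_liftR, ← AlgHom.comp_assoc, hlam]
      congr 1
      apply AlgHom.ext
      intro a
      change liftR 𝔞 h.ofConv ((1 : R ⧸ 𝔞) ⊗ₜ[R] a) = h.ofConv a
      rw [liftR_one_tmul]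
    unfold Psi
    apply congrArg toConv
    rw [← hlam, AlgHom.comp_assoc, hψ, ← AlgHom.comp_assoc, hlk]
  -- the obstruction cocycle is near the identity
  have hnear : ∀ (T : Type u) [CommRing T] [Algebra R T] [Kills 𝔞 T] [SqZ 𝔟 T]
      (h h' : WithConv (A →ₐ[R] T)), IsNear 𝔟 (cc 𝔞 ψ h h') := by
    intro T _ _ _ _ h h'
    rw [isNear_iff_cmp_mk, cmp_cc]
    unfold cc
    rw [claimA, claimA, claimA, hθb, mul_inv_cancel]
  obtain ⟨θa, hmul, hcorr⟩ := exists_corrected 𝔞 ψ hle I₀ h1 hinv hnear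
  refine ⟨θa, hmul, ?_⟩
  intro T _ _ _ _ h
  haveI : SqZ 𝔟 T := sqZ_of_kills 𝔞 hle T
  obtain ⟨b, hb, hb2⟩ := hcorr T h
  rw [hb2, eq_one_of_isNear_of_kills 𝔟 hb, one_mul, claimA]

end step

end Groth.Agent.H15.MTH
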