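import Groth.Agent.H15.MTH6

/-!
# Lifting homomorphisms through all infinitesimal neighbourhoods
-/

set_option autoImplicit false
set_option linter.style.haveILetI false
universe u
open TensorProduct WithConv Coalgebra

namespace Groth.Agent.H15.MTH

/-- dependent choice for sequences in a varying family of types -/
theorem exists_dep_seq {X : ℕ → Type*} (P : ∀ n, X n → X (n + 1) → Prop) (x₀ : X 0)
    (hnext : ∀ n x, ∃ y, P n x y) :
    ∃ f : ∀ n, X n, f 0 = x₀ ∧ ∀ n, P n (f n) (f (n + 1)) :=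
  ⟨fun n => Nat.rec x₀ (fun n x => Classical.choose (hnext n x)) n, rfl,
    fun n => Classical.choose_spec (hnext n _)⟩

variable {R : Type u} [CommRing R] (I : Ideal R)
  {A : Type u} [CommRing A] [HopfAlgebra R A] {C : Type u} [CommRing C] [HopfAlgebra R C]

lemma kills_pow (T : Type u) [CommRing T] [Algebra R T] [Kills I T] (k : ℕ) (hk : k ≠ 0) :
    Kills (I ^ k) T :=
  ⟨(Ideal.pow_le_self hk).trans Kills.le_ker⟩

lemma kills_of_eq_bot {𝔠 : Ideal R} (h : 𝔠 = ⊥) (T : Type u) [CommRing T] [Algebra R T] :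
    Kills 𝔠 T :=
  ⟨by rw [h]; exact bot_le⟩

/-- **Lifting through all infinitesimal neighbourhoods**. -/
theorem exists_levels [Algebra.FormallySmooth R C]
    (I₀ : A →ₗ[R] R) (h1 : I₀ 1 = 1)
    (hinv : ∀ a, TensorProduct.rid R A (I₀.lTensor A (comul a)) = I₀ a • (1 : A))
    (θ₁ : C →ₐ[R] (R ⧸ I) ⊗[R] A) (hθ₁ : IsHomMod I θ₁) :
    ∃ θ : ∀ n : ℕ, C →ₐ[R] (R ⧸ I ^ (n + 1)) ⊗[R] A,
      (∀ n, IsHomMod (I ^ (n + 1)) (θ n)) ∧
      (∀ (T : Type u) [CommRing T] [Algebra R T] [Kills (I ^ (0 + 1)) T] [Kills I T]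
        (h : WithConv (A →ₐ[R] T)), Psi (I ^ (0 + 1)) (θ 0) h = Psi I θ₁ h) ∧
      (∀ (n : ℕ) (T : Type u) [CommRing T] [Algebra R T] [Kills (I ^ (n + 1 + 1)) T]
        [Kills (I ^ (n + 1)) T] (h : WithConv (A →ₐ[R] T)),
        Psi (I ^ (n + 1 + 1)) (θ (n + 1)) h = Psi (I ^ (n + 1)) (θ n) h) := by
  obtain ⟨θ0, hθ0, hθ0c⟩ := step (𝔞 := I ^ (0 + 1)) (𝔟 := I)
    (by rw [zero_add, pow_one]; exact Ideal.mul_le_left) I₀ h1 hinv θ₁ hθ₁
  let X : ℕ → Type u := fun n => {θ : C →ₐ[R] (R ⧸ I ^ (n + 1)) ⊗[R] A // IsHomMod (I ^ (n + 1)) θ}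
  let P : ∀ n, X n → X (n + 1) → Prop := fun n x y =>
    ∀ (T : Type u) [CommRing T] [Algebra R T] [Kills (I ^ (n + 1 + 1)) T]
      [Kills (I ^ (n + 1)) T] (h : WithConv (A →ₐ[R] T)),
      Psi (I ^ (n + 1 + 1)) y.1 h = Psi (I ^ (n + 1)) x.1 h
  have hnext : ∀ n (x : X n), ∃ y : X (n + 1), P n x y := by
    intro n x
    obtain ⟨θa, ha, hac⟩ := step (𝔞 := I ^ (n + 1 + 1)) (𝔟 := I ^ (n + 1))
      (by rw [← pow_add]; exact Ideal.pow_le_pow_right (by omega)) I₀ h1 hinv x.1 x.2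
    exact ⟨⟨θa, ha⟩, hac⟩
  obtain ⟨f, hf0, hfs⟩ := exists_dep_seq P (⟨θ0, hθ0⟩ : X 0) hnext
  refine ⟨fun n => (f n).1, fun n => (f n).2, ?_, ?_⟩
  · intro T _ _ _ _ h
    change Psi (I ^ (0 + 1)) (f 0).1 h = _
    rw [hf0]
    exact hθ0c T h
  · intro n T _ _ _ _ h
    exact hfs n T h

/-- all levels induce the same map on points of algebras killed by `I` -/
theorem psi_levels_eq
    (θ₁ : C →ₐ[R] (R ⧸ I) ⊗[R] A)
    (θ : ∀ n : ℕ, C →ₐ[R] (R ⧸ I ^ (n + 1)) ⊗[R] A)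
    (h0 : ∀ (T : Type u) [CommRing T] [Algebra R T] [Kills (I ^ (0 + 1)) T] [Kills I T]
        (h : WithConv (A →ₐ[R] T)), Psi (I ^ (0 + 1)) (θ 0) h = Psi I θ₁ h)
    (hs : ∀ (n : ℕ) (T : Type u) [CommRing T] [Algebra R T] [Kills (I ^ (n + 1 + 1)) T]
        [Kills (I ^ (n + 1)) T] (h : WithConv (A →ₐ[R] T)),
        Psi (I ^ (n + 1 + 1)) (θ (n + 1)) h = Psi (I ^ (n + 1)) (θ n) h)
    (T : Type u) [CommRing T] [Algebra R T] [Kills I T] :
    ∀ (n : ℕ) [Kills (I ^ (n + 1)) T] (h : WithConv (A →ₐ[R] T)),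
      Psi (I ^ (n + 1)) (θ n) h = Psi I θ₁ h := by
  intro n
  induction n with
  | zero =>
    intro _ h
    exact h0 T h
  | succ n ih =>
    intro _ h
    haveI hn' : Kills (I ^ (n + 1)) T := kills_pow I T (n + 1) (by omega)
    rw [hs n T h]
    exact ih h

end Groth.Agent.H15.MTH
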