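import Groth.Agent.H15.MTH7
import Groth.Agent.H26.DiagRigid

/-!
# Semilinear coalgebra maps are multiplicative on points
-/

set_option autoImplicit false
set_option linter.style.haveILetI false
universe u
open TensorProduct WithConv Coalgebra

namespace Groth.Agent.H15.MTH
open Groth.Agent.H26

variable {R : Type u} [CommRing R] (I : Ideal R)
  {A : Type u} [CommRing A] [HopfAlgebra R A] {C : Type u} [CommRing C] [HopfAlgebra R C]

/-- a semilinear coalgebra map `C → (R/I) ⊗ A` is multiplicative on points -/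
theorem isHomMod_of_isCoalgMapOver (θ : C →ₐ[R] (R ⧸ I) ⊗[R] A)
    (hθ : IsCoalgMapOver (R ⧸ I) θ.toLinearMap) : IsHomMod I θ := by
  intro T _ _ _ h h'
  letI : Algebra (R ⧸ I) T := (ofQ I T).toRingHom.toAlgebra
  haveI : IsScalarTower R (R ⧸ I) T := IsScalarTower.of_algebraMap_eq (fun r => rfl)
  let H : (A →ₐ[R] T) → ((R ⧸ I) ⊗[R] A →ₐ[R ⧸ I] T) := fun g =>
    Algebra.TensorProduct.lift (Algebra.ofId (R ⧸ I) T) g (fun _ _ => Commute.all _ _)
  have hH : ∀ (g : A →ₐ[R] T) (x : (R ⧸ I) ⊗[R] A), H g x = liftR I g x := by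
    intro g x
    induction x using TensorProduct.induction_on with
    | zero => simp
    | add x y hx hy => rw [map_add, map_add, hx, hy]
    | tmul q a =>
      rw [liftR_tmul]
      change Algebra.TensorProduct.lift (Algebra.ofId (R ⧸ I) T) g _ (q ⊗ₜ[R] a) = _
      rw [Algebra.TensorProduct.lift_tmul]
      rfl
  let μ : ((R ⧸ I) ⊗[R] A) ⊗[R ⧸ I] ((R ⧸ I) ⊗[R] A) →ₗ[R ⧸ I] T :=
    LinearMap.mul' (R ⧸ I) T ∘ₗ TensorProduct.map (H h.ofConv).toLinearMap (H h'.ofConv).toLinearMap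
  have hμ : ∀ x y, μ (x ⊗ₜ[R ⧸ I] y) = H h.ofConv x * H h'.ofConv y := fun x y => rfl
  -- first claim
  have c0 : ∀ z : A ⊗[R] A, μ (tmul₂ (R ⧸ I) (TensorProduct.mk R (R ⧸ I) A 1) z) =
      Algebra.TensorProduct.lift h.ofConv h'.ofConv (fun _ _ => Commute.all _ _) z := by
    intro z
    induction z using TensorProduct.induction_on with
    | zero => simp
    | add x y hx hy => rw [map_add, map_add, map_add, hx, hy]
    | tmul a₁ a₂ =>
      rw [tmul₂_tmul, hμ, Algebra.TensorProduct.lift_tmul, hH, hH]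
      change liftR I h.ofConv ((1 : R ⧸ I) ⊗ₜ[R] a₁) * liftR I h'.ofConv ((1 : R ⧸ I) ⊗ₜ[R] a₂) = _
      rw [liftR_one_tmul, liftR_one_tmul]
  have c1 : ∀ x : (R ⧸ I) ⊗[R] A, H (h * h').ofConv x = μ (comul (R := R ⧸ I) x) := by
    intro x
    induction x using TensorProduct.induction_on with
    | zero => simp
    | add x y hx hy => rw [map_add, map_add, map_add, hx, hy]
    | tmul q a =>
      have e : q ⊗ₜ[R] a = q • ((1 : R ⧸ I) ⊗ₜ[R] a) := by
        rw [TensorProduct.smul_tmul', smul_eq_mul, mul_one]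
      rw [e, map_smul, map_smul, map_smul]
      congr 1
      have e2 := (isCoalgMapOver_inc (R := R) (R ⧸ I) A).comul a
      change comul (R := R ⧸ I) ((1 : R ⧸ I) ⊗ₜ[R] a) = _ at e2
      rw [e2, c0, hH, liftR_one_tmul]
      exact AlgHom.convMul_apply h h' a
  -- second claim
  have c2 : ∀ z : C ⊗[R] C, μ (tmul₂ (R ⧸ I) θ.toLinearMap z) =
      Algebra.TensorProduct.lift ((liftR I h.ofConv).comp θ) ((liftR I h'.ofConv).comp θ)
        (fun _ _ => Commute.all _ _) z := by
    intro z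
    induction z using TensorProduct.induction_on with
    | zero => simp
    | add x y hx hy => rw [map_add, map_add, map_add, hx, hy]
    | tmul c₁ c₂ =>
      rw [tmul₂_tmul, hμ, Algebra.TensorProduct.lift_tmul, hH, hH]
      rfl
  apply WithConv.ofConv_injective
  apply AlgHom.ext
  intro c
  change liftR I (h * h').ofConv (θ c) = (Psi I θ h * Psi I θ h') c
  rw [AlgHom.convMul_apply, ← hH, c1]
  have e3 := hθ.comul c
  change comul (R := R ⧸ I) (θ c) = _ at e3
  rw [e3, c2]
  rfl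

section final
variable {I}

/-- a map multiplicative on points is a bialgebra map -/
theorem exists_bialgHom_of_mul (φa : C →ₐ[R] A)
    (hmul : ∀ (T : Type u) [CommRing T] [Algebra R T] (h h' : WithConv (A →ₐ[R] T)),
      (toConv ((h * h').ofConv.comp φa) : WithConv (C →ₐ[R] T)) =
        toConv (h.ofConv.comp φa) * toConv (h'.ofConv.comp φa)) :
    ∃ φ : C →ₐc[R] A, ∀ c, φ c = φa c := by
  have hcounit : (Bialgebra.counitAlgHom R A).comp φa = Bialgebra.counitAlgHom R C := by
    have h2 := hmul R 1 1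
    rw [mul_one] at h2
    have h3 : (toConv ((1 : WithConv (A →ₐ[R] R)).ofConv.comp φa) : WithConv (C →ₐ[R] R)) = 1 := by
      have h4 : (toConv ((1 : WithConv (A →ₐ[R] R)).ofConv.comp φa) : WithConv (C →ₐ[R] R)) *
          toConv ((1 : WithConv (A →ₐ[R] R)).ofConv.comp φa) =
          toConv ((1 : WithConv (A →ₐ[R] R)).ofConv.comp φa) * 1 := by
        rw [mul_one]; exact h2.symm
      exact mul_left_cancel h4
    apply AlgHom.ext
    intro c
    have h5 := congrArg (fun f => f.ofConv c) h3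
    exact h5
  have hcomul : (Algebra.TensorProduct.map φa φa).comp (Bialgebra.comulAlgHom R C) =
      (Bialgebra.comulAlgHom R A).comp φa := by
    let hL : WithConv (A →ₐ[R] A ⊗[R] A) := toConv Algebra.TensorProduct.includeLeft
    let hR : WithConv (A →ₐ[R] A ⊗[R] A) := toConv Algebra.TensorProduct.includeRight
    have h2 := hmul (A ⊗[R] A) hL hR
    have e1 : (hL * hR).ofConv = Bialgebra.comulAlgHom R A := by
      apply AlgHom.ext
      intro a
      change (hL * hR) a = _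
      rw [AlgHom.convMul_apply]
      change Algebra.TensorProduct.lift Algebra.TensorProduct.includeLeft
        Algebra.TensorProduct.includeRight _ (comul a) = comul a
      rw [Algebra.TensorProduct.lift_includeLeft_includeRight]
      rfl
    rw [e1] at h2
    have h3 := congrArg WithConv.ofConv h2
    rw [WithConv.ofConv_toConv] at h3
    rw [h3, AlgHom.convMul_def, WithConv.ofConv_toConv, ← AlgHom.comp_assoc]
    congr 1
    apply Algebra.TensorProduct.ext'
    intro c₁ c₂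
    change φa c₁ ⊗ₜ[R] φa c₂ = (φa c₁ ⊗ₜ[R] (1 : A)) * ((1 : A) ⊗ₜ[R] φa c₂)
    rw [Algebra.TensorProduct.tmul_mul_tmul, mul_one, one_mul]
  exact ⟨BialgHom.ofAlgHom φa hcounit hcomul, fun c => rfl⟩

/-- **Lifting modulo a nilpotent ideal**, given an invariant integral on the source. -/
theorem exists_bialgHom_of_nilpotent [Algebra.FormallySmooth R C] (hI : IsNilpotent I)
    (I₀ : A →ₗ[R] R) (h1 : I₀ 1 = 1)
    (hinv : ∀ a, TensorProduct.rid R A (I₀.lTensor A (comul a)) = I₀ a • (1 : A))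
    (θ₁ : C →ₐ[R] (R ⧸ I) ⊗[R] A) (hθ₁ : IsHomMod I θ₁) :
    ∃ φ : C →ₐc[R] A, ∀ c, θ₁ c = (1 : R ⧸ I) ⊗ₜ[R] φ c := by
  obtain ⟨θ, hθ, h0, hs⟩ := exists_levels I I₀ h1 hinv θ₁ hθ₁
  obtain ⟨n, hn⟩ := hI
  have hbot : I ^ (n + 1) = ⊥ := by
    rw [pow_succ, hn, Ideal.zero_eq_bot, Ideal.bot_mul]
  haveI kA : Kills (I ^ (n + 1)) A := kills_of_eq_bot hbot A
  let φa : C →ₐ[R] A := (liftR (I ^ (n + 1)) (AlgHom.id R A)).comp (θ n)
  have key : ∀ (T : Type u) [CommRing T] [Algebra R T] [Kills (I ^ (n + 1)) T]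
      (h : WithConv (A →ₐ[R] T)), Psi (I ^ (n + 1)) (θ n) h = toConv (h.ofConv.comp φa) := by
    intro T _ _ _ h
    unfold Psi
    apply congrArg toConv
    change _ = h.ofConv.comp ((liftR (I ^ (n + 1)) (AlgHom.id R A)).comp (θ n))
    rw [← AlgHom.comp_assoc, comp_liftR, AlgHom.comp_id]
  obtain ⟨φ, hφ⟩ := exists_bialgHom_of_mul φa (by
    intro T _ _ h h'
    haveI : Kills (I ^ (n + 1)) T := kills_of_eq_bot hbot T
    rw [← key, ← key, ← key]
    exact hθ n T h h')
  refine ⟨φ, fun c => ?_⟩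
  haveI : Kills (I ^ (n + 1)) ((R ⧸ I) ⊗[R] A) := kills_of_eq_bot hbot _
  have e := psi_levels_eq I θ₁ θ h0 hs ((R ⧸ I) ⊗[R] A) n
    (toConv Algebra.TensorProduct.includeRight)
  rw [Psi_includeRight, key] at e
  have e2 := congrArg (fun f => f.ofConv c) e
  change (1 : R ⧸ I) ⊗ₜ[R] φa c = θ₁ c at e2
  rw [hφ, e2]

end final

end Groth.Agent.H15.MTH
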