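import Groth.Agent.H15.MTProd
import Groth.Agent.H15.MTH8

/-!
# The invariant integral of a group of multiplicative type
-/

set_option autoImplicit false
set_option linter.style.haveILetI false
universe u
open TensorProduct Coalgebra

namespace Groth.Agent.H15.MTH
open Groth.Agent.H26 Groth.Agent.H15.MTC

section groupAlgebra
variable {R' : Type u} [CommRing R'] {N : Type u} [CommGroup N]

open Classical in
/-- right invariance of the coefficient of `1`, paired with a functional -/
lemma mul'_map_coeffL_comul {T : Type u} [CommRing T] [Algebra R' T]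
    (χ : MonoidAlgebra R' N →ₗ[R'] T) (b : MonoidAlgebra R' N) :
    LinearMap.mul' R' T (TensorProduct.map (Algebra.linearMap R' T ∘ₗ coeffL (1 : N)) χ
      (comul (R := R') b)) = algebraMap R' T (b.coeff 1) * χ 1 := by
  induction b using MonoidAlgebra.induction_linear with
  | zero => simp
  | add x y hx hy =>
    rw [map_add, map_add, map_add, hx, hy, MonoidAlgebra.coeff_add, Finsupp.add_apply, map_add,
      add_mul]
  | single n r =>
    rw [MonoidAlgebra.comul_single, CommSemiring.comul_apply, TensorProduct.map_tmul,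
      TensorProduct.map_tmul, LinearMap.mul'_apply]
    simp only [MonoidAlgebra.lsingle_apply, LinearMap.comp_apply, coeffL_apply,
      Algebra.linearMap_apply, MonoidAlgebra.coeff_single, Finsupp.single_apply]
    split_ifs with h
    · subst h
      have : (MonoidAlgebra.single (1 : N) r : MonoidAlgebra R' N) = r • 1 := by
        rw [MonoidAlgebra.one_def, MonoidAlgebra.smul_single, smul_eq_mul, mul_one]
      rw [(algebraMap R' T).map_one, one_mul, this, map_smul, Algebra.smul_def]
    · simp

open Classical in
lemma mul'_map_comul_coeffL {T : Type u} [CommRing T] [Algebra R' T]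
    (χ : MonoidAlgebra R' N →ₗ[R'] T) (b : MonoidAlgebra R' N) :
    LinearMap.mul' R' T (TensorProduct.map χ (Algebra.linearMap R' T ∘ₗ coeffL (1 : N))
      (comul (R := R') b)) = algebraMap R' T (b.coeff 1) * χ 1 := by
  induction b using MonoidAlgebra.induction_linear with
  | zero => simp
  | add x y hx hy =>
    rw [map_add, map_add, map_add, hx, hy, MonoidAlgebra.coeff_add, Finsupp.add_apply, map_add,
      add_mul]
  | single n r =>
    rw [MonoidAlgebra.comul_single, CommSemiring.comul_apply, TensorProduct.map_tmul,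
      TensorProduct.map_tmul, LinearMap.mul'_apply]
    simp only [MonoidAlgebra.lsingle_apply, LinearMap.comp_apply, coeffL_apply,
      Algebra.linearMap_apply, MonoidAlgebra.coeff_single, Finsupp.single_apply]
    split_ifs with h
    · subst h
      rw [mul_comm, ← MonoidAlgebra.one_def]
    · simp

open Classical in
/-- strong invariance of the coefficient of `1` -/
lemma rid_lTensor_coeffL_comul (b : MonoidAlgebra R' N) :
    TensorProduct.rid R' (MonoidAlgebra R' N)
      (LinearMap.lTensor (MonoidAlgebra R' N) (coeffL (1 : N)) (comul (R := R') b)) =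
      b.coeff 1 • (1 : MonoidAlgebra R' N) := by
  induction b using MonoidAlgebra.induction_linear with
  | zero => simp
  | add x y hx hy =>
    rw [map_add, map_add, map_add, hx, hy, MonoidAlgebra.coeff_add, Finsupp.add_apply, add_smul]
  | single n r =>
    rw [MonoidAlgebra.comul_single, CommSemiring.comul_apply, TensorProduct.map_tmul,
      LinearMap.lTensor_tmul, TensorProduct.rid_tmul]
    simp only [MonoidAlgebra.lsingle_apply, coeffL_apply, MonoidAlgebra.coeff_single,
      Finsupp.single_apply]
    split_ifs with h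
    · subst h
      rw [← MonoidAlgebra.one_def]
    · simp

end groupAlgebra

section chart
variable {R : Type u} [CommRing R] {A : Type u} [CommRing A] [HopfAlgebra R A]

/-- the integral in a chart -/
noncomputable def chartInt (c : Chart R A) : A →ₗ[R] c.R' :=
  ((coeffL (1 : c.N)).restrictScalars R) ∘ₗ c.L.toLinearMap

lemma chartInt_apply (c : Chart R A) (a : A) : chartInt c a = (c.L a).coeff 1 := rfl

lemma chartInt_one (c : Chart R A) : chartInt c 1 = 1 := by
  rw [chartInt_apply, map_one c.L, MonoidAlgebra.one_def, MonoidAlgebra.coeff_single,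
    Finsupp.single_eq_same]

lemma W_left (c : Chart R A) {T : Type u} [CommRing T] [Algebra R T] (g : c.R' →ₐ[R] T)
    (χ : A →ₗ[R] T) (a : A) :
    LinearMap.mul' R T (TensorProduct.map (g.toLinearMap ∘ₗ chartInt c) χ (comul a)) =
      g (chartInt c a) * χ 1 := by
  letI : Algebra c.R' T := g.toRingHom.toAlgebra
  haveI : IsScalarTower R c.R' T := IsScalarTower.of_algebraMap_eq (fun r => (g.commutes r).symm)
  let χ' : MonoidAlgebra c.R' c.N →ₗ[c.R'] T := c.isChart.bc.lift χ
  have hχ' : ∀ a, χ' (c.L a) = χ a := fun a => c.isChart.bc.lift_eq χ a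
  have key : ∀ z : A ⊗[R] A,
      LinearMap.mul' R T (TensorProduct.map (g.toLinearMap ∘ₗ chartInt c) χ z) =
      LinearMap.mul' c.R' T (TensorProduct.map (Algebra.linearMap c.R' T ∘ₗ coeffL (1 : c.N)) χ'
        (tmul₂ c.R' c.L.toLinearMap z)) := by
    intro z
    induction z using TensorProduct.induction_on with
    | zero => simp
    | add x y hx hy => simp only [map_add, hx, hy]
    | tmul a₁ a₂ =>
      rw [TensorProduct.map_tmul, LinearMap.mul'_apply, tmul₂_tmul, TensorProduct.map_tmul,
        LinearMap.mul'_apply]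
      change g ((c.L a₁).coeff 1) * χ a₂ = algebraMap c.R' T ((c.L a₁).coeff 1) * χ' (c.L a₂)
      rw [hχ']
      rfl
  have h2 := c.isChart.coalg.comul a
  change comul (R := c.R') (c.L a) = _ at h2
  rw [key, ← h2, mul'_map_coeffL_comul]
  have h3 : χ' 1 = χ 1 := by rw [← map_one c.L, hχ']
  rw [h3]
  rfl

lemma W_right (c : Chart R A) {T : Type u} [CommRing T] [Algebra R T] (g : c.R' →ₐ[R] T)
    (χ : A →ₗ[R] T) (a : A) :
    LinearMap.mul' R T (TensorProduct.map χ (g.toLinearMap ∘ₗ chartInt c) (comul a)) =
      g (chartInt c a) * χ 1 := by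
  letI : Algebra c.R' T := g.toRingHom.toAlgebra
  haveI : IsScalarTower R c.R' T := IsScalarTower.of_algebraMap_eq (fun r => (g.commutes r).symm)
  let χ' : MonoidAlgebra c.R' c.N →ₗ[c.R'] T := c.isChart.bc.lift χ
  have hχ' : ∀ a, χ' (c.L a) = χ a := fun a => c.isChart.bc.lift_eq χ a
  have key : ∀ z : A ⊗[R] A,
      LinearMap.mul' R T (TensorProduct.map χ (g.toLinearMap ∘ₗ chartInt c) z) =
      LinearMap.mul' c.R' T (TensorProduct.map χ' (Algebra.linearMap c.R' T ∘ₗ coeffL (1 : c.N))
        (tmul₂ c.R' c.L.toLinearMap z)) := by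
    intro z
    induction z using TensorProduct.induction_on with
    | zero => simp
    | add x y hx hy => simp only [map_add, hx, hy]
    | tmul a₁ a₂ =>
      rw [TensorProduct.map_tmul, LinearMap.mul'_apply, tmul₂_tmul, TensorProduct.map_tmul,
        LinearMap.mul'_apply]
      change χ a₁ * g ((c.L a₂).coeff 1) = χ' (c.L a₁) * algebraMap c.R' T ((c.L a₂).coeff 1)
      rw [hχ']
      rfl
  have h2 := c.isChart.coalg.comul a
  change comul (R := c.R') (c.L a) = _ at h2
  rw [key, ← h2, mul'_map_comul_coeffL]
  have h3 : χ' 1 = χ 1 := by rw [← map_one c.L, hχ']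
  rw [h3]
  rfl

/-- the integrals of two charts agree over the tensor product of the chart rings -/
lemma chartInt_compat (c c' : Chart R A) (a : A) :
    chartInt c a ⊗ₜ[R] (1 : c'.R') = (1 : c.R') ⊗ₜ[R] chartInt c' a := by
  have e1 := W_left c (Algebra.TensorProduct.includeLeft : c.R' →ₐ[R] c.R' ⊗[R] c'.R')
    ((Algebra.TensorProduct.includeRight : c'.R' →ₐ[R] c.R' ⊗[R] c'.R').toLinearMap ∘ₗ
      chartInt c') a
  have e2 := W_right c' (Algebra.TensorProduct.includeRight : c'.R' →ₐ[R] c.R' ⊗[R] c'.R')
    ((Algebra.TensorProduct.includeLeft : c.R' →ₐ[R] c.R' ⊗[R] c'.R').toLinearMap ∘ₗ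
      chartInt c) a
  rw [e1] at e2
  simp only [LinearMap.comp_apply, AlgHom.toLinearMap_apply, chartInt_one, map_one, mul_one] at e2
  exact e2

end chart

section exist
variable {R : Type u} [CommRing R] {A : Type u} [CommRing A] [HopfAlgebra R A]
  {ι : Type u} [Fintype ι] {c : ι → Chart R A}

open Classical in
/-- descent of the chart integrals -/
lemma exists_algebraMap_eq_chartInt
    (hc : ∀ (K : Ideal R) (x : R),
      (∀ i, algebraMap R (c i).R' x ∈ K.map (algebraMap R (c i).R')) → x ∈ K) (a : A) :
    ∃ r : R, ∀ i, algebraMap R (c i).R' r = chartInt (c i) a := by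
  let y : ProdRing c := fun i => chartInt (c i) a
  let diag : R →ₗ[R] ProdRing c := Algebra.linearMap R (ProdRing c)
  let M' : Submodule R (ProdRing c) := LinearMap.range diag
  have h0 : (M'.mkQ y : ProdRing c ⧸ M') = 0 := by
    apply eq_zero_of_forall_tmul_eq_zero hc
    intro k
    have e1 : (1 : (c k).R') ⊗ₜ[R] y = chartInt (c k) a ⊗ₜ[R] (1 : ProdRing c) := by
      apply (TensorProduct.piRight R R (c k).R' (fun i => (c i).R')).injective
      rw [TensorProduct.piRight_apply, TensorProduct.piRight_apply,
        TensorProduct.piRightHom_tmul, TensorProduct.piRightHom_tmul]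
      funext i
      exact (chartInt_compat (c k) (c i) a).symm
    have e2 : (1 : (c k).R') ⊗ₜ[R] (M'.mkQ y : ProdRing c ⧸ M') =
        LinearMap.lTensor (c k).R' M'.mkQ ((1 : (c k).R') ⊗ₜ[R] y) := rfl
    rw [e2, e1, LinearMap.lTensor_tmul]
    have e3 : M'.mkQ (1 : ProdRing c) = 0 := by
      rw [Submodule.mkQ_apply, Submodule.Quotient.mk_eq_zero]
      exact ⟨1, map_one (algebraMap R (ProdRing c))⟩
    rw [e3, tmul_zero]
  rw [Submodule.mkQ_apply, Submodule.Quotient.mk_eq_zero] at h0
  obtain ⟨r, hr⟩ := h0
  refine ⟨r, fun i => ?_⟩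
  exact congrFun hr i

/-- **The invariant integral** of a group of multiplicative type. -/
theorem exists_integral (hH : SGA3b.IsMultType R A) :
    ∃ I₀ : A →ₗ[R] R, I₀ 1 = 1 ∧
      ∀ a, TensorProduct.rid R A (I₀.lTensor A (comul a)) = I₀ a • (1 : A) := by
  obtain ⟨ι, _, c, hc⟩ := exists_atlas R A hH
  have hinj : ∀ r : R, (∀ i, algebraMap R (c i).R' r = 0) → r = 0 := by
    intro r hr
    have h1 : r ∈ (⊥ : Ideal R) := by
      apply hc
      intro i
      rw [hr i]
      exact Ideal.zero_mem _
    exact h1
  choose f hf using exists_algebraMap_eq_chartInt hc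
  let I₀ : A →ₗ[R] R :=
    { toFun := f
      map_add' := by
        intro a b
        rw [← sub_eq_zero]
        apply hinj
        intro i
        rw [map_sub, map_add, hf, hf, hf, map_add, sub_self]
      map_smul' := by
        intro r a
        rw [← sub_eq_zero]
        apply hinj
        intro i
        rw [map_sub, RingHom.id_apply, smul_eq_mul, map_mul, hf, hf, map_smul, Algebra.smul_def,
          sub_self] }
  have hI₀ : ∀ i a, algebraMap R (c i).R' (I₀ a) = chartInt (c i) a := fun i a => hf a i
  refine ⟨I₀, ?_, ?_⟩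
  · rw [← sub_eq_zero]
    apply hinj
    intro i
    rw [map_sub, hI₀, chartInt_one, map_one, sub_self]
  · intro a
    rw [← sub_eq_zero]
    apply eq_zero_of_forall_chart_eq_zero hc
    intro i
    have key : ∀ z : A ⊗[R] A, (c i).L (TensorProduct.rid R A (I₀.lTensor A z)) =
        TensorProduct.rid (c i).R' (MonoidAlgebra (c i).R' (c i).N)
          (LinearMap.lTensor (MonoidAlgebra (c i).R' (c i).N) (coeffL (1 : (c i).N))
            (tmul₂ (c i).R' (c i).L.toLinearMap z)) := by
      intro z
      induction z using TensorProduct.induction_on with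
      | zero => simp
      | add x y hx hy => simp only [map_add, hx, hy]
      | tmul a₁ a₂ =>
        rw [LinearMap.lTensor_tmul, TensorProduct.rid_tmul, tmul₂_tmul, LinearMap.lTensor_tmul,
          TensorProduct.rid_tmul, map_smul]
        change I₀ a₂ • (c i).L a₁ = ((c i).L a₂).coeff 1 • (c i).L a₁
        rw [← chartInt_apply, ← hI₀, algebraMap_smul]
    have h2 := (c i).isChart.coalg.comul a
    change comul (R := (c i).R') ((c i).L a) = _ at h2
    rw [map_sub, key, ← h2, rid_lTensor_coeffL_comul, map_smul, map_one (c i).L,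
      ← chartInt_apply, ← hI₀, algebraMap_smul, sub_self]

end exist

end Groth.Agent.H15.MTH
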