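import Groth.Agent.H15.MTTf7
import Mathlib.RingTheory.HopfAlgebra.Quotient

/-!
# The ideal generated by the image of the augmentation ideal under a bialgebra map is a Hopf ideal

In particular the torsion ideals of a commutative cocommutative Hopf algebra are Hopf ideals.
-/

set_option autoImplicit false
set_option linter.style.haveILetI false
universe u
open TensorProduct WithConv Coalgebra

namespace Groth.Agent.H15.MTHens

section antipode
variable {R : Type*} [CommRing R] {C : Type*} [CommRing C] [HopfAlgebra R C]
  {A : Type*} [CommRing A] [HopfAlgebra R A]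

/-- bialgebra maps of commutative Hopf algebras commute with the antipodes -/
theorem antipode_comp_bialgHom (φ : C →ₐc[R] A) :
    (HopfAlgebra.antipodeAlgHom R A).comp (φ : C →ₐ[R] A) =
      (φ : C →ₐ[R] A).comp (HopfAlgebra.antipodeAlgHom R C) := by
  have h0 := AlgHom.convMul_comp_bialgHom_distrib (toConv (HopfAlgebra.antipodeAlgHom R A))
    (toConv (AlgHom.id R A)) φ
  rw [AlgHom.antipode_id_cancel] at h0
  have h1 : toConv ((HopfAlgebra.antipodeAlgHom R A).comp (φ : C →ₐ[R] A)) *
      toConv (φ : C →ₐ[R] A) = 1 := by
    apply WithConv.ofConv_injective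
    rw [ofConv_toConv, ofConv_toConv, AlgHom.id_comp] at h0
    rw [← h0]
    apply AlgHom.ext
    intro c
    change algebraMap R A (counit (R := R) (φ c)) = algebraMap R A (counit (R := R) c)
    rw [CoalgHomClass.counit_comp_apply]
  have h2 := eq_inv_of_mul_eq_one_left h1
  exact congrArg WithConv.ofConv h2

theorem antipode_bialgHom_apply (φ : C →ₐc[R] A) (c : C) :
    HopfAlgebra.antipode R (φ c) = φ (HopfAlgebra.antipode R c) :=
  congrArg (fun f : C →ₐ[R] A => f c) (antipode_comp_bialgHom φ)

end antipode

section hopfideal
variable {R : Type*} [CommRing R] {C : Type*} [CommRing C] [HopfAlgebra R C]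
  {A : Type*} [CommRing A] [HopfAlgebra R A]

/-- the ideal generated by the image of the augmentation ideal under a bialgebra map is a
Hopf ideal (the ideal of the kernel of the corresponding group homomorphism) -/
theorem isHopfIdeal_map_ker (φ : C →ₐc[R] A) :
    (Ideal.map (φ : C →ₐ[R] A) (RingHom.ker (Bialgebra.counitAlgHom R C))).IsHopfIdeal R := by
  set J : Ideal A := Ideal.map (φ : C →ₐ[R] A) (RingHom.ker (Bialgebra.counitAlgHom R C)) with hJ
  -- modulo `J`, `φ` is the counit
  have hq : ∀ c : C, Ideal.Quotient.mk J (φ c) =
      algebraMap R (A ⧸ J) (counit (R := R) c) := by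
    intro c
    have h1 : φ c - algebraMap R A (counit (R := R) c) ∈ J := by
      have h2 : φ c - algebraMap R A (counit (R := R) c) =
          (φ : C →ₐ[R] A) (c - algebraMap R C (counit (R := R) c)) := by
        rw [map_sub, AlgHom.commutes]
        rfl
      rw [h2]
      apply Ideal.mem_map_of_mem
      rw [RingHom.mem_ker, map_sub, AlgHom.commutes]
      change counit (R := R) c - algebraMap R R (counit (R := R) c) = 0
      simp
    have h3 := Ideal.Quotient.eq.mpr h1
    rw [h3]
    rfl
  have hco : (J.restrictScalars R).IsCoideal := by
    refine ⟨?_, ?_⟩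
    · -- counit
      have hle : J ≤ RingHom.ker (Bialgebra.counitAlgHom R A) := by
        refine Ideal.map_le_iff_le_comap.mpr ?_
        intro c hc
        rw [Ideal.mem_comap, RingHom.mem_ker]
        rw [RingHom.mem_ker] at hc
        change counit (R := R) (φ c) = 0
        rw [CoalgHomClass.counit_comp_apply]
        exact hc
      intro x hx
      exact hle hx
    · -- comultiplication
      let Θ : A →ₐ[R] (A ⧸ J) ⊗[R] (A ⧸ J) :=
        (Algebra.TensorProduct.map (Ideal.Quotient.mkₐ R J) (Ideal.Quotient.mkₐ R J)).comp
          (Bialgebra.comulAlgHom R A)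
      have hle : J ≤ RingHom.ker Θ := by
        refine Ideal.map_le_iff_le_comap.mpr ?_
        intro c hc
        rw [Ideal.mem_comap, RingHom.mem_ker]
        rw [RingHom.mem_ker] at hc
        have hc' : counit (R := R) c = 0 := hc
        change TensorProduct.map (Ideal.Quotient.mkₐ R J).toLinearMap
          (Ideal.Quotient.mkₐ R J).toLinearMap (comul (R := R) (φ c)) = 0
        rw [← CoalgHomClass.map_comp_comul_apply, ← LinearMap.comp_apply, ← TensorProduct.map_comp]
        have h4 : (Ideal.Quotient.mkₐ R J).toLinearMap ∘ₗ (φ : C →ₗ[R] A) =
            (Algebra.linearMap R (A ⧸ J)) ∘ₗ (counit (R := R) (A := C)) := by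
          apply LinearMap.ext
          intro c
          exact hq c
        rw [h4, TensorProduct.map_comp, LinearMap.comp_apply]
        have h6 : TensorProduct.map (counit (R := R) (A := C)) (counit (R := R) (A := C))
            (comul (R := R) c) = 0 := by
          have h7 : TensorProduct.map (counit (R := R) (A := C)) (counit (R := R) (A := C)) =
              (LinearMap.lTensor R (counit (R := R) (A := C))) ∘ₗ
                (LinearMap.rTensor C (counit (R := R) (A := C))) := by
            apply TensorProduct.ext'
            intro x y
            simp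
          rw [h7, LinearMap.comp_apply, Coalgebra.rTensor_counit_comul, LinearMap.lTensor_tmul, hc',
            tmul_zero]
        rw [h6, map_zero]
      intro x hx
      exact hle hx
  refine { toIsCoideal := hco, antipode_mem := ?_ }
  · -- antipode
    have hle : J ≤ Ideal.comap (HopfAlgebra.antipodeAlgHom R A) J := by
      refine Ideal.map_le_iff_le_comap.mpr ?_
      intro c hc
      rw [Ideal.mem_comap, Ideal.mem_comap]
      change HopfAlgebra.antipode R (φ c) ∈ _
      rw [antipode_bialgHom_apply]
      apply Ideal.mem_map_of_mem
      rw [RingHom.mem_ker] at hc ⊢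
      change counit (R := R) (HopfAlgebra.antipode R c) = 0
      rw [HopfAlgebra.counit_antipode]
      exact hc
    intro x hx
    exact hle hx

end hopfideal

section torsion
variable (R : Type u) [CommRing R] (A : Type u) [CommRing A] [HopfAlgebra R A] [IsCocomm R A]

/-- the torsion ideals of a commutative group are Hopf ideals -/
theorem isHopfIdeal_torsionIdeal (n : ℕ) : (SGA3b.torsionIdeal R A n).IsHopfIdeal R := by
  have h := isHopfIdeal_map_ker (Groth.Agent.H15.MTT.powB (Ω := R) (D := A) n)
  rw [Groth.Agent.H15.MTT.powB_toAlgHom] at h
  exact h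

end torsion

end Groth.Agent.H15.MTHens
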