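import Groth.Agent.S5262
import Groth.Agent.H15.MTHens1
import Groth.Agent.H15.MTTors

/-!
# Finite groups of multiplicative type over a henselian local ring are determined by their
closed fibre; group-like elements of group algebras over local rings.
-/

set_option autoImplicit false
set_option linter.style.haveILetI false
universe u
open TensorProduct Coalgebra

namespace Groth.Agent.H15.MTHens
open Groth.Agent.H26 Groth.Agent.H15.MTC Groth.Agent.H15.GLD

section finite
variable (R : Type u) [CommRing R] [HenselianLocalRing R]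
  (B : Type u) [CommRing B] [HopfAlgebra R B] [Module.Finite R B]
  (C : Type u) [CommRing C] [HopfAlgebra R C] [Module.Finite R C]
  (M : Type u) [CommGroup M]

/-- two finite groups of multiplicative type over a henselian local ring with isomorphic closed
fibres are isomorphic -/
theorem nonempty_equiv_of_hasDChart (hB : SGA3b.IsMultType R B) (hC : SGA3b.IsMultType R C)
    (hBM : HasDChart R B (IsLocalRing.ResidueField R) M)
    (hCM : HasDChart R C (IsLocalRing.ResidueField R) M) :
    Nonempty (B ≃ₐc[R] C) := by
  obtain ⟨eB⟩ := (hBM.baseChange (IsLocalRing.ResidueField R)).nonempty_equiv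
  obtain ⟨eC⟩ := (hCM.baseChange (IsLocalRing.ResidueField R)).nonempty_equiv
  let φ₀ : (IsLocalRing.ResidueField R ⊗[R] C) →ₐc[IsLocalRing.ResidueField R]
      (IsLocalRing.ResidueField R ⊗[R] B) := eB.symm.toBialgHom.comp eC.toBialgHom
  let ψ₀ : (IsLocalRing.ResidueField R ⊗[R] B) →ₐc[IsLocalRing.ResidueField R]
      (IsLocalRing.ResidueField R ⊗[R] C) := eC.symm.toBialgHom.comp eB.toBialgHom
  obtain ⟨φ, hφ⟩ := (Groth.Agent.S5262.result R B hB C hC).2 φ₀
  obtain ⟨ψ, hψ⟩ := (Groth.Agent.S5262.result R C hC B hB).2 ψ₀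
  have h1 : φ.comp ψ = BialgHom.id R B := by
    apply (Groth.Agent.S5262.result R B hB B hB).1
    intro b
    change (1 : IsLocalRing.ResidueField R) ⊗ₜ[R] φ (ψ b) = (1 : IsLocalRing.ResidueField R) ⊗ₜ[R] b
    rw [← hφ, ← hψ]
    change eB.symm (eC (eC.symm (eB _))) = _
    rw [BialgEquiv.apply_symm_apply, BialgEquiv.symm_apply_apply]
  have h2 : ψ.comp φ = BialgHom.id R C := by
    apply (Groth.Agent.S5262.result R C hC C hC).1
    intro c
    change (1 : IsLocalRing.ResidueField R) ⊗ₜ[R] ψ (φ c) = (1 : IsLocalRing.ResidueField R) ⊗ₜ[R] c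
    rw [← hψ, ← hφ]
    change eC.symm (eB (eB.symm (eC _))) = _
    rw [BialgEquiv.apply_symm_apply, BialgEquiv.symm_apply_apply]
  exact ⟨BialgEquiv.ofBialgHom ψ φ h2 h1⟩

end finite

section loc

/-- idempotents of a local ring are trivial -/
theorem eq_zero_or_eq_one_of_idem {T : Type*} [CommRing T] [IsLocalRing T] (e : T)
    (h : e * e = e) : e = 0 ∨ e = 1 := by
  have h1 : e * (1 - e) = 0 := by rw [mul_sub, mul_one, h, sub_self]
  rcases IsLocalRing.isUnit_or_isUnit_one_sub_self e with hu | hu
  · right
    have := hu.mul_right_eq_zero.mp h1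
    exact (sub_eq_zero.mp this).symm
  · left
    rw [mul_comm] at h1
    exact hu.mul_right_eq_zero.mp h1

/-- group-like elements of a group algebra over a local ring are the group elements -/
theorem exists_single_of_isGroupLikeElem {T : Type*} [CommRing T] [IsLocalRing T]
    {D : Type*} [CommGroup D] {g : MonoidAlgebra T D} (hg : IsGroupLikeElem T g) :
    ∃ δ : D, g = MonoidAlgebra.single δ 1 := by
  classical
  have h01 : ∀ m, g.coeff m = 0 ∨ g.coeff m = 1 := fun m =>
    eq_zero_or_eq_one_of_idem _ (coeff_idem hg m)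
  obtain ⟨δ, hδ⟩ : ∃ δ, g.coeff δ = 1 := by
    by_contra hcon
    push Not at hcon
    have h0 : ∀ m, g.coeff m = 0 := fun m => (h01 m).resolve_right (hcon m)
    have h1 := sum_coeff hg
    rw [Finsupp.sum, Finset.sum_eq_zero (fun m _ => h0 m)] at h1
    exact zero_ne_one h1
  refine ⟨δ, ?_⟩
  ext m
  rw [MonoidAlgebra.coeff_single, Finsupp.single_apply]
  split_ifs with hm
  · rw [← hm, hδ]
  · have := coeff_orth hg (Ne.symm hm)
    rw [hδ, mul_one] at this
    exact this

end loc

section residue
variable {R : Type u} [CommRing R] [IsLocalRing R] {A : Type u} [CommRing A] [HopfAlgebra R A]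
  {K : Type u} [Field K] [Algebra R K] {M : Type u} [CommGroup M]

/-- a chart over a field quotient of a local ring is a chart over the residue field -/
theorem hasDChart_residueField (hsurj : Function.Surjective (algebraMap R K))
    (h : HasDChart R A K M) : HasDChart R A (IsLocalRing.ResidueField R) M := by
  have hmax : (RingHom.ker (algebraMap R K)).IsMaximal :=
    RingHom.ker_isMaximal_of_surjective _ hsurj
  have hker : RingHom.ker (algebraMap R K) = IsLocalRing.maximalIdeal R :=
    IsLocalRing.eq_maximalIdeal hmax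
  let ρ : K ≃+* IsLocalRing.ResidueField R :=
    (RingHom.quotientKerEquivOfSurjective hsurj).symm.trans (Ideal.quotEquivOfEq hker)
  letI : Algebra K (IsLocalRing.ResidueField R) := ρ.toRingHom.toAlgebra
  haveI : IsScalarTower R K (IsLocalRing.ResidueField R) := by
    refine IsScalarTower.of_algebraMap_eq fun t => ?_
    change _ = ρ (algebraMap R K t)
    have h1 : (RingHom.quotientKerEquivOfSurjective hsurj).symm (algebraMap R K t) =
        Ideal.Quotient.mk _ t := by
      rw [RingEquiv.symm_apply_eq]
      rfl
    change _ = Ideal.quotEquivOfEq hker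
      ((RingHom.quotientKerEquivOfSurjective hsurj).symm (algebraMap R K t))
    rw [h1, Ideal.quotEquivOfEq_mk]
    rfl
  exact h.map _

end residue

end Groth.Agent.H15.MTHens
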