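import Groth.Agent.H15.MTRigid2
import Groth.Agent.H15.MTMono
import Groth.Agent.H15.MultDense

/-!
# Rigidity over a Noetherian local base
-/

set_option autoImplicit false
set_option linter.style.haveILetI false
universe u
open TensorProduct Coalgebra

namespace Groth.Agent.H15.MTC
open Groth.Agent.H26 Groth.Agent.H15.GLD Groth.Agent.H15.MT

section descent
variable {R : Type u} [CommRing R] {A : Type u} [CommRing A] [HopfAlgebra R A]
  {R' : Type u} [CommRing R'] [Algebra R R'] {N : Type u} [CommGroup N]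
  {L : A →ₐ[R] MonoidAlgebra R' N}

/-- membership in `𝔟 A` can be tested on the coefficients in a faithfully flat chart -/
theorem mem_map_of_coeff_mem [Module.FaithfullyFlat R R'] (hL : IsChart R A R' N L) (𝔟 : Ideal R)
    (x : A) (h : ∀ m, (L x).coeff m ∈ Ideal.map (algebraMap R R') 𝔟) :
    x ∈ Ideal.map (algebraMap R A) 𝔟 := by
  have h1 : L x ∈ (𝔟 • ⊤ : Submodule R (MonoidAlgebra R' N)) := mem_smul_top_of_coeff_mem 𝔟 _ h
  let P := A ⧸ (𝔟 • ⊤ : Submodule R A)
  let g : MonoidAlgebra R' N →ₗ[R] R' ⊗[R] P :=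
    (LinearMap.lTensor R' (𝔟 • ⊤ : Submodule R A).mkQ) ∘ₗ
      (hL.bc.equiv.symm.toLinearMap.restrictScalars R)
  have h2 : g (L x) ∈ (𝔟 • ⊤ : Submodule R (R' ⊗[R] P)) := map_mem_smul_top 𝔟 g h1
  have key : ∀ b ∈ 𝔟, ∀ t : R' ⊗[R] P, b • t = 0 := by
    intro b hb t
    induction t using TensorProduct.induction_on with
    | zero => simp
    | add u v hu hv => rw [smul_add, hu, hv, add_zero]
    | tmul r p =>
      induction p using Submodule.Quotient.induction_on with
      | H a =>
        rw [TensorProduct.smul_tmul', TensorProduct.smul_tmul, ← Submodule.Quotient.mk_smul,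
          (Submodule.Quotient.mk_eq_zero _).mpr (Submodule.smul_mem_smul hb Submodule.mem_top),
          tmul_zero]
  have h3 : (𝔟 • ⊤ : Submodule R (R' ⊗[R] P)) = ⊥ := by
    rw [eq_bot_iff]
    intro z hz
    refine Submodule.smul_induction_on hz ?_ ?_
    · intro b hb t _
      rw [Submodule.mem_bot]
      exact key b hb t
    · intro u v hu hv
      exact add_mem hu hv
  rw [h3, Submodule.mem_bot] at h2
  have h4 : g (L x) = (1 : R') ⊗ₜ[R] ((𝔟 • ⊤ : Submodule R A).mkQ x) := by
    change LinearMap.lTensor R' _ (hL.bc.equiv.symm (L.toLinearMap x)) = _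
    rw [IsBaseChange.equiv_symm_apply, LinearMap.lTensor_tmul]
  rw [h4] at h2
  have h5 : (𝔟 • ⊤ : Submodule R A).mkQ x = 0 := by
    apply Module.FaithfullyFlat.tensorProduct_mk_injective (A := R) (B := R') P
    rw [map_zero]
    exact h2
  rw [Submodule.mkQ_apply, Submodule.Quotient.mk_eq_zero] at h5
  rw [Ideal.smul_top_eq_map] at h5
  exact h5

/-- the cube trick, descended: trivial modulo `𝔟` implies trivial modulo `𝔟^3` -/
theorem sub_mem_map_cube [Module.FaithfullyFlat R R'] (hL : IsChart R A R' N L)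
    {C : Type u} [CommRing C] [HopfAlgebra R C] (φ : C →ₐc[R] A) (𝔟 : Ideal R)
    (hs : ∀ c : C, φ c - algebraMap R A (Coalgebra.counit c) ∈ Ideal.map (algebraMap R A) 𝔟)
    (c : C) :
    φ c - algebraMap R A (Coalgebra.counit c) ∈ Ideal.map (algebraMap R A) (𝔟 * 𝔟 * 𝔟) := by
  classical
  apply mem_map_of_coeff_mem hL
  intro m
  set θ₁ : C →ₐ[R] MonoidAlgebra R' N := L.comp (φ : C →ₐ[R] A) with hθ₁
  set θ₂ : C →ₐ[R] MonoidAlgebra R' N := L.comp (trivHom R A C : C →ₐ[R] A) with hθ₂
  have h₁ : IsCoalgMapOver R' θ₁.toLinearMap :=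
    hL.coalg.comp (isCoalgMapOver_of_coalgHom (R := R) (φ : C →ₗc[R] A))
  have h₂ : IsCoalgMapOver R' θ₂.toLinearMap :=
    hL.coalg.comp (isCoalgMapOver_of_coalgHom (R := R) (trivHom R A C : C →ₗc[R] A))
  have hall : ∀ c m, (θ₁ c).coeff m - (θ₂ c).coeff m ∈ Ideal.map (algebraMap R R') 𝔟 := by
    intro c m
    have := coeff_mem_map_of_mem_map (L := L) 𝔟 _ (hs c) m
    rw [map_sub, MonoidAlgebra.coeff_sub, Finsupp.sub_apply] at this
    exact this
  have hcube := coeff_sub_mem_cube_of_commute (Ideal.map (algebraMap R R') 𝔟)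
    θ₁.toLinearMap θ₂.toLinearMap h₁ h₂ (fun m => by
      rw [coeffFun_trivHom]
      split_ifs
      · rw [mul_one, one_mul]
      · rw [mul_zero, zero_mul]) hall c m
  rw [Ideal.map_mul, Ideal.map_mul, map_sub, MonoidAlgebra.coeff_sub, Finsupp.sub_apply]
  exact hcube

theorem sub_mem_map_pow [Module.FaithfullyFlat R R'] (hL : IsChart R A R' N L)
    {C : Type u} [CommRing C] [HopfAlgebra R C] (φ : C →ₐc[R] A) (𝔞 : Ideal R)
    (hs : ∀ c : C, φ c - algebraMap R A (Coalgebra.counit c) ∈ Ideal.map (algebraMap R A) 𝔞)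
    (k : ℕ) (c : C) :
    φ c - algebraMap R A (Coalgebra.counit c) ∈ Ideal.map (algebraMap R A) (𝔞 ^ k) := by
  have key : ∀ j : ℕ, ∀ c : C, φ c - algebraMap R A (Coalgebra.counit c) ∈
      Ideal.map (algebraMap R A) (𝔞 ^ (3 ^ j)) := by
    intro j
    induction j with
    | zero => simpa using hs
    | succ j ih =>
      intro c
      have := sub_mem_map_cube hL φ (𝔞 ^ (3 ^ j)) ih c
      rw [← pow_add, ← pow_add] at this
      have h3 : 3 ^ j + 3 ^ j + 3 ^ j = 3 ^ (j + 1) := by ring
      rw [h3] at this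
      exact this
  have hk : k ≤ 3 ^ k := Nat.le_of_lt (Nat.lt_pow_self (by norm_num))
  exact Ideal.map_mono (Ideal.pow_le_pow_right hk) (key k c)

end descent

section torsfin
variable {R : Type u} [CommRing R] {A : Type u} [CommRing A] [HopfAlgebra R A]

/-- the torsion ideal of a base change dies in the base change of the quotient by the torsion
ideal -/
theorem torsionIdeal_bc_le_ker (S : Type u) [CommRing S] [Algebra R S] (n : ℕ) :
    SGA3b.torsionIdeal S (S ⊗[R] A) n ≤ RingHom.ker
      (Algebra.TensorProduct.map (AlgHom.id S S)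
        (Ideal.Quotient.mkₐ R (SGA3b.torsionIdeal R A n))).toRingHom := by
  unfold SGA3b.torsionIdeal
  rw [Ideal.map_le_iff_le_comap]
  intro y hy
  have hy' : counit (R := S) y = 0 := hy
  have hmem := sub_counit_mem S A y
  rw [hy', map_zero, sub_zero] at hmem
  rw [Ideal.mem_comap, RingHom.mem_ker]
  refine Submodule.span_induction (p := fun y _ =>
    (Algebra.TensorProduct.map (AlgHom.id S S)
      (Ideal.Quotient.mkₐ R (Ideal.map (SGA3b.powConv R A n)
        (RingHom.ker (Bialgebra.counitAlgHom R A))))).toRingHom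
      ((SGA3b.powConv S (S ⊗[R] A) n) y) = 0) ?_ ?_ ?_ ?_ hmem
  · rintro _ ⟨⟨a, ha⟩, rfl⟩
    simp only
    rw [powConv_tmul]
    change Algebra.TensorProduct.map (AlgHom.id S S) _ ((1 : S) ⊗ₜ[R] SGA3b.powConv R A n a) = 0
    rw [Algebra.TensorProduct.map_tmul, Ideal.Quotient.mkₐ_eq_mk,
      Ideal.Quotient.eq_zero_iff_mem.mpr (Ideal.mem_map_of_mem _ ha), tmul_zero]
  · simp
  · intro x y _ _ hx hy
    rw [map_add, map_add, hx, hy, add_zero]
  · intro s x _ hx
    rw [map_smul]
    change Algebra.TensorProduct.map (AlgHom.id S S) _ (s • _) = 0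
    rw [map_smul]
    change s • (Algebra.TensorProduct.map (AlgHom.id S S) _).toRingHom _ = 0
    rw [hx, smul_zero]

variable {R' : Type u} [CommRing R'] [Algebra R R'] {N : Type u} [CommGroup N]
  {L : A →ₐ[R] MonoidAlgebra R' N}

/-- the bialgebra isomorphism attached to a chart -/
noncomputable def chartEquiv (hL : IsChart R A R' N L) : R' ⊗[R] A ≃ₐc[R'] MonoidAlgebra R' N :=
  BialgEquiv.ofBijective (bialgHomOfCoalg (liftAlg R' L) (isCoalgMapOver_liftAlg R' hL.coalg))
    (by
      have hbc := isBaseChange_liftAlg R' hL.bc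
      have h1 : ∀ b, liftAlg R' L b = hbc.equiv ((TensorProduct.lid R' (R' ⊗[R] A)).symm b) := by
        intro b
        rw [TensorProduct.lid_symm_apply, IsBaseChange.equiv_tmul, one_smul]
        rfl
      have h2 : (bialgHomOfCoalg (liftAlg R' L) (isCoalgMapOver_liftAlg R' hL.coalg) :
          R' ⊗[R] A → MonoidAlgebra R' N) =
          hbc.equiv ∘ (TensorProduct.lid R' (R' ⊗[R] A)).symm := funext h1
      rw [h2]
      exact hbc.equiv.bijective.comp (TensorProduct.lid R' (R' ⊗[R] A)).symm.bijective)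

lemma chartEquiv_tmul (hL : IsChart R A R' N L) (r : R') (a : A) :
    chartEquiv hL (r ⊗ₜ[R] a) = r • L a := by
  change liftAlg R' L (r ⊗ₜ[R] a) = _
  rw [liftAlg_tmul]

theorem finite_quot_torsionIdeal [Module.FaithfullyFlat R R'] (hL : IsChart R A R' N L)
    (hft : Algebra.FiniteType R A) (n : ℕ) (hn : 0 < n) :
    Module.Finite R (A ⧸ SGA3b.torsionIdeal R A n) := by
  classical
  suffices hfin : Module.Finite R' (R' ⊗[R] (A ⧸ SGA3b.torsionIdeal R A n)) from
    Module.Finite.of_finite_tensorProduct_of_faithfullyFlat R'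
  rcases subsingleton_or_nontrivial R' with hS' | hS'
  · haveI : Subsingleton (R' ⊗[R] (A ⧸ SGA3b.torsionIdeal R A n)) := Module.subsingleton R' _
    infer_instance
  let E := chartEquiv hL
  have hft' : Algebra.FiniteType R' (R' ⊗[R] A) := inferInstance
  have hft'' : Algebra.FiniteType R' (MonoidAlgebra R' N) :=
    hft'.equiv (E : (R' ⊗[R] A) ≃ₐ[R'] MonoidAlgebra R' N)
  haveI hfg : Group.FG N := MonoidAlgebra.finiteType_iff_group_fg.mp hft''
  haveI : Group.FG (N ⧸ powSubgroup N n) := QuotientGroup.fg _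
  haveI : Finite (N ⧸ powSubgroup N n) :=
    CommGroup.finite_of_fg_isMulTorsion (G := N ⧸ powSubgroup N n) fun q => by
      induction q using QuotientGroup.induction_on with
      | H z =>
        rw [isOfFinOrder_iff_pow_eq_one]
        refine ⟨n, hn, ?_⟩
        rw [← QuotientGroup.mk_pow, QuotientGroup.eq_one_iff]
        exact ⟨z, rfl⟩
  haveI : Module.Finite R' (MonoidAlgebra R' (N ⧸ powSubgroup N n)) :=
    Module.Finite.of_basis (MonoidAlgebra.basis (N ⧸ powSubgroup N n) R')
  let G : MonoidAlgebra R' N →ₐ[R'] R' ⊗[R] (A ⧸ SGA3b.torsionIdeal R A n) :=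
    (Algebra.TensorProduct.map (AlgHom.id R' R')
      (Ideal.Quotient.mkₐ R (SGA3b.torsionIdeal R A n))).comp
      ((E.symm : MonoidAlgebra R' N ≃ₐ[R'] R' ⊗[R] A) : MonoidAlgebra R' N →ₐ[R'] R' ⊗[R] A)
  have hGE : ∀ t : R' ⊗[R] A, G (E t) = Algebra.TensorProduct.map (AlgHom.id R' R')
      (Ideal.Quotient.mkₐ R (SGA3b.torsionIdeal R A n)) t := by
    intro t
    change Algebra.TensorProduct.map (AlgHom.id R' R') _ (E.symm (E t)) = _
    rw [BialgEquiv.symm_apply_apply]
  have hGsurj : Function.Surjective G := by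
    intro y
    induction y using TensorProduct.induction_on with
    | zero => exact ⟨0, map_zero _⟩
    | add x y hx hy =>
      obtain ⟨a, rfl⟩ := hx
      obtain ⟨b, rfl⟩ := hy
      exact ⟨a + b, map_add _ _ _⟩
    | tmul r q =>
      obtain ⟨a, rfl⟩ := Ideal.Quotient.mk_surjective q
      refine ⟨E (r ⊗ₜ[R] a), ?_⟩
      rw [hGE, Algebra.TensorProduct.map_tmul]
      rfl
  have hker : powIdeal R' N n ≤ RingHom.ker G.toRingHom := by
    rw [← torsionIdeal_monoidAlgebra_eq]
    intro w hw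
    have h1 := map_mem_torsionIdeal (E.symm : MonoidAlgebra R' N →ₐc[R'] R' ⊗[R] A) n w hw
    exact torsionIdeal_bc_le_ker R' n h1
  let Lout : MonoidAlgebra R' (N ⧸ powSubgroup N n) →ₗ[R'] MonoidAlgebra R' N :=
    MonoidAlgebra.mapDomainLinearMap R' R' (Quotient.out)
  have hqL : ∀ z, quotMap R' N n (Lout z) = z := by
    intro z
    induction z using MonoidAlgebra.induction_linear with
    | zero => simp
    | add x y hx hy => rw [map_add, map_add, hx, hy]
    | single q r =>
      simp only [Lout, MonoidAlgebra.mapDomainLinearMap_single, quotMap,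
        MonoidAlgebra.mapDomainRingHom_apply, MonoidAlgebra.mapDomain_single]
      congr 1
      exact Quotient.out_eq q
  refine Module.Finite.of_surjective (G.toLinearMap ∘ₗ Lout) ?_
  intro y
  obtain ⟨w, rfl⟩ := hGsurj y
  refine ⟨quotMap R' N n w, ?_⟩
  have h1 : Lout (quotMap R' N n w) - w ∈ RingHom.ker (quotMap R' N n) := by
    rw [RingHom.mem_ker, map_sub, hqL, sub_self]
  rw [ker_quotMap] at h1
  have h2 := hker h1
  rw [RingHom.mem_ker] at h2
  change G (Lout (quotMap R' N n w) - w) = 0 at h2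
  rw [map_sub, sub_eq_zero] at h2
  exact h2

/-- Noetherian local case of rigidity -/
theorem eq_trivial_of_chart_noeth [IsLocalRing R] [IsNoetherianRing R] [Module.FaithfullyFlat R R']
    (hL : IsChart R A R' N L) (hft : Algebra.FiniteType R A) (hD : Dense R A)
    {C : Type u} [CommRing C] [HopfAlgebra R C] (φ : C →ₐc[R] A)
    (hs : ∀ c : C, φ c - algebraMap R A (Coalgebra.counit c) ∈
      Ideal.map (algebraMap R A) (IsLocalRing.maximalIdeal R)) (c : C) :
    φ c = algebraMap R A (Coalgebra.counit c) := by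
  set y := φ c - algebraMap R A (Coalgebra.counit c) with hy
  have hpow : ∀ k : ℕ, y ∈ ((IsLocalRing.maximalIdeal R) ^ k • ⊤ : Submodule R A) := by
    intro k
    have := sub_mem_map_pow hL φ (IsLocalRing.maximalIdeal R) hs k c
    rw [Ideal.smul_top_eq_map]
    exact this
  have hTn : ∀ n : ℕ, 0 < n → y ∈ SGA3b.torsionIdeal R A n := by
    intro n hn
    haveI := finite_quot_torsionIdeal hL hft n hn
    have hK := Ideal.iInf_pow_smul_eq_bot_of_isLocalRing (R := R)
      (M := A ⧸ SGA3b.torsionIdeal R A n) (IsLocalRing.maximalIdeal R)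
      (IsLocalRing.maximalIdeal.isMaximal R).ne_top
    have hmem : (Ideal.Quotient.mk (SGA3b.torsionIdeal R A n) y) ∈
        (⨅ i : ℕ, (IsLocalRing.maximalIdeal R) ^ i • ⊤ :
          Submodule R (A ⧸ SGA3b.torsionIdeal R A n)) := by
      rw [Submodule.mem_iInf]
      intro k
      exact map_mem_smul_top _ (Ideal.Quotient.mkₐ R (SGA3b.torsionIdeal R A n)).toLinearMap
        (hpow k)
    rw [hK, Submodule.mem_bot] at hmem
    exact Ideal.Quotient.eq_zero_iff_mem.mp hmem
  obtain ⟨j, hj⟩ := hD 1 y (fun n hn => ⟨0, by simpa using hTn n hn⟩)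
  rw [one_pow, one_mul] at hj
  exact sub_eq_zero.mp hj

end torsfin

end Groth.Agent.H15.MTC
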