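import Groth.Agent.H15.MTHens3
import Groth.Agent.H15.MTRigid3

/-!
# A group of multiplicative type over a local ring whose torsion subgroups are diagonalisable
is diagonalisable
-/

set_option autoImplicit false
set_option linter.style.haveILetI false
universe u
open TensorProduct Coalgebra

namespace Groth.Agent.H15.MTHens
open Groth.Agent.H26 Groth.Agent.H15.MTC Groth.Agent.H15.MT Groth.Agent.H15.GLD

section stepH
variable {R : Type u} [CommRing R] {A : Type u} [CommRing A] [HopfAlgebra R A]
  (T : Type u) [CommRing T] [IsLocalRing T] [Algebra R T]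

/-- over a local base, a group-like element of `T ⊗ A` descends modulo the kernel of any
surjection of `A` onto a group algebra -/
theorem exists_sub_mem_of_isGroupLikeElem {D : Type u} [CommGroup D]
    (θ : A →ₐc[R] MonoidAlgebra R D) (hθ : Function.Surjective θ)
    (x : T ⊗[R] A) (hx : IsGroupLikeElem T x) :
    ∃ b : A, x - (1 : T) ⊗ₜ[R] b ∈
      Ideal.map (Algebra.TensorProduct.includeRight : A →ₐ[R] T ⊗[R] A)
        (RingHom.ker (θ : A →ₐ[R] MonoidAlgebra R D)) := by
  let Θ : T ⊗[R] A →ₐc[T] T ⊗[R] MonoidAlgebra R D :=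
    Bialgebra.TensorProduct.map (BialgHom.id T T) θ
  have hz : IsGroupLikeElem T (Θ x) := hx.map Θ
  have hL0 : IsChart R (MonoidAlgebra R D) T D (mapCoeff (S := R) (S' := T) D) :=
    ⟨isCoalgMapOver_mapCoeff D, isBaseChange_mapCoeff D⟩
  let E := chartEquiv hL0
  have hEz : IsGroupLikeElem T (E (Θ x)) := (isGroupLikeElem_map_equiv E).mpr hz
  obtain ⟨δ, hδ⟩ := exists_single_of_isGroupLikeElem hEz
  obtain ⟨b, hb⟩ := hθ (MonoidAlgebra.single δ 1)
  refine ⟨b, ?_⟩
  have h1 : E (Θ ((1 : T) ⊗ₜ[R] b)) = MonoidAlgebra.single δ 1 := by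
    change E ((1 : T) ⊗ₜ[R] θ b) = _
    rw [chartEquiv_tmul, one_smul, hb]
    simp [mapCoeff, Algebra.ofId_apply]
  have h2 : Θ x = Θ ((1 : T) ⊗ₜ[R] b) := E.injective (hδ.trans h1.symm)
  have h3 : ∀ z : T ⊗[R] A, Algebra.TensorProduct.map (AlgHom.id R T)
      (θ : A →ₐ[R] MonoidAlgebra R D) z = Θ z := by
    intro z
    induction z using TensorProduct.induction_on with
    | zero => simp
    | tmul t a => rfl
    | add x y hx hy => rw [map_add, map_add, hx, hy]
  rw [← Algebra.TensorProduct.lTensor_ker _ hθ, RingHom.mem_ker, h3, map_sub, h2, sub_self]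

end stepH

section inj
variable {R : Type u} [CommRing R] {A : Type u} [CommRing A] [HopfAlgebra R A]
  {T : Type u} [CommRing T] [Algebra R T] {N : Type u} [CommGroup N]
  {l : A →ₐ[R] MonoidAlgebra T N}

/-- injectivity of `A ⊗ A → T[N] ⊗_T T[N]` for a faithfully flat chart -/
theorem tmul₂_injective [Module.FaithfullyFlat R T] (hL : IsChart R A T N l) :
    Function.Injective (tmul₂ T l.toLinearMap) := by
  let e := hL.bc.equiv
  have key : ∀ y : A ⊗[R] A, tmul₂ T l.toLinearMap y =
      TensorProduct.congr e e
        (TensorProduct.AlgebraTensorModule.distribBaseChange R T A A ((1 : T) ⊗ₜ[R] y)) := by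
    intro y
    induction y with
    | zero => simp
    | add x y hx hy => rw [map_add, tmul_add, map_add, map_add, hx, hy]
    | tmul a b =>
      simp [e, TensorProduct.AlgebraTensorModule.distribBaseChange_tmul, IsBaseChange.equiv_tmul]
  intro y y' h
  rw [key, key] at h
  have h2 := (TensorProduct.congr e e).injective h
  have h3 := (TensorProduct.AlgebraTensorModule.distribBaseChange R T A A).injective h2
  exact Module.FaithfullyFlat.tensorProduct_mk_injective (A := R) (B := T) (A ⊗[R] A) h3

/-- an element whose chart is a group element is group-like -/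
theorem isGroupLikeElem_of_chart [Module.FaithfullyFlat R T] (hL : IsChart R A T N l) (a : A)
    (ν : N) (ha : l a = MonoidAlgebra.single ν 1) : IsGroupLikeElem R a := by
  have hgl : IsGroupLikeElem T (MonoidAlgebra.single ν (1 : T)) :=
    MonoidAlgebra.isGroupLikeElem_single_one ν
  constructor
  · have h1 := hL.coalg.counit a
    change counit (R := T) (l a) = _ at h1
    rw [ha, hgl.counit_eq_one] at h1
    have hinj : Function.Injective (algebraMap R T) := FaithfulSMul.algebraMap_injective R T
    apply hinj
    rw [← h1, map_one]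
  · apply tmul₂_injective hL
    have h1 := hL.coalg.comul a
    change comul (R := T) (l a) = _ at h1
    rw [← h1, tmul₂_tmul]
    change _ = l a ⊗ₜ[T] l a
    rw [ha, hgl.comul_eq_tmul_self]

end inj

section main
variable (R : Type u) [CommRing R] [IsLocalRing R] (A : Type u) [CommRing A] [HopfAlgebra R A]

/-- over a local ring, a group of multiplicative type has constant type -/
theorem isMultTypeConst_of_isLocalRing (h : SGA3b.IsMultType R A) : SGA3b.IsMultTypeConst R A := by
  obtain ⟨R', _, _, N, _, L, hff, hL⟩ := exists_ff_chart_of_isLocalRing R A h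
  exact ⟨R', inferInstance, inferInstance, hff, N, inferInstance, ⟨chartEquiv hL⟩⟩

/-- over a local ring, a group of multiplicative type has a faithfully flat *local* chart -/
theorem exists_local_chart (h : SGA3b.IsMultType R A) :
    ∃ (T : Type u) (_ : CommRing T) (_ : Algebra R T) (N : Type u) (_ : CommGroup N)
      (l : A →ₐ[R] MonoidAlgebra T N), IsLocalRing T ∧ Module.FaithfullyFlat R T ∧
        IsChart R A T N l := by
  obtain ⟨R', _, _, N, _, L, hff, hL⟩ := exists_ff_chart_of_isLocalRing R A h
  haveI := hff
  obtain ⟨q, hq, hqo⟩ := Ideal.exists_isPrime_liesOver_of_faithfullyFlat (B := R')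
    (IsLocalRing.maximalIdeal R)
  let T := Localization.AtPrime q
  haveI : Module.Flat R' T := IsLocalization.flat T q.primeCompl
  haveI : Module.Flat R T := Module.Flat.trans R R' T
  haveI : IsLocalHom (algebraMap R T) := by
    constructor
    intro r hr
    rw [IsScalarTower.algebraMap_apply R R' T] at hr
    have h1 := (IsLocalization.AtPrime.isUnit_to_map_iff T q (algebraMap R R' r)).mp hr
    have h2 : r ∉ IsLocalRing.maximalIdeal R := by
      intro hmem
      apply h1
      have h3 := hqo.over
      rw [h3] at hmem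
      exact hmem
    exact (IsLocalRing.notMem_maximalIdeal.mp h2)
  haveI : Module.FaithfullyFlat R T := Module.FaithfullyFlat.of_flat_of_isLocalHom
  have h0 : HasDChart R A R' N := ⟨L, hL.coalg, hL.bc⟩
  obtain ⟨l, hco, hbc⟩ := h0.map T
  exact ⟨T, inferInstance, inferInstance, N, inferInstance, l, inferInstance, inferInstance,
    ⟨hco, hbc⟩⟩

/-- **Key theorem**: a group of multiplicative type and of finite type over a local ring whose
torsion subgroups are all diagonalisable is diagonalisable. -/
theorem isDiag_of_torsion (hft : Algebra.FiniteType R A) (hmt : SGA3b.IsMultType R A)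
    (h : ∀ n : ℕ, 0 < n → ∃ (D : Type u) (_ : CommGroup D) (θ : A →ₐc[R] MonoidAlgebra R D),
      Function.Surjective θ ∧
        RingHom.ker (θ : A →ₐ[R] MonoidAlgebra R D) ≤ SGA3b.torsionIdeal R A n) :
    SGA3b.IsDiag R A := by
  classical
  have hconst := isMultTypeConst_of_isLocalRing R A hmt
  obtain ⟨T, _, _, N, _, l, hTloc, hTff, hL⟩ := exists_local_chart R A hmt
  let E := chartEquiv hL
  have hlE : ∀ a : A, l a = E ((1 : T) ⊗ₜ[R] a) := by
    intro a
    rw [chartEquiv_tmul, one_smul]
  -- every character descends
  have hdesc : ∀ ν : N, ∃ a : A, (1 : T) ⊗ₜ[R] a = E.symm (MonoidAlgebra.single ν 1) := by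
    intro ν
    have hgl : IsGroupLikeElem T (E.symm (MonoidAlgebra.single ν (1 : T))) :=
      (isGroupLikeElem_map_equiv E.symm).mpr (MonoidAlgebra.isGroupLikeElem_single_one ν)
    apply exists_descent T hft hconst
    intro n hn
    obtain ⟨D, _, θ, hθs, hθk⟩ := h n hn
    obtain ⟨b, hb⟩ := exists_sub_mem_of_isGroupLikeElem T θ hθs _ hgl
    exact ⟨b, Ideal.map_mono hθk hb⟩
  choose γ hγ using hdesc
  have hlγ : ∀ ν, l (γ ν) = MonoidAlgebra.single ν 1 := by
    intro ν
    rw [hlE, hγ, BialgEquiv.apply_symm_apply]
  have hlinj : Function.Injective l := by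
    intro a a' haa
    have h1 : (1 : T) ⊗ₜ[R] a = (1 : T) ⊗ₜ[R] a' := by
      apply E.injective
      have e1 := hlE a
      have e2 := hlE a'
      exact e1.symm.trans (haa.trans e2)
    exact Module.FaithfullyFlat.tensorProduct_mk_injective (A := R) (B := T) A h1
  let χ : N →* GroupLike R A :=
    { toFun := fun ν => ⟨γ ν, isGroupLikeElem_of_chart hL (γ ν) ν (hlγ ν)⟩
      map_one' := by
        apply GroupLike.val_injective
        apply hlinj
        change l (γ 1) = l 1
        rw [hlγ, map_one, MonoidAlgebra.one_def]
      map_mul' := fun a b => by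
        apply GroupLike.val_injective
        apply hlinj
        change l (γ (a * b)) = l (γ a * γ b)
        rw [map_mul, hlγ, hlγ, hlγ, MonoidAlgebra.single_mul_single, one_mul] }
  have hχ : ∀ ν, ((χ ν).val : A) = γ ν := fun ν => rfl
  -- the composite `R[N] → A → T[N]` is the canonical base change map
  have hcomp : ∀ y : MonoidAlgebra R N, l (liftHom χ y) = mapCoeff (S := R) (S' := T) N y := by
    intro y
    induction y using MonoidAlgebra.induction_linear with
    | zero => simp
    | add x y hx hy => rw [map_add, map_add, map_add, hx, hy]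
    | single ν r =>
      rw [liftHom_single, map_smul, hχ, hlγ]
      simp [mapCoeff, Algebra.ofId_apply, Algebra.smul_def]
  have hbc0 : IsBaseChange T (mapCoeff (S := R) (S' := T) N).toLinearMap := isBaseChange_mapCoeff N
  have hbij : Function.Bijective ((liftHom χ).toLinearMap.lTensor T) := by
    have h1 : ∀ t, hL.bc.equiv ((liftHom χ).toLinearMap.lTensor T t) = hbc0.equiv t := by
      intro t
      induction t using TensorProduct.induction_on with
      | zero => simp
      | add x y hx hy => rw [map_add, map_add, map_add, hx, hy]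
      | tmul t y =>
        rw [LinearMap.lTensor_tmul, IsBaseChange.equiv_tmul, IsBaseChange.equiv_tmul]
        change t • l (liftHom χ y) = t • mapCoeff (S := R) (S' := T) N y
        rw [hcomp]
    have h2 : ((liftHom χ).toLinearMap.lTensor T : T ⊗[R] MonoidAlgebra R N → T ⊗[R] A) =
        hL.bc.equiv.symm ∘ hbc0.equiv := by
      funext t
      rw [Function.comp_apply, ← h1, LinearEquiv.symm_apply_apply]
    rw [h2]
    exact hL.bc.equiv.symm.bijective.comp hbc0.equiv.bijective
  have hbij' : Function.Bijective (liftHom χ) :=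
    (Module.FaithfullyFlat.lTensor_bijective_iff_bijective R T (liftHom χ).toLinearMap).mp hbij
  exact ⟨N, inferInstance, ⟨(BialgEquiv.ofBijective (liftHom χ) hbij').symm⟩⟩

end main

end Groth.Agent.H15.MTHens
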