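import Groth.Agent.H15.MTIso2
import Groth.Agent.S0532
import Mathlib.RingTheory.Localization.BaseChange
import Mathlib.RingTheory.Smooth.Flat

/-!
# Lifting the splitting cover of the reduction (complete base)
-/

set_option autoImplicit false
set_option linter.style.haveILetI false
universe u
open TensorProduct Coalgebra

namespace Groth.Agent.H15.MTI
open Groth.Agent.H26 Groth.Agent.H15.MTC SGA3b

section ff
variable (A : Type*) [CommRing A] (I : Ideal A) (A' : Type*) [CommRing A'] [Algebra A A']

/-- a flat algebra whose reduction modulo an ideal in the radical maps to a faithfully flat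
`A/I`-algebra is faithfully flat -/
theorem faithfullyFlat_of_quotient [Module.Flat A A'] (hI : I ≤ Ideal.jacobson ⊥)
    (B₀ : Type*) [CommRing B₀] [Algebra (A ⧸ I) B₀] [Algebra A B₀] [IsScalarTower A (A ⧸ I) B₀]
    [Module.FaithfullyFlat (A ⧸ I) B₀] (g : A' →ₐ[A] B₀) : Module.FaithfullyFlat A A' := by
  refine ⟨?_⟩
  intro m hm htop
  have hIm : I ≤ m := by
    refine hI.trans ?_
    intro x hx
    rw [Ideal.jacobson, Ideal.mem_sInf] at hx
    exact hx ⟨bot_le, hm⟩
  have hmbar : (m.map (Ideal.Quotient.mk I)).IsMaximal := by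
    rcases Ideal.map_eq_top_or_isMaximal_of_surjective (Ideal.Quotient.mk I)
      Ideal.Quotient.mk_surjective hm with h | h
    · exfalso
      have h1 : Ideal.comap (Ideal.Quotient.mk I) (m.map (Ideal.Quotient.mk I)) = m := by
        rw [Ideal.comap_map_of_surjective _ Ideal.Quotient.mk_surjective, ← RingHom.ker_eq_comap_bot,
          Ideal.mk_ker, sup_eq_left.mpr hIm]
      rw [h, Ideal.comap_top] at h1
      exact hm.ne_top h1.symm
    · exact h
  apply Module.FaithfullyFlat.submodule_ne_top (R := A ⧸ I) (M := B₀) hmbar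
  have h1 : (1 : A') ∈ (m • ⊤ : Submodule A A') := by rw [htop]; trivial
  have h2 : g 1 ∈ (m • ⊤ : Submodule A B₀) := map_mem_smul_top m g.toLinearMap h1
  rw [map_one] at h2
  have h3 : ∀ x ∈ (m • ⊤ : Submodule A B₀),
      x ∈ (m.map (Ideal.Quotient.mk I) • ⊤ : Submodule (A ⧸ I) B₀) := by
    intro x hx
    refine Submodule.smul_induction_on hx ?_ ?_
    · intro a ha b _
      have : a • b = (Ideal.Quotient.mk I a) • b := by
        rw [← Ideal.Quotient.algebraMap_eq, algebraMap_smul]
      rw [this]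
      exact Submodule.smul_mem_smul (Ideal.mem_map_of_mem _ ha) trivial
    · intro x y hx hy
      exact add_mem hx hy
  have h4 := h3 1 h2
  rw [Ideal.smul_top_eq_map] at h4 ⊢
  have h5 : Ideal.map (algebraMap (A ⧸ I) B₀) (m.map (Ideal.Quotient.mk I)) = ⊤ :=
    (Ideal.eq_top_iff_one _).mpr h4
  rw [h5]
  rfl

end ff

section flatloc
variable (A : Type u) [CommRing A] (A' : Type u) [CommRing A'] [Algebra A A']
  (C : Type u) [CommRing C] [Algebra A C]

/-- flatness at a prime of a base change, from flatness at the prime below -/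
theorem flat_localization_baseChange (q' : Ideal (A' ⊗[A] C)) [q'.IsPrime]
    (h : Module.Flat A (Localization.AtPrime
      (q'.comap (Algebra.TensorProduct.includeRight : C →ₐ[A] A' ⊗[A] C)))) :
    Module.Flat A' (Localization.AtPrime q') := by
  set q := q'.comap (Algebra.TensorProduct.includeRight : C →ₐ[A] A' ⊗[A] C) with hq
  letI algCB : Algebra (A' ⊗[A] C) (A' ⊗[A] Localization.AtPrime q) :=
    (Algebra.TensorProduct.map (AlgHom.id A A')
      (IsScalarTower.toAlgHom A C (Localization.AtPrime q))).toRingHom.toAlgebra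
  haveI : IsScalarTower A' (A' ⊗[A] C) (A' ⊗[A] Localization.AtPrime q) :=
    .of_algebraMap_eq (by intro x; simp [RingHom.algebraMap_toAlgebra])
  haveI hloc : IsLocalization
      (q.primeCompl.map (Algebra.TensorProduct.includeRight (R := A) (A := A')))
      (A' ⊗[A] Localization.AtPrime q) :=
    IsLocalization.tensorProduct_tensorProduct_right A A' q.primeCompl (Localization.AtPrime q)
      (by ext x; simp [RingHom.algebraMap_toAlgebra])
  have hle : q.primeCompl.map (Algebra.TensorProduct.includeRight (R := A) (A := A')) ≤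
      q'.primeCompl := by
    rintro _ ⟨c, hc, rfl⟩
    exact hc
  letI algBT : Algebra (A' ⊗[A] Localization.AtPrime q) (Localization.AtPrime q') :=
    (IsLocalization.lift (M := q.primeCompl.map
      (Algebra.TensorProduct.includeRight (R := A) (A := A')))
      (g := algebraMap (A' ⊗[A] C) (Localization.AtPrime q'))
      (fun y => IsLocalization.map_units (Localization.AtPrime q') ⟨y.1, hle y.2⟩)).toAlgebra
  haveI : IsScalarTower (A' ⊗[A] C) (A' ⊗[A] Localization.AtPrime q) (Localization.AtPrime q') :=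
    .of_algebraMap_eq (fun x => (IsLocalization.lift_eq _ x).symm)
  haveI := IsLocalization.isLocalization_of_submonoid_le (R := A' ⊗[A] C)
    (A' ⊗[A] Localization.AtPrime q) (Localization.AtPrime q')
    (q.primeCompl.map (Algebra.TensorProduct.includeRight (R := A) (A := A'))) q'.primeCompl hle
  haveI : Module.Flat (A' ⊗[A] Localization.AtPrime q) (Localization.AtPrime q') :=
    IsLocalization.flat (Localization.AtPrime q')
      (q'.primeCompl.map (algebraMap (A' ⊗[A] C) (A' ⊗[A] Localization.AtPrime q)))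
  haveI : IsScalarTower A' (A' ⊗[A] Localization.AtPrime q) (Localization.AtPrime q') := by
    refine IsScalarTower.of_algebraMap_eq (R := A') (S := A' ⊗[A] Localization.AtPrime q)
      (A := Localization.AtPrime q') (fun x => ?_)
    rw [IsScalarTower.algebraMap_apply A' (A' ⊗[A] C) (Localization.AtPrime q'),
      IsScalarTower.algebraMap_apply (A' ⊗[A] C) (A' ⊗[A] Localization.AtPrime q)
        (Localization.AtPrime q'),
      ← IsScalarTower.algebraMap_apply A' (A' ⊗[A] C) (A' ⊗[A] Localization.AtPrime q)]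
  exact Module.Flat.trans A' (A' ⊗[A] Localization.AtPrime q) (Localization.AtPrime q')

end flatloc

section cover
variable (A : Type u) [CommRing A] [IsNoetherianRing A] (I : Ideal A) [IsAdicComplete I A]
  (C : Type u) [CommRing C] [HopfAlgebra A C]

/-- the splitting cover of the reduction lifts to a finite etale faithfully flat cover `A'` of the
complete base, and `A' ⊗ C` is diagonalisable modulo `I A'` -/
theorem exists_cover (h0 : IsIsotrivial (A ⧸ I) ((A ⧸ I) ⊗[A] C)) :
    ∃ (A' : Type u) (_ : CommRing A') (_ : Algebra A A'), Algebra.Etale A A' ∧ Module.Finite A A' ∧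
      Module.FaithfullyFlat A A' ∧ ∃ (M : Type u) (_ : CommGroup M),
      Nonempty (((A' ⧸ I.map (algebraMap A A')) ⊗[A'] (A' ⊗[A] C)) ≃ₐc[A' ⧸ I.map (algebraMap A A')]
        MonoidAlgebra (A' ⧸ I.map (algebraMap A A')) M) := by
  obtain ⟨A₀', _, _, het₀, hfin₀, hff₀, M, _, ⟨e₀⟩⟩ := h0
  obtain ⟨A', _, _, hfin, het, ⟨ψ⟩⟩ := Groth.Agent.S0532.result A I A₀'
  refine ⟨A', inferInstance, inferInstance, het, hfin, ?_, M, inferInstance, ?_⟩
  · -- faithful flatness
    letI : Algebra A A₀' := ((algebraMap (A ⧸ I) A₀').comp (algebraMap A (A ⧸ I))).toAlgebra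
    haveI : IsScalarTower A (A ⧸ I) A₀' := IsScalarTower.of_algebraMap_eq (fun _ => rfl)
    haveI : Module.Flat A A' := inferInstance
    let g : A' →ₐ[A] A₀' :=
      ((ψ : (A ⧸ I) ⊗[A] A' →ₐ[A ⧸ I] A₀').restrictScalars A).comp
        (Algebra.TensorProduct.includeRight : A' →ₐ[A] (A ⧸ I) ⊗[A] A')
    exact faithfullyFlat_of_quotient A I A' (IsAdicComplete.le_jacobson_bot I) A₀' g
  · letI : Algebra A A₀' := ((algebraMap (A ⧸ I) A₀').comp (algebraMap A (A ⧸ I))).toAlgebra
    haveI : IsScalarTower A (A ⧸ I) A₀' := IsScalarTower.of_algebraMap_eq (fun _ => rfl)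
    have h1 : HasDChart (A ⧸ I) ((A ⧸ I) ⊗[A] C) A₀' M := HasDChart.of_equiv e₀
    have h2 : HasDChart A C A₀' M := h1.of_baseChange (A ⧸ I)
    -- the map `A₀' → A' / I A'`
    let g₁ : (A ⧸ I) →ₐ[A] (A' ⧸ I.map (algebraMap A A')) :=
      Ideal.Quotient.liftₐ I (Algebra.ofId A (A' ⧸ I.map (algebraMap A A'))) (by
        intro a ha
        change algebraMap A (A' ⧸ I.map (algebraMap A A')) a = 0
        rw [IsScalarTower.algebraMap_apply A A' (A' ⧸ I.map (algebraMap A A')),
          Ideal.Quotient.algebraMap_eq, Ideal.Quotient.eq_zero_iff_mem]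
        exact Ideal.mem_map_of_mem _ ha)
    let g₂ : (A ⧸ I) ⊗[A] A' →ₐ[A] (A' ⧸ I.map (algebraMap A A')) :=
      Algebra.TensorProduct.lift g₁ (Ideal.Quotient.mkₐ A (I.map (algebraMap A A')))
        (fun _ _ => .all ..)
    let g : A₀' →ₐ[A] (A' ⧸ I.map (algebraMap A A')) :=
      g₂.comp ((ψ.symm : A₀' →ₐ[A ⧸ I] (A ⧸ I) ⊗[A] A').restrictScalars A)
    letI : Algebra A₀' (A' ⧸ I.map (algebraMap A A')) := g.toRingHom.toAlgebra
    haveI : IsScalarTower A A₀' (A' ⧸ I.map (algebraMap A A')) :=
      IsScalarTower.of_algebraMap_eq (fun x => (g.commutes x).symm)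
    have h3 : HasDChart A C (A' ⧸ I.map (algebraMap A A')) M := h2.map _
    have h4 : HasDChart A' (A' ⊗[A] C) (A' ⧸ I.map (algebraMap A A')) M := h3.baseChange A'
    have h5 := h4.baseChange (A' ⧸ I.map (algebraMap A A'))
    exact h5.nonempty_equiv

include A in
/-- flatness along `V(I)` is inherited by the base change to `A'` -/
theorem hfl_baseChange
    (hfl : ∀ (q : Ideal C) [q.IsPrime], Ideal.map (algebraMap A C) I ≤ q →
      Module.Flat A (Localization.AtPrime q))
    (A' : Type u) [CommRing A'] [Algebra A A'] (q' : Ideal (A' ⊗[A] C)) [q'.IsPrime]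
    (hq' : Ideal.map (algebraMap A' (A' ⊗[A] C)) (I.map (algebraMap A A')) ≤ q') :
    Module.Flat A' (Localization.AtPrime q') := by
  apply flat_localization_baseChange
  apply hfl
  rw [Ideal.map_le_iff_le_comap]
  intro a ha
  rw [Ideal.mem_comap, Ideal.mem_comap]
  apply hq'
  have h1 : (Algebra.TensorProduct.includeRight : C →ₐ[A] A' ⊗[A] C) (algebraMap A C a) =
      algebraMap A' (A' ⊗[A] C) (algebraMap A A' a) := by
    rw [AlgHom.commutes, IsScalarTower.algebraMap_apply A A' (A' ⊗[A] C)]
  rw [h1]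
  exact Ideal.mem_map_of_mem _ (Ideal.mem_map_of_mem _ ha)

/-- **Hub**: after a finite etale faithfully flat base change `A'`, there is a surjective
bialgebra map `A' ⊗ C → A'[M]` whose kernel is generated by an idempotent lying in `I (A' ⊗ C)`. -/
theorem exists_cover_idem (hft : Algebra.FiniteType A C)
    (hfl : ∀ (q : Ideal C) [q.IsPrime], Ideal.map (algebraMap A C) I ≤ q →
      Module.Flat A (Localization.AtPrime q))
    (h0 : IsIsotrivial (A ⧸ I) ((A ⧸ I) ⊗[A] C)) :
    ∃ (A' : Type u) (_ : CommRing A') (_ : Algebra A A'), Algebra.Etale A A' ∧ Module.Finite A A' ∧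
      Module.FaithfullyFlat A A' ∧ ∃ (M : Type u) (_ : CommGroup M)
      (φ : (A' ⊗[A] C) →ₐc[A'] MonoidAlgebra A' M) (e' : A' ⊗[A] C),
      Function.Surjective φ ∧ IsIdempotentElem e' ∧
      e' ∈ Ideal.map (algebraMap A' (A' ⊗[A] C)) (I.map (algebraMap A A')) ∧
      RingHom.ker (φ : (A' ⊗[A] C) →ₐ[A'] MonoidAlgebra A' M) = Ideal.span {e'} := by
  obtain ⟨A', _, _, het, hfin, hff, M, _, ⟨ε⟩⟩ := exists_cover A I C h0
  haveI : IsNoetherianRing A' := IsNoetherianRing.of_finite A A'
  haveI : IsAdicComplete (I.map (algebraMap A A')) A' :=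
    Groth.Agent.H15.MTA.isAdicComplete_map_of_finite I A'
  have hft' : Algebra.FiniteType A' (A' ⊗[A] C) := inferInstance
  obtain ⟨φ, e', h1, -, h3, h4, h5⟩ := exists_surj_idem A' (I.map (algebraMap A A')) (A' ⊗[A] C)
    (fun q' _ hq' => hfl_baseChange A I C hfl A' q' hq') M ε hft'
  exact ⟨A', inferInstance, inferInstance, het, hfin, hff, M, inferInstance, φ, e', h1, h3, h4, h5⟩

end cover

end Groth.Agent.H15.MTI
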