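import Groth.Agent.H15.MTHens4
import Groth.Agent.S5242
import Groth.Agent.S0532
import Groth.Agent.H3.HensIntegralLocal
import Groth.Agent.H15.MTIso3
import Groth.Agent.H15.IsoF5

/-!
# Groups of multiplicative type and of finite type over a henselian local ring are isotrivial
-/

set_option autoImplicit false
set_option linter.style.haveILetI false
universe u
open TensorProduct Coalgebra

namespace Groth.Agent.H15.MTHens
open Groth.Agent.H26 Groth.Agent.H15.MTC Groth.Agent.H15.MT Groth.Agent.H15.GLD

section lemmaC
variable (R : Type u) [CommRing R] [HenselianLocalRing R] (A : Type u) [CommRing A]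
  [HopfAlgebra R A]

/-- a diagonalisable group is of multiplicative type -/
theorem isMultType_monoidAlgebra (D : Type u) [CommGroup D] :
    SGA3b.IsMultType R (MonoidAlgebra R D) := by
  apply Groth.Agent.H15.MTF.isMultType_of_isMultTypeConst
  exact ⟨R, inferInstance, inferInstance, inferInstance, D, inferInstance,
    ⟨Bialgebra.TensorProduct.lid R (MonoidAlgebra R D)⟩⟩

/-- **SGA3 X 4.3**: over a henselian local ring a group of multiplicative type and of finite type
whose closed fibre is diagonalisable is diagonalisable. -/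
theorem isDiag_of_henselian (hft : Algebra.FiniteType R A) (hmt : SGA3b.IsMultType R A)
    (K : Type u) [Field K] [Algebra R K] (hsurj : Function.Surjective (algebraMap R K))
    (M : Type u) [CommGroup M] [Group.FG M] (hM : HasDChart R A K M) : SGA3b.IsDiag R A := by
  haveI := Groth.Agent.H3.CartRing.isCocomm_of_isMultType R A hmt
  have hM' : HasDChart R A (IsLocalRing.ResidueField R) M := hasDChart_residueField hsurj hM
  apply isDiag_of_torsion R A hft hmt
  intro n hn
  haveI : (SGA3b.torsionIdeal R A n).IsHopfIdeal R := isHopfIdeal_torsionIdeal R A n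
  obtain ⟨hJmt, hJfin⟩ := Groth.Agent.S5242.result R A hft hmt n hn (SGA3b.torsionIdeal R A n) rfl
  obtain ⟨l, hco, hbc⟩ := hM'
  have hJM := Groth.Agent.H15.MTQ.hasDChart_torsion l hco hbc n (SGA3b.torsionIdeal R A n) rfl
  haveI : Group.FG (M ⧸ (powMonoidHom n : M →* M).range) := QuotientGroup.fg _
  haveI : Finite (M ⧸ (powMonoidHom n : M →* M).range) :=
    CommGroup.finite_of_fg_isMulTorsion (G := M ⧸ (powMonoidHom n : M →* M).range) fun q => by
      induction q using QuotientGroup.induction_on with
      | H z =>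
        rw [isOfFinOrder_iff_pow_eq_one]
        refine ⟨n, hn, ?_⟩
        rw [← QuotientGroup.mk_pow, QuotientGroup.eq_one_iff]
        exact ⟨z, rfl⟩
  haveI : Module.Finite R (MonoidAlgebra R (M ⧸ (powMonoidHom n : M →* M).range)) :=
    Module.Finite.of_basis (MonoidAlgebra.basis (M ⧸ (powMonoidHom n : M →* M).range) R)
  have hDchart : HasDChart R (MonoidAlgebra R (M ⧸ (powMonoidHom n : M →* M).range))
      (IsLocalRing.ResidueField R) (M ⧸ (powMonoidHom n : M →* M).range) :=
    ⟨mapCoeff _, isCoalgMapOver_mapCoeff _, isBaseChange_mapCoeff _⟩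
  obtain ⟨e⟩ := nonempty_equiv_of_hasDChart R (A ⧸ SGA3b.torsionIdeal R A n)
    (MonoidAlgebra R (M ⧸ (powMonoidHom n : M →* M).range))
    (M ⧸ (powMonoidHom n : M →* M).range) hJmt (isMultType_monoidAlgebra R _) hJM hDchart
  refine ⟨M ⧸ (powMonoidHom n : M →* M).range, inferInstance,
    e.toBialgHom.comp (Bialgebra.Quotient.mkBialgHom (SGA3b.torsionIdeal R A n)), ?_, ?_⟩
  · intro y
    obtain ⟨q, rfl⟩ := e.surjective y
    obtain ⟨a, rfl⟩ := Ideal.Quotient.mk_surjective q
    exact ⟨a, rfl⟩
  · intro a ha
    rw [RingHom.mem_ker] at ha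
    have h1 : e (Ideal.Quotient.mk (SGA3b.torsionIdeal R A n) a) = 0 := ha
    have h2 := e.injective (h1.trans (map_zero e).symm)
    exact Ideal.Quotient.eq_zero_iff_mem.mp h2

end lemmaC

end Groth.Agent.H15.MTHens
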