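import Groth.Agent.H15.MTMono

/-!
# Translation argument: the kernel of a surjection onto a group algebra is cut out by an idempotent

`D` a commutative Hopf algebra over `S`, `φ : D →ₐc[S] S[N]` a bialgebra map (a homomorphism
`D(N) ⟶ Spec D`).  If an element `r` kills `K = ker φ`, then so does its translation-invariant part
`r₁`, and `φ r₁` is the constant `coeff₁(φ r)`.  Combined with Nakayama this shows `K` is generated
by an idempotent as soon as `K ≤ J * K` for an ideal `J` whose image has constant coefficients in the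
Jacobson radical.
-/

set_option autoImplicit false
set_option linter.style.haveILetI false
universe u
open TensorProduct Coalgebra

namespace Groth.Agent.H15.MTI
open Groth.Agent.H26 Groth.Agent.H15.MTC

section trans
variable {S : Type*} [CommRing S] {N : Type*} [CommGroup N] {D : Type*} [CommRing D]
  [HopfAlgebra S D] (φ : D →ₐc[S] MonoidAlgebra S N)

/-- `d ↦ φ d ⊗ 1` -/
noncomputable def phiL : D →ₐ[S] MonoidAlgebra S N ⊗[S] D :=
  (Algebra.TensorProduct.includeLeft : MonoidAlgebra S N →ₐ[S] MonoidAlgebra S N ⊗[S] D).comp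
    (φ : D →ₐ[S] MonoidAlgebra S N)

/-- `d ↦ 1 ⊗ d` -/
noncomputable def incR : D →ₐ[S] MonoidAlgebra S N ⊗[S] D :=
  Algebra.TensorProduct.includeRight

/-- the translation coaction `d ↦ Σ φ d₁ ⊗ d₂` -/
noncomputable def transl : D →ₐ[S] MonoidAlgebra S N ⊗[S] D :=
  (WithConv.toConv (phiL φ) * WithConv.toConv (incR (S := S) (N := N) (D := D))).ofConv

/-- the convolution inverse of `phiL` -/
noncomputable def sig : D →ₐ[S] MonoidAlgebra S N ⊗[S] D :=
  (WithConv.toConv (phiL φ))⁻¹.ofConv

lemma sig_apply (d : D) : sig φ d = (φ (HopfAlgebra.antipode S d)) ⊗ₜ[S] (1 : D) := rfl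

lemma sig_eq_zero_of_mem (d : D) (hd : φ d = 0) : sig φ d = 0 := by
  rw [sig_apply, bialgHom_antipode, hd, map_zero, zero_tmul]

lemma sig_mul_transl :
    WithConv.toConv (sig φ) * WithConv.toConv (transl φ) =
      WithConv.toConv (incR (S := S) (N := N) (D := D)) := by
  exact inv_mul_cancel_left (WithConv.toConv (phiL φ)) (WithConv.toConv incR)

lemma incR_eq_lift (y : D) :
    (1 : MonoidAlgebra S N) ⊗ₜ[S] y =
      Algebra.TensorProduct.lift (sig φ) (transl φ) (fun _ _ => .all ..) (comul y) := by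
  have h := congrArg (fun f => f.ofConv y) (sig_mul_transl φ)
  simp only at h
  rw [AlgHom.convMul_apply] at h
  exact h.symm

lemma transl_eq_lift (y : D) :
    transl φ y = Algebra.TensorProduct.lift (phiL φ) (incR (S := S) (N := N) (D := D))
      (fun _ _ => .all ..) (comul y) := by
  exact AlgHom.convMul_apply (WithConv.toConv (phiL φ)) (WithConv.toConv incR) y

lemma transl_mul_eq_zero_of_mem_map (r : D) (hr : ∀ y, φ y = 0 → r * y = 0)
    (w : MonoidAlgebra S N ⊗[S] D)
    (hw : w ∈ Ideal.map (transl φ) (RingHom.ker (φ : D →ₐ[S] MonoidAlgebra S N))) :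
    transl φ r * w = 0 := by
  induction hw using Submodule.span_induction with
  | mem x hx =>
    obtain ⟨k, hk, rfl⟩ := hx
    change transl φ r * transl φ k = 0
    rw [← map_mul, hr k hk, map_zero]
  | zero => exact mul_zero _
  | add x y _ _ hx hy => rw [mul_add, hx, hy, add_zero]
  | smul a x _ hx => rw [smul_eq_mul, mul_left_comm, hx, mul_zero]

include φ in
lemma transl_mul_incR_eq_zero (hφ : Function.Surjective φ) (r : D)
    (hr : ∀ y, φ y = 0 → r * y = 0) (y : D) (hy : φ y = 0) :
    transl φ r * ((1 : MonoidAlgebra S N) ⊗ₜ[S] y) = 0 := by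
  rw [incR_eq_lift φ y]
  apply transl_mul_eq_zero_of_mem_map φ r hr
  have hz : comul y ∈ RingHom.ker (Algebra.TensorProduct.map (φ : D →ₐ[S] MonoidAlgebra S N)
      (φ : D →ₐ[S] MonoidAlgebra S N)) := by
    rw [RingHom.mem_ker]
    have h1 := CoalgHomClass.map_comp_comul_apply φ y
    change TensorProduct.map _ _ (comul y) = comul (φ y) at h1
    rw [hy, map_zero] at h1
    exact h1
  rw [Algebra.TensorProduct.map_ker _ _ hφ hφ] at hz
  have h2 : Ideal.map (Algebra.TensorProduct.includeLeft : D →ₐ[S] D ⊗[S] D)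
        (RingHom.ker (φ : D →ₐ[S] MonoidAlgebra S N)) ⊔
      Ideal.map (Algebra.TensorProduct.includeRight : D →ₐ[S] D ⊗[S] D)
        (RingHom.ker (φ : D →ₐ[S] MonoidAlgebra S N)) ≤
      Ideal.comap (Algebra.TensorProduct.lift (sig φ) (transl φ) (fun _ _ => .all ..))
        (Ideal.map (transl φ) (RingHom.ker (φ : D →ₐ[S] MonoidAlgebra S N))) := by
    refine sup_le ?_ ?_
    · rw [Ideal.map_le_iff_le_comap]
      intro k hk
      rw [Ideal.mem_comap, Ideal.mem_comap]
      change Algebra.TensorProduct.lift (sig φ) (transl φ) (fun _ _ => .all ..) (k ⊗ₜ 1) ∈ _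
      rw [Algebra.TensorProduct.lift_tmul, map_one, mul_one, sig_eq_zero_of_mem φ k hk]
      exact Submodule.zero_mem _
    · rw [Ideal.map_le_iff_le_comap]
      intro k hk
      rw [Ideal.mem_comap, Ideal.mem_comap]
      change Algebra.TensorProduct.lift (sig φ) (transl φ) (fun _ _ => .all ..) (1 ⊗ₜ k) ∈ _
      rw [Algebra.TensorProduct.lift_tmul, map_one, one_mul]
      exact Ideal.mem_map_of_mem _ hk
  exact h2 hz

end trans

section extract
variable {S : Type*} [CommRing S] {N : Type*} [CommGroup N] {E : Type*} [CommRing E] [Algebra S E]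

/-- `x ⊗ d ↦ coeff₁(x) • d` -/
noncomputable def ext1 : MonoidAlgebra S N ⊗[S] E →ₗ[S] E :=
  (TensorProduct.lid S E).toLinearMap ∘ₗ LinearMap.rTensor E (coeffL (1 : N))

@[simp] lemma ext1_tmul (x : MonoidAlgebra S N) (d : E) :
    ext1 (x ⊗ₜ[S] d) = x.coeff 1 • d := by
  simp [ext1, coeffL_apply]

lemma ext1_mul_incR (w : MonoidAlgebra S N ⊗[S] E) (y : E) :
    ext1 (w * ((1 : MonoidAlgebra S N) ⊗ₜ[S] y)) = ext1 w * y := by
  induction w using TensorProduct.induction_on with
  | zero => simp
  | add a b ha hb => rw [add_mul, map_add, map_add, ha, hb, add_mul]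
  | tmul x d =>
    rw [Algebra.TensorProduct.tmul_mul_tmul, mul_one, ext1_tmul, ext1_tmul, smul_mul_assoc]

lemma ext1_comul (w : MonoidAlgebra S N) :
    ext1 (comul (R := S) w) = MonoidAlgebra.single 1 (w.coeff 1) := by
  classical
  induction w using MonoidAlgebra.induction_linear with
  | zero => simp
  | add x y hx hy =>
    rw [map_add, map_add, hx, hy, MonoidAlgebra.coeff_add, Finsupp.add_apply,
      MonoidAlgebra.single_add]
  | single m r =>
    rw [MonoidAlgebra.comul_single]
    simp only [CommSemiring.comul_apply, TensorProduct.map_tmul, MonoidAlgebra.lsingle_apply,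
      ext1_tmul, MonoidAlgebra.coeff_single, Finsupp.single_apply]
    by_cases h : m = 1
    · subst h
      simp
    · simp [h]

end extract

section kill
variable {S : Type*} [CommRing S] {N : Type*} [CommGroup N] {D : Type*} [CommRing D]
  [HopfAlgebra S D] (φ : D →ₐc[S] MonoidAlgebra S N)

lemma phi_ext1_lift (z : D ⊗[S] D) :
    φ (ext1 (Algebra.TensorProduct.lift (phiL φ) (incR (S := S) (N := N) (D := D))
      (fun _ _ => .all ..) z)) =
      ext1 (TensorProduct.map (φ : D →ₗ[S] MonoidAlgebra S N) (φ : D →ₗ[S] MonoidAlgebra S N) z) := by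
  induction z using TensorProduct.induction_on with
  | zero => simp
  | add a b ha hb => rw [map_add, map_add, map_add, map_add, map_add, ha, hb]
  | tmul a b =>
    rw [Algebra.TensorProduct.lift_tmul, TensorProduct.map_tmul, ext1_tmul]
    change φ (ext1 ((φ a ⊗ₜ[S] (1 : D)) * ((1 : MonoidAlgebra S N) ⊗ₜ[S] b))) = _
    rw [ext1_mul_incR, ext1_tmul, smul_mul_assoc, one_mul, map_smul]
    rfl

/-- the translation-invariant part of an element killing the kernel also kills the kernel -/
theorem exists_kill (hφ : Function.Surjective φ) (r : D) (hr : ∀ y, φ y = 0 → r * y = 0) :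
    ∃ r₁ : D, (∀ y, φ y = 0 → r₁ * y = 0) ∧ φ r₁ = MonoidAlgebra.single 1 ((φ r).coeff 1) := by
  refine ⟨ext1 (transl φ r), ?_, ?_⟩
  · intro y hy
    rw [← ext1_mul_incR, transl_mul_incR_eq_zero φ hφ r hr y hy, map_zero]
  · rw [transl_eq_lift, phi_ext1_lift]
    have h1 := CoalgHomClass.map_comp_comul_apply φ r
    change TensorProduct.map _ _ (comul r) = comul (φ r) at h1
    rw [h1, ext1_comul]

/-- the kernel of a surjection onto a group algebra is generated by an idempotent, as soon as it
is stable under multiplication by an ideal whose image has constant coefficient in the radical -/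
theorem exists_idem (hφ : Function.Surjective φ) (J : Ideal D)
    (hfg : (RingHom.ker (φ : D →ₐ[S] MonoidAlgebra S N)).FG)
    (hJK : RingHom.ker (φ : D →ₐ[S] MonoidAlgebra S N) ≤
      J * RingHom.ker (φ : D →ₐ[S] MonoidAlgebra S N))
    (𝔧 : Ideal S) (h𝔧 : 𝔧 ≤ Ideal.jacobson ⊥) (hJ : ∀ x ∈ J, (φ x).coeff 1 ∈ 𝔧) :
    ∃ e : D, IsIdempotentElem e ∧ e ∈ J ∧
      RingHom.ker (φ : D →ₐ[S] MonoidAlgebra S N) = Ideal.span {e} := by
  obtain ⟨r, hr1, hr2⟩ := Submodule.exists_sub_one_mem_and_smul_eq_zero_of_fg_of_le_smul J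
    (RingHom.ker (φ : D →ₐ[S] MonoidAlgebra S N)) hfg (by rwa [smul_eq_mul])
  have hr : ∀ y, φ y = 0 → r * y = 0 := fun y hy => hr2 y hy
  obtain ⟨r₁, hr₁, hφr₁⟩ := exists_kill φ hφ r hr
  have ha : IsUnit ((φ r).coeff 1) := by
    have h1 : (φ r).coeff 1 - 1 ∈ Ideal.jacobson (⊥ : Ideal S) := by
      have h2 := hJ _ hr1
      have h2' : φ (r - 1) = φ r - 1 := by rw [map_sub, map_one]
      rw [h2'] at h2
      have h3 : (φ r - 1 : MonoidAlgebra S N).coeff 1 = (φ r).coeff 1 - 1 := by
        rw [MonoidAlgebra.coeff_sub, Finsupp.sub_apply, MonoidAlgebra.one_def,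
          MonoidAlgebra.coeff_single, Finsupp.single_eq_same]
      rw [h3] at h2
      exact h𝔧 h2
    have h4 := (Ideal.mem_jacobson_bot.mp h1) 1
    rwa [mul_one, sub_add_cancel] at h4
  obtain ⟨u, hu⟩ := ha
  set r' : D := (↑u⁻¹ : S) • r₁ with hr'
  have hφr' : φ r' = 1 := by
    rw [hr', map_smul, hφr₁, ← hu, MonoidAlgebra.smul_single, smul_eq_mul, Units.inv_mul,
      MonoidAlgebra.one_def]
  have hr'K : ∀ y, φ y = 0 → r' * y = 0 := by
    intro y hy
    rw [hr', smul_mul_assoc, hr₁ y hy, smul_zero]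
  have heK : φ (1 - r') = 0 := by rw [map_sub, map_one, hφr', sub_self]
  have hey : ∀ y, φ y = 0 → (1 - r') * y = y := by
    intro y hy
    rw [sub_mul, one_mul, hr'K y hy, sub_zero]
  have hKJ : RingHom.ker (φ : D →ₐ[S] MonoidAlgebra S N) ≤ J := hJK.trans Ideal.mul_le_left
  refine ⟨1 - r', hey _ heK, hKJ heK, le_antisymm ?_ ?_⟩
  · intro y hy
    rw [Ideal.mem_span_singleton']
    exact ⟨y, by rw [mul_comm]; exact hey y hy⟩
  · rw [Ideal.span_singleton_le_iff_mem]
    exact heK

end kill

end Groth.Agent.H15.MTI
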