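import Groth.Agent.S5250
import Groth.Agent.H15.MTIso1
import Groth.Agent.H15.MTRigid3

/-!
# Core of SGA3 X 3.2 over a base where the reduction is diagonalisable

`A` Noetherian `I`-adically complete, `C` a Hopf algebra of finite type over `A`, flat at the primes
containing `IC`, with `(A/I) ⊗ C ≅ (A/I)[M]`.  Then there is a surjective bialgebra map
`φ : C → A[M]` lifting the isomorphism, whose kernel is generated by an idempotent lying in `IC`.
-/

set_option autoImplicit false
set_option linter.style.haveILetI false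
universe u
open TensorProduct Coalgebra

namespace Groth.Agent.H15.MTI
open Groth.Agent.H26 Groth.Agent.H15.MTC SGA3b

section diag
variable (R : Type u) [CommRing R] (A : Type u) [CommRing A] [HopfAlgebra R A]

/-- a diagonalisable group has a chart over the base itself -/
theorem hasDChart_of_equiv {M : Type u} [CommGroup M] (e : A ≃ₐc[R] MonoidAlgebra R M) :
    HasDChart R A R M :=
  HasDChart.of_equiv ((Bialgebra.TensorProduct.lid R A).trans e)

/-- diagonalisable groups are isotrivial -/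
theorem isIsotrivial_of_isDiag (h : IsDiag R A) : IsIsotrivial R A := by
  obtain ⟨M, _, ⟨e⟩⟩ := h
  exact ⟨R, inferInstance, inferInstance, inferInstance, inferInstance, inferInstance, M,
    inferInstance, ⟨(Bialgebra.TensorProduct.lid R A).trans e⟩⟩

/-- diagonalisable groups are quasi-isotrivial -/
theorem isQuasiIsotrivial_of_isDiag (h : IsDiag R A) : IsQuasiIsotrivial R A := by
  obtain ⟨M, _, ⟨e⟩⟩ := h
  refine ⟨{1}, by simp, ?_⟩
  intro f hf
  rw [Set.mem_singleton_iff] at hf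
  subst hf
  refine ⟨Localization.Away (1 : R), inferInstance, inferInstance, inferInstance, inferInstance,
    M, inferInstance, ?_⟩
  have h1 : HasDChart R A (Localization.Away (1 : R)) M := (hasDChart_of_equiv R A e).map _
  have h2 := h1.baseChange (Localization.Away (1 : R))
  exact (h2.baseChange (Localization.Away (1 : R))).nonempty_equiv

end diag

section core
variable (A : Type u) [CommRing A] [IsNoetherianRing A] (I : Ideal A) [IsAdicComplete I A]
  (C : Type u) [CommRing C] [HopfAlgebra A C]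
  (hfl : ∀ (q : Ideal C) [q.IsPrime], Ideal.map (algebraMap A C) I ≤ q →
    Module.Flat A (Localization.AtPrime q))
  (M : Type u) [CommGroup M] (ε : ((A ⧸ I) ⊗[A] C) ≃ₐc[A ⧸ I] MonoidAlgebra (A ⧸ I) M)

include hfl in
/-- lifting the trivialisation of the reduction to a bialgebra map -/
theorem exists_lift_iso :
    ∃ φ : C →ₐc[A] MonoidAlgebra A M, ∀ c : C,
      mapCoeff (S := A) (S' := A ⧸ I) M (φ c) = ε ((1 : A ⧸ I) ⊗ₜ[A] c) := by
  have hG : IsIsotrivial A (MonoidAlgebra A M) :=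
    isIsotrivial_of_isDiag A _ ⟨M, inferInstance, ⟨BialgEquiv.refl A _⟩⟩
  have h0 : IsQuasiIsotrivial (A ⧸ I) ((A ⧸ I) ⊗[A] C) :=
    isQuasiIsotrivial_of_isDiag _ _ ⟨M, inferInstance, ⟨ε⟩⟩
  have hL : IsChart A (MonoidAlgebra A M) (A ⧸ I) M (mapCoeff (S := A) (S' := A ⧸ I) M) :=
    ⟨isCoalgMapOver_mapCoeff M, isBaseChange_mapCoeff M⟩
  let φ₀ : ((A ⧸ I) ⊗[A] C) →ₐc[A ⧸ I] ((A ⧸ I) ⊗[A] MonoidAlgebra A M) :=
    ((chartEquiv hL).symm : MonoidAlgebra (A ⧸ I) M →ₐc[A ⧸ I] _).comp
      (ε : ((A ⧸ I) ⊗[A] C) →ₐc[A ⧸ I] MonoidAlgebra (A ⧸ I) M)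
  obtain ⟨φ, hφ⟩ := (Groth.Agent.S5250.result A I (MonoidAlgebra A M) hG C hfl h0).2 φ₀
  refine ⟨φ, fun c => ?_⟩
  have h1 := hφ c
  have h2 : chartEquiv hL ((1 : A ⧸ I) ⊗ₜ[A] φ c) = mapCoeff (S := A) (S' := A ⧸ I) M (φ c) := by
    rw [chartEquiv_tmul, one_smul]
  rw [← h2, ← h1]
  change chartEquiv hL ((chartEquiv hL).symm (ε _)) = _
  rw [BialgEquiv.apply_symm_apply]

variable {A C M} in
omit [IsNoetherianRing A] in
/-- a lift of the trivialisation is surjective -/
theorem surjective_of_lift (φ : C →ₐc[A] MonoidAlgebra A M)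
    (hφ : ∀ c : C, mapCoeff (S := A) (S' := A ⧸ I) M (φ c) = ε ((1 : A ⧸ I) ⊗ₜ[A] c)) :
    Function.Surjective φ := by
  apply surjective_of_gradedIdeal_eq_top
  intro n
  obtain ⟨t, ht⟩ := ε.surjective (MonoidAlgebra.single n 1)
  obtain ⟨c, rfl⟩ := Algebra.TensorProduct.includeRight_surjective (R := A) (S := A ⧸ I) C
    Ideal.Quotient.mk_surjective t
  have h1 : (φ c).coeff n ∈ gradedIdeal φ n := coeff_mem_gradedIdeal φ (φ c) ⟨c, rfl⟩ n
  have h2 : algebraMap A (A ⧸ I) ((φ c).coeff n) = 1 := by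
    rw [← mapCoeff_coeff, hφ c]
    change (ε ((1 : A ⧸ I) ⊗ₜ[A] c)).coeff n = 1
    have ht' : ε ((1 : A ⧸ I) ⊗ₜ[A] c) = MonoidAlgebra.single n 1 := ht
    rw [ht', MonoidAlgebra.coeff_single, Finsupp.single_eq_same]
  have h3 : (φ c).coeff n - 1 ∈ I := by
    rw [← Ideal.Quotient.eq_zero_iff_mem, map_sub, map_one]
    rw [Ideal.Quotient.algebraMap_eq] at h2
    rw [h2, sub_self]
  have h4 := (Ideal.mem_jacobson_bot.mp (IsAdicComplete.le_jacobson_bot I h3)) 1
  rw [mul_one, sub_add_cancel] at h4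
  exact Ideal.eq_top_of_isUnit_mem _ h1 h4

variable {A C M} in
omit [IsNoetherianRing A] [IsAdicComplete I A] in
/-- the kernel of a lift of the trivialisation lies in `IC` -/
theorem ker_le_map_of_lift (φ : C →ₐc[A] MonoidAlgebra A M)
    (hφ : ∀ c : C, mapCoeff (S := A) (S' := A ⧸ I) M (φ c) = ε ((1 : A ⧸ I) ⊗ₜ[A] c))
    (y : C) (hy : φ y = 0) : y ∈ (I • ⊤ : Submodule A C) := by
  apply mem_smul_top_of_one_tmul_eq_zero
  apply ε.injective
  change ε ((1 : A ⧸ I) ⊗ₜ[A] y) = ε 0
  rw [← hφ y, hy, map_zero, map_zero]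

variable {A C M} in
omit [IsNoetherianRing A] [IsAdicComplete I A] in
/-- the kernel `K` of a surjection onto a group algebra satisfies `K ∩ IC ≤ (IC) K` -/
theorem mem_mul_ker_of_mem_smul_top (φ : C →ₐc[A] MonoidAlgebra A M)
    (hsurj : Function.Surjective φ) (y : C) (hy : φ y = 0)
    (hyI : y ∈ (I • ⊤ : Submodule A C)) :
    y ∈ Ideal.map (algebraMap A C) I * RingHom.ker (φ : C →ₐ[A] MonoidAlgebra A M) := by
  obtain ⟨s, hs⟩ := Module.projective_lifting_property
    ((φ : C →ₐ[A] MonoidAlgebra A M).toLinearMap) LinearMap.id hsurj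
  have hs' : ∀ w, φ (s w) = w := fun w => LinearMap.congr_fun hs w
  have key : ∀ x ∈ (I • ⊤ : Submodule A C), x - s (φ x) ∈
      Ideal.map (algebraMap A C) I * RingHom.ker (φ : C →ₐ[A] MonoidAlgebra A M) := by
    intro x hx
    refine Submodule.smul_induction_on hx ?_ ?_
    · intro a ha c _
      have h1 : a • c - s (φ (a • c)) = algebraMap A C a * (c - s (φ c)) := by
        rw [map_smul, map_smul, ← smul_sub, Algebra.smul_def]
      rw [h1]
      apply Ideal.mul_mem_mul (Ideal.mem_map_of_mem _ ha)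
      rw [RingHom.mem_ker]
      change φ (c - s (φ c)) = 0
      rw [map_sub, hs', sub_self]
    · intro x y hx hy
      have h1 : x + y - s (φ (x + y)) = (x - s (φ x)) + (y - s (φ y)) := by
        rw [map_add, map_add]
        ring
      rw [h1]
      exact Ideal.add_mem _ hx hy
  have h2 := key y hyI
  rwa [hy, map_zero, sub_zero] at h2

include hfl in
/-- **Core**: the trivialisation lifts to a surjection onto the group algebra, whose kernel is
generated by an idempotent lying in `IC`. -/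
theorem exists_surj_idem (hft : Algebra.FiniteType A C) :
    ∃ (φ : C →ₐc[A] MonoidAlgebra A M) (e : C), Function.Surjective φ ∧
      (∀ c : C, mapCoeff (S := A) (S' := A ⧸ I) M (φ c) = ε ((1 : A ⧸ I) ⊗ₜ[A] c)) ∧
      IsIdempotentElem e ∧ e ∈ Ideal.map (algebraMap A C) I ∧
      RingHom.ker (φ : C →ₐ[A] MonoidAlgebra A M) = Ideal.span {e} := by
  obtain ⟨φ, hφ⟩ := exists_lift_iso A I C hfl M ε
  have hsurj := surjective_of_lift I ε φ hφ
  haveI : IsNoetherianRing C := Algebra.FiniteType.isNoetherianRing A C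
  have hfg : (RingHom.ker (φ : C →ₐ[A] MonoidAlgebra A M)).FG :=
    (isNoetherianRing_iff_ideal_fg C).mp inferInstance _
  have hJK : RingHom.ker (φ : C →ₐ[A] MonoidAlgebra A M) ≤
      Ideal.map (algebraMap A C) I * RingHom.ker (φ : C →ₐ[A] MonoidAlgebra A M) := by
    intro y hy
    exact mem_mul_ker_of_mem_smul_top I φ hsurj y hy (ker_le_map_of_lift I ε φ hφ y hy)
  have hJ : ∀ x ∈ Ideal.map (algebraMap A C) I, (φ x).coeff 1 ∈ I := by
    intro x hx
    have hx' : x ∈ (I • ⊤ : Submodule A C) := by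
      rw [Ideal.smul_top_eq_map]
      exact hx
    have h1 := map_mem_smul_top I
      ((coeffL (1 : M)) ∘ₗ (φ : C →ₐ[A] MonoidAlgebra A M).toLinearMap) hx'
    rw [smul_eq_mul, Ideal.mul_top] at h1
    exact h1
  obtain ⟨e, he1, he2, he3⟩ := exists_idem φ hsurj (Ideal.map (algebraMap A C) I) hfg hJK I
    (IsAdicComplete.le_jacobson_bot I) hJ
  exact ⟨φ, e, hsurj, hφ, he1, he2, he3⟩

end core

end Groth.Agent.H15.MTI
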