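import Groth.Agent.H15.MTIso3

/-!
# Separation lemmas and uniqueness of idempotents lying in `I P`
-/

set_option autoImplicit false
set_option linter.style.haveILetI false
universe u
open TensorProduct Coalgebra

namespace Groth.Agent.H15.MTI
open Groth.Agent.H26 Groth.Agent.H15.MTC SGA3b

section sep
variable {A : Type*} [CommRing A] [IsNoetherianRing A] (I : Ideal A)
  {A' : Type*} [CommRing A'] [Algebra A A'] [Module.Finite A A']

include A' in
/-- free modules over a finite algebra over a Noetherian ring are separated for ideals in the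
radical -/
theorem eq_zero_of_forall_mem_pow_smul_top_free (hI : I ≤ Ideal.jacobson ⊥)
    {F : Type*} [AddCommGroup F] [Module A F] [Module A' F] [IsScalarTower A A' F]
    [Module.Free A' F] (x : F) (hx : ∀ n : ℕ, x ∈ (I ^ n • ⊤ : Submodule A F)) : x = 0 := by
  let b := Module.Free.chooseBasis A' F
  apply b.ext_elem
  intro i
  rw [map_zero, Finsupp.zero_apply]
  have h1 : ∀ n : ℕ, ((b.coord i).restrictScalars A) x ∈ (I ^ n • ⊤ : Submodule A A') :=
    fun n => map_mem_smul_top (I ^ n) ((b.coord i).restrictScalars A) (hx n)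
  have h2 : ((b.coord i).restrictScalars A) x ∈ (⨅ n : ℕ, I ^ n • ⊤ : Submodule A A') := by
    rw [Submodule.mem_iInf]
    exact h1
  rw [Ideal.iInf_pow_smul_eq_bot_of_le_jacobson I hI, Submodule.mem_bot] at h2
  exact h2

include A' in
/-- modules embedding in a free module over a finite algebra are separated -/
theorem eq_zero_of_forall_mem_pow_smul_top_of_injective (hI : I ≤ Ideal.jacobson ⊥)
    {F : Type*} [AddCommGroup F] [Module A F] [Module A' F] [IsScalarTower A A' F]
    [Module.Free A' F] {X : Type*} [AddCommGroup X] [Module A X] (j : X →ₗ[A] F)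
    (hj : Function.Injective j) (x : X) (hx : ∀ n : ℕ, x ∈ (I ^ n • ⊤ : Submodule A X)) :
    x = 0 := by
  apply hj
  rw [map_zero]
  exact eq_zero_of_forall_mem_pow_smul_top_free (A' := A') I hI (j x)
    (fun n => map_mem_smul_top (I ^ n) j (hx n))

end sep

section idem
variable {A : Type*} [CommRing A] (I : Ideal A) {P : Type*} [CommRing P] [Algebra A P]

/-- powers of elements of `I P` lie in `I^n P` -/
theorem pow_mem_pow_smul_top {x : P} (hx : x ∈ (I • ⊤ : Submodule A P)) (n : ℕ) :
    x ^ n ∈ (I ^ n • ⊤ : Submodule A P) := by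
  rw [Ideal.smul_top_eq_map] at hx ⊢
  change x ^ n ∈ Ideal.map (algebraMap A P) (I ^ n)
  rw [Ideal.map_pow]
  exact Ideal.pow_mem_pow hx n

/-- an idempotent of `I P` lies in every `I^n P` -/
theorem idem_mem_pow_smul_top {e : P} (he : IsIdempotentElem e)
    (hx : e ∈ (I • ⊤ : Submodule A P)) (n : ℕ) : e ∈ (I ^ n • ⊤ : Submodule A P) := by
  rcases n with _ | n
  · rw [pow_zero, Ideal.one_eq_top, Submodule.top_smul]
    trivial
  · have h1 := pow_mem_pow_smul_top I hx (n + 1)
    rwa [he.pow_succ_eq] at h1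

end idem

section bcsep
variable {A : Type u} [CommRing A] [IsNoetherianRing A] (I : Ideal A)
  {A' : Type u} [CommRing A'] [Algebra A A'] {C : Type u} [CommRing C] [Algebra A C]
  {M : Type u} [CommGroup M] (φ : (A' ⊗[A] C) →ₐ[A'] MonoidAlgebra A' M)
  (B : Type u) [CommRing B] [Algebra A B] [Algebra A' B] [IsScalarTower A A' B]

/-- the base change map `A' ⊗ C → B ⊗ C` -/
noncomputable def gBC : (A' ⊗[A] C) →ₐ[A'] (B ⊗[A] C) :=
  Algebra.TensorProduct.map (Algebra.ofId A' B) (AlgHom.id A C)

omit [IsNoetherianRing A] in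
lemma gBC_tmul (a : A') (c : C) : gBC (A := A) (C := C) B (a ⊗ₜ[A] c) = algebraMap A' B a ⊗ₜ[A] c := rfl

/-- the base change of `φ` to `B` -/
noncomputable def phiBC : (B ⊗[A] C) →ₐ[B] MonoidAlgebra B M :=
  Algebra.TensorProduct.lift (Algebra.ofId B (MonoidAlgebra B M))
    (((mapCoeff (S := A') (S' := B) M).restrictScalars A).comp
      ((φ.restrictScalars A).comp (Algebra.TensorProduct.includeRight : C →ₐ[A] A' ⊗[A] C)))
    (fun _ _ => Commute.all _ _)

omit [IsNoetherianRing A] in
lemma phiBC_tmul (b : B) (c : C) :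
    phiBC φ B (b ⊗ₜ[A] c) = b • mapCoeff (S := A') (S' := B) M (φ ((1 : A') ⊗ₜ[A] c)) := by
  rw [phiBC, Algebra.TensorProduct.lift_tmul, Algebra.ofId_apply, ← Algebra.smul_def]
  rfl

omit [IsNoetherianRing A] in
lemma phiBC_gBC (y : A' ⊗[A] C) :
    phiBC φ B (gBC B y) = mapCoeff (S := A') (S' := B) M (φ y) := by
  induction y using TensorProduct.induction_on with
  | zero => simp
  | add a b ha hb => rw [map_add, map_add, map_add, map_add, ha, hb]
  | tmul a c =>
    rw [gBC_tmul, phiBC_tmul]
    have h1 : a ⊗ₜ[A] c = a • ((1 : A') ⊗ₜ[A] c) := by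
      rw [TensorProduct.smul_tmul', smul_eq_mul, mul_one]
    rw [h1, map_smul, map_smul, algebraMap_smul]

omit [IsNoetherianRing A] in
/-- the kernel of the base change of `φ` is generated by the image of `e'` -/
theorem one_sub_mul_eq_zero_of_phiBC_eq_zero (hφ : Function.Surjective φ) (e' : A' ⊗[A] C)
    (hker : RingHom.ker φ = Ideal.span {e'}) (he' : IsIdempotentElem e')
    (x : B ⊗[A] C) (hx : phiBC φ B x = 0) : (1 - gBC B e') * x = 0 := by
  obtain ⟨s, hs⟩ := Module.projective_lifting_property φ.toLinearMap LinearMap.id hφ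
  have hs' : ∀ w, φ (s w) = w := fun w => LinearMap.congr_fun hs w
  -- the identity on `A' ⊗ C`
  have F3 : ∀ y : A' ⊗[A] C, (1 - e') * y = (1 - e') * s (φ y) := by
    intro y
    have h1 : y - s (φ y) ∈ RingHom.ker φ := by
      rw [RingHom.mem_ker, map_sub, hs', sub_self]
    rw [hker, Ideal.mem_span_singleton'] at h1
    obtain ⟨z, hz⟩ := h1
    have h2 : (1 - e') * (y - s (φ y)) = 0 := by
      rw [← hz, mul_comm z e', ← mul_assoc, sub_mul, one_mul, he'.eq, sub_self, zero_mul]
    rw [mul_sub, sub_eq_zero] at h2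
    exact h2
  -- the base change of the section
  let sB : MonoidAlgebra B M →ₗ[B] B ⊗[A] C :=
    (isBaseChange_mapCoeff (S := A') (S' := B) M).lift ((gBC B).toLinearMap ∘ₗ s)
  have F2 : ∀ w : MonoidAlgebra A' M, sB (mapCoeff (S := A') (S' := B) M w) = gBC B (s w) :=
    fun w => (isBaseChange_mapCoeff (S := A') (S' := B) M).lift_eq _ w
  have F4 : ∀ x : B ⊗[A] C, (1 - gBC B e') * x = (1 - gBC B e') * sB (phiBC φ B x) := by
    intro x
    induction x using TensorProduct.induction_on with
    | zero => simp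
    | add a b ha hb => rw [mul_add, ha, hb, map_add, map_add, mul_add]
    | tmul b c =>
      have h1 : b ⊗ₜ[A] c = b • gBC (A := A) (C := C) B ((1 : A') ⊗ₜ[A] c) := by
        rw [gBC_tmul, map_one, TensorProduct.smul_tmul', smul_eq_mul, mul_one]
      have h2 : (1 - gBC B e') * gBC (A := A) (C := C) B ((1 : A') ⊗ₜ[A] c) =
          (1 - gBC B e') * sB (phiBC φ B (gBC B ((1 : A') ⊗ₜ[A] c))) := by
        rw [phiBC_gBC, F2]
        have h3 := congrArg (gBC (A := A) (C := C) B) (F3 ((1 : A') ⊗ₜ[A] c))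
        rw [map_mul, map_mul, map_sub, map_one] at h3
        exact h3
      rw [h1, mul_smul_comm, h2, map_smul, map_smul, mul_smul_comm]
  rw [F4 x, hx, map_zero, mul_zero]

omit [IsNoetherianRing A] in
/-- `e'` lies in `I (A' ⊗ C)` -/
lemma gBC_mem_smul_top (e' : A' ⊗[A] C) (he : e' ∈ (I • ⊤ : Submodule A (A' ⊗[A] C))) :
    gBC (A := A) (C := C) B e' ∈ (I • ⊤ : Submodule A (B ⊗[A] C)) :=
  map_mem_smul_top I ((gBC (A := A) (C := C) B).toLinearMap.restrictScalars A) he

/-- **separation**: elements of `⋂ Iⁿ (B ⊗ C)` are multiples of the image of `e'` -/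
theorem one_sub_mul_eq_zero_of_forall_mem [Module.Finite A B] (hI : I ≤ Ideal.jacobson ⊥)
    (hφ : Function.Surjective φ) (e' : A' ⊗[A] C)
    (hker : RingHom.ker φ = Ideal.span {e'}) (he' : IsIdempotentElem e')
    (x : B ⊗[A] C) (hx : ∀ n : ℕ, x ∈ (I ^ n • ⊤ : Submodule A (B ⊗[A] C))) :
    (1 - gBC B e') * x = 0 := by
  apply one_sub_mul_eq_zero_of_phiBC_eq_zero φ B hφ e' hker he'
  exact eq_zero_of_forall_mem_pow_smul_top_free (A' := B) I hI _
    (fun n => map_mem_smul_top (I ^ n) ((phiBC φ B).toLinearMap.restrictScalars A) (hx n))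

end bcsep

section descent
variable {A : Type u} [CommRing A] [IsNoetherianRing A] (I : Ideal A)
  {A' : Type u} [CommRing A'] [Algebra A A'] [Module.Finite A A'] [Module.FaithfullyFlat A A']
  {C : Type u} [CommRing C] [Algebra A C] {M : Type u} [CommGroup M]
  (φ : (A' ⊗[A] C) →ₐ[A'] MonoidAlgebra A' M)

/-- the swap of the two factors of `A' ⊗ A'`, on `(A' ⊗ A') ⊗ C` -/
noncomputable def swapC : ((A' ⊗[A] A') ⊗[A] C) →ₐ[A] ((A' ⊗[A] A') ⊗[A] C) :=
  Algebra.TensorProduct.map
    ((Algebra.TensorProduct.comm A A' A' : A' ⊗[A] A' ≃ₐ[A] A' ⊗[A] A') :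
      A' ⊗[A] A' →ₐ[A] A' ⊗[A] A') (AlgHom.id A C)

omit [IsNoetherianRing A] [Module.Finite A A'] [Module.FaithfullyFlat A A'] in
lemma swapC_swapC (x : (A' ⊗[A] A') ⊗[A] C) : swapC (swapC x) = x := by
  induction x using TensorProduct.induction_on with
  | zero => simp
  | add a b ha hb => rw [map_add, map_add, ha, hb]
  | tmul t c =>
    induction t using TensorProduct.induction_on with
    | zero => simp
    | add a b ha hb => rw [TensorProduct.add_tmul, map_add, map_add, ha, hb]
    | tmul a b => simp [swapC]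

omit [IsNoetherianRing A] [Module.Finite A A'] [Module.FaithfullyFlat A A'] in
lemma map_includeLeft_eq (y : A' ⊗[A] C) :
    TensorProduct.map (Algebra.TensorProduct.includeLeft : A' →ₐ[A] A' ⊗[A] A').toLinearMap
      LinearMap.id y = gBC (A := A) (C := C) (A' ⊗[A] A') y := by
  induction y using TensorProduct.induction_on with
  | zero => simp
  | add a b ha hb => rw [map_add, map_add, ha, hb]
  | tmul a c => rfl

omit [IsNoetherianRing A] [Module.Finite A A'] [Module.FaithfullyFlat A A'] in
lemma map_includeRight_eq (y : A' ⊗[A] C) :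
    TensorProduct.map (Algebra.TensorProduct.includeRight : A' →ₐ[A] A' ⊗[A] A').toLinearMap
      LinearMap.id y = swapC (gBC (A := A) (C := C) (A' ⊗[A] A') y) := by
  induction y using TensorProduct.induction_on with
  | zero => simp
  | add a b ha hb => rw [map_add, map_add, map_add, ha, hb]
  | tmul a c => simp [swapC, gBC_tmul]

/-- the idempotent generating the kernel descends to `C` -/
theorem exists_descent (hI : I ≤ Ideal.jacobson ⊥) (hφ : Function.Surjective φ)
    (e' : A' ⊗[A] C) (hker : RingHom.ker φ = Ideal.span {e'}) (he' : IsIdempotentElem e')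
    (heI : e' ∈ (I • ⊤ : Submodule A (A' ⊗[A] C))) : ∃ e : C, (1 : A') ⊗ₜ[A] e = e' := by
  apply Groth.Agent.H15.MTA.exists_of_map_include_eq A A' C e'
  rw [map_includeLeft_eq, map_includeRight_eq]
  set eL := gBC (A := A) (C := C) (A' ⊗[A] A') e' with heL
  set eR := swapC eL with heR
  have hLidem : IsIdempotentElem eL := he'.map (gBC (A := A) (C := C) (A' ⊗[A] A'))
  have hRidem : IsIdempotentElem eR := hLidem.map swapC
  have hLI : eL ∈ (I • ⊤ : Submodule A ((A' ⊗[A] A') ⊗[A] C)) := gBC_mem_smul_top I _ e' heI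
  have hRI : eR ∈ (I • ⊤ : Submodule A ((A' ⊗[A] A') ⊗[A] C)) :=
    map_mem_smul_top I (swapC (A := A) (A' := A') (C := C)).toLinearMap hLI
  have h1 : (1 - eL) * eR = 0 :=
    one_sub_mul_eq_zero_of_forall_mem I φ (A' ⊗[A] A') hI hφ e' hker he' eR
      (fun n => idem_mem_pow_smul_top I hRidem hRI n)
  have h2 : (1 - eR) * eL = 0 := by
    have h3 := congrArg (swapC (A := A) (A' := A') (C := C)) h1
    rw [map_mul, map_sub, map_one, map_zero, ← heR, heR, swapC_swapC, ← heR] at h3
    exact h3
  rw [sub_mul, one_mul, sub_eq_zero] at h1 h2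
  rw [h2, mul_comm, ← h1]

end descent

end Groth.Agent.H15.MTI
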