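import Groth.Agent.H15.MTIso4

/-!
# The descended idempotent cuts out an isotrivial closed and open subgroup
-/

set_option autoImplicit false
set_option linter.style.haveILetI false
universe u
open TensorProduct Coalgebra

namespace Groth.Agent.H15.MTI
open Groth.Agent.H26 Groth.Agent.H15.MTC SGA3b

section quot
variable {A : Type u} [CommRing A] {A' : Type u} [CommRing A'] [Algebra A A']
  {C : Type u} [CommRing C] [Algebra A C] {M : Type u} [CommGroup M]
  (φ : (A' ⊗[A] C) →ₐ[A'] MonoidAlgebra A' M) (e : C)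

/-- `c ↦ φ (1 ⊗ c)` -/
noncomputable def lC : C →ₐ[A] MonoidAlgebra A' M :=
  (φ.restrictScalars A).comp (Algebra.TensorProduct.includeRight : C →ₐ[A] A' ⊗[A] C)

lemma lC_apply (c : C) : lC φ c = φ ((1 : A') ⊗ₜ[A] c) := rfl

/-- the induced map on the quotient by `(e)` -/
noncomputable def jQ (he : φ ((1 : A') ⊗ₜ[A] e) = 0) :
    (C ⧸ Ideal.span {e}) →ₐ[A] MonoidAlgebra A' M :=
  Ideal.Quotient.liftₐ (Ideal.span {e}) (lC φ) (by
    intro a ha
    rw [Ideal.mem_span_singleton'] at ha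
    obtain ⟨z, rfl⟩ := ha
    rw [map_mul, lC_apply φ e, he, mul_zero])

lemma jQ_mk (he : φ ((1 : A') ⊗ₜ[A] e) = 0) (c : C) :
    jQ φ e he (Ideal.Quotient.mk _ c) = φ ((1 : A') ⊗ₜ[A] c) := rfl

variable [Module.FaithfullyFlat A A']

/-- kernel of `c ↦ φ (1 ⊗ c)` -/
lemma mem_span_of_phi_eq_zero (hker : RingHom.ker φ = Ideal.span {(1 : A') ⊗ₜ[A] e})
    (he : IsIdempotentElem e) (c : C) (hc : φ ((1 : A') ⊗ₜ[A] c) = 0) : c ∈ Ideal.span {e} := by
  have h1 : (1 : A') ⊗ₜ[A] c ∈ RingHom.ker φ := hc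
  rw [hker, Ideal.mem_span_singleton'] at h1
  obtain ⟨z, hz⟩ := h1
  have h2 : (1 : A') ⊗ₜ[A] ((1 - e) * c) = 0 := by
    have h3 : (1 : A') ⊗ₜ[A] ((1 - e) * c) =
        ((1 : A') ⊗ₜ[A] (1 - e)) * ((1 : A') ⊗ₜ[A] c) := by
      rw [Algebra.TensorProduct.tmul_mul_tmul, mul_one]
    rw [h3, ← hz, mul_comm z, ← mul_assoc, Algebra.TensorProduct.tmul_mul_tmul, mul_one,
      sub_mul, one_mul, he.eq, sub_self, tmul_zero, zero_mul]
  have h4 : (1 - e) * c = 0 := by
    apply Module.FaithfullyFlat.tensorProduct_mk_injective (A := A) (B := A') C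
    change (1 : A') ⊗ₜ[A] ((1 - e) * c) = (1 : A') ⊗ₜ[A] (0 : C)
    rw [h2, tmul_zero]
  rw [sub_mul, one_mul, sub_eq_zero] at h4
  rw [Ideal.mem_span_singleton']
  exact ⟨c, by rw [mul_comm]; exact h4.symm⟩

lemma jQ_injective (hker : RingHom.ker φ = Ideal.span {(1 : A') ⊗ₜ[A] e})
    (he : IsIdempotentElem e) (he0 : φ ((1 : A') ⊗ₜ[A] e) = 0) :
    Function.Injective (jQ φ e he0) := by
  rw [injective_iff_map_eq_zero]
  intro x hx
  obtain ⟨c, rfl⟩ := Ideal.Quotient.mk_surjective x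
  rw [jQ_mk] at hx
  exact Ideal.Quotient.eq_zero_iff_mem.mpr (mem_span_of_phi_eq_zero φ e hker he c hx)

/-- the `A'`-algebra map `A' ⊗ (C/(e)) → A'[M]` -/
noncomputable def thetaQ (he0 : φ ((1 : A') ⊗ₜ[A] e) = 0) :
    (A' ⊗[A] (C ⧸ Ideal.span {e})) →ₐ[A'] MonoidAlgebra A' M :=
  Algebra.TensorProduct.lift (Algebra.ofId A' (MonoidAlgebra A' M)) (jQ φ e he0)
    (fun _ _ => Commute.all _ _)

omit [Module.FaithfullyFlat A A'] in
lemma thetaQ_tmul (he0 : φ ((1 : A') ⊗ₜ[A] e) = 0) (a : A') (x : C ⧸ Ideal.span {e}) :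
    thetaQ φ e he0 (a ⊗ₜ[A] x) = a • jQ φ e he0 x := by
  rw [thetaQ, Algebra.TensorProduct.lift_tmul, Algebra.ofId_apply, ← Algebra.smul_def]

/-- the quotient map `A' ⊗ C → A' ⊗ (C/(e))` -/
noncomputable def rhoQ : (A' ⊗[A] C) →ₐ[A'] (A' ⊗[A] (C ⧸ Ideal.span {e})) :=
  Algebra.TensorProduct.map (AlgHom.id A' A') (Ideal.Quotient.mkₐ A (Ideal.span {e}))

omit [Module.FaithfullyFlat A A'] in
lemma thetaQ_rhoQ (he0 : φ ((1 : A') ⊗ₜ[A] e) = 0) (y : A' ⊗[A] C) :
    thetaQ φ e he0 (rhoQ e y) = φ y := by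
  induction y using TensorProduct.induction_on with
  | zero => simp
  | add a b ha hb => rw [map_add, map_add, map_add, ha, hb]
  | tmul a c =>
    change thetaQ φ e he0 (a ⊗ₜ[A] (Ideal.Quotient.mk _ c)) = _
    rw [thetaQ_tmul, jQ_mk]
    have h1 : a ⊗ₜ[A] c = a • ((1 : A') ⊗ₜ[A] c) := by
      rw [TensorProduct.smul_tmul', smul_eq_mul, mul_one]
    rw [h1, map_smul]

omit [Module.FaithfullyFlat A A'] in
lemma thetaQ_bijective (hφ : Function.Surjective φ)
    (hker : RingHom.ker φ = Ideal.span {(1 : A') ⊗ₜ[A] e})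
    (he0 : φ ((1 : A') ⊗ₜ[A] e) = 0) : Function.Bijective (thetaQ φ e he0) := by
  have hρ : Function.Surjective (rhoQ (A := A) (A' := A') e) :=
    Algebra.TensorProduct.map_surjective _ _ Function.surjective_id Ideal.Quotient.mk_surjective
  constructor
  · rw [injective_iff_map_eq_zero]
    intro x hx
    obtain ⟨y, rfl⟩ := hρ x
    rw [thetaQ_rhoQ] at hx
    have h1 : y ∈ RingHom.ker φ := hx
    rw [hker, Ideal.mem_span_singleton'] at h1
    obtain ⟨z, rfl⟩ := h1
    rw [map_mul]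
    have h2 : rhoQ (A := A) (A' := A') e ((1 : A') ⊗ₜ[A] e) = 0 := by
      change (1 : A') ⊗ₜ[A] (Ideal.Quotient.mk (Ideal.span {e}) e) = 0
      rw [Ideal.Quotient.eq_zero_iff_mem.mpr (Ideal.mem_span_singleton_self e), tmul_zero]
    rw [h2, mul_zero]
  · intro w
    obtain ⟨y, rfl⟩ := hφ w
    exact ⟨rhoQ e y, thetaQ_rhoQ φ e he0 y⟩

end quot

section props
variable {A : Type u} [CommRing A] (I : Ideal A)
  {A' : Type u} [CommRing A'] [Algebra A A'] [Module.FaithfullyFlat A A']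
  {C : Type u} [CommRing C] [Algebra A C]

omit I in
lemma idem_of_tmul (e : C) (h : IsIdempotentElem ((1 : A') ⊗ₜ[A] e)) : IsIdempotentElem e := by
  apply Module.FaithfullyFlat.tensorProduct_mk_injective (A := A) (B := A') C
  change (1 : A') ⊗ₜ[A] (e * e) = (1 : A') ⊗ₜ[A] e
  have h1 : (1 : A') ⊗ₜ[A] (e * e) = ((1 : A') ⊗ₜ[A] e) * ((1 : A') ⊗ₜ[A] e) := by
    rw [Algebra.TensorProduct.tmul_mul_tmul, mul_one]
  rw [h1, h.eq]

lemma mem_smul_top_of_tmul {X : Type*} [AddCommGroup X] [Module A X] (x : X)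
    (h : (1 : A') ⊗ₜ[A] x ∈ (I • ⊤ : Submodule A (A' ⊗[A] X))) :
    x ∈ (I • ⊤ : Submodule A X) := by
  have h1 := map_mem_smul_top I
    ((LinearMap.lTensor A' (I • ⊤ : Submodule A X).mkQ)) h
  have h2 : (I • ⊤ : Submodule A (A' ⊗[A] (X ⧸ (I • ⊤ : Submodule A X)))) = ⊥ := by
    rw [eq_bot_iff]
    intro t ht
    refine Submodule.smul_induction_on ht ?_ ?_
    · intro a ha t ht'
      clear ht'
      rw [Submodule.mem_bot]
      induction t using TensorProduct.induction_on with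
      | zero => simp
      | add u v hu hv => rw [smul_add, hu, hv, add_zero]
      | tmul b y =>
        obtain ⟨y, rfl⟩ := Submodule.Quotient.mk_surjective _ y
        rw [← TensorProduct.tmul_smul, ← Submodule.Quotient.mk_smul,
          (Submodule.Quotient.mk_eq_zero _).mpr
            (Submodule.smul_mem_smul ha (Submodule.mem_top (x := y))), tmul_zero]
    · intro u v hu hv
      exact add_mem hu hv
  rw [h2, Submodule.mem_bot, LinearMap.lTensor_tmul] at h1
  have h3 : (I • ⊤ : Submodule A X).mkQ x = 0 := by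
    apply Module.FaithfullyFlat.tensorProduct_mk_injective (A := A) (B := A')
      (X ⧸ (I • ⊤ : Submodule A X))
    change (1 : A') ⊗ₜ[A] _ = (1 : A') ⊗ₜ[A] 0
    rw [h1, tmul_zero]
  rwa [Submodule.mkQ_apply, Submodule.Quotient.mk_eq_zero] at h3

end props

section jac
variable {A : Type*} [CommRing A]

lemma idem_eq_zero_of_mem_jacobson {a : A} (ha : IsIdempotentElem a)
    (h : a ∈ Ideal.jacobson (⊥ : Ideal A)) : a = 0 := by
  have h1 := (Ideal.mem_jacobson_bot.mp h) (-1)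
  have h2 : a * (a * -1 + 1) = 0 := by
    rw [mul_add, mul_one, mul_neg, mul_one, ← mul_neg_one, ← mul_assoc, ha.eq]
    ring
  exact (h1.mul_left_eq_zero).mp h2

end jac

section hopf
variable {A : Type u} [CommRing A] [IsNoetherianRing A] (I : Ideal A)
  {A' : Type u} [CommRing A'] [Algebra A A'] [Module.Finite A A'] [Module.FaithfullyFlat A A']
  {C : Type u} [CommRing C] [HopfAlgebra A C] {M : Type u} [CommGroup M]
  (φ : (A' ⊗[A] C) →ₐc[A'] MonoidAlgebra A' M) (e : C)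

include φ in
/-- the quotient `C/(e)` is `I`-adically separated -/
theorem quot_sep (hI : I ≤ Ideal.jacobson ⊥)
    (hker : RingHom.ker (φ : (A' ⊗[A] C) →ₐ[A'] MonoidAlgebra A' M) =
      Ideal.span {(1 : A') ⊗ₜ[A] e}) (he : IsIdempotentElem e)
    (x : C ⧸ Ideal.span {e}) (hx : ∀ n : ℕ, x ∈ (I ^ n • ⊤ : Submodule A (C ⧸ Ideal.span {e}))) :
    x = 0 := by
  have he0 : (φ : (A' ⊗[A] C) →ₐ[A'] MonoidAlgebra A' M) ((1 : A') ⊗ₜ[A] e) = 0 := by
    rw [← RingHom.mem_ker, hker]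
    exact Ideal.mem_span_singleton_self _
  exact eq_zero_of_forall_mem_pow_smul_top_of_injective (A' := A') I hI
    (F := MonoidAlgebra A' M) (jQ _ e he0).toLinearMap (jQ_injective _ e hker he he0) x hx

include φ in
/-- the quotient `C/(e) ⊗ C/(e)` is `I`-adically separated -/
theorem quot_tensor_sep (hI : I ≤ Ideal.jacobson ⊥) (hφ : Function.Surjective φ)
    (hker : RingHom.ker (φ : (A' ⊗[A] C) →ₐ[A'] MonoidAlgebra A' M) =
      Ideal.span {(1 : A') ⊗ₜ[A] e})
    (x : (C ⧸ Ideal.span {e}) ⊗[A] (C ⧸ Ideal.span {e}))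
    (hx : ∀ n : ℕ, x ∈ (I ^ n • ⊤ :
      Submodule A ((C ⧸ Ideal.span {e}) ⊗[A] (C ⧸ Ideal.span {e})))) :
    x = 0 := by
  have he0 : (φ : (A' ⊗[A] C) →ₐ[A'] MonoidAlgebra A' M) ((1 : A') ⊗ₜ[A] e) = 0 := by
    rw [← RingHom.mem_ker, hker]
    exact Ideal.mem_span_singleton_self _
  let θ : (A' ⊗[A] (C ⧸ Ideal.span {e})) ≃ₗ[A'] MonoidAlgebra A' M :=
    LinearEquiv.ofBijective (thetaQ _ e he0).toLinearMap (thetaQ_bijective _ e hφ hker he0)
  let d := TensorProduct.AlgebraTensorModule.distribBaseChange A A'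
    (C ⧸ Ideal.span {e}) (C ⧸ Ideal.span {e})
  let c := TensorProduct.congr θ θ
  let J : (C ⧸ Ideal.span {e}) ⊗[A] (C ⧸ Ideal.span {e}) →ₗ[A]
      MonoidAlgebra A' M ⊗[A'] MonoidAlgebra A' M :=
    ((d.trans c).toLinearMap.restrictScalars A) ∘ₗ
      (TensorProduct.mk A A' ((C ⧸ Ideal.span {e}) ⊗[A] (C ⧸ Ideal.span {e})) 1)
  have hJ : Function.Injective J := by
    intro u v huv
    apply Module.FaithfullyFlat.tensorProduct_mk_injective (A := A) (B := A')
    exact (d.trans c).injective huv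
  exact eq_zero_of_forall_mem_pow_smul_top_of_injective (A' := A') I hI J hJ x hx

include φ in
/-- `(e)` is a Hopf ideal -/
theorem isHopfIdeal_span (hI : I ≤ Ideal.jacobson ⊥) (hφ : Function.Surjective φ)
    (hker : RingHom.ker (φ : (A' ⊗[A] C) →ₐ[A'] MonoidAlgebra A' M) =
      Ideal.span {(1 : A') ⊗ₜ[A] e}) (he : IsIdempotentElem e)
    (heI : e ∈ (I • ⊤ : Submodule A C)) : (Ideal.span {e}).IsHopfIdeal A := by
  -- the counit kills `e`
  have hce : counit (R := A) e = 0 := by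
    apply idem_eq_zero_of_mem_jacobson
    · change counit (R := A) e * counit (R := A) e = counit (R := A) e
      rw [← Bialgebra.counit_mul, he.eq]
    · apply hI
      have h1 := map_mem_smul_top I (counit (R := A) (A := C)) heI
      rwa [smul_eq_mul, Ideal.mul_top] at h1
  -- the antipode of `e` lies in `(e)`
  have hSe : HopfAlgebra.antipode A e ∈ Ideal.span {e} := by
    rw [← Ideal.Quotient.eq_zero_iff_mem]
    apply quot_sep I φ e hI hker he
    apply idem_mem_pow_smul_top I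
    · have h1 : IsIdempotentElem (HopfAlgebra.antipodeAlgHom A C e) :=
        he.map (HopfAlgebra.antipodeAlgHom A C)
      exact h1.map (Ideal.Quotient.mk (Ideal.span {e}))
    · exact map_mem_smul_top I
        ((Ideal.Quotient.mkₐ A (Ideal.span {e})).toLinearMap ∘ₗ HopfAlgebra.antipode A) heI
  -- the comultiplication of `e` dies in the quotient
  have hΔe : (Algebra.TensorProduct.map (Ideal.Quotient.mkₐ A (Ideal.span {e}))
      (Ideal.Quotient.mkₐ A (Ideal.span {e}))) (Bialgebra.comulAlgHom A C e) = 0 := by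
    apply quot_tensor_sep I φ e hI hφ hker
    apply idem_mem_pow_smul_top I
    · exact (he.map (Bialgebra.comulAlgHom A C)).map _
    · exact map_mem_smul_top I
        ((Algebra.TensorProduct.map (Ideal.Quotient.mkₐ A (Ideal.span {e}))
          (Ideal.Quotient.mkₐ A (Ideal.span {e}))).toLinearMap ∘ₗ
          (Bialgebra.comulAlgHom A C).toLinearMap) heI
  refine { counit_eq_zero := ?_, map_mkQ_comul_eq_zero := ?_, antipode_mem := ?_ }
  · intro x hx
    rw [Submodule.restrictScalars_mem, Ideal.mem_span_singleton'] at hx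
    obtain ⟨z, rfl⟩ := hx
    rw [Bialgebra.counit_mul, hce, mul_zero]
  · intro x hx
    rw [Submodule.restrictScalars_mem, Ideal.mem_span_singleton'] at hx
    obtain ⟨z, rfl⟩ := hx
    change (Algebra.TensorProduct.map (Ideal.Quotient.mkₐ A (Ideal.span {e}))
      (Ideal.Quotient.mkₐ A (Ideal.span {e}))) (Bialgebra.comulAlgHom A C (z * e)) = 0
    rw [map_mul, map_mul, hΔe, mul_zero]
  · intro x hx
    rw [Ideal.mem_span_singleton'] at hx
    obtain ⟨z, rfl⟩ := hx
    rw [HopfAlgebra.antipode_mul_distrib]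
    exact Ideal.mul_mem_left _ _ hSe

omit [IsNoetherianRing A] [Module.Finite A A'] [Module.FaithfullyFlat A A'] in
/-- `c ↦ φ (1 ⊗ c)` is a coalgebra map over `A → A'` -/
lemma lC_coalg : IsCoalgMapOver A'
    (lC (φ : (A' ⊗[A] C) →ₐ[A'] MonoidAlgebra A' M)).toLinearMap :=
  IsCoalgMapOver.comp (S₂ := A')
    (isCoalgMapOver_of_coalgHom (φ : (A' ⊗[A] C) →ₗc[A'] MonoidAlgebra A' M))
    (isCoalgMapOver_inc (R := A) A' C)

omit [IsNoetherianRing A] [Module.Finite A A'] [Module.FaithfullyFlat A A'] in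
/-- the quotient by `(e)` becomes `A'[M]` over `A'` -/
theorem nonempty_equiv_quot [(Ideal.span {e}).IsHopfIdeal A] (hφ : Function.Surjective φ)
    (hker : RingHom.ker (φ : (A' ⊗[A] C) →ₐ[A'] MonoidAlgebra A' M) =
      Ideal.span {(1 : A') ⊗ₜ[A] e}) :
    Nonempty ((A' ⊗[A] (C ⧸ Ideal.span {e})) ≃ₐc[A'] MonoidAlgebra A' M) := by
  have he0 : (φ : (A' ⊗[A] C) →ₐ[A'] MonoidAlgebra A' M) ((1 : A') ⊗ₜ[A] e) = 0 := by
    rw [← RingHom.mem_ker, hker]
    exact Ideal.mem_span_singleton_self _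
  set j := jQ (φ : (A' ⊗[A] C) →ₐ[A'] MonoidAlgebra A' M) e he0 with hj
  let mkl : C →ₗ[A] C ⧸ Ideal.span {e} := (Ideal.Quotient.mkₐ A (Ideal.span {e})).toLinearMap
  have hcomp : j.toLinearMap ∘ₗ mkl =
      (lC (φ : (A' ⊗[A] C) →ₐ[A'] MonoidAlgebra A' M)).toLinearMap := LinearMap.ext fun a => rfl
  have hl := lC_coalg φ
  have hL : IsChart A (C ⧸ Ideal.span {e}) A' M j := by
    refine ⟨⟨?_, ?_⟩, ?_⟩
    · intro c
      obtain ⟨a, rfl⟩ := Ideal.Quotient.mk_surjective c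
      have h3 := hl.comul a
      have h4 : Coalgebra.comul (R := A) (Ideal.Quotient.mk (Ideal.span {e}) a) =
          TensorProduct.map mkl mkl (Coalgebra.comul (R := A) a) :=
        Bialgebra.Quotient.comul_mk (Ideal.span {e}) a
      rw [h4, ← Groth.Agent.H15.MTQ.tmul₂_comp_map, hcomp]
      exact h3
    · intro c
      obtain ⟨a, rfl⟩ := Ideal.Quotient.mk_surjective c
      have h3 := hl.counit a
      have h4 : Coalgebra.counit (R := A) (Ideal.Quotient.mk (Ideal.span {e}) a) =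
          Coalgebra.counit (R := A) a :=
        Bialgebra.Quotient.counit_mk (Ideal.span {e}) a
      rw [h4]
      exact h3
    · let θ : (A' ⊗[A] (C ⧸ Ideal.span {e})) ≃ₗ[A'] MonoidAlgebra A' M :=
        LinearEquiv.ofBijective (thetaQ _ e he0).toLinearMap (thetaQ_bijective _ e hφ hker he0)
      refine IsBaseChange.of_equiv θ (fun x => ?_)
      change thetaQ _ e he0 ((1 : A') ⊗ₜ[A] x) = j x
      rw [thetaQ_tmul, one_smul]
  exact ⟨chartEquiv hL⟩

end hopf

section main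
variable (A : Type u) [CommRing A] [IsNoetherianRing A] (I : Ideal A) [IsAdicComplete I A]
  (C : Type u) [CommRing C] [HopfAlgebra A C]

/-- **SGA3 X 3.2** (affine form): the open and closed isotrivial subgroup of multiplicative type
lifting the reduction. -/
theorem exists_clopen_subgroup (hft : Algebra.FiniteType A C)
    (hfl : ∀ (q : Ideal C) [q.IsPrime], Ideal.map (algebraMap A C) I ≤ q →
      Module.Flat A (Localization.AtPrime q))
    (h0 : IsIsotrivial (A ⧸ I) ((A ⧸ I) ⊗[A] C)) :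
    ∃ e : C, IsIdempotentElem e ∧ e ∈ Ideal.map (algebraMap A C) I ∧
      ∃ _ : (Ideal.span {e}).IsHopfIdeal A, IsIsotrivial A (C ⧸ Ideal.span {e}) := by
  obtain ⟨A', _, _, het, hfin, hff, M, _, φ, e', hφ, he'idem, he'I, hker⟩ :=
    exists_cover_idem A I C hft hfl h0
  have hI := IsAdicComplete.le_jacobson_bot I
  have heI' : e' ∈ (I • ⊤ : Submodule A (A' ⊗[A] C)) := by
    rw [Ideal.map_map, ← IsScalarTower.algebraMap_eq] at he'I
    rw [Ideal.smul_top_eq_map]
    exact he'I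
  obtain ⟨e, he⟩ := exists_descent I (φ : (A' ⊗[A] C) →ₐ[A'] MonoidAlgebra A' M) hI hφ e' hker
    he'idem heI'
  subst he
  have heidem : IsIdempotentElem e := idem_of_tmul e he'idem
  have heI : e ∈ (I • ⊤ : Submodule A C) := mem_smul_top_of_tmul I e heI'
  haveI := isHopfIdeal_span I φ e hI hφ hker heidem heI
  refine ⟨e, heidem, ?_, inferInstance, ?_⟩
  · rw [Ideal.smul_top_eq_map] at heI
    exact heI
  · obtain ⟨eq⟩ := nonempty_equiv_quot φ e hφ hker
    exact ⟨A', inferInstance, inferInstance, het, hfin, hff, M, inferInstance, ⟨eq⟩⟩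

end main

end Groth.Agent.H15.MTI
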