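import Groth.Agent.H15.MTIso6
import Groth.Agent.H15.MTRigid3
import Groth.Agent.H15.MultDense

/-!
# Groups of multiplicative type: flatness, finiteness of torsion, `I`-adic separation, and
SGA3 X 3.3 (multiplicative type with isotrivial reduction over a complete base is isotrivial)
-/

set_option autoImplicit false
set_option linter.style.haveILetI false
universe u
open TensorProduct Coalgebra

namespace Groth.Agent.H15.MTI
open Groth.Agent.H26 Groth.Agent.H15.MTC SGA3b

section flat
variable (R : Type u) [CommRing R] (A : Type u) [CommRing A] [HopfAlgebra R A]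

/-- constant multiplicative type implies flat -/
theorem flat_of_isMultTypeConst (h : IsMultTypeConst R A) : Module.Flat R A := by
  obtain ⟨R', _, _, hff, M, _, ⟨E⟩⟩ := h
  haveI := hff
  haveI : Module.Flat R' (R' ⊗[R] A) :=
    Module.Flat.of_linearEquiv (E.toLinearEquiv : (R' ⊗[R] A) ≃ₗ[R'] MonoidAlgebra R' M)
  exact Module.Flat.of_flat_tensorProduct R A R'

/-- groups of multiplicative type are flat -/
theorem flat_of_isMultType (h : IsMultType R A) : Module.Flat R A := by
  obtain ⟨s, hs, hconst⟩ := h
  haveI : ∀ g : s, IsLocalizedModule.Away g.1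
      (TensorProduct.mk R (Localization.Away g.1) A 1) := fun g =>
    (isLocalizedModule_iff_isBaseChange (Submonoid.powers g.1) (Localization.Away g.1) _).mpr
      (TensorProduct.isBaseChange R A (Localization.Away g.1))
  apply Module.flat_of_isLocalized_span R A s hs
    (fun g => Localization.Away g.1 ⊗[R] A)
    (fun g => TensorProduct.mk R (Localization.Away g.1) A 1)
  intro g
  haveI : Module.Flat (Localization.Away g.1) (Localization.Away g.1 ⊗[R] A) :=
    flat_of_isMultTypeConst _ _ (hconst g.1 g.2)
  exact Module.Flat.trans R (Localization.Away g.1) _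

end flat

section torsfin
variable (R : Type u) [CommRing R] (A : Type u) [CommRing A] [HopfAlgebra R A]

/-- the torsion subgroups of a group of multiplicative type and of finite type are finite -/
theorem finite_quot_torsionIdeal_of_isMultType (hft : Algebra.FiniteType R A)
    (h : IsMultType R A) (n : ℕ) (hn : 0 < n) :
    Module.Finite R (A ⧸ torsionIdeal R A n) := by
  obtain ⟨s, hs, hconst⟩ := h
  haveI : ∀ g : s, IsLocalizedModule.Away g.1
      (TensorProduct.mk R (Localization.Away g.1) (A ⧸ torsionIdeal R A n) 1) := fun g =>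
    (isLocalizedModule_iff_isBaseChange (Submonoid.powers g.1) (Localization.Away g.1) _).mpr
      (TensorProduct.isBaseChange R (A ⧸ torsionIdeal R A n) (Localization.Away g.1))
  apply Module.Finite.of_localizationSpan' s hs
    (Rₚ := fun g => Localization.Away g.1)
    (f := fun g => TensorProduct.mk R (Localization.Away g.1) (A ⧸ torsionIdeal R A n) 1)
  intro g
  obtain ⟨R', _, _, hff, N, _, ⟨E⟩⟩ := hconst g.1 g.2
  haveI := hff
  obtain ⟨l, hco, hbc⟩ := HasDChart.of_equiv E
  have hftX : Algebra.FiniteType (Localization.Away g.1) (Localization.Away g.1 ⊗[R] A) :=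
    inferInstance
  haveI hfinX := finite_quot_torsionIdeal (R := Localization.Away g.1)
    (A := Localization.Away g.1 ⊗[R] A) ⟨hco, hbc⟩ hftX n hn
  let ρ : (Localization.Away g.1 ⊗[R] A) →ₐ[Localization.Away g.1]
      (Localization.Away g.1 ⊗[R] (A ⧸ torsionIdeal R A n)) :=
    Algebra.TensorProduct.map (AlgHom.id _ _) (Ideal.Quotient.mkₐ R (torsionIdeal R A n))
  have hρ : Function.Surjective ρ :=
    Algebra.TensorProduct.map_surjective _ _ Function.surjective_id Ideal.Quotient.mk_surjective
  let ρ' : ((Localization.Away g.1 ⊗[R] A) ⧸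
      torsionIdeal (Localization.Away g.1) (Localization.Away g.1 ⊗[R] A) n)
      →ₐ[Localization.Away g.1] (Localization.Away g.1 ⊗[R] (A ⧸ torsionIdeal R A n)) :=
    Ideal.Quotient.liftₐ _ ρ (fun a ha => torsionIdeal_bc_le_ker (Localization.Away g.1) n ha)
  have hρ' : Function.Surjective ρ' := by
    intro y
    obtain ⟨x, rfl⟩ := hρ y
    exact ⟨Ideal.Quotient.mk _ x, rfl⟩
  exact Module.Finite.of_surjective ρ'.toLinearMap hρ'

end torsfin

section sepmt
variable (R : Type u) [CommRing R] [IsNoetherianRing R] (I : Ideal R)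
  (A : Type u) [CommRing A] [HopfAlgebra R A]

/-- groups of multiplicative type and of finite type over a Noetherian ring are separated for
ideals in the radical -/
theorem eq_zero_of_forall_mem_pow_smul_top_of_isMultType (hI : I ≤ Ideal.jacobson ⊥)
    (hft : Algebra.FiniteType R A) (h : IsMultType R A) (y : A)
    (hy : ∀ k : ℕ, y ∈ (I ^ k • ⊤ : Submodule R A)) : y = 0 := by
  have hd := Groth.Agent.H15.MT.dense_of_isMultType R A hft h
  obtain ⟨j, hj⟩ := hd 1 y (fun n hn => by
    refine ⟨0, ?_⟩
    rw [pow_zero, one_mul]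
    haveI := finite_quot_torsionIdeal_of_isMultType R A hft h n hn
    rw [← Ideal.Quotient.eq_zero_iff_mem]
    have h1 : ∀ k : ℕ, (Ideal.Quotient.mk (torsionIdeal R A n) y) ∈
        (I ^ k • ⊤ : Submodule R (A ⧸ torsionIdeal R A n)) := fun k =>
      map_mem_smul_top (I ^ k) (Ideal.Quotient.mkₐ R (torsionIdeal R A n)).toLinearMap (hy k)
    have h2 : (Ideal.Quotient.mk (torsionIdeal R A n) y) ∈
        (⨅ k : ℕ, I ^ k • ⊤ : Submodule R (A ⧸ torsionIdeal R A n)) := by
      rw [Submodule.mem_iInf]
      exact h1
    rw [Ideal.iInf_pow_smul_eq_bot_of_le_jacobson I hI, Submodule.mem_bot] at h2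
    exact h2)
  rwa [one_pow, one_mul] at hj

end sepmt

section main
variable (R : Type u) [CommRing R] [IsNoetherianRing R] (I : Ideal R) [IsAdicComplete I R]
  (A : Type u) [CommRing A] [HopfAlgebra R A]

/-- **SGA3 X 3.3**: a group of multiplicative type and of finite type over a complete Noetherian
base whose reduction is isotrivial is isotrivial -/
theorem isIsotrivial_of_isMultType (hft : Algebra.FiniteType R A) (h : IsMultType R A)
    (h0 : IsIsotrivial (R ⧸ I) ((R ⧸ I) ⊗[R] A)) : IsIsotrivial R A := by
  haveI : Module.Flat R A := flat_of_isMultType R A h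
  have hfl : ∀ (q : Ideal A) [q.IsPrime], Ideal.map (algebraMap R A) I ≤ q →
      Module.Flat R (Localization.AtPrime q) := fun q _ _ =>
    Module.Flat.trans R A (Localization.AtPrime q)
  obtain ⟨e, heidem, heI, hH, hiso⟩ := exists_clopen_subgroup R I A hft hfl h0
  have he0 : e = 0 := by
    apply eq_zero_of_forall_mem_pow_smul_top_of_isMultType R I A
      (IsAdicComplete.le_jacobson_bot I) hft h
    apply idem_mem_pow_smul_top I heidem
    rw [Ideal.smul_top_eq_map]
    exact heI
  subst he0
  exact isIsotrivial_of_quot_zero hiso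

end main

end Groth.Agent.H15.MTI
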