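import Groth.Agent.H15.MTTors

/-! Twisted quotient charts: a chart `A → K[N]`, a complete family of orthogonal idempotents `ε α`
of `K` and surjections `π α : N → M` give a chart `A/J → K[M]` when the extension of `J` is the
kernel of the twisted quotient map `K[N] → K[M]`, `n ↦ ∑ ε α • π α n`. -/

set_option autoImplicit false
set_option linter.style.haveILetI false
universe u
open TensorProduct Coalgebra

namespace Groth.Agent.H15.MTQ
open Groth.Agent.H26 Groth.Agent.H15.MTC

section twist

variable {K : Type*} [CommRing K] {N M : Type*} [CommGroup N] [CommGroup M]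
  {ι : Type*} [Fintype ι] [DecidableEq ι] {ε : ι → K}

lemma smul_mul_smul_idem (he : CompleteOrthogonalIdempotents ε) {B : Type*} [CommRing B]
    [Algebra K B] (α β : ι) (x y : B) :
    (ε α • x) * (ε β • y) = if α = β then ε α • (x * y) else 0 := by
  rw [smul_mul_smul_comm]
  split_ifs with h
  · subst h
    rw [(he.idem α).eq]
  · rw [he.ortho h, zero_smul]

lemma sum_smul_mul_sum_smul (he : CompleteOrthogonalIdempotents ε) {B : Type*} [CommRing B]
    [Algebra K B] (x y : ι → B) :
    (∑ α, ε α • x α) * (∑ β, ε β • y β) = ∑ α, ε α • (x α * y α) := by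
  rw [Finset.sum_mul_sum]
  apply Finset.sum_congr rfl
  intro α _
  rw [Finset.sum_eq_single α]
  · rw [smul_mul_smul_idem he, if_pos rfl]
  · intro β _ hβ
    rw [smul_mul_smul_idem he, if_neg (Ne.symm hβ)]
  · intro h; exact absurd (Finset.mem_univ α) h

/-- the twisted monoid hom `n ↦ ∑ ε α • π α n` -/
noncomputable def twistHom (he : CompleteOrthogonalIdempotents ε) (π : ι → N →* M) :
    N →* MonoidAlgebra K M where
  toFun n := ∑ α, ε α • MonoidAlgebra.single (π α n) (1 : K)
  map_one' := by
    simp only [map_one]
    rw [← Finset.sum_smul, he.complete, one_smul]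
    rfl
  map_mul' n n' := by
    rw [sum_smul_mul_sum_smul he]
    apply Finset.sum_congr rfl
    intro α _
    rw [MonoidAlgebra.single_mul_single, mul_one, map_mul]

/-- the twisted quotient map -/
noncomputable def qtw (he : CompleteOrthogonalIdempotents ε) (π : ι → N →* M) :
    MonoidAlgebra K N →ₐ[K] MonoidAlgebra K M :=
  MonoidAlgebra.lift K (MonoidAlgebra K M) N (twistHom he π)

lemma qtw_single (he : CompleteOrthogonalIdempotents ε) (π : ι → N →* M) (n : N) (r : K) :
    qtw he π (MonoidAlgebra.single n r) = r • ∑ α, ε α • MonoidAlgebra.single (π α n) (1 : K) := by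
  unfold qtw
  rw [MonoidAlgebra.lift_single]
  rfl

lemma isCoalgMapOver_qtw (he : CompleteOrthogonalIdempotents ε) (π : ι → N →* M) :
    IsCoalgMapOver K (qtw he π).toLinearMap where
  comul y := by
    have key : (Coalgebra.comul (R := K) (A := MonoidAlgebra K M)) ∘ₗ (qtw he π).toLinearMap =
        tmul₂ K (qtw he π).toLinearMap ∘ₗ Coalgebra.comul (R := K) (A := MonoidAlgebra K N) := by
      apply MonoidAlgebra.lhom_ext'
      intro n
      ext
      simp only [LinearMap.comp_apply, MonoidAlgebra.lsingle_apply, AlgHom.toLinearMap_apply]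
      have h1 : Coalgebra.comul (R := K) (MonoidAlgebra.single n (1 : K) : MonoidAlgebra K N) =
          (MonoidAlgebra.single n 1) ⊗ₜ[K] (MonoidAlgebra.single n 1) :=
        (MonoidAlgebra.isGroupLikeElem_single_one (R := K) (A := K) n).comul_eq_tmul_self
      rw [h1, tmul₂_tmul, AlgHom.toLinearMap_apply, qtw_single, one_smul, map_sum,
        TensorProduct.sum_tmul]
      apply Finset.sum_congr rfl
      intro α _
      rw [TensorProduct.tmul_sum, Finset.sum_eq_single α]
      · rw [TensorProduct.smul_tmul_smul, (he.idem α).eq, map_smul]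
        congr 1
        exact (MonoidAlgebra.isGroupLikeElem_single_one (R := K) (A := K) (π α n)).comul_eq_tmul_self
      · intro β _ hβ
        rw [TensorProduct.smul_tmul_smul, he.ortho (Ne.symm hβ), zero_smul]
      · intro h; exact absurd (Finset.mem_univ α) h
    exact LinearMap.congr_fun key y
  counit y := by
    have key : (Coalgebra.counit (R := K) (A := MonoidAlgebra K M)) ∘ₗ (qtw he π).toLinearMap =
        Coalgebra.counit (R := K) (A := MonoidAlgebra K N) := by
      apply MonoidAlgebra.lhom_ext'
      intro n
      ext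
      simp only [LinearMap.comp_apply, MonoidAlgebra.lsingle_apply, AlgHom.toLinearMap_apply]
      rw [qtw_single, one_smul, map_sum]
      have : ∀ α, Coalgebra.counit (R := K) (ε α • MonoidAlgebra.single (π α n) (1 : K) :
          MonoidAlgebra K M) = ε α := by
        intro α
        rw [map_smul]
        simp
      simp only [this, he.complete]
      simp
    exact LinearMap.congr_fun key y

end twist

variable {R : Type u} [CommRing R] {A : Type u} [CommRing A] [HopfAlgebra R A]
  {K : Type u} [CommRing K] [Algebra R K] {N M : Type u} [CommGroup N] [CommGroup M]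
  {ι : Type u} [Fintype ι] [DecidableEq ι] {ε : ι → K}

/-- twisted quotient chart -/
theorem hasDChart_twist (l : A →ₐ[R] MonoidAlgebra K N)
    (hco : IsCoalgMapOver K l.toLinearMap) (hbc : IsBaseChange K l.toLinearMap)
    (J : Ideal A) [J.IsHopfIdeal R] (he : CompleteOrthogonalIdempotents ε)
    (π : ι → N →* M) (hπ : ∀ α, Function.Surjective (π α))
    (h1 : ∀ a ∈ J, qtw he π (l a) = 0)
    (h2 : ∀ α, ∀ h ∈ (π α).ker,
      ε α • (MonoidAlgebra.single h (1 : K) - 1 : MonoidAlgebra K N) ∈
        Submodule.span K (l '' (J : Set A))) :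
    HasDChart R (A ⧸ J) K M := by
  classical
  let q : MonoidAlgebra K N →ₐ[K] MonoidAlgebra K M := qtw he π
  have hq : q = qtw he π := rfl
  let ql : A →ₐ[R] MonoidAlgebra K M := (q.restrictScalars R).comp l
  have hql : IsCoalgMapOver K ql.toLinearMap := by
    have h0 := IsCoalgMapOver.comp (S₂ := K) (isCoalgMapOver_qtw he π) hco
    have e : ql.toLinearMap = ((qtw he π).toLinearMap.restrictScalars R) ∘ₗ l.toLinearMap :=
      LinearMap.ext fun _ => rfl
    rw [e]
    exact h0
  let lbar : A ⧸ J →ₐ[R] MonoidAlgebra K M :=
    Ideal.Quotient.liftₐ J ql (fun a ha => h1 a ha)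
  have hlbar : ∀ a, lbar (Ideal.Quotient.mk J a) = q (l a) := fun a => rfl
  let mkl : A →ₗ[R] A ⧸ J := (Ideal.Quotient.mkₐ R J).toLinearMap
  have hcomp : lbar.toLinearMap ∘ₗ mkl = ql.toLinearMap := LinearMap.ext fun a => rfl
  refine ⟨lbar, ⟨?_, ?_⟩, ?_⟩
  · intro c
    obtain ⟨a, rfl⟩ := Ideal.Quotient.mk_surjective c
    have h3 := hql.comul a
    have h4 : Coalgebra.comul (R := R) (Ideal.Quotient.mk J a) =
        TensorProduct.map mkl mkl (Coalgebra.comul (R := R) a) :=
      Bialgebra.Quotient.comul_mk J a
    rw [h4, ← tmul₂_comp_map, hcomp]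
    exact h3
  · intro c
    obtain ⟨a, rfl⟩ := Ideal.Quotient.mk_surjective c
    have h3 := hql.counit a
    have h4 : Coalgebra.counit (R := R) (Ideal.Quotient.mk J a) = Coalgebra.counit (R := R) a :=
      Bialgebra.Quotient.counit_mk J a
    rw [h4]
    exact h3
  · apply IsBaseChange.of_lift_unique
    intro Q _ _ _ _ g
    let G : MonoidAlgebra K N →ₗ[K] Q := hbc.lift (g ∘ₗ mkl)
    have hG : ∀ a, G (l a) = g (Ideal.Quotient.mk J a) := fun a => hbc.lift_eq _ a
    have hGJ : ∀ y ∈ Submodule.span K (l '' (J : Set A)), G y = 0 := by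
      intro y hy
      induction hy using Submodule.span_induction with
      | mem x hx =>
        obtain ⟨a, ha, rfl⟩ := hx
        rw [hG, Ideal.Quotient.eq_zero_iff_mem.mpr ha, map_zero]
      | zero => exact map_zero _
      | add x y _ _ hx hy => rw [map_add, hx, hy, add_zero]
      | smul r x _ hx => rw [map_smul, hx, smul_zero]
    have hGh : ∀ (α : ι) (n : N) (h : N), h ∈ (π α).ker →
        G (ε α • MonoidAlgebra.single (n * h) 1) = G (ε α • MonoidAlgebra.single n 1) := by
      intro α n h hh
      have e1 : (ε α • MonoidAlgebra.single (n * h) (1 : K) : MonoidAlgebra K N) =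
          ε α • MonoidAlgebra.single n 1 +
          (ε α • (MonoidAlgebra.single h 1 - 1)) * MonoidAlgebra.single n 1 := by
        rw [smul_mul_assoc, sub_mul, one_mul, MonoidAlgebra.single_mul_single, mul_one,
          mul_comm h n, smul_sub]
        abel
      have h3 := hGJ _ (span_image_mul_mem l hbc J _ (h2 α h hh) (MonoidAlgebra.single n 1))
      rw [e1, map_add, h3, add_zero]
    let sec : ι → M → N := fun α => Function.surjInv (hπ α)
    have hsec : ∀ α m, π α (sec α m) = m := fun α m => Function.surjInv_eq (hπ α) m
    let g' : MonoidAlgebra K M →ₗ[K] Q :=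
      (MonoidAlgebra.basis M K).constr K
        (fun m => ∑ α, G (ε α • MonoidAlgebra.single (sec α m) 1))
    have hg'b : ∀ m, g' (MonoidAlgebra.single m 1) =
        ∑ α, G (ε α • MonoidAlgebra.single (sec α m) 1) := by
      intro m
      rw [← MonoidAlgebra.basis_apply (R := M) K m, Module.Basis.constr_basis]
    have hg'q : g' ∘ₗ q.toLinearMap = G := by
      apply MonoidAlgebra.lhom_ext'
      intro n
      ext
      simp only [LinearMap.comp_apply, MonoidAlgebra.lsingle_apply, AlgHom.toLinearMap_apply]
      rw [hq, qtw_single, one_smul, map_sum]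
      have h5 : ∀ α, g' (ε α • MonoidAlgebra.single (π α n) (1 : K)) =
          G (ε α • MonoidAlgebra.single n 1) := by
        intro α
        rw [map_smul, hg'b, Finset.smul_sum, Finset.sum_eq_single α]
        · rw [← map_smul, smul_smul, (he.idem α).eq]
          obtain ⟨h, hh, hnh⟩ : ∃ h, h ∈ (π α).ker ∧ sec α (π α n) = n * h := by
            refine ⟨n⁻¹ * sec α (π α n), ?_, by group⟩
            rw [MonoidHom.mem_ker, map_mul, map_inv, hsec, inv_mul_cancel]
          rw [hnh]
          exact hGh α n h hh
        · intro β _ hβ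
          rw [← map_smul, smul_smul, he.ortho (Ne.symm hβ), zero_smul, map_zero]
        · intro h; exact absurd (Finset.mem_univ α) h
      rw [Finset.sum_congr rfl (fun α _ => h5 α), ← map_sum, ← Finset.sum_smul, he.complete,
        one_smul]
    have hg'q' : ∀ y, g' (q y) = G y := fun y => LinearMap.congr_fun hg'q y
    refine ⟨g', ?_, ?_⟩
    · refine LinearMap.ext fun c => ?_
      obtain ⟨a, rfl⟩ := Ideal.Quotient.mk_surjective c
      change g' (lbar (Ideal.Quotient.mk J a)) = _
      rw [hlbar, hg'q', hG]
    · intro g'' hg''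
      have h5 : g'' ∘ₗ q.toLinearMap = G := by
        apply hbc.algHom_ext
        intro a
        change g'' (q (l a)) = G (l a)
        rw [hG, ← hlbar]
        exact LinearMap.congr_fun hg'' (Ideal.Quotient.mk J a)
      have hqs : Function.Surjective q.toLinearMap := by
        intro y
        induction y using MonoidAlgebra.induction_linear with
        | zero => exact ⟨0, map_zero _⟩
        | add f g hf hg =>
          obtain ⟨a, ha⟩ := hf
          obtain ⟨b, hb⟩ := hg
          exact ⟨a + b, by rw [map_add, ha, hb]⟩
        | single m r =>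
          refine ⟨∑ α, ε α • MonoidAlgebra.single (sec α m) r, ?_⟩
          rw [map_sum]
          have h6 : ∀ α, q.toLinearMap (ε α • MonoidAlgebra.single (sec α m) r) =
              ε α • MonoidAlgebra.single m r := by
            intro α
            rw [map_smul, AlgHom.toLinearMap_apply, hq, qtw_single, Finset.smul_sum,
              Finset.smul_sum, Finset.sum_eq_single α]
            · rw [hsec, smul_smul, smul_smul]
              have e : ε α * r * ε α = ε α * r := by rw [mul_right_comm, (he.idem α).eq]
              rw [e, ← smul_smul, MonoidAlgebra.smul_single, smul_eq_mul, mul_one]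
            · intro β _ hβ
              rw [smul_smul, smul_smul]
              have e : ε α * r * ε β = 0 := by
                rw [mul_right_comm, he.ortho (Ne.symm hβ), zero_mul]
              rw [e, zero_smul]
            · intro h; exact absurd (Finset.mem_univ α) h
          rw [Finset.sum_congr rfl (fun α _ => h6 α), ← Finset.sum_smul, he.complete, one_smul]
      rw [← LinearMap.cancel_right hqs, h5, hg'q]

end Groth.Agent.H15.MTQ
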