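import Groth.Agent.H15.MTLift1
import Groth.Agent.H15.FFDescElem

set_option autoImplicit false
set_option linter.style.haveILetI false
universe u
open TensorProduct Coalgebra

namespace Groth.Agent.H15.MTC
open Groth.Agent.H26 Groth.Agent.H15.GLD

attribute [local instance] Algebra.TensorProduct.rightAlgebra

section maprange
variable {S : Type*} [CommRing S] {S' : Type*} [CommRing S'] [Algebra S S'] (N : Type*) [Monoid N]

/-- change of coefficients of a group algebra, as an `S`-algebra map -/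
noncomputable abbrev mapCoeff : MonoidAlgebra S N →ₐ[S] MonoidAlgebra S' N :=
  MonoidAlgebra.mapAlgHom N (Algebra.ofId S S')

lemma mapCoeff_coeff (y : MonoidAlgebra S N) (n : N) :
    (mapCoeff (S' := S') N y).coeff n = algebraMap S S' (y.coeff n) := by
  simp [mapCoeff]

lemma isBaseChange_mapCoeff : IsBaseChange S' (mapCoeff (S := S) (S' := S') N).toLinearMap := by
  refine (IsBaseChange.iff_of_equiv_comm (MonoidAlgebra.coeffLinearEquiv S)
    (MonoidAlgebra.coeffLinearEquiv S') ?_).mpr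
    (IsBaseChange.finsuppPow N (IsBaseChange.linearMap S S'))
  ext y n
  simp [mapCoeff]

lemma isCoalgMapOver_mapCoeff : IsCoalgMapOver S' (mapCoeff (S := S) (S' := S') N).toLinearMap where
  comul y := by
    induction y using MonoidAlgebra.induction_linear with
    | zero => simp
    | add x y hx hy => rw [map_add, map_add, map_add, map_add, hx, hy]
    | single n r =>
      simp only [AlgHom.toLinearMap_apply, mapCoeff, MonoidAlgebra.mapAlgHom_single,
        MonoidAlgebra.comul_single, CommSemiring.comul_apply, TensorProduct.map_tmul,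
        MonoidAlgebra.lsingle_apply, tmul₂_tmul, Algebra.ofId_apply, map_one]
  counit y := by
    induction y using MonoidAlgebra.induction_linear with
    | zero => simp
    | add x y hx hy => rw [map_add, map_add, map_add, map_add, hx, hy]
    | single n r =>
      simp [mapCoeff, Algebra.ofId_apply]

end maprange

section equivsymm
variable {R : Type*} [CommRing R] {A : Type*} [CommRing A] [Bialgebra R A]
  {R' : Type*} [CommRing R'] [Algebra R R'] {N : Type*} [Monoid N]
  {L : A →ₗ[R] MonoidAlgebra R' N}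

lemma liftBaseChange_eq_equiv (hbc : IsBaseChange R' L) (t : R' ⊗[R] A) :
    L.liftBaseChange R' t = hbc.equiv t := by
  induction t using TensorProduct.induction_on with
  | zero => simp
  | add x y hx hy => rw [map_add, map_add, hx, hy]
  | tmul r a => rw [LinearMap.liftBaseChange_tmul, IsBaseChange.equiv_tmul]

/-- the inverse of the linearisation of a chart preserves group-like elements -/
lemma isGroupLikeElem_equiv_symm (hco : IsCoalgMapOver R' L) (hbc : IsBaseChange R' L)
    {G : MonoidAlgebra R' N} (hG : IsGroupLikeElem R' G) :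
    IsGroupLikeElem R' (hbc.equiv.symm G) := by
  have hΛ : IsCoalgMapOver R' (L.liftBaseChange R') := IsCoalgMapOver.liftBaseChange hco
  set g := hbc.equiv.symm G with hg
  have hΛg : L.liftBaseChange R' g = G := by
    rw [liftBaseChange_eq_equiv hbc, hg, LinearEquiv.apply_symm_apply]
  constructor
  · have h1 := hΛ.counit g
    rw [hΛg, hG.counit_eq_one, Algebra.algebraMap_self, RingHom.id_apply] at h1
    exact h1.symm
  · have hinj : Function.Injective (tmul₂ R' (L.liftBaseChange R')) := by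
      have : ∀ y, tmul₂ R' (L.liftBaseChange R') y = TensorProduct.congr hbc.equiv hbc.equiv y := by
        intro y
        induction y with
        | zero => simp
        | add x y hx hy => rw [map_add, map_add, hx, hy]
        | tmul a b => simp [liftBaseChange_eq_equiv hbc]
      intro y y' hyy'
      rw [this, this] at hyy'
      exact (TensorProduct.congr hbc.equiv hbc.equiv).injective hyy'
    apply hinj
    rw [← hΛ.comul, hΛg, tmul₂_tmul, hΛg]
    exact hG.comul_eq_tmul_self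

end equivsymm

section cocycle
variable {R : Type u} [CommRing R] {A : Type u} [CommRing A] [HopfAlgebra R A]

/-- The cocycle condition for the chartwise group-like lifts. -/
theorem cocycle (c₁ c₂ : Chart R A) (I : Ideal R) (hI : ∀ x ∈ I, IsNilpotent x) (a : A)
    (G₁ : MonoidAlgebra c₁.R' c₁.N) (hG₁ : IsGroupLikeElem c₁.R' G₁)
    (hc₁ : ∀ ν, (G₁ - c₁.L a).coeff ν ∈ Ideal.map (algebraMap R c₁.R') I)
    (G₂ : MonoidAlgebra c₂.R' c₂.N) (hG₂ : IsGroupLikeElem c₂.R' G₂)
    (hc₂ : ∀ ν, (G₂ - c₂.L a).coeff ν ∈ Ideal.map (algebraMap R c₂.R') I) :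
    (1 : c₁.R') ⊗ₜ[R] (c₂.isChart.bc.equiv.symm G₂) =
      LinearMap.lTensor c₁.R' (TensorProduct.mk R c₂.R' A 1) (c₁.isChart.bc.equiv.symm G₁) := by
  classical
  -- notation
  let R₁₂ := c₁.R' ⊗[R] c₂.R'
  let μ : MonoidAlgebra c₁.R' c₁.N →ₐ[c₁.R'] MonoidAlgebra R₁₂ c₁.N := mapCoeff c₁.N
  have hμbc : IsBaseChange R₁₂ μ.toLinearMap := isBaseChange_mapCoeff c₁.N
  have hμco : IsCoalgMapOver R₁₂ μ.toLinearMap := isCoalgMapOver_mapCoeff c₁.N
  let θ : A →ₗ[R] MonoidAlgebra R₁₂ c₁.N := (μ.toLinearMap.restrictScalars R) ∘ₗ c₁.L.toLinearMap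
  have hθbc : IsBaseChange R₁₂ θ := IsBaseChange.comp c₁.isChart.bc hμbc
  have hθco : IsCoalgMapOver R₁₂ θ := hμco.comp c₁.isChart.coalg
  have hθa : ∀ b, θ b = μ (c₁.L b) := fun b => rfl
  let Ψ : c₁.R' ⊗[R] (c₂.R' ⊗[R] A) → MonoidAlgebra R₁₂ c₁.N :=
    fun w => hθbc.equiv ((TensorProduct.assoc R c₁.R' c₂.R' A).symm w)
  have hΨinj : Function.Injective Ψ :=
    hθbc.equiv.injective.comp (TensorProduct.assoc R c₁.R' c₂.R' A).symm.injective
  have hΨadd : ∀ w w', Ψ (w + w') = Ψ w + Ψ w' := by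
    intro w w'; simp only [Ψ, map_add]
  have hΨtmul : ∀ (s : c₁.R') (s' : c₂.R') (b : A),
      Ψ (s ⊗ₜ (s' ⊗ₜ b)) = (s ⊗ₜ[R] s' : R₁₂) • θ b := by
    intro s s' b
    simp only [Ψ, TensorProduct.assoc_symm_tmul, IsBaseChange.equiv_tmul]
  -- Formula A
  let Ξ : c₂.R' ⊗[R] A →ₗ[c₂.R'] MonoidAlgebra R₁₂ c₁.N := θ.liftBaseChange c₂.R'
  have hΞco : IsCoalgMapOver R₁₂ Ξ := IsCoalgMapOver.liftBaseChange hθco
  have hA : ∀ y : c₂.R' ⊗[R] A, Ψ ((1 : c₁.R') ⊗ₜ y) = Ξ y := by
    intro y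
    induction y using TensorProduct.induction_on with
    | zero => simp [Ψ]
    | add x y hx hy => rw [tmul_add, hΨadd, hx, hy, map_add]
    | tmul s' b =>
      rw [hΨtmul, LinearMap.liftBaseChange_tmul, Algebra.smul_def (R := c₂.R') (A := MonoidAlgebra R₁₂ c₁.N),
        Algebra.smul_def (R := R₁₂)]
      rfl
  -- Formula B
  have hB : ∀ y : c₁.R' ⊗[R] A,
      Ψ (LinearMap.lTensor c₁.R' (TensorProduct.mk R c₂.R' A 1) y) = μ (c₁.isChart.bc.equiv y) := by
    intro y
    induction y using TensorProduct.induction_on with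
    | zero => simp [Ψ]
    | add x y hx hy => rw [map_add, hΨadd, hx, hy, map_add, map_add]
    | tmul s b =>
      rw [LinearMap.lTensor_tmul, TensorProduct.mk_apply, hΨtmul, IsBaseChange.equiv_tmul,
        map_smul, hθa]
      rw [Algebra.smul_def (R := R₁₂), Algebra.smul_def (R := c₁.R') (A := MonoidAlgebra R₁₂ c₁.N)]
      rfl
  set g₁ := c₁.isChart.bc.equiv.symm G₁ with hg₁
  set g₂ := c₂.isChart.bc.equiv.symm G₂ with hg₂
  apply hΨinj
  rw [hA, hB, hg₁, LinearEquiv.apply_symm_apply]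
  have hgl₂ : IsGroupLikeElem c₂.R' g₂ :=
    isGroupLikeElem_equiv_symm c₂.isChart.coalg c₂.isChart.bc hG₂
  have hΞg : IsGroupLikeElem R₁₂ (Ξ g₂) := hΞco.isGroupLikeElem hgl₂
  have hμG : IsGroupLikeElem R₁₂ (μ G₁) := hμco.isGroupLikeElem hG₁
  apply eq_of_coeff_sub_mem (Ideal.map (algebraMap R R₁₂) I) (map_nil _ I hI) hΞg hμG
  intro ν
  have e1 : ∀ ν, (Ξ g₂ - θ a).coeff ν ∈ Ideal.map (algebraMap R R₁₂) I := by
    have h1 : g₂ - (1 : c₂.R') ⊗ₜ[R] a ∈ (I • ⊤ : Submodule R (c₂.R' ⊗[R] A)) := by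
      have h2 : G₂ - c₂.L a ∈ (I • ⊤ : Submodule R (MonoidAlgebra c₂.R' c₂.N)) :=
        mem_smul_top_of_coeff_mem I _ hc₂
      have h3 := map_mem_smul_top I (c₂.isChart.bc.equiv.symm.toLinearMap.restrictScalars R) h2
      have h4 : c₂.isChart.bc.equiv.symm (c₂.L a) = (1 : c₂.R') ⊗ₜ[R] a :=
        c₂.isChart.bc.equiv_symm_apply a
      simpa [map_sub, hg₂, h4] using h3
    have h4 := map_mem_smul_top I (Ξ.restrictScalars R) h1
    intro ν
    have h5 := mem_map_of_mem_smul_top I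
      ((coeffL ν : MonoidAlgebra R₁₂ c₁.N →ₗ[R₁₂] R₁₂).restrictScalars R) h4
    have h6 : Ξ ((1 : c₂.R') ⊗ₜ[R] a) = θ a := by
      simp only [Ξ, LinearMap.liftBaseChange_tmul, one_smul]
    simpa [map_sub, coeffL_apply, h6] using h5
  have e2 : ∀ ν, (μ G₁ - θ a).coeff ν ∈ Ideal.map (algebraMap R R₁₂) I := by
    intro ν
    rw [hθa, ← map_sub, mapCoeff_coeff]
    have := Ideal.mem_map_of_mem (algebraMap c₁.R' R₁₂) (hc₁ ν)
    rwa [Ideal.map_map, ← IsScalarTower.algebraMap_eq] at this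
  have hsplit : Ξ g₂ - μ G₁ = (Ξ g₂ - θ a) - (μ G₁ - θ a) := by abel
  rw [hsplit, MonoidAlgebra.coeff_sub, Finsupp.sub_apply]
  exact Ideal.sub_mem _ (e1 ν) (e2 ν)

end cocycle

end Groth.Agent.H15.MTC
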