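import Groth.Agent.H15.MTKer1
import Groth.Agent.H15.MTLift2

/-! Kernel of a homomorphism between groups of multiplicative type: charts of the kernel on the
pieces of an idempotent decomposition of the chart ring. -/

set_option autoImplicit false
set_option linter.style.haveILetI false
universe u
open TensorProduct Coalgebra

namespace Groth.Agent.H15.MTQ
open Groth.Agent.H26 Groth.Agent.H15.MTC Groth.Agent.H15.MT Groth.Agent.H15.GLD

section trans

variable {R : Type u} [CommRing R] {A : Type u} [CommRing A] [HopfAlgebra R A]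
  {C : Type u} [CommRing C] [HopfAlgebra R C]
  {K : Type u} [CommRing K] [Algebra R K] {N P : Type u} [CommGroup N] [CommGroup P]

lemma chartBialgHom_bijective (l : A →ₐ[R] MonoidAlgebra K N)
    (hco : IsCoalgMapOver K l.toLinearMap) (hbc : IsBaseChange K l.toLinearMap) :
    Function.Bijective (chartBialgHom l hco) := by
  have hbc' : IsBaseChange K (liftAlg K l).toLinearMap := isBaseChange_liftAlg K hbc
  have h1 : ∀ b, liftAlg K l b = hbc'.equiv ((TensorProduct.lid K (K ⊗[R] A)).symm b) := by
    intro b
    rw [TensorProduct.lid_symm_apply, IsBaseChange.equiv_tmul, one_smul]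
    rfl
  have h2 : (chartBialgHom l hco : K ⊗[R] A → MonoidAlgebra K N) =
      hbc'.equiv ∘ (TensorProduct.lid K (K ⊗[R] A)).symm := funext h1
  rw [h2]
  exact hbc'.equiv.bijective.comp (TensorProduct.lid K (K ⊗[R] A)).symm.bijective

/-- the bialgebra isomorphism of a chart -/
noncomputable def chartEquiv (l : A →ₐ[R] MonoidAlgebra K N)
    (hco : IsCoalgMapOver K l.toLinearMap) (hbc : IsBaseChange K l.toLinearMap) :
    K ⊗[R] A ≃ₐc[K] MonoidAlgebra K N :=
  BialgEquiv.ofBijective (chartBialgHom l hco) (chartBialgHom_bijective l hco hbc)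

lemma chartEquiv_symm_chart (l : A →ₐ[R] MonoidAlgebra K N)
    (hco : IsCoalgMapOver K l.toLinearMap) (hbc : IsBaseChange K l.toLinearMap) (a : A) :
    (chartEquiv l hco hbc).symm (l a) = (1 : K) ⊗ₜ[R] a := by
  have h1 : l a = chartEquiv l hco hbc ((1 : K) ⊗ₜ[R] a) := by
    change l a = chartBialgHom l hco ((1 : K) ⊗ₜ[R] a)
    rw [chartBialgHom_tmul, one_smul]
  rw [h1, BialgEquiv.symm_apply_apply]

/-- the map `K[P] → K[N]` induced by `φ : C → A` through charts -/
noncomputable def transHom (φ : C →ₐc[R] A) (lA : A →ₐ[R] MonoidAlgebra K N)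
    (hcoA : IsCoalgMapOver K lA.toLinearMap) (lC : C →ₐ[R] MonoidAlgebra K P)
    (hcoC : IsCoalgMapOver K lC.toLinearMap) (hbcC : IsBaseChange K lC.toLinearMap) :
    MonoidAlgebra K P →ₐc[K] MonoidAlgebra K N :=
  (chartBialgHom lA hcoA).comp
    ((Bialgebra.TensorProduct.map (BialgHom.id K K) φ).comp
      ((chartEquiv lC hcoC hbcC).symm : MonoidAlgebra K P →ₐc[K] K ⊗[R] C))

lemma transHom_chart (φ : C →ₐc[R] A) (lA : A →ₐ[R] MonoidAlgebra K N)
    (hcoA : IsCoalgMapOver K lA.toLinearMap) (lC : C →ₐ[R] MonoidAlgebra K P)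
    (hcoC : IsCoalgMapOver K lC.toLinearMap) (hbcC : IsBaseChange K lC.toLinearMap) (c : C) :
    transHom φ lA hcoA lC hcoC hbcC (lC c) = lA (φ c) := by
  unfold transHom
  change chartBialgHom lA hcoA (Bialgebra.TensorProduct.map (BialgHom.id K K) φ
    ((chartEquiv lC hcoC hbcC).symm (lC c))) = _
  rw [chartEquiv_symm_chart, Bialgebra.TensorProduct.map_tmul, chartBialgHom_tmul]
  simp

/-- the chart after change of coefficients -/
noncomputable def mapChart (K' : Type u) [CommRing K'] [Algebra R K'] [Algebra K K']
    [IsScalarTower R K K'] (l : A →ₐ[R] MonoidAlgebra K N) : A →ₐ[R] MonoidAlgebra K' N :=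
  ((mapCoeff (S := K) (S' := K') N).restrictScalars R).comp l

lemma mapChart_apply (K' : Type u) [CommRing K'] [Algebra R K'] [Algebra K K']
    [IsScalarTower R K K'] (l : A →ₐ[R] MonoidAlgebra K N) (a : A) :
    mapChart K' l a = mapCoeff (S := K) (S' := K') N (l a) := rfl

lemma mapChart_coalg (K' : Type u) [CommRing K'] [Algebra R K'] [Algebra K K']
    [IsScalarTower R K K'] {l : A →ₐ[R] MonoidAlgebra K N}
    (hco : IsCoalgMapOver K l.toLinearMap) : IsCoalgMapOver K' (mapChart K' l).toLinearMap :=
  IsCoalgMapOver.comp (isCoalgMapOver_mapCoeff N) hco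

lemma mapChart_bc (K' : Type u) [CommRing K'] [Algebra R K'] [Algebra K K']
    [IsScalarTower R K K'] {l : A →ₐ[R] MonoidAlgebra K N}
    (hbc : IsBaseChange K l.toLinearMap) : IsBaseChange K' (mapChart K' l).toLinearMap := by
  have h0 := hbc.comp (isBaseChange_mapCoeff (S := K) (S' := K') N)
  have h1 : (mapChart K' l).toLinearMap =
      ((mapCoeff (S := K) (S' := K') N).toLinearMap.restrictScalars R).comp l.toLinearMap :=
    LinearMap.ext fun _ => rfl
  rw [h1]
  exact h0

/-- naturality of `transHom` in the chart ring -/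
lemma transHom_mapCoeff (K' : Type u) [CommRing K'] [Algebra R K'] [Algebra K K']
    [IsScalarTower R K K'] (φ : C →ₐc[R] A) (lA : A →ₐ[R] MonoidAlgebra K N)
    (hcoA : IsCoalgMapOver K lA.toLinearMap) (lC : C →ₐ[R] MonoidAlgebra K P)
    (hcoC : IsCoalgMapOver K lC.toLinearMap) (hbcC : IsBaseChange K lC.toLinearMap)
    (y : MonoidAlgebra K P) :
    transHom φ (mapChart K' lA) (mapChart_coalg K' hcoA) (mapChart K' lC) (mapChart_coalg K' hcoC)
      (mapChart_bc K' hbcC) (mapCoeff (S := K) (S' := K') P y) =
    mapCoeff (S := K) (S' := K') N (transHom φ lA hcoA lC hcoC hbcC y) := by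
  refine hbcC.inductionOn y (fun y => transHom φ (mapChart K' lA) (mapChart_coalg K' hcoA)
    (mapChart K' lC) (mapChart_coalg K' hcoC) (mapChart_bc K' hbcC)
      (mapCoeff (S := K) (S' := K') P y) =
    mapCoeff (S := K) (S' := K') N (transHom φ lA hcoA lC hcoC hbcC y)) ?_ ?_ ?_ ?_
  · simp
  · intro c
    change transHom φ (mapChart K' lA) _ (mapChart K' lC) _ _ (mapChart K' lC c) =
      mapCoeff (S := K) (S' := K') N (transHom φ lA hcoA lC hcoC hbcC (lC c))
    rw [transHom_chart, transHom_chart]
    rfl
  · intro s n hn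
    have e1 : mapCoeff (S := K) (S' := K') P (s • n) =
        algebraMap K K' s • mapCoeff (S := K) (S' := K') P n := by
      rw [map_smul, algebraMap_smul]
    have e2 : mapCoeff (S := K) (S' := K') N (transHom φ lA hcoA lC hcoC hbcC (s • n)) =
        algebraMap K K' s • mapCoeff (S := K) (S' := K') N (transHom φ lA hcoA lC hcoC hbcC n) := by
      rw [map_smul, map_smul, algebraMap_smul]
    rw [e1, e2, map_smul, hn]
  · intro n₁ n₂ h₁ h₂
    rw [map_add, map_add, map_add, map_add, h₁, h₂]

end trans

section verify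

variable {R : Type u} [CommRing R] {A : Type u} [CommRing A] [HopfAlgebra R A]
  {C : Type u} [CommRing C] [HopfAlgebra R C]
  {K : Type u} [CommRing K] [Algebra R K] {N P M : Type u} [CommGroup N] [CommGroup P] [CommGroup M]
  {ι : Type u} [Fintype ι] [DecidableEq ι] {ε : ι → K}

/-- a `K`-algebra map out of a group algebra which is trivial on generators is trivial -/
lemma algHom_single_eq_one_of_closure {B : Type*} [CommRing B] [Algebra K B]
    (ψ : MonoidAlgebra K P →ₐ[K] B) (S : Set P) (hS : Subgroup.closure S = ⊤)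
    (h : ∀ s ∈ S, ψ (MonoidAlgebra.single s 1) = 1) (p : P) :
    ψ (MonoidAlgebra.single p 1) = 1 := by
  have hp : p ∈ Subgroup.closure S := by rw [hS]; trivial
  induction hp using Subgroup.closure_induction with
  | mem x hx => exact h x hx
  | one => exact map_one ψ
  | mul x y _ _ hx hy =>
    have : (MonoidAlgebra.single (x * y) (1 : K) : MonoidAlgebra K P) =
        MonoidAlgebra.single x 1 * MonoidAlgebra.single y 1 := by
      rw [MonoidAlgebra.single_mul_single, mul_one]
    rw [this, map_mul, hx, hy, mul_one]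
  | inv x _ hx =>
    have h1 : (MonoidAlgebra.single x⁻¹ (1 : K) : MonoidAlgebra K P) *
        MonoidAlgebra.single x 1 = 1 := by
      rw [MonoidAlgebra.single_mul_single, mul_one, inv_mul_cancel]
      rfl
    have h2 := congrArg ψ h1
    rw [map_mul, hx, mul_one, map_one] at h2
    exact h2

/-- the chart of the kernel on a decomposition where `φ` is given by group homomorphisms -/
theorem hasDChart_ker (lA : A →ₐ[R] MonoidAlgebra K N)
    (hcoA : IsCoalgMapOver K lA.toLinearMap) (hbcA : IsBaseChange K lA.toLinearMap)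
    (lC : C →ₐ[R] MonoidAlgebra K P)
    (hcoC : IsCoalgMapOver K lC.toLinearMap) (hbcC : IsBaseChange K lC.toLinearMap)
    (φ : C →ₐc[R] A) (J : Ideal A) [J.IsHopfIdeal R]
    (hJ : J = Ideal.map φ (RingHom.ker (Bialgebra.counitAlgHom R C)))
    (Ψ : MonoidAlgebra K P →ₐ[K] MonoidAlgebra K N) (hΨ : ∀ c, Ψ (lC c) = lA (φ c))
    (he : CompleteOrthogonalIdempotents ε)
    (S : Set P) (hS : Subgroup.closure S = ⊤) (α : ι → P → N)
    (hKP : ∀ i, ∀ s ∈ S, ε i • Ψ (MonoidAlgebra.single s 1) =
      ε i • (MonoidAlgebra.single (α i s) (1 : K) : MonoidAlgebra K N))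
    (π : ι → N →* M) (hπ : ∀ i, Function.Surjective (π i))
    (hker : ∀ i, (π i).ker = Subgroup.closure ((α i) '' S)) :
    HasDChart R (A ⧸ J) K M := by
  classical
  have hαker : ∀ i, ∀ s ∈ S, π i (α i s) = 1 := by
    intro i s hs
    have : α i s ∈ (π i).ker := by
      rw [hker]
      exact Subgroup.subset_closure ⟨s, hs, rfl⟩
    exact this
  apply hasDChart_twist lA hcoA hbcA J he π hπ
  · -- the chart of `J` dies
    have hψ : ∀ p : P, (qtw he π).comp Ψ (MonoidAlgebra.single p 1) = 1 := by
      apply algHom_single_eq_one_of_closure _ S hS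
      intro s hs
      change qtw he π (Ψ (MonoidAlgebra.single s 1)) = 1
      have h1 : Ψ (MonoidAlgebra.single s 1) = ∑ i, ε i • Ψ (MonoidAlgebra.single s 1) := by
        rw [← Finset.sum_smul, he.complete, one_smul]
      rw [h1, map_sum]
      have h2 : ∀ i, qtw he π (ε i • Ψ (MonoidAlgebra.single s 1)) =
          ε i • (MonoidAlgebra.single (1 : M) (1 : K) : MonoidAlgebra K M) := by
        intro i
        rw [hKP i s hs, map_smul, qtw_single, one_smul, Finset.smul_sum, Finset.sum_eq_single i]
        · rw [smul_smul, (he.idem i).eq, hαker i s hs]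
        · intro j _ hj
          rw [smul_smul, he.ortho (Ne.symm hj), zero_smul]
        · intro h; exact absurd (Finset.mem_univ i) h
      rw [Finset.sum_congr rfl (fun i _ => h2 i), ← Finset.sum_smul, he.complete, one_smul]
      rfl
    have hψ' : ∀ y : MonoidAlgebra K P, qtw he π (Ψ y) =
        algebraMap K (MonoidAlgebra K M) (Coalgebra.counit (R := K) y) := by
      intro y
      induction y using MonoidAlgebra.induction_linear with
      | zero => simp
      | add f g hf hg => rw [map_add, map_add, map_add, map_add, hf, hg]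
      | single p r =>
        have h3 : (MonoidAlgebra.single p r : MonoidAlgebra K P) =
            r • MonoidAlgebra.single p 1 := by
          rw [MonoidAlgebra.smul_single, smul_eq_mul, mul_one]
        rw [h3, map_smul, map_smul, map_smul]
        have h4 := hψ p
        change qtw he π (Ψ (MonoidAlgebra.single p 1)) = 1 at h4
        rw [h4]
        simp [Algebra.algebraMap_eq_smul_one]
    have hle : J ≤ Ideal.comap (((qtw he π).restrictScalars R).comp lA) ⊥ := by
      rw [hJ, Ideal.map_le_iff_le_comap]
      intro c hc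
      have hc' : Coalgebra.counit (R := R) c = 0 := hc
      rw [Ideal.mem_comap, Ideal.mem_comap, Ideal.mem_bot]
      change qtw he π (lA (φ c)) = 0
      rw [← hΨ, hψ']
      have h5 : Coalgebra.counit (R := K) (lC c) =
          algebraMap R K (Coalgebra.counit (R := R) c) := hcoC.counit c
      rw [h5, hc', map_zero, map_zero]
    intro a ha
    have := hle ha
    rw [Ideal.mem_comap, Ideal.mem_bot] at this
    exact this
  · intro i h hh
    rw [hker] at hh
    induction hh using Subgroup.closure_induction with
    | mem x hx =>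
      obtain ⟨s, hs, rfl⟩ := hx
      have e1 : ε i • (MonoidAlgebra.single (α i s) (1 : K) - 1 : MonoidAlgebra K N) =
          ε i • Ψ (MonoidAlgebra.single s 1 - 1) := by
        rw [smul_sub, ← hKP i s hs, map_sub, map_one, smul_sub]
      rw [e1]
      apply Submodule.smul_mem
      have h2 := sub_counit_mem_chart lC hcoC hbcC (MonoidAlgebra.single s (1 : K) - 1)
      have h3 : Coalgebra.counit (R := K) (MonoidAlgebra.single s (1 : K) - 1 :
          MonoidAlgebra K P) = 0 := by
        simp [MonoidAlgebra.one_def]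
      rw [h3, map_zero, sub_zero] at h2
      generalize (MonoidAlgebra.single s (1 : K) - 1 : MonoidAlgebra K P) = y₀ at h2
      induction h2 using Submodule.span_induction with
      | mem x hx =>
        obtain ⟨c, hc, rfl⟩ := hx
        rw [hΨ]
        apply Submodule.subset_span
        refine ⟨φ c, ?_, rfl⟩
        rw [hJ]
        exact Ideal.mem_map_of_mem _ hc
      | zero => rw [map_zero]; exact zero_mem _
      | add x y _ _ hx hy => rw [map_add]; exact add_mem hx hy
      | smul r x _ hx => rw [map_smul]; exact Submodule.smul_mem _ _ hx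
    | one =>
      have : (MonoidAlgebra.single (1 : N) (1 : K) - 1 : MonoidAlgebra K N) = 0 := by
        rw [sub_eq_zero]; rfl
      rw [this, smul_zero]
      exact zero_mem _
    | mul x y _ _ hx hy =>
      have e1 : ε i • (MonoidAlgebra.single (x * y) (1 : K) - 1 : MonoidAlgebra K N) =
          (ε i • (MonoidAlgebra.single x 1 - 1)) * MonoidAlgebra.single y 1 +
          ε i • (MonoidAlgebra.single y 1 - 1) := by
        rw [smul_mul_assoc, sub_mul, one_mul, MonoidAlgebra.single_mul_single, mul_one,
          ← smul_add]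
        congr 1
        abel
      rw [e1]
      exact add_mem (span_image_mul_mem lA hbcA J _ hx _) hy
    | inv x _ hx =>
      have e1 : ε i • (MonoidAlgebra.single x⁻¹ (1 : K) - 1 : MonoidAlgebra K N) =
          (ε i • (MonoidAlgebra.single x 1 - 1)) * (-MonoidAlgebra.single x⁻¹ 1) := by
        rw [smul_mul_assoc, mul_neg, sub_mul, one_mul, MonoidAlgebra.single_mul_single, mul_one,
          mul_inv_cancel, neg_sub]
        rfl
      rw [e1]
      exact span_image_mul_mem lA hbcA J _ hx _

end verify

end Groth.Agent.H15.MTQ
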