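import Groth.Agent.H15.MTKer2

/-! Kernel of a homomorphism between groups of multiplicative type: the idempotent decomposition of
the chart ring. -/

set_option autoImplicit false
set_option linter.style.haveILetI false
universe u
open TensorProduct Coalgebra

namespace Groth.Agent.H15.MTQ
open Groth.Agent.H26 Groth.Agent.H15.MTC Groth.Agent.H15.MT Groth.Agent.H15.GLD

section decomp

variable {R : Type u} [CommRing R] {A : Type u} [CommRing A] [HopfAlgebra R A]
  {C : Type u} [CommRing C] [HopfAlgebra R C]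
  {K : Type u} [CommRing K] [Algebra R K] {N P : Type u} [CommGroup N] [CommGroup P]

/-- products of coefficients of finitely many group-like elements form a complete family of
orthogonal idempotents -/
lemma completeOrthogonalIdempotents_prod_coeff {σ : Type u} [Fintype σ] [DecidableEq σ]
    (g : σ → MonoidAlgebra K N) (hg : ∀ s, IsGroupLikeElem K (g s)) :
    CompleteOrthogonalIdempotents
      (fun i : {x : σ → N // x ∈ Fintype.piFinset (fun s => (g s).coeff.support)} =>
        ∏ s, (g s).coeff (i.1 s)) where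
  idem i := by
    change (∏ s, (g s).coeff (i.1 s)) * (∏ s, (g s).coeff (i.1 s)) = _
    rw [← Finset.prod_mul_distrib]
    exact Finset.prod_congr rfl (fun s _ => coeff_idem (hg s) _)
  ortho := by
    intro i j hij
    rw [← Finset.prod_mul_distrib]
    have : ∃ s, i.1 s ≠ j.1 s := by
      by_contra hcon
      push Not at hcon
      exact hij (Subtype.ext (funext hcon))
    obtain ⟨s, hs⟩ := this
    exact Finset.prod_eq_zero (Finset.mem_univ s) (coeff_orth (hg s) hs)
  complete := by
    rw [Finset.sum_coe_sort (Fintype.piFinset (fun s => (g s).coeff.support))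
      (fun x => ∏ s, (g s).coeff (x s)), ← Finset.prod_univ_sum]
    apply Finset.prod_eq_one
    intro s _
    exact sum_coeff (hg s)

lemma prod_coeff_smul {σ : Type u} [Fintype σ] [DecidableEq σ]
    (g : σ → MonoidAlgebra K N) (hg : ∀ s, IsGroupLikeElem K (g s)) (x : σ → N) (s : σ) :
    (∏ t, (g t).coeff (x t)) • g s =
      (∏ t, (g t).coeff (x t)) • (MonoidAlgebra.single (x s) (1 : K) : MonoidAlgebra K N) := by
  rw [← Finset.mul_prod_erase Finset.univ (fun t => (g t).coeff (x t)) (Finset.mem_univ s),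
    mul_comm, ← smul_smul, ← smul_smul, coeff_smul_self (hg s)]
  congr 1
  rw [MonoidAlgebra.smul_single, smul_eq_mul, mul_one]

theorem exists_decomp (lA : A →ₐ[R] MonoidAlgebra K N)
    (hcoA : IsCoalgMapOver K lA.toLinearMap) (hbcA : IsBaseChange K lA.toLinearMap)
    (lC : C →ₐ[R] MonoidAlgebra K P)
    (hcoC : IsCoalgMapOver K lC.toLinearMap) (hbcC : IsBaseChange K lC.toLinearMap)
    (φ : C →ₐc[R] A) (J : Ideal A) [J.IsHopfIdeal R]
    (hJ : J = Ideal.map φ (RingHom.ker (Bialgebra.counitAlgHom R C))) (hP : Group.FG P) :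
    ∃ (ι : Type u) (_ : Fintype ι) (_ : DecidableEq ι) (ε : ι → K) (H : ι → Subgroup N),
      CompleteOrthogonalIdempotents ε ∧
      ∀ (c : Finset ι) (M : Type u) [CommGroup M] (π : ι → N →* M),
        (∀ j ∈ c, Function.Surjective (π j) ∧ (π j).ker = H j) →
        HasDChart R (A ⧸ J) (K ⧸ Ideal.span {1 - ∑ j ∈ c, ε j}) M := by
  classical
  obtain ⟨S, hS⟩ := hP.out
  set Φ := transHom φ lA hcoA lC hcoC hbcC with hΦ
  let g : ↥S → MonoidAlgebra K N := fun s => Φ (MonoidAlgebra.single (s : P) 1)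
  have hg : ∀ s, IsGroupLikeElem K (g s) := fun s =>
    (MonoidAlgebra.isGroupLikeElem_single_one (R := K) (A := K) (s : P)).map Φ
  let ι : Type u := {x : ↥S → N // x ∈ Fintype.piFinset (fun s => (g s).coeff.support)}
  let ε : ι → K := fun i => ∏ s, (g s).coeff (i.1 s)
  let α : ι → P → N := fun i p => if h : p ∈ S then i.1 ⟨p, h⟩ else 1
  have he : CompleteOrthogonalIdempotents ε := completeOrthogonalIdempotents_prod_coeff g hg
  have hKP : ∀ (i : ι) (s : P), s ∈ S → ε i • Φ (MonoidAlgebra.single s 1) =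
      ε i • (MonoidAlgebra.single (α i s) (1 : K) : MonoidAlgebra K N) := by
    intro i s hs
    have h1 := prod_coeff_smul g hg i.1 ⟨s, hs⟩
    have h2 : α i s = i.1 ⟨s, hs⟩ := dif_pos hs
    rw [h2]
    exact h1
  refine ⟨ι, inferInstance, inferInstance, ε,
    fun i => Subgroup.closure ((α i) '' (S : Set P)), he, ?_⟩
  intro c M _ π hπ
  -- the quotient ring
  set Kc := K ⧸ Ideal.span {1 - ∑ j ∈ c, ε j} with hKc
  let ε' : ↥c → Kc := fun j => algebraMap K Kc (ε j.1)
  have he' : CompleteOrthogonalIdempotents ε' := by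
    refine ⟨⟨fun j => (he.idem j.1).map (algebraMap K Kc), ?_⟩, ?_⟩
    · intro j j' hjj'
      change algebraMap K Kc (ε j.1) * algebraMap K Kc (ε j'.1) = 0
      rw [← map_mul, he.ortho (fun h => hjj' (Subtype.ext h)), map_zero]
    · change ∑ j : ↥c, algebraMap K Kc (ε j.1) = 1
      rw [Finset.sum_coe_sort c (fun j => algebraMap K Kc (ε j)), ← map_sum]
      have h1 : algebraMap K Kc (1 - ∑ j ∈ c, ε j) = 0 :=
        Ideal.Quotient.eq_zero_iff_mem.mpr (Ideal.subset_span rfl)
      rw [map_sub, map_one, sub_eq_zero] at h1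
      exact h1.symm
  have hcoA' := mapChart_coalg Kc hcoA
  have hbcA' := mapChart_bc Kc hbcA
  have hcoC' := mapChart_coalg Kc hcoC
  have hbcC' := mapChart_bc Kc hbcC
  refine hasDChart_ker (ε := ε') (mapChart Kc lA) hcoA' hbcA' (mapChart Kc lC) hcoC' hbcC' φ J hJ
    (transHom φ (mapChart Kc lA) hcoA' (mapChart Kc lC) hcoC' hbcC' :
      MonoidAlgebra Kc P →ₐ[Kc] MonoidAlgebra Kc N)
    (fun x => transHom_chart φ _ hcoA' _ hcoC' hbcC' x) he' (S : Set P) hS
    (fun j => α j.1) ?_ (fun j => π j.1) (fun j => (hπ j.1 j.2).1) (fun j => (hπ j.1 j.2).2)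
  intro j s hs
  have e1 : (MonoidAlgebra.single s (1 : Kc) : MonoidAlgebra Kc P) =
      mapCoeff (S := K) (S' := Kc) P (MonoidAlgebra.single s 1) := by
    simp [mapCoeff, Algebra.ofId_apply]
  have e2 : (MonoidAlgebra.single (α j.1 s) (1 : Kc) : MonoidAlgebra Kc N) =
      mapCoeff (S := K) (S' := Kc) N (MonoidAlgebra.single (α j.1 s) 1) := by
    simp [mapCoeff, Algebra.ofId_apply]
  change ε' j • (transHom φ (mapChart Kc lA) hcoA' (mapChart Kc lC) hcoC' hbcC')
    (MonoidAlgebra.single s 1) = _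
  rw [e1, e2, transHom_mapCoeff Kc φ lA hcoA lC hcoC hbcC]
  change algebraMap K Kc (ε j.1) • _ = algebraMap K Kc (ε j.1) • _
  have e3 : ε j.1 • mapCoeff (S := K) (S' := Kc) N (Φ (MonoidAlgebra.single s 1)) =
      mapCoeff (S := K) (S' := Kc) N (ε j.1 • Φ (MonoidAlgebra.single s 1)) :=
    (map_smul _ _ _).symm
  have e4 : ε j.1 • mapCoeff (S := K) (S' := Kc) N (MonoidAlgebra.single (α j.1 s) 1) =
      mapCoeff (S := K) (S' := Kc) N (ε j.1 • MonoidAlgebra.single (α j.1 s) 1) :=
    (map_smul _ _ _).symm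
  rw [algebraMap_smul, algebraMap_smul, e3, e4, hKP j.1 s hs]

end decomp

end Groth.Agent.H15.MTQ
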