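import Groth.Agent.H15.MTKer3

/-! Flat algebras which are faithful over a basic open set, and the local criterion for groups of
multiplicative type. -/

set_option autoImplicit false
set_option linter.style.haveILetI false
universe u
open TensorProduct Coalgebra

namespace Groth.Agent.H15.MTQ
open Groth.Agent.H26 Groth.Agent.H15.MTC Groth.Agent.H15.MT

section faith

variable {R : Type u} [CommRing R]

/-- `K` detects membership in ideals of `R` up to powers of `t` -/
def FaithfulOver (t : R) (K : Type u) [CommRing K] [Algebra R K] : Prop :=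
  ∀ (I : Ideal R) (x : R), algebraMap R K x ∈ I.map (algebraMap R K) → ∃ k : ℕ, t ^ k * x ∈ I

lemma faithfulOver_of_faithfullyFlat (f : R) (K : Type u) [CommRing K] [Algebra R K]
    [Algebra (Localization.Away f) K] [IsScalarTower R (Localization.Away f) K]
    [Module.FaithfullyFlat (Localization.Away f) K] : FaithfulOver f K := by
  intro I x hx
  rw [IsScalarTower.algebraMap_eq R (Localization.Away f) K, ← Ideal.map_map,
    RingHom.comp_apply, ← Ideal.mem_comap, Ideal.comap_map_eq_self_of_faithfullyFlat] at hx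
  obtain ⟨⟨k, m⟩, hkm⟩ :=
    (IsLocalization.mem_map_algebraMap_iff (Submonoid.powers f) (Localization.Away f)).mp hx
  rw [← map_mul, IsLocalization.eq_iff_exists (Submonoid.powers f)] at hkm
  obtain ⟨m', hm'⟩ := hkm
  obtain ⟨a, ha⟩ := m.2
  obtain ⟨b, hb⟩ := m'.2
  simp only at ha hb hm'
  refine ⟨b + a, ?_⟩
  have : f ^ (b + a) * x = (m' : R) * (k : R) := by
    rw [pow_add, hb, ha, ← hm']; ring
  rw [this]
  exact I.mul_mem_left _ k.2

/-- a flat algebra faithful over `D(f)` in which `f` is invertible is faithfully flat over `R_f` -/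
theorem faithfullyFlat_away (f : R) (K : Type u) [CommRing K] [Algebra R K]
    [Algebra (Localization.Away f) K] [IsScalarTower R (Localization.Away f) K]
    [Module.Flat R K] (hfaith : FaithfulOver f K) :
    Module.FaithfullyFlat (Localization.Away f) K := by
  rw [Module.FaithfullyFlat.iff_flat_and_ideal_smul_eq_top]
  refine ⟨(Module.flat_iff_of_isLocalization (Localization.Away f) (Submonoid.powers f) K).mpr
    inferInstance, fun I' hI' => ?_⟩
  have h1 : (1 : K) ∈ (I' • ⊤ : Submodule (Localization.Away f) K) := by rw [hI']; trivial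
  rw [Ideal.smul_top_eq_map] at h1
  have h2 : I' = (I'.comap (algebraMap R (Localization.Away f))).map
      (algebraMap R (Localization.Away f)) :=
    (IsLocalization.map_under (Submonoid.powers f) (Localization.Away f) I').symm
  have h3 : (1 : K) ∈ (I'.comap (algebraMap R (Localization.Away f))).map (algebraMap R K) := by
    rw [IsScalarTower.algebraMap_eq R (Localization.Away f) K, ← Ideal.map_map, ← h2]
    exact h1
  rw [← map_one (algebraMap R K)] at h3
  obtain ⟨k, hk⟩ := hfaith _ 1 h3
  rw [mul_one, Ideal.mem_comap, map_pow] at hk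
  apply Ideal.eq_top_of_isUnit_mem _ hk
  exact (IsLocalization.Away.algebraMap_isUnit f).pow k

end faith

section crit

variable {R : Type u} [CommRing R] {Q : Type u} [CommRing Q] [HopfAlgebra R Q]

/-- a chart over a flat algebra faithful over `D(f)` makes the group of constant multiplicative
type over `D(f)` -/
theorem isMultTypeConst_away (f : R) (K : Type u) [CommRing K] [Algebra R K] [Module.Flat R K]
    (hunit : IsUnit (algebraMap R K f)) (hfaith : FaithfulOver f K)
    {M : Type u} [CommGroup M] (h : HasDChart R Q K M) :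
    SGA3b.IsMultTypeConst (Localization.Away f) (Localization.Away f ⊗[R] Q) := by
  letI : Algebra (Localization.Away f) K :=
    (IsLocalization.Away.lift (S := Localization.Away f) f hunit).toAlgebra
  haveI : IsScalarTower R (Localization.Away f) K := IsScalarTower.of_algebraMap_eq fun x => by
    change _ = IsLocalization.Away.lift (S := Localization.Away f) f hunit
      (algebraMap R (Localization.Away f) x)
    rw [IsLocalization.Away.lift_eq]
  haveI := faithfullyFlat_away f K hfaith
  have hD1 := h.baseChange (Localization.Away f)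
  have hD2 := (hD1.baseChange K).nonempty_equiv
  exact ⟨K, inferInstance, inferInstance, inferInstance, M, inferInstance, hD2⟩

end crit

section tensor

variable {R : Type u} [CommRing R]

/-- membership in an extended ideal of a tensor product, one factor at a time -/
lemma mem_map_of_tensor (K₁ K₂ : Type u) [CommRing K₁] [CommRing K₂] [Algebra R K₁] [Algebra R K₂]
    [Module.Flat R K₂] (I : Ideal R) (x : R)
    (hx : algebraMap R (K₁ ⊗[R] K₂) x ∈ I.map (algebraMap R (K₁ ⊗[R] K₂))) :
    algebraMap R K₂ x ∈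
      ((I.map (algebraMap R K₁)).comap (algebraMap R K₁)).map (algebraMap R K₂) := by
  set 𝔞 : Ideal R := (I.map (algebraMap R K₁)).comap (algebraMap R K₁) with h𝔞
  -- the quotient of `K₁`
  let Q₁ := K₁ ⧸ I.map (algebraMap R K₁)
  let θ : K₁ ⊗[R] K₂ →ₐ[R] Q₁ ⊗[R] K₂ :=
    Algebra.TensorProduct.map (Ideal.Quotient.mkₐ R (I.map (algebraMap R K₁))) (AlgHom.id R K₂)
  have hθ : I.map (algebraMap R (K₁ ⊗[R] K₂)) ≤ RingHom.ker (θ : K₁ ⊗[R] K₂ →+* Q₁ ⊗[R] K₂) := by
    rw [Ideal.map_le_iff_le_comap]
    intro r hr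
    rw [Ideal.mem_comap, RingHom.mem_ker]
    change θ (algebraMap R (K₁ ⊗[R] K₂) r) = 0
    rw [AlgHom.commutes, Algebra.TensorProduct.algebraMap_apply]
    have : algebraMap R Q₁ r = 0 := by
      change Ideal.Quotient.mk _ (algebraMap R K₁ r) = 0
      rw [Ideal.Quotient.eq_zero_iff_mem]
      exact Ideal.mem_map_of_mem _ hr
    rw [this, TensorProduct.zero_tmul]
  have h1 : θ (algebraMap R (K₁ ⊗[R] K₂) x) = 0 := hθ hx
  rw [AlgHom.commutes, Algebra.TensorProduct.algebraMap_apply] at h1
  -- the injection `R/𝔞 → Q₁`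
  let j : R ⧸ 𝔞 →ₗ[R] Q₁ := Submodule.liftQ 𝔞 (Algebra.linearMap R Q₁) (by
    intro r hr
    rw [LinearMap.mem_ker, Algebra.linearMap_apply]
    change Ideal.Quotient.mk _ (algebraMap R K₁ r) = 0
    rw [Ideal.Quotient.eq_zero_iff_mem]
    exact hr)
  have hj : Function.Injective j := by
    rw [← LinearMap.ker_eq_bot, LinearMap.ker_eq_bot']
    intro y hy
    obtain ⟨r, rfl⟩ := Submodule.Quotient.mk_surjective _ y
    change Ideal.Quotient.mk _ (algebraMap R K₁ r) = 0 at hy
    rw [Ideal.Quotient.eq_zero_iff_mem] at hy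
    exact (Submodule.Quotient.mk_eq_zero _).mpr hy
  have hj2 : Function.Injective (j.rTensor K₂) :=
    Module.Flat.rTensor_preserves_injective_linearMap j hj
  have h2 : j.rTensor K₂ ((Ideal.Quotient.mk 𝔞 x) ⊗ₜ[R] (1 : K₂)) = 0 := by
    rw [LinearMap.rTensor_tmul]
    exact h1
  have h3 : (Ideal.Quotient.mk 𝔞 x) ⊗ₜ[R] (1 : K₂) = (0 : (R ⧸ 𝔞) ⊗[R] K₂) :=
    hj2 (by rw [h2, map_zero])
  have h4 := congrArg (TensorProduct.quotTensorEquivQuotSMul K₂ 𝔞) h3
  rw [TensorProduct.quotTensorEquivQuotSMul_mk_tmul, map_zero,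
    Submodule.Quotient.mk_eq_zero, Ideal.smul_top_eq_map] at h4
  rw [Algebra.algebraMap_eq_smul_one]
  exact h4

theorem faithfulOver_tensor (f g : R) (K₁ K₂ : Type u) [CommRing K₁] [CommRing K₂]
    [Algebra R K₁] [Algebra R K₂] [Module.Flat R K₂]
    (h₁ : FaithfulOver f K₁) (h₂ : FaithfulOver g K₂) : FaithfulOver (f * g) (K₁ ⊗[R] K₂) := by
  intro I x hx
  have h3 := mem_map_of_tensor K₁ K₂ I x hx
  obtain ⟨k, hk⟩ := h₂ _ x h3
  rw [Ideal.mem_comap] at hk
  obtain ⟨m, hm⟩ := h₁ I _ hk
  refine ⟨m + k, ?_⟩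
  have : (f * g) ^ (m + k) * x = (f ^ k * g ^ m) * (f ^ m * (g ^ k * x)) := by ring
  rw [this]
  exact I.mul_mem_left _ hm

end tensor

end Groth.Agent.H15.MTQ
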