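import Groth.Agent.H15.MTKer5

/-! Descent of the idempotents cutting out the locus where the kernel has a given type (continued):
vanishing of mixed tensors and the local cover. -/

set_option autoImplicit false
set_option linter.style.haveILetI false
universe u
open TensorProduct Coalgebra

namespace Groth.Agent.H15.MTQ
open Groth.Agent.H26 Groth.Agent.H15.MTC Groth.Agent.H15.MT

section van

variable {R : Type u} [CommRing R] {T : Type u} [CommRing T] [Algebra R T]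
  {K : Type u} [CommRing K] [Algebra R K] [Algebra T K] [IsScalarTower R T K]
  {Q : Type u} [CommRing Q] [HopfAlgebra R Q]

lemma mem_span_one_sub_of_mul_eq_zero {W : Type*} [CommRing W] (z w : W) (h : w * z = 0) :
    w ∈ Ideal.span {1 - z} := by
  have : w = w * (1 - z) := by rw [mul_sub, mul_one, h, sub_zero]
  rw [this]
  exact Ideal.mul_mem_left _ _ (Ideal.subset_span rfl)

theorem tmul_eq_zero_of_charts (ε₁ ε₂ : K) (h₁ : IsIdempotentElem ε₁) (h₂ : IsIdempotentElem ε₂)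
    {M₁ M₂ : Type u} [CommGroup M₁] [CommGroup M₂]
    (c₁ : HasDChart R Q (K ⧸ Ideal.span {1 - ε₁}) M₁)
    (c₂ : HasDChart R Q (K ⧸ Ideal.span {1 - ε₂}) M₂)
    (hne : ¬ Nonempty (M₁ ≃* M₂)) : ε₁ ⊗ₜ[T] ε₂ = (0 : K ⊗[T] K) := by
  by_contra hz0
  set z : K ⊗[T] K := ε₁ ⊗ₜ[T] ε₂ with hz
  have hzi : z * z = z := by
    rw [hz, Algebra.TensorProduct.tmul_mul_tmul, h₁.eq, h₂.eq]
  have hne_top : Ideal.span {1 - z} ≠ ⊤ := by
    intro htop
    have h1 : (1 : K ⊗[T] K) ∈ Ideal.span {1 - z} := by rw [htop]; trivial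
    obtain ⟨y, hy⟩ := Ideal.mem_span_singleton'.mp h1
    apply hz0
    have : z = z * (y * (1 - z)) := by rw [hy, mul_one]
    rw [this]
    have : z * (y * (1 - z)) = y * (z - z * z) := by ring
    rw [this, hzi, sub_self, mul_zero]
  haveI : Nontrivial ((K ⊗[T] K) ⧸ Ideal.span {1 - z}) := Ideal.Quotient.nontrivial_iff.mpr hne_top
  let φ₁ : K →ₐ[R] (K ⊗[T] K) ⧸ Ideal.span {1 - z} :=
    (Ideal.Quotient.mkₐ R (Ideal.span {1 - z})).comp
      ((Algebra.TensorProduct.includeLeft : K →ₐ[T] K ⊗[T] K).restrictScalars R)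
  let φ₂ : K →ₐ[R] (K ⊗[T] K) ⧸ Ideal.span {1 - z} :=
    (Ideal.Quotient.mkₐ R (Ideal.span {1 - z})).comp
      ((Algebra.TensorProduct.includeRight : K →ₐ[T] K ⊗[T] K).restrictScalars R)
  have hφ₁ : ∀ a ∈ Ideal.span {1 - ε₁}, φ₁ a = 0 := by
    intro a ha
    obtain ⟨y, rfl⟩ := Ideal.mem_span_singleton'.mp ha
    change Ideal.Quotient.mk _ ((y * (1 - ε₁)) ⊗ₜ[T] (1 : K)) = 0
    rw [Ideal.Quotient.eq_zero_iff_mem]
    apply mem_span_one_sub_of_mul_eq_zero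
    rw [hz, Algebra.TensorProduct.tmul_mul_tmul]
    have : y * (1 - ε₁) * ε₁ = y * (ε₁ - ε₁ * ε₁) := by ring
    rw [this, h₁.eq, sub_self, mul_zero, TensorProduct.zero_tmul]
  have hφ₂ : ∀ a ∈ Ideal.span {1 - ε₂}, φ₂ a = 0 := by
    intro a ha
    obtain ⟨y, rfl⟩ := Ideal.mem_span_singleton'.mp ha
    change Ideal.Quotient.mk _ ((1 : K) ⊗ₜ[T] (y * (1 - ε₂))) = 0
    rw [Ideal.Quotient.eq_zero_iff_mem]
    apply mem_span_one_sub_of_mul_eq_zero
    rw [hz, Algebra.TensorProduct.tmul_mul_tmul]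
    have : y * (1 - ε₂) * ε₂ = y * (ε₂ - ε₂ * ε₂) := by ring
    rw [this, h₂.eq, sub_self, mul_zero, TensorProduct.tmul_zero]
  let ψ₁ : (K ⧸ Ideal.span {1 - ε₁}) →ₐ[R] (K ⊗[T] K) ⧸ Ideal.span {1 - z} :=
    Ideal.Quotient.liftₐ _ φ₁ hφ₁
  let ψ₂ : (K ⧸ Ideal.span {1 - ε₂}) →ₐ[R] (K ⊗[T] K) ⧸ Ideal.span {1 - z} :=
    Ideal.Quotient.liftₐ _ φ₂ hφ₂
  exact hne (nonempty_mulEquiv_of_algHom _ _ _ ψ₁ ψ₂ c₁ c₂)

end van

end Groth.Agent.H15.MTQ
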