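import Groth.Agent.H15.MTKer6

/-! The kernel of a homomorphism of groups of multiplicative type: the local cover attached to a
pair of charts over a common flat algebra. -/

set_option autoImplicit false
set_option linter.style.haveILetI false
universe u
open TensorProduct Coalgebra

namespace Groth.Agent.H15.MTQ
open Groth.Agent.H26 Groth.Agent.H15.MTC Groth.Agent.H15.MT

section desc

variable {T : Type u} [CommRing T] {K : Type u} [CommRing K] [Algebra T K]

lemma exists_algebraMap_eq_of_tmul [Module.FaithfullyFlat T K] (E : K)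
    (h : E ⊗ₜ[T] (1 : K) = (1 : K) ⊗ₜ[T] E) : ∃ b : T, algebraMap T K b = E := by
  have h1 : Algebra.TensorProduct.includeLeftSubRight T K E = 0 := by
    rw [Algebra.TensorProduct.includeLeftSubRight_apply, h, sub_self]
  obtain ⟨b, hb⟩ := ((Algebra.IsEffective.of_faithfullyFlat T K) E).mp h1
  exact ⟨b, hb⟩

lemma sum_tmul_one_eq {ι : Type u} [Fintype ι] [DecidableEq ι] (ε : ι → K)
    (he : CompleteOrthogonalIdempotents ε) (c : Finset ι)
    (hv : ∀ j ∈ c, ∀ j' ∉ c, ε j ⊗ₜ[T] ε j' = (0 : K ⊗[T] K) ∧ ε j' ⊗ₜ[T] ε j = (0 : K ⊗[T] K)) :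
    (∑ j ∈ c, ε j) ⊗ₜ[T] (1 : K) = (1 : K) ⊗ₜ[T] (∑ j ∈ c, ε j) := by
  have h1 : (1 : K) = ∑ j ∈ c, ε j + ∑ j ∈ cᶜ, ε j := by
    rw [Finset.sum_add_sum_compl, he.complete]
  have h2 : (∑ j ∈ c, ε j) ⊗ₜ[T] (∑ j ∈ cᶜ, ε j) = (0 : K ⊗[T] K) := by
    rw [TensorProduct.sum_tmul]
    refine Finset.sum_eq_zero fun j hj => ?_
    rw [TensorProduct.tmul_sum]
    refine Finset.sum_eq_zero fun j' hj' => ?_
    exact (hv j hj j' (Finset.mem_compl.mp hj')).1
  have h3 : (∑ j ∈ cᶜ, ε j) ⊗ₜ[T] (∑ j ∈ c, ε j) = (0 : K ⊗[T] K) := by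
    rw [TensorProduct.tmul_sum]
    refine Finset.sum_eq_zero fun j hj => ?_
    rw [TensorProduct.sum_tmul]
    refine Finset.sum_eq_zero fun j' hj' => ?_
    exact (hv j hj j' (Finset.mem_compl.mp hj')).2
  calc (∑ j ∈ c, ε j) ⊗ₜ[T] (1 : K)
      = (∑ j ∈ c, ε j) ⊗ₜ[T] (∑ j ∈ c, ε j + ∑ j ∈ cᶜ, ε j) := by rw [← h1]
    _ = (∑ j ∈ c, ε j) ⊗ₜ[T] (∑ j ∈ c, ε j) := by rw [TensorProduct.tmul_add, h2, add_zero]
    _ = (∑ j ∈ c, ε j + ∑ j ∈ cᶜ, ε j) ⊗ₜ[T] (∑ j ∈ c, ε j) := by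
        rw [TensorProduct.add_tmul, h3, add_zero]
    _ = (1 : K) ⊗ₜ[T] (∑ j ∈ c, ε j) := by rw [← h1]

end desc

section piece

variable {R : Type u} [CommRing R] {K : Type u} [CommRing K] [Algebra R K]

lemma piece_unit (t a : R) (n : ℕ) (E : K) (hunit : IsUnit (algebraMap R K t))
    (ha : algebraMap R K a = algebraMap R K t ^ n * E) :
    IsUnit (algebraMap R (K ⧸ Ideal.span {1 - E}) (t * a)) := by
  have hE1 : Ideal.Quotient.mk (Ideal.span {1 - E}) E = 1 := by
    have := (Ideal.Quotient.mk_eq_mk_iff_sub_mem (I := Ideal.span {1 - E}) 1 E).mpr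
      (Ideal.subset_span rfl)
    rw [← this, map_one]
  have h1 : algebraMap R (K ⧸ Ideal.span {1 - E}) (t * a) =
      Ideal.Quotient.mk (Ideal.span {1 - E}) (algebraMap R K t) ^ (n + 1) := by
    change Ideal.Quotient.mk _ (algebraMap R K (t * a)) = _
    rw [map_mul, ha, map_mul, map_mul, map_pow, hE1, mul_one, pow_succ']
  rw [h1]
  exact (hunit.map (Ideal.Quotient.mk (Ideal.span {1 - E}))).pow (n + 1)

lemma piece_faithful (t a : R) (n : ℕ) (E : K) (hE : IsIdempotentElem E)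
    (hfaith : FaithfulOver t K) (ha : algebraMap R K a = algebraMap R K t ^ n * E) :
    FaithfulOver (t * a) (K ⧸ Ideal.span {1 - E}) := by
  intro I y hy
  have h1 : E * algebraMap R K y ∈ I.map (algebraMap R K) := by
    have e1 : I.map (algebraMap R (K ⧸ Ideal.span {1 - E})) =
        (I.map (algebraMap R K)).map (Ideal.Quotient.mk (Ideal.span {1 - E})) := by
      rw [Ideal.map_map]; rfl
    rw [e1] at hy
    change Ideal.Quotient.mk _ (algebraMap R K y) ∈ _ at hy
    obtain ⟨z, hz, hzy⟩ := (Ideal.mem_map_iff_of_surjective _ Ideal.Quotient.mk_surjective).mp hy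
    rw [Ideal.Quotient.mk_eq_mk_iff_sub_mem] at hzy
    obtain ⟨w, hw⟩ := Ideal.mem_span_singleton'.mp hzy
    have h0 : E * (z - algebraMap R K y) = 0 := by
      rw [← hw]
      have : E * (w * (1 - E)) = w * (E - E * E) := by ring
      rw [this, hE.eq, sub_self, mul_zero]
    rw [mul_sub, sub_eq_zero] at h0
    rw [← h0]
    exact Ideal.mul_mem_left _ _ hz
  have h2 : algebraMap R K (a * y) ∈ I.map (algebraMap R K) := by
    rw [map_mul, ha, mul_assoc]
    exact Ideal.mul_mem_left _ _ h1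
  obtain ⟨k, hk⟩ := hfaith I (a * y) h2
  refine ⟨k + 1, ?_⟩
  have : (t * a) ^ (k + 1) * y = (t * a ^ k) * (t ^ k * (a * y)) := by ring
  rw [this]
  exact I.mul_mem_left _ hk

lemma cover_pow (t : R) (hfaith : FaithfulOver t K) {ι : Type u} [Fintype ι] (ε E : ι → K)
    (a : ι → R) (n : ι → ℕ) (hsum : ∑ j, ε j = 1) (hεE : ∀ j, ε j * E j = ε j)
    (ha : ∀ i, algebraMap R K (a i) = algebraMap R K t ^ n i * E i) :
    ∃ k : ℕ, t ^ k ∈ Ideal.span (Set.range fun i => t * a i) := by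
  let m := ∑ i, n i
  have hm : ∀ i, n i ≤ m := fun i =>
    Finset.single_le_sum (fun _ _ => Nat.zero_le _) (Finset.mem_univ i)
  have h1 : algebraMap R K (t ^ m) ∈ (Ideal.span (Set.range a)).map (algebraMap R K) := by
    have e : algebraMap R K (t ^ m) =
        ∑ j, (ε j * algebraMap R K t ^ (m - n j)) * algebraMap R K (a j) := by
      rw [map_pow, ← mul_one (algebraMap R K t ^ m), ← hsum, Finset.mul_sum]
      refine Finset.sum_congr rfl fun j _ => ?_
      have h3 : algebraMap R K t ^ m = algebraMap R K t ^ (m - n j) * algebraMap R K t ^ n j := by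
        rw [← pow_add, Nat.sub_add_cancel (hm j)]
      rw [ha j, h3]
      calc algebraMap R K t ^ (m - n j) * algebraMap R K t ^ n j * ε j
          = algebraMap R K t ^ (m - n j) * algebraMap R K t ^ n j * (ε j * E j) := by rw [hεE j]
        _ = ε j * algebraMap R K t ^ (m - n j) * (algebraMap R K t ^ n j * E j) := by ring
    rw [e]
    refine Ideal.sum_mem _ fun j _ => ?_
    exact Ideal.mul_mem_left _ _ (Ideal.mem_map_of_mem _ (Ideal.subset_span ⟨j, rfl⟩))
  obtain ⟨k, hk⟩ := hfaith _ (t ^ m) h1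
  refine ⟨1 + (k + m), ?_⟩
  rw [pow_add, pow_one, pow_add]
  have h2 : ∀ y ∈ Ideal.span (Set.range a), t * y ∈ Ideal.span (Set.range fun i => t * a i) := by
    intro y hy
    obtain ⟨c, rfl⟩ := (Ideal.mem_span_range_iff_exists_fun).mp hy
    rw [Finset.mul_sum]
    refine Ideal.sum_mem _ fun i _ => ?_
    have : t * (c i * a i) = c i * (t * a i) := by ring
    rw [this]
    exact Ideal.mul_mem_left _ _ (Ideal.subset_span ⟨i, rfl⟩)
  exact h2 _ hk

end piece

end Groth.Agent.H15.MTQ
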