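import Groth.Agent.H15.MTKer8

/-! The kernel of a homomorphism of groups of multiplicative type: the local cover over
`D(f) ∩ D(g)` where the source has constant type over `D(f)` and the target over `D(g)`. -/

set_option autoImplicit false
set_option linter.style.haveILetI false
universe u
open TensorProduct Coalgebra

namespace Groth.Agent.H15.MTQ
open Groth.Agent.H26 Groth.Agent.H15.MTC Groth.Agent.H15.MT

section asm

variable {R : Type u} [CommRing R] {A : Type u} [CommRing A] [HopfAlgebra R A]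
  {C : Type u} [CommRing C] [HopfAlgebra R C]

/-- the character group of a chart of a finite type group over a nonzero ring is f.g. -/
lemma group_fg_of_chart (hCft : Algebra.FiniteType R C) (K : Type u) [CommRing K] [Algebra R K]
    [Nontrivial K] {P : Type u} [CommGroup P] (l : C →ₐ[R] MonoidAlgebra K P)
    (hco : IsCoalgMapOver K l.toLinearMap) (hbc : IsBaseChange K l.toLinearMap) :
    Group.FG P := by
  haveI : Algebra.FiniteType K (K ⊗[R] C) := inferInstance
  have h1 : Algebra.FiniteType K (MonoidAlgebra K P) :=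
    Algebra.FiniteType.of_surjective
      ((chartBialgHom l hco : K ⊗[R] C →ₐc[K] MonoidAlgebra K P) :
        K ⊗[R] C →ₐ[K] MonoidAlgebra K P)
      (fun y => (chartBialgHom_bijective l hco hbc).2 y)
  exact MonoidAlgebra.finiteType_iff_group_fg.mp h1

theorem exists_cover_of_const (f g : R)
    (hAf : SGA3b.IsMultTypeConst (Localization.Away f) (Localization.Away f ⊗[R] A))
    (hCg : SGA3b.IsMultTypeConst (Localization.Away g) (Localization.Away g ⊗[R] C))
    (hCft : Algebra.FiniteType R C) (φ : C →ₐc[R] A) (J : Ideal A) [J.IsHopfIdeal R]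
    (hJ : J = Ideal.map φ (RingHom.ker (Bialgebra.counitAlgHom R C))) :
    ∃ X : Set R, (∃ k : ℕ, (f * g) ^ k ∈ Ideal.span X) ∧
      ∀ x ∈ X, SGA3b.IsMultTypeConst (Localization.Away x)
        (Localization.Away x ⊗[R] (A ⧸ J)) := by
  obtain ⟨R₁, _, _, _, _, N, _, L₁, hFF₁, hL₁⟩ := exists_chart R A f hAf
  obtain ⟨R₂, _, _, _, _, P, _, L₂, hFF₂, hL₂⟩ := exists_chart R C g hCg
  haveI : Module.Flat R R₁ := Module.Flat.trans R (Localization.Away f) R₁
  haveI : Module.Flat R R₂ := Module.Flat.trans R (Localization.Away g) R₂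
  have hf₁ : FaithfulOver f R₁ := faithfulOver_of_faithfullyFlat f R₁
  have hf₂ : FaithfulOver g R₂ := faithfulOver_of_faithfullyFlat g R₂
  have hfaith : FaithfulOver (f * g) (R₁ ⊗[R] R₂) := faithfulOver_tensor f g R₁ R₂ hf₁ hf₂
  rcases subsingleton_or_nontrivial (R₁ ⊗[R] R₂) with hsub | hnt
  · refine ⟨∅, ?_, fun x hx => absurd hx (Set.notMem_empty x)⟩
    obtain ⟨k, hk⟩ := hfaith ⊥ 1 (by
      rw [Subsingleton.elim (algebraMap R (R₁ ⊗[R] R₂) 1) 0]; exact zero_mem _)
    refine ⟨k, ?_⟩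
    rw [Ideal.span_empty]
    rwa [mul_one] at hk
  · letI : Algebra R₂ (R₁ ⊗[R] R₂) := Algebra.TensorProduct.rightAlgebra
    haveI : IsScalarTower R R₂ (R₁ ⊗[R] R₂) := Algebra.TensorProduct.right_isScalarTower
    have hDA : HasDChart R A R₁ N := ⟨L₁, hL₁.coalg, hL₁.bc⟩
    have hDC : HasDChart R C R₂ P := ⟨L₂, hL₂.coalg, hL₂.bc⟩
    obtain ⟨lA, hcoA, hbcA⟩ := hDA.map (R₁ ⊗[R] R₂)
    obtain ⟨lC, hcoC, hbcC⟩ := hDC.map (R₁ ⊗[R] R₂)
    have hP : Group.FG P := group_fg_of_chart hCft (R₁ ⊗[R] R₂) lC hcoC hbcC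
    have hunit : IsUnit (algebraMap R (R₁ ⊗[R] R₂) (f * g)) := by
      rw [map_mul]
      refine IsUnit.mul ?_ ?_
      · rw [IsScalarTower.algebraMap_apply R R₁ (R₁ ⊗[R] R₂),
          IsScalarTower.algebraMap_apply R (Localization.Away f) R₁]
        exact ((IsLocalization.Away.algebraMap_isUnit f).map _).map _
      · rw [IsScalarTower.algebraMap_apply R R₂ (R₁ ⊗[R] R₂),
          IsScalarTower.algebraMap_apply R (Localization.Away g) R₂]
        exact ((IsLocalization.Away.algebraMap_isUnit g).map _).map _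
    exact exists_local_cover (f * g) (R₁ ⊗[R] R₂) hunit hfaith lA hcoA hbcA lC hcoC hbcC φ J hJ hP

end asm

end Groth.Agent.H15.MTQ
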