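import Groth.Agent.H15.MTKer9

/-! Kernel of a homomorphism from a group of multiplicative type to an affine group of finite type:
the idempotent ideals attached to the coefficient functionals of `C → A → K[N]`. -/

set_option autoImplicit false
set_option linter.style.haveILetI false
universe u
open TensorProduct Coalgebra

namespace Groth.Agent.H15.MTG
open Groth.Agent.H26 Groth.Agent.H15.MTC Groth.Agent.H15.MT Groth.Agent.H15.MTQ

section coeffsub

variable (R : Type*) [CommRing R] {K : Type*} [CommRing K] [Algebra R K]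
  {N : Type*} [CommGroup N]

/-- the elements of `K[N]` whose coefficients outside the subgroup `H` lie in the ideal `𝔟` -/
def coeffSub (H : Subgroup N) (𝔟 : Ideal K) : Subalgebra R (MonoidAlgebra K N) where
  carrier := {y | ∀ m, m ∉ H → y.coeff m ∈ 𝔟}
  mul_mem' := by
    classical
    intro y z hy hz m hm
    rw [MonoidAlgebra.coeff_mul]
    refine Ideal.sum_mem _ (fun a _ => Ideal.sum_mem _ (fun b _ => ?_))
    change (if a * b = m then y.coeff a * z.coeff b else 0) ∈ 𝔟
    split_ifs with hab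
    · by_cases ha : a ∈ H
      · have hb : b ∉ H := fun hb => hm (hab ▸ H.mul_mem ha hb)
        exact 𝔟.mul_mem_left _ (hz b hb)
      · exact 𝔟.mul_mem_right _ (hy a ha)
    · exact 𝔟.zero_mem
  add_mem' := by
    intro y z hy hz m hm
    rw [MonoidAlgebra.coeff_add, Finsupp.add_apply]
    exact 𝔟.add_mem (hy m hm) (hz m hm)
  algebraMap_mem' := by
    classical
    intro r m hm
    have h1 : m ≠ 1 := fun h => hm (h ▸ H.one_mem)
    rw [MonoidAlgebra.coe_algebraMap, Function.comp_apply, MonoidAlgebra.coeff_single,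
      Finsupp.single_apply, if_neg (Ne.symm h1)]
    exact 𝔟.zero_mem

lemma mem_coeffSub (H : Subgroup N) (𝔟 : Ideal K) (y : MonoidAlgebra K N) :
    y ∈ coeffSub R H 𝔟 ↔ ∀ m, m ∉ H → y.coeff m ∈ 𝔟 := Iff.rfl

end coeffsub

section bideal

variable {R : Type u} [CommRing R] {C : Type u} [CommRing C] [HopfAlgebra R C]
  {K : Type u} [CommRing K] [Algebra R K] {N : Type u} [CommGroup N]

/-- the ideal generated by the coefficients outside `H` of the images of the generators -/
def bIdeal (ψ : C →ₐ[R] MonoidAlgebra K N) (s : Finset C) (H : Subgroup N) : Ideal K :=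
  Ideal.span {x | ∃ c ∈ s, ∃ m, m ∉ H ∧ x = (ψ c).coeff m}

lemma bIdeal_fg (ψ : C →ₐ[R] MonoidAlgebra K N) (s : Finset C) (H : Subgroup N) :
    (bIdeal ψ s H).FG := by
  classical
  have hfin : Set.Finite {x : K | ∃ c ∈ s, ∃ m, m ∉ H ∧ x = (ψ c).coeff m} := by
    refine Set.Finite.subset
      ((s.biUnion fun c => (ψ c).coeff.support.image fun m => (ψ c).coeff m) ∪ {0} :
        Finset K).finite_toSet ?_
    rintro x ⟨c, hc, m, -, rfl⟩
    by_cases h0 : (ψ c).coeff m = 0
    · rw [h0]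
      simp
    · rw [Finset.coe_union, Set.mem_union]
      left
      rw [Finset.mem_coe, Finset.mem_biUnion]
      exact ⟨c, hc, Finset.mem_image.mpr ⟨m, Finsupp.mem_support_iff.mpr h0, rfl⟩⟩
  exact Submodule.fg_span hfin

/-- Claim A: all coefficients outside `H` lie in `bIdeal` -/
lemma coeff_mem_bIdeal (ψ : C →ₐ[R] MonoidAlgebra K N) (s : Finset C)
    (hs : Algebra.adjoin R (s : Set C) = ⊤) (H : Subgroup N) (c : C) (m : N) (hm : m ∉ H) :
    (ψ c).coeff m ∈ bIdeal ψ s H := by
  have h1 : Algebra.adjoin R (s : Set C) ≤ (coeffSub R H (bIdeal ψ s H)).comap ψ := by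
    apply Algebra.adjoin_le
    intro c hc
    change ψ c ∈ coeffSub R H (bIdeal ψ s H)
    rw [mem_coeffSub]
    intro m hm
    exact Ideal.subset_span ⟨c, hc, m, hm, rfl⟩
  rw [hs] at h1
  have h2 : c ∈ (coeffSub R H (bIdeal ψ s H)).comap ψ := h1 Algebra.mem_top
  exact h2 m hm

/-- Claim B: `bIdeal` is an idempotent ideal -/
lemma bIdeal_idem (ψ : C →ₐ[R] MonoidAlgebra K N) (hψ : IsCoalgMapOver K ψ.toLinearMap)
    (s : Finset C) (hs : Algebra.adjoin R (s : Set C) = ⊤) (H : Subgroup N) :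
    IsIdempotentElem (bIdeal ψ s H) := by
  change bIdeal ψ s H * bIdeal ψ s H = bIdeal ψ s H
  apply le_antisymm Ideal.mul_le_left
  change Ideal.span _ ≤ _
  rw [Ideal.span_le]
  rintro x ⟨c, -, m, hm, rfl⟩
  have hA : ∀ c', (WithConv.toConv (coeffFun ψ.toLinearMap m)).ofConv c' ∈ bIdeal ψ s H :=
    fun c' => coeff_mem_bIdeal ψ s hs H c' m hm
  have h1 := convMul_mem (bIdeal ψ s H) (bIdeal ψ s H)
    (WithConv.toConv (coeffFun ψ.toLinearMap m)) (WithConv.toConv (coeffFun ψ.toLinearMap m))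
    hA hA c
  rw [coeffFun_idem ψ.toLinearMap hψ m] at h1
  exact h1

lemma exists_idem (ψ : C →ₐ[R] MonoidAlgebra K N) (hψ : IsCoalgMapOver K ψ.toLinearMap)
    (s : Finset C) (hs : Algebra.adjoin R (s : Set C) = ⊤) (H : Subgroup N) :
    ∃ e : K, IsIdempotentElem e ∧ bIdeal ψ s H = Ideal.span {e} :=
  (Ideal.isIdempotentElem_iff_of_fg _ (bIdeal_fg ψ s H)).mp (bIdeal_idem ψ hψ s hs H)

end bideal

end Groth.Agent.H15.MTG
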