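import Groth.Agent.H15.MTKerG1

/-! Kernel of a homomorphism from a group of multiplicative type to an affine group of finite type:
the elements `ψ_n(c) • (e_n - 1)` lie in the extension of the ideal of the kernel. -/

set_option autoImplicit false
set_option linter.style.haveILetI false
universe u
open TensorProduct Coalgebra

namespace Groth.Agent.H15.MTG
open Groth.Agent.H26 Groth.Agent.H15.MTC Groth.Agent.H15.MT Groth.Agent.H15.MTQ

section lam

variable {K : Type*} [CommRing K] {N : Type*} [CommGroup N]

/-- `y₁ ⊗ y₂ ↦ (y₁)_n • y₂` -/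
noncomputable def lamL (n : N) :
    MonoidAlgebra K N ⊗[K] MonoidAlgebra K N →ₗ[K] MonoidAlgebra K N :=
  (TensorProduct.lid K (MonoidAlgebra K N)).toLinearMap ∘ₗ
    TensorProduct.map (coeffL n) LinearMap.id

lemma lamL_tmul (n : N) (y₁ y₂ : MonoidAlgebra K N) :
    lamL n (y₁ ⊗ₜ[K] y₂) = y₁.coeff n • y₂ := by
  simp [lamL, coeffL_apply]

open Classical in
lemma lamL_comul (n : N) (y : MonoidAlgebra K N) :
    lamL n (Coalgebra.comul (R := K) y) = y.coeff n • MonoidAlgebra.single n (1 : K) := by
  induction y using MonoidAlgebra.induction_linear with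
  | zero => simp
  | add x y hx hy =>
    rw [map_add, map_add, hx, hy, MonoidAlgebra.coeff_add, Finsupp.add_apply, add_smul]
  | single x a =>
    rw [MonoidAlgebra.comul_single, CommSemiring.comul_apply, TensorProduct.map_tmul,
      lamL_tmul]
    simp only [MonoidAlgebra.lsingle_apply, MonoidAlgebra.coeff_single, Finsupp.single_apply]
    split_ifs with h
    · subst h
      simp [MonoidAlgebra.smul_single]
    · rw [zero_smul, zero_smul]

/-- `y ↦ y - ε(y)` -/
noncomputable def subCounit : MonoidAlgebra K N →ₗ[K] MonoidAlgebra K N :=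
  LinearMap.id - (Algebra.linearMap K (MonoidAlgebra K N)) ∘ₗ (Coalgebra.counit (R := K))

lemma subCounit_apply (y : MonoidAlgebra K N) :
    subCounit y = y - algebraMap K (MonoidAlgebra K N) (Coalgebra.counit (R := K) y) := rfl

lemma subCounit_smul_single (n : N) (r : K) :
    subCounit (r • MonoidAlgebra.single n (1 : K) : MonoidAlgebra K N) =
      r • (MonoidAlgebra.single n (1 : K) - 1) := by
  rw [map_smul, subCounit_apply, MonoidAlgebra.counit_single, CommSemiring.counit_apply, map_one]

end lam

section F1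

variable {R : Type u} [CommRing R] {A : Type u} [CommRing A] [HopfAlgebra R A]
  {C : Type u} [CommRing C] [HopfAlgebra R C]
  {K : Type u} [CommRing K] [Algebra R K] {N : Type u} [CommGroup N]

/-- the composite `C → A → K[N]` is a coalgebra map over `K` -/
lemma isCoalgMapOver_comp_bialgHom (lA : A →ₐ[R] MonoidAlgebra K N)
    (hcoA : IsCoalgMapOver K lA.toLinearMap) (φ : C →ₐc[R] A) :
    IsCoalgMapOver K (lA.comp (φ : C →ₐ[R] A)).toLinearMap := by
  have h0 := IsCoalgMapOver.comp (S₁ := R) (S₂ := K) hcoA
    (isCoalgMapOver_of_coalgHom (φ : C →ₗc[R] A))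
  have e : (lA.comp (φ : C →ₐ[R] A)).toLinearMap =
      (lA.toLinearMap.restrictScalars R) ∘ₗ ((φ : C →ₗc[R] A) : C →ₗ[R] A) :=
    LinearMap.ext fun _ => rfl
  rw [e]
  exact h0

/-- F1 -/
theorem coeff_smul_single_sub_one_mem (lA : A →ₐ[R] MonoidAlgebra K N)
    (hcoA : IsCoalgMapOver K lA.toLinearMap) (φ : C →ₐc[R] A) (J : Ideal A)
    (hJ : J = Ideal.map φ (RingHom.ker (Bialgebra.counitAlgHom R C))) (c : C) (n : N) :
    (lA (φ c)).coeff n • (MonoidAlgebra.single n (1 : K) - 1 : MonoidAlgebra K N) ∈
      Submodule.span K (lA '' (J : Set A)) := by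
  set ψ : C →ₐ[R] MonoidAlgebra K N := lA.comp (φ : C →ₐ[R] A) with hψdef
  have hψ : IsCoalgMapOver K ψ.toLinearMap := isCoalgMapOver_comp_bialgHom lA hcoA φ
  have key : ∀ x : C ⊗[R] C, subCounit (lamL n (tmul₂ K ψ.toLinearMap x)) ∈
      Submodule.span K (lA '' (J : Set A)) := by
    intro x
    induction x with
    | zero => simp
    | add x y hx hy => rw [map_add, map_add, map_add]; exact add_mem hx hy
    | tmul c₁ c₂ =>
      rw [tmul₂_tmul, lamL_tmul, map_smul]
      apply Submodule.smul_mem
      have e1 : subCounit (ψ.toLinearMap c₂) =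
          lA (φ (c₂ - algebraMap R C (Coalgebra.counit (R := R) c₂))) := by
        have e2 : φ (algebraMap R C (Coalgebra.counit (R := R) c₂)) =
            algebraMap R A (Coalgebra.counit (R := R) c₂) := AlgHomClass.commutes φ _
        have e3 : lA (algebraMap R A (Coalgebra.counit (R := R) c₂)) =
            algebraMap R (MonoidAlgebra K N) (Coalgebra.counit (R := R) c₂) := lA.commutes _
        rw [subCounit_apply, hψ.counit c₂, map_sub, map_sub, e2, e3,
          ← IsScalarTower.algebraMap_apply R K]
        rfl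
      rw [e1]
      apply Submodule.subset_span
      refine ⟨_, ?_, rfl⟩
      rw [hJ]
      apply Ideal.mem_map_of_mem
      rw [RingHom.mem_ker, map_sub, AlgHom.commutes]
      change Coalgebra.counit (R := R) c₂ - algebraMap R R (Coalgebra.counit (R := R) c₂) = 0
      rw [Algebra.algebraMap_self, RingHom.id_apply, sub_self]
  have h1 := key (Coalgebra.comul (R := R) c)
  rw [← hψ.comul c, lamL_comul, subCounit_smul_single] at h1
  exact h1

end F1

end Groth.Agent.H15.MTG
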