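import Groth.Agent.H15.MTKerG2

/-! Kernel of a homomorphism from a group of multiplicative type to an affine group of finite type:
the idempotent decomposition of the chart ring. -/

set_option autoImplicit false
set_option linter.style.haveILetI false
universe u
open TensorProduct Coalgebra

namespace Groth.Agent.H15.MTG
open Groth.Agent.H26 Groth.Agent.H15.MTC Groth.Agent.H15.MT Groth.Agent.H15.MTQ

section atoms

variable {K : Type*} [CommRing K] {α : Type*} [DecidableEq α]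

/-- the atoms of the Boolean algebra generated by finitely many idempotents -/
lemma completeOrthogonalIdempotents_atoms (𝓗 : Finset α) (e : α → K)
    (he : ∀ a, IsIdempotentElem (e a)) :
    CompleteOrthogonalIdempotents
      (fun 𝒯 : {𝒯 : Finset α // 𝒯 ∈ 𝓗.powerset} =>
        (∏ a ∈ 𝒯.1, (1 - e a)) * ∏ a ∈ 𝓗 \ 𝒯.1, e a) where
  idem 𝒯 := by
    change ((∏ a ∈ 𝒯.1, (1 - e a)) * ∏ a ∈ 𝓗 \ 𝒯.1, e a) *
      ((∏ a ∈ 𝒯.1, (1 - e a)) * ∏ a ∈ 𝓗 \ 𝒯.1, e a) = _
    rw [mul_mul_mul_comm, ← Finset.prod_mul_distrib, ← Finset.prod_mul_distrib]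
    congr 1
    · exact Finset.prod_congr rfl (fun a _ => (he a).one_sub.eq)
    · exact Finset.prod_congr rfl (fun a _ => (he a).eq)
  ortho := by
    intro 𝒯 𝒯' hne
    have hne' : 𝒯.1 ≠ 𝒯'.1 := fun h => hne (Subtype.ext h)
    have h𝒯 := Finset.mem_powerset.mp 𝒯.2
    have h𝒯' := Finset.mem_powerset.mp 𝒯'.2
    have hz : ∀ a, (1 - e a) * e a = 0 := fun a => by rw [sub_mul, one_mul, (he a).eq, sub_self]
    obtain ⟨a, ha⟩ : ∃ a, ¬ (a ∈ 𝒯.1 ↔ a ∈ 𝒯'.1) := by
      by_contra hcon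
      push Not at hcon
      exact hne' (Finset.ext hcon)
    by_cases h1 : a ∈ 𝒯.1
    · have h2 : a ∉ 𝒯'.1 := fun h => ha ⟨fun _ => h, fun _ => h1⟩
      have d1 : (1 - e a) ∣ (∏ a ∈ 𝒯.1, (1 - e a)) * ∏ a ∈ 𝓗 \ 𝒯.1, e a :=
        Dvd.dvd.mul_right (Finset.dvd_prod_of_mem _ h1) _
      have d2 : e a ∣ (∏ a ∈ 𝒯'.1, (1 - e a)) * ∏ a ∈ 𝓗 \ 𝒯'.1, e a :=
        Dvd.dvd.mul_left (Finset.dvd_prod_of_mem _ (Finset.mem_sdiff.mpr ⟨h𝒯 h1, h2⟩)) _
      have d3 := mul_dvd_mul d1 d2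
      rw [hz a] at d3
      exact zero_dvd_iff.mp d3
    · have h2 : a ∈ 𝒯'.1 := by
        by_contra h
        exact ha ⟨fun h' => absurd h' h1, fun h' => absurd h' h⟩
      have d1 : e a ∣ (∏ a ∈ 𝒯.1, (1 - e a)) * ∏ a ∈ 𝓗 \ 𝒯.1, e a :=
        Dvd.dvd.mul_left (Finset.dvd_prod_of_mem _ (Finset.mem_sdiff.mpr ⟨h𝒯' h2, h1⟩)) _
      have d2 : (1 - e a) ∣ (∏ a ∈ 𝒯'.1, (1 - e a)) * ∏ a ∈ 𝓗 \ 𝒯'.1, e a :=
        Dvd.dvd.mul_right (Finset.dvd_prod_of_mem _ h2) _
      have d3 := mul_dvd_mul d2 d1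
      rw [hz a] at d3
      have := zero_dvd_iff.mp d3
      rw [mul_comm] at this
      exact this
  complete := by
    rw [Finset.sum_coe_sort 𝓗.powerset
      (fun 𝒯 => (∏ a ∈ 𝒯, (1 - e a)) * ∏ a ∈ 𝓗 \ 𝒯, e a), ← Finset.prod_add]
    apply Finset.prod_eq_one
    intro a _
    rw [sub_add_cancel]

end atoms

section pieces

variable {R : Type u} [CommRing R] {A : Type u} [CommRing A] [HopfAlgebra R A]
  {C : Type u} [CommRing C] [HopfAlgebra R C]
  {K : Type u} [CommRing K] [Algebra R K] {N : Type u} [CommGroup N]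

theorem exists_pieces (lA : A →ₐ[R] MonoidAlgebra K N)
    (hcoA : IsCoalgMapOver K lA.toLinearMap) (hbcA : IsBaseChange K lA.toLinearMap)
    (φ : C →ₐc[R] A) (J : Ideal A) [J.IsHopfIdeal R]
    (hJ : J = Ideal.map φ (RingHom.ker (Bialgebra.counitAlgHom R C)))
    (hCft : Algebra.FiniteType R C) :
    ∃ (ι : Type u) (_ : Fintype ι) (_ : DecidableEq ι) (ε : ι → K) (H : ι → Subgroup N),
      CompleteOrthogonalIdempotents ε ∧
      (∀ i (c : C) (n : N), n ∉ H i → ε i * (lA (φ c)).coeff n = 0) ∧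
      (∀ i, ∀ h ∈ H i, ε i • (MonoidAlgebra.single h (1 : K) - 1 : MonoidAlgebra K N) ∈
        Submodule.span K (lA '' (J : Set A))) := by
  classical
  obtain ⟨s, hs⟩ := hCft.out
  set ψ : C →ₐ[R] MonoidAlgebra K N := lA.comp (φ : C →ₐ[R] A) with hψdef
  have hψ : IsCoalgMapOver K ψ.toLinearMap := isCoalgMapOver_comp_bialgHom lA hcoA φ
  have hψc : ∀ c, ψ c = lA (φ c) := fun c => rfl
  let S₀ : Finset N := s.biUnion fun c => (ψ c).coeff.support
  let 𝓗 : Finset (Subgroup N) :=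
    S₀.powerset.image fun T : Finset N => Subgroup.closure (T : Set N)
  choose e he1 he2 using fun H => exists_idem ψ hψ s hs H
  have hz : ∀ H, (1 - e H) * e H = 0 := fun H => by rw [sub_mul, one_mul, (he1 H).eq, sub_self]
  let ε : {𝒯 : Finset (Subgroup N) // 𝒯 ∈ 𝓗.powerset} → K :=
    fun 𝒯 => (∏ H ∈ 𝒯.1, (1 - e H)) * ∏ H ∈ 𝓗 \ 𝒯.1, e H
  have hε : CompleteOrthogonalIdempotents ε := completeOrthogonalIdempotents_atoms 𝓗 e he1
  refine ⟨{𝒯 : Finset (Subgroup N) // 𝒯 ∈ 𝓗.powerset}, inferInstance, inferInstance, ε,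
    fun 𝒯 => ⨅ H ∈ 𝒯.1, H, hε, ?_, ?_⟩
  · -- P1
    intro 𝒯 c n hn
    have : ∃ H ∈ 𝒯.1, n ∉ H := by
      by_contra hcon
      push Not at hcon
      apply hn
      rw [Subgroup.mem_iInf]
      intro H
      rw [Subgroup.mem_iInf]
      intro hH
      exact hcon H hH
    obtain ⟨H, hH, hnH⟩ := this
    have h1 : (ψ c).coeff n ∈ Ideal.span {e H} := by
      rw [← he2 H]
      exact coeff_mem_bIdeal ψ s hs H c n hnH
    obtain ⟨k, hk⟩ := Ideal.mem_span_singleton'.mp h1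
    obtain ⟨w, hw⟩ : (1 - e H) ∣ ε 𝒯 := Dvd.dvd.mul_right (Finset.dvd_prod_of_mem _ hH) _
    rw [← hψc, hw, ← hk]
    calc (1 - e H) * w * (k * e H) = w * k * ((1 - e H) * e H) := by ring
      _ = 0 := by rw [hz, mul_zero]
  · -- P2
    intro 𝒯 h hh
    set 𝒥 : Submodule K (MonoidAlgebra K N) := Submodule.span K (lA '' (J : Set A)) with h𝒥
    set x : MonoidAlgebra K N := ε 𝒯 • (MonoidAlgebra.single h (1 : K) - 1) with hx
    by_contra hcon
    let 𝔠 : Ideal K := 𝒥.comap (LinearMap.toSpanSingleton K (MonoidAlgebra K N) x)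
    have hmem𝔠 : ∀ r, r ∈ 𝔠 ↔ r • x ∈ 𝒥 := fun r => by
      change LinearMap.toSpanSingleton K (MonoidAlgebra K N) x r ∈ 𝒥 ↔ _
      rw [LinearMap.toSpanSingleton_apply]
    have h𝔠 : 𝔠 ≠ ⊤ := by
      intro htop
      have h1 : (1 : K) ∈ 𝔠 := htop ▸ Submodule.mem_top
      rw [hmem𝔠, one_smul] at h1
      exact hcon h1
    obtain ⟨𝔪, h𝔪, hle⟩ := Ideal.exists_le_maximal 𝔠 h𝔠
    haveI := h𝔪.isPrime
    -- step a
    have ha : ε 𝒯 ∉ 𝔪 := by
      intro hin
      have h1 : (1 - ε 𝒯) ∈ 𝔠 := by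
        rw [hmem𝔠, hx, smul_smul, sub_mul, one_mul, (hε.idem 𝒯).eq, sub_self, zero_smul]
        exact zero_mem _
      have h2 : (1 : K) ∈ 𝔪 := by
        have := 𝔪.add_mem (hle h1) hin
        rwa [sub_add_cancel] at this
      exact h𝔪.ne_top ((Ideal.eq_top_iff_one _).mpr h2)
    -- step b
    let T : Finset N := S₀.filter fun t => ∃ c ∈ s, (ψ c).coeff t ∉ 𝔪
    let H₀ : Subgroup N := Subgroup.closure (T : Set N)
    have hH₀ : H₀ ∈ 𝓗 :=
      (Finset.mem_image (f := fun T : Finset N => Subgroup.closure (T : Set N))).mpr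
        ⟨T, Finset.mem_powerset.mpr (Finset.filter_subset _ _), rfl⟩
    -- step c
    have hc : e H₀ ∈ 𝔪 := by
      have h1 : bIdeal ψ s H₀ ≤ 𝔪 := by
        change Ideal.span _ ≤ _
        rw [Ideal.span_le]
        rintro y ⟨c, hc, m, hm, rfl⟩
        by_contra hnot
        have hne : (ψ c).coeff m ≠ 0 := fun h0 => hnot (h0 ▸ 𝔪.zero_mem)
        have hmS : m ∈ S₀ :=
          Finset.mem_biUnion.mpr ⟨c, hc, Finsupp.mem_support_iff.mpr hne⟩
        have hmT : m ∈ T := Finset.mem_filter.mpr ⟨hmS, c, hc, hnot⟩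
        exact hm (Subgroup.subset_closure hmT)
      apply h1
      rw [he2 H₀]
      exact Ideal.subset_span rfl
    -- step d
    have hd : H₀ ∈ 𝒯.1 := by
      by_contra hnot
      have d1 : e H₀ ∣ ε 𝒯 :=
        Dvd.dvd.mul_left (Finset.dvd_prod_of_mem _ (Finset.mem_sdiff.mpr ⟨hH₀, hnot⟩)) _
      obtain ⟨w, hw⟩ := d1
      exact ha (hw ▸ 𝔪.mul_mem_right w hc)
    -- step e
    have hhH₀ : h ∈ H₀ := (iInf₂_le (f := fun (H : Subgroup N) (_ : H ∈ 𝒯.1) => H) H₀ hd) hh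
    -- step f
    have key : ∀ a, a ∈ Subgroup.closure (T : Set N) →
        ∃ r, r ∉ 𝔪 ∧ r • (MonoidAlgebra.single a (1 : K) - 1 : MonoidAlgebra K N) ∈ 𝒥 := by
      intro a ha'
      induction ha' using Subgroup.closure_induction with
      | mem t ht =>
        obtain ⟨-, c, -, hct⟩ := Finset.mem_filter.mp ht
        exact ⟨(ψ c).coeff t, hct, coeff_smul_single_sub_one_mem lA hcoA φ J hJ c t⟩
      | one =>
        refine ⟨1, fun h1 => h𝔪.ne_top ((Ideal.eq_top_iff_one _).mpr h1), ?_⟩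
        have : (MonoidAlgebra.single (1 : N) (1 : K) - 1 : MonoidAlgebra K N) = 0 := by
          rw [sub_eq_zero]; rfl
        rw [this, smul_zero]
        exact zero_mem _
      | mul a b _ _ iha ihb =>
        obtain ⟨ra, hra, hra'⟩ := iha
        obtain ⟨rb, hrb, hrb'⟩ := ihb
        refine ⟨ra * rb, fun hin => (Ideal.IsPrime.mem_or_mem ‹𝔪.IsPrime› hin).elim hra hrb, ?_⟩
        have e1 : (ra * rb) • (MonoidAlgebra.single (a * b) (1 : K) - 1 : MonoidAlgebra K N) =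
            rb • ((ra • (MonoidAlgebra.single a 1 - 1)) * MonoidAlgebra.single b 1) +
            ra • (rb • (MonoidAlgebra.single b 1 - 1)) := by
          rw [smul_mul_assoc, sub_mul, one_mul, MonoidAlgebra.single_mul_single, mul_one,
            smul_smul, smul_smul, mul_comm rb ra, ← smul_add]
          congr 1
          abel
        rw [e1]
        exact add_mem (Submodule.smul_mem _ _ (span_image_mul_mem lA hbcA J _ hra' _))
          (Submodule.smul_mem _ _ hrb')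
      | inv a _ iha =>
        obtain ⟨ra, hra, hra'⟩ := iha
        refine ⟨ra, hra, ?_⟩
        have e1 : ra • (MonoidAlgebra.single a⁻¹ (1 : K) - 1 : MonoidAlgebra K N) =
            (ra • (MonoidAlgebra.single a 1 - 1)) * (-MonoidAlgebra.single a⁻¹ 1) := by
          rw [smul_mul_assoc, mul_neg, sub_mul, one_mul, MonoidAlgebra.single_mul_single, mul_one,
            mul_inv_cancel, neg_sub]
          rfl
        rw [e1]
        exact span_image_mul_mem lA hbcA J _ hra' _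
    -- step g
    obtain ⟨r, hr, hr'⟩ := key h hhH₀
    apply hr
    apply hle
    rw [hmem𝔠, hx, smul_comm]
    exact Submodule.smul_mem _ _ hr'

end pieces

end Groth.Agent.H15.MTG
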