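import Groth.Agent.H15.MTKerG3

/-! Kernel of a homomorphism from a group of multiplicative type to an affine group of finite type:
charts of the kernel on the pieces of the idempotent decomposition. -/

set_option autoImplicit false
set_option linter.style.haveILetI false
universe u
open TensorProduct Coalgebra

namespace Groth.Agent.H15.MTG
open Groth.Agent.H26 Groth.Agent.H15.MTC Groth.Agent.H15.MT Groth.Agent.H15.MTQ

section qtwlemmas

variable {K : Type*} [CommRing K] {N M : Type*} [CommGroup N] [CommGroup M]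
  {ι : Type*} [Fintype ι] [DecidableEq ι] {ε : ι → K}

/-- a linear map killing the `single n 1` for `n` in the support of `z` kills `z` -/
lemma linearMap_eq_zero_of_support {Q : Type*} [AddCommGroup Q] [Module K Q]
    (D : MonoidAlgebra K N →ₗ[K] Q) (z : MonoidAlgebra K N)
    (h : ∀ n, z.coeff n ≠ 0 → D (MonoidAlgebra.single n 1) = 0) : D z = 0 := by
  conv_lhs => rw [← MonoidAlgebra.sum_coeff_single z]
  rw [Finsupp.sum, map_sum]
  apply Finset.sum_eq_zero
  intro n hn
  have e1 : (MonoidAlgebra.single n (z.coeff n) : MonoidAlgebra K N) =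
      z.coeff n • MonoidAlgebra.single n 1 := by
    rw [MonoidAlgebra.smul_single, smul_eq_mul, mul_one]
  rw [e1, map_smul, h n (Finsupp.mem_support_iff.mp hn), smul_zero]

/-- on the piece `ε α` the twisted quotient map is the quotient map by `π α` -/
lemma smul_qtw (he : CompleteOrthogonalIdempotents ε) (π : ι → N →* M) (α : ι)
    (y : MonoidAlgebra K N) :
    ε α • qtw he π y = ε α • MonoidAlgebra.mapDomainBialgHom K (π α) y := by
  have key : (ε α • (qtw he π).toLinearMap : MonoidAlgebra K N →ₗ[K] MonoidAlgebra K M) =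
      ε α • ((MonoidAlgebra.mapDomainBialgHom K (π α) :
        MonoidAlgebra K N →ₐ[K] MonoidAlgebra K M)).toLinearMap := by
    apply MonoidAlgebra.lhom_ext'
    intro n
    ext
    simp only [LinearMap.comp_apply, MonoidAlgebra.lsingle_apply, LinearMap.smul_apply,
      AlgHom.toLinearMap_apply]
    rw [qtw_single, one_smul, Finset.smul_sum, Finset.sum_eq_single α]
    · rw [smul_smul, (he.idem α).eq]
      have e1 : ((MonoidAlgebra.mapDomainBialgHom K (π α) :
          MonoidAlgebra K N →ₐ[K] MonoidAlgebra K M)) (MonoidAlgebra.single n (1 : K)) =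
          MonoidAlgebra.single (π α n) 1 := MonoidAlgebra.mapDomainBialgHom_single _ _ _
      rw [e1]
    · intro β _ hβ
      rw [smul_smul, he.ortho (Ne.symm hβ), zero_smul]
    · intro h; exact absurd (Finset.mem_univ α) h
  exact LinearMap.congr_fun key y

/-- the quotient map on an element supported in the kernel -/
lemma mapDomain_eq_counit_of_support (π : N →* M) (z : MonoidAlgebra K N)
    (hz : ∀ n, n ∉ π.ker → z.coeff n = 0) :
    MonoidAlgebra.mapDomainBialgHom K π z =
      algebraMap K (MonoidAlgebra K M) (Coalgebra.counit (R := K) z) := by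
  let D : MonoidAlgebra K N →ₗ[K] MonoidAlgebra K M :=
    ((MonoidAlgebra.mapDomainBialgHom K π :
      MonoidAlgebra K N →ₐ[K] MonoidAlgebra K M)).toLinearMap -
    (Algebra.linearMap K (MonoidAlgebra K M)) ∘ₗ (Coalgebra.counit (R := K))
  have hD : D z = 0 := by
    apply linearMap_eq_zero_of_support
    intro n hn
    have hker : n ∈ π.ker := by
      by_contra hcon
      exact hn (hz n hcon)
    change MonoidAlgebra.mapDomainBialgHom K π (MonoidAlgebra.single n 1) -
      algebraMap K (MonoidAlgebra K M) (Coalgebra.counit (R := K)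
        (MonoidAlgebra.single n (1 : K) : MonoidAlgebra K N)) = 0
    rw [MonoidAlgebra.mapDomainBialgHom_single, MonoidHom.mem_ker.mp hker,
      MonoidAlgebra.counit_single, CommSemiring.counit_apply, map_one, sub_eq_zero]
    rfl
  have : D z = MonoidAlgebra.mapDomainBialgHom K π z -
      algebraMap K (MonoidAlgebra K M) (Coalgebra.counit (R := K) z) := rfl
  rw [this, sub_eq_zero] at hD
  exact hD

/-- the twisted quotient map on an element whose pieces are supported in the kernels -/
lemma qtw_eq_counit (he : CompleteOrthogonalIdempotents ε) (π : ι → N →* M)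
    (y : MonoidAlgebra K N) (hy : ∀ α n, n ∉ (π α).ker → ε α * y.coeff n = 0) :
    qtw he π y = algebraMap K (MonoidAlgebra K M) (Coalgebra.counit (R := K) y) := by
  have h1 : ∀ α, ε α • qtw he π y =
      ε α • algebraMap K (MonoidAlgebra K M) (Coalgebra.counit (R := K) y) := by
    intro α
    rw [smul_qtw he π α y, ← map_smul, mapDomain_eq_counit_of_support (π α) (ε α • y), map_smul,
      Algebra.smul_def, Algebra.smul_def, map_mul]
    · rfl
    · intro n hn
      rw [MonoidAlgebra.coeff_smul, Finsupp.smul_apply, smul_eq_mul]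
      exact hy α n hn
  calc qtw he π y = ∑ α, ε α • qtw he π y := by rw [← Finset.sum_smul, he.complete, one_smul]
    _ = ∑ α, ε α • algebraMap K (MonoidAlgebra K M) (Coalgebra.counit (R := K) y) :=
      Finset.sum_congr rfl (fun α _ => h1 α)
    _ = algebraMap K (MonoidAlgebra K M) (Coalgebra.counit (R := K) y) := by
      rw [← Finset.sum_smul, he.complete, one_smul]

end qtwlemmas

section verify

variable {R : Type u} [CommRing R] {A : Type u} [CommRing A] [HopfAlgebra R A]
  {C : Type u} [CommRing C] [HopfAlgebra R C]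
  {K : Type u} [CommRing K] [Algebra R K] {N M : Type u} [CommGroup N] [CommGroup M]
  {ι : Type u} [Fintype ι] [DecidableEq ι] {ε : ι → K}

/-- the chart of the kernel on a decomposition -/
theorem hasDChart_kerG (lA : A →ₐ[R] MonoidAlgebra K N)
    (hcoA : IsCoalgMapOver K lA.toLinearMap) (hbcA : IsBaseChange K lA.toLinearMap)
    (φ : C →ₐc[R] A) (J : Ideal A) [J.IsHopfIdeal R]
    (hJ : J = Ideal.map φ (RingHom.ker (Bialgebra.counitAlgHom R C)))
    (he : CompleteOrthogonalIdempotents ε) (Hs : ι → Subgroup N)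
    (hP1 : ∀ i (c : C) (n : N), n ∉ Hs i → ε i * (lA (φ c)).coeff n = 0)
    (hP2 : ∀ i, ∀ h ∈ Hs i, ε i • (MonoidAlgebra.single h (1 : K) - 1 : MonoidAlgebra K N) ∈
      Submodule.span K (lA '' (J : Set A)))
    (π : ι → N →* M) (hπ : ∀ i, Function.Surjective (π i))
    (hker : ∀ i, (π i).ker = Hs i) :
    HasDChart R (A ⧸ J) K M := by
  classical
  apply hasDChart_twist lA hcoA hbcA J he π hπ
  · have hle : J ≤ Ideal.comap (((qtw he π).restrictScalars R).comp lA) ⊥ := by
      rw [hJ, Ideal.map_le_iff_le_comap]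
      intro c hc
      have hc' : Coalgebra.counit (R := R) c = 0 := hc
      rw [Ideal.mem_comap, Ideal.mem_comap, Ideal.mem_bot]
      change qtw he π (lA (φ c)) = 0
      rw [qtw_eq_counit he π (lA (φ c)) (fun α n hn => hP1 α c n (by rwa [hker] at hn))]
      have h5 : Coalgebra.counit (R := K) (lA (φ c)) =
          algebraMap R K (Coalgebra.counit (R := R) (φ c)) := hcoA.counit (φ c)
      have h6 : Coalgebra.counit (R := R) (φ c) = Coalgebra.counit (R := R) c :=
        CoalgHomClass.counit_comp_apply φ c
      rw [h5, h6, hc', map_zero, map_zero]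
    intro a ha
    have := hle ha
    rw [Ideal.mem_comap, Ideal.mem_bot] at this
    exact this
  · intro i h hh
    rw [hker] at hh
    exact hP2 i h hh

/-- change of coefficients maps the extension of `J` into the extension of `J` -/
lemma mapCoeff_mem_span (K' : Type u) [CommRing K'] [Algebra R K'] [Algebra K K']
    [IsScalarTower R K K'] (lA : A →ₐ[R] MonoidAlgebra K N) (J : Ideal A)
    (y : MonoidAlgebra K N) (hy : y ∈ Submodule.span K (lA '' (J : Set A))) :
    mapCoeff (S := K) (S' := K') N y ∈ Submodule.span K' ((mapChart K' lA) '' (J : Set A)) := by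
  induction hy using Submodule.span_induction with
  | mem x hx =>
    obtain ⟨a, ha, rfl⟩ := hx
    exact Submodule.subset_span ⟨a, ha, rfl⟩
  | zero => rw [map_zero]; exact zero_mem _
  | add x y _ _ hx hy => rw [map_add]; exact add_mem hx hy
  | smul r x _ hx =>
    have e1 : mapCoeff (S := K) (S' := K') N (r • x) =
        algebraMap K K' r • mapCoeff (S := K) (S' := K') N x := by
      rw [map_smul, algebraMap_smul]
    rw [e1]
    exact Submodule.smul_mem _ _ hx

theorem exists_decompG (lA : A →ₐ[R] MonoidAlgebra K N)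
    (hcoA : IsCoalgMapOver K lA.toLinearMap) (hbcA : IsBaseChange K lA.toLinearMap)
    (φ : C →ₐc[R] A) (J : Ideal A) [J.IsHopfIdeal R]
    (hJ : J = Ideal.map φ (RingHom.ker (Bialgebra.counitAlgHom R C)))
    (hCft : Algebra.FiniteType R C) :
    ∃ (ι : Type u) (_ : Fintype ι) (_ : DecidableEq ι) (ε : ι → K) (H : ι → Subgroup N),
      CompleteOrthogonalIdempotents ε ∧
      ∀ (c : Finset ι) (M : Type u) [CommGroup M] (π : ι → N →* M),
        (∀ j ∈ c, Function.Surjective (π j) ∧ (π j).ker = H j) →
        HasDChart R (A ⧸ J) (K ⧸ Ideal.span {1 - ∑ j ∈ c, ε j}) M := by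
  classical
  obtain ⟨ι, _, _, ε, H, he, hP1, hP2⟩ := exists_pieces lA hcoA hbcA φ J hJ hCft
  refine ⟨ι, inferInstance, inferInstance, ε, H, he, ?_⟩
  intro c M _ π hπ
  set Kc := K ⧸ Ideal.span {1 - ∑ j ∈ c, ε j} with hKc
  let ε' : ↥c → Kc := fun j => algebraMap K Kc (ε j.1)
  have he' : CompleteOrthogonalIdempotents ε' := by
    refine ⟨⟨fun j => (he.idem j.1).map (algebraMap K Kc), ?_⟩, ?_⟩
    · intro j j' hjj'
      change algebraMap K Kc (ε j.1) * algebraMap K Kc (ε j'.1) = 0
      rw [← map_mul, he.ortho (fun h => hjj' (Subtype.ext h)), map_zero]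
    · change ∑ j : ↥c, algebraMap K Kc (ε j.1) = 1
      rw [Finset.sum_coe_sort c (fun j => algebraMap K Kc (ε j)), ← map_sum]
      have h1 : algebraMap K Kc (1 - ∑ j ∈ c, ε j) = 0 :=
        Ideal.Quotient.eq_zero_iff_mem.mpr (Ideal.subset_span rfl)
      rw [map_sub, map_one, sub_eq_zero] at h1
      exact h1.symm
  have hcoA' := mapChart_coalg Kc hcoA
  have hbcA' := mapChart_bc Kc hbcA
  refine hasDChart_kerG (ε := ε') (mapChart Kc lA) hcoA' hbcA' φ J hJ he'
    (fun j => H j.1) ?_ ?_ (fun j => π j.1) (fun j => (hπ j.1 j.2).1) (fun j => (hπ j.1 j.2).2)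
  · intro j c' n hn
    change algebraMap K Kc (ε j.1) * _ = 0
    rw [mapChart_apply, mapCoeff_coeff, ← map_mul, hP1 j.1 c' n hn, map_zero]
  · intro j h hh
    have h1 := mapCoeff_mem_span Kc lA J _ (hP2 j.1 h hh)
    have e1 : mapCoeff (S := K) (S' := Kc) N
        (ε j.1 • (MonoidAlgebra.single h (1 : K) - 1 : MonoidAlgebra K N)) =
        ε' j • (MonoidAlgebra.single h (1 : Kc) - 1 : MonoidAlgebra Kc N) := by
      have e2 : mapCoeff (S := K) (S' := Kc) N (MonoidAlgebra.single h (1 : K)) =
          MonoidAlgebra.single h (1 : Kc) := by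
        simp [mapCoeff, Algebra.ofId_apply]
      rw [map_smul, map_sub, map_one, e2, ← algebraMap_smul Kc (ε j.1)]
    rw [e1] at h1
    exact h1

end verify

end Groth.Agent.H15.MTG
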