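import Groth.Agent.H15.MTKerG4

/-! Kernel of a homomorphism from a group of multiplicative type to an affine group of finite type:
the local cover attached to a chart of the source over a flat algebra, and the cover over `D(f)`. -/

set_option autoImplicit false
set_option linter.style.haveILetI false
universe u
open TensorProduct Coalgebra

namespace Groth.Agent.H15.MTG
open Groth.Agent.H26 Groth.Agent.H15.MTC Groth.Agent.H15.MT Groth.Agent.H15.MTQ

section main

variable {R : Type u} [CommRing R] {A : Type u} [CommRing A] [HopfAlgebra R A]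
  {C : Type u} [CommRing C] [HopfAlgebra R C]

theorem exists_local_coverG (t : R) (K : Type u) [CommRing K] [Algebra R K] [Module.Flat R K]
    (hunit : IsUnit (algebraMap R K t)) (hfaith : FaithfulOver t K)
    {N : Type u} [CommGroup N]
    (lA : A →ₐ[R] MonoidAlgebra K N)
    (hcoA : IsCoalgMapOver K lA.toLinearMap) (hbcA : IsBaseChange K lA.toLinearMap)
    (φ : C →ₐc[R] A) (J : Ideal A) [J.IsHopfIdeal R]
    (hJ : J = Ideal.map φ (RingHom.ker (Bialgebra.counitAlgHom R C)))
    (hCft : Algebra.FiniteType R C) :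
    ∃ X : Set R, (∃ k : ℕ, t ^ k ∈ Ideal.span X) ∧
      ∀ x ∈ X, SGA3b.IsMultTypeConst (Localization.Away x)
        (Localization.Away x ⊗[R] (A ⧸ J)) := by
  classical
  letI : Algebra (Localization.Away t) K :=
    (IsLocalization.Away.lift (S := Localization.Away t) t hunit).toAlgebra
  haveI : IsScalarTower R (Localization.Away t) K := IsScalarTower.of_algebraMap_eq fun x => by
    change _ = IsLocalization.Away.lift (S := Localization.Away t) t hunit
      (algebraMap R (Localization.Away t) x)
    rw [IsLocalization.Away.lift_eq]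
  haveI := faithfullyFlat_away t K hfaith
  obtain ⟨ι, _, _, ε, H, he, hchart⟩ := exists_decompG lA hcoA hbcA φ J hJ hCft
  -- single charts
  have c1 : ∀ j, HasDChart R (A ⧸ J) (K ⧸ Ideal.span {1 - ε j}) (N ⧸ H j) := by
    intro j
    have h := hchart {j} (N ⧸ H j) (fun _ => QuotientGroup.mk' (H j))
      (fun j' hj' => by
        rw [Finset.mem_singleton] at hj'
        subst hj'
        exact ⟨QuotientGroup.mk'_surjective _, QuotientGroup.ker_mk' _⟩)
    rwa [Finset.sum_singleton] at h
  let r : ι → ι → Prop := fun i j => Nonempty ((N ⧸ H i) ≃* (N ⧸ H j))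
  have rrefl : ∀ i, r i i := fun i => ⟨MulEquiv.refl _⟩
  have rsymm : ∀ i j, r i j → r j i := fun i j ⟨e⟩ => ⟨e.symm⟩
  have rtrans : ∀ i j k, r i j → r j k → r i k := fun i j k ⟨e⟩ ⟨e'⟩ => ⟨e.trans e'⟩
  have hvan : ∀ j j', ¬ r j j' →
      ε j ⊗ₜ[Localization.Away t] ε j' = (0 : K ⊗[Localization.Away t] K) :=
    fun j j' hne => tmul_eq_zero_of_charts (T := Localization.Away t) (ε j) (ε j')
      (he.idem j) (he.idem j') (c1 j) (c1 j') hne
  let c : ι → Finset ι := fun i => Finset.univ.filter (fun j => r i j)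
  let E : ι → K := fun i => ∑ j ∈ c i, ε j
  have hE : ∀ i, IsIdempotentElem (E i) :=
    fun i => he.toOrthogonalIdempotents.isIdempotentElem_sum
  have hεE : ∀ j, ε j * E j = ε j := fun j =>
    he.toOrthogonalIdempotents.mul_sum_of_mem
      (Finset.mem_filter.mpr ⟨Finset.mem_univ _, rrefl j⟩)
  -- descent
  have hdesc : ∀ i, ∃ b : Localization.Away t, algebraMap _ K b = E i := by
    intro i
    apply exists_algebraMap_eq_of_tmul
    apply sum_tmul_one_eq ε he (c i)
    intro j hj j' hj'
    have hj1 : r i j := (Finset.mem_filter.mp hj).2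
    have hj2 : ¬ r i j' := fun h => hj' (Finset.mem_filter.mpr ⟨Finset.mem_univ _, h⟩)
    exact ⟨hvan j j' (fun h => hj2 (rtrans _ _ _ hj1 h)),
      hvan j' j (fun h => hj2 (rtrans _ _ _ hj1 (rsymm _ _ h)))⟩
  -- numerators
  have hnum : ∀ i, ∃ (a : R) (n : ℕ), algebraMap R K a = algebraMap R K t ^ n * E i := by
    intro i
    obtain ⟨b, hb⟩ := hdesc i
    obtain ⟨⟨a, s⟩, has⟩ := IsLocalization.surj (Submonoid.powers t) b
    obtain ⟨n, hn⟩ := s.2
    refine ⟨a, n, ?_⟩
    simp only at has hn
    rw [IsScalarTower.algebraMap_apply R (Localization.Away t) K a, ← has, map_mul, hb,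
      ← IsScalarTower.algebraMap_apply, ← hn, map_pow, mul_comm]
  choose a n ha using hnum
  -- charts on pieces
  have hpiece : ∀ i, HasDChart R (A ⧸ J) (K ⧸ Ideal.span {1 - E i}) (N ⧸ H i) := by
    intro i
    have hiso : ∀ j, r i j → Nonempty ((N ⧸ H j) ≃* (N ⧸ H i)) := fun j h => rsymm _ _ h
    let π : ι → N →* (N ⧸ H i) := fun j =>
      if h : r i j then
        ((Classical.choice (hiso j h)).toMonoidHom).comp (QuotientGroup.mk' (H j))
      else 1
    refine hchart (c i) (N ⧸ H i) π ?_
    intro j hj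
    have hj1 : r i j := (Finset.mem_filter.mp hj).2
    have hπ : π j =
        ((Classical.choice (hiso j hj1)).toMonoidHom).comp (QuotientGroup.mk' (H j)) :=
      dif_pos hj1
    rw [hπ]
    refine ⟨(Classical.choice (hiso j hj1)).surjective.comp (QuotientGroup.mk'_surjective _), ?_⟩
    ext x
    rw [MonoidHom.mem_ker, MonoidHom.comp_apply, MulEquiv.coe_toMonoidHom,
      map_eq_one_iff (Classical.choice (hiso j hj1)) (MulEquiv.injective _),
      ← MonoidHom.mem_ker, QuotientGroup.ker_mk']
  refine ⟨Set.range fun i => t * a i, cover_pow t hfaith ε E a n he.complete hεE ha, ?_⟩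
  rintro x ⟨i, rfl⟩
  haveI := flat_quot_idem (R := R) (E i) (hE i)
  exact isMultTypeConst_away (t * a i) (K ⧸ Ideal.span {1 - E i})
    (piece_unit t (a i) (n i) (E i) hunit (ha i))
    (piece_faithful t (a i) (n i) (E i) (hE i) hfaith (ha i)) (hpiece i)


theorem exists_cover_of_constG (f : R)
    (hAf : SGA3b.IsMultTypeConst (Localization.Away f) (Localization.Away f ⊗[R] A))
    (hCft : Algebra.FiniteType R C) (φ : C →ₐc[R] A) (J : Ideal A) [J.IsHopfIdeal R]
    (hJ : J = Ideal.map φ (RingHom.ker (Bialgebra.counitAlgHom R C))) :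
    ∃ X : Set R, (∃ k : ℕ, f ^ k ∈ Ideal.span X) ∧
      ∀ x ∈ X, SGA3b.IsMultTypeConst (Localization.Away x)
        (Localization.Away x ⊗[R] (A ⧸ J)) := by
  obtain ⟨R₁, _, _, _, _, N, _, L₁, hFF₁, hL₁⟩ := exists_chart R A f hAf
  haveI : Module.Flat R R₁ := Module.Flat.trans R (Localization.Away f) R₁
  have hf₁ : FaithfulOver f R₁ := faithfulOver_of_faithfullyFlat f R₁
  have hunit : IsUnit (algebraMap R R₁ f) := by
    rw [IsScalarTower.algebraMap_apply R (Localization.Away f) R₁]
    exact (IsLocalization.Away.algebraMap_isUnit f).map _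
  exact exists_local_coverG f R₁ hunit hf₁ L₁ hL₁.coalg hL₁.bc φ J hJ hCft

end main

end Groth.Agent.H15.MTG
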