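import Groth.Agent.H15.MTProd

set_option autoImplicit false
set_option linter.style.haveILetI false
universe u
open TensorProduct Coalgebra

namespace Groth.Agent.H15.MTC
open Groth.Agent.H26 Groth.Agent.H15.GLD

section diag
variable {S : Type*} [CommRing S] {N : Type*}

open Classical in
/-- converse of the coefficient description of group-like elements -/
theorem isGroupLikeElem_of_coeff (g : MonoidAlgebra S N)
    (h1 : ∀ m n, g.coeff m * g.coeff n = if m = n then g.coeff m else 0)
    (h2 : g.coeff.sum (fun _ r => r) = 1) : IsGroupLikeElem S g := by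
  classical
  refine ⟨by rw [counit_eq_sum, h2], ?_⟩
  have hg : g = ∑ m ∈ g.coeff.support, MonoidAlgebra.single m (g.coeff m) := by
    ext n
    rw [MonoidAlgebra.coeff_sum, Finset.sum_apply']
    simp only [MonoidAlgebra.coeff_single, Finsupp.single_apply]
    rw [Finset.sum_ite_eq']
    split_ifs with hn
    · rfl
    · exact Finsupp.notMem_support_iff.mp hn
  have hs : ∀ (m : N) (r : S), MonoidAlgebra.single m r = r • MonoidAlgebra.single m (1 : S) := by
    intro m r; rw [MonoidAlgebra.smul_single, smul_eq_mul, mul_one]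
  have hΔ : Coalgebra.comul (R := S) g = ∑ m ∈ g.coeff.support,
      g.coeff m • (MonoidAlgebra.single m (1 : S) ⊗ₜ[S] MonoidAlgebra.single m (1 : S)) := by
    conv_lhs => rw [hg]
    rw [map_sum]
    apply Finset.sum_congr rfl
    intro m _
    rw [MonoidAlgebra.comul_single, CommSemiring.comul_apply, TensorProduct.map_tmul,
      MonoidAlgebra.lsingle_apply, MonoidAlgebra.lsingle_apply, hs m (g.coeff m),
      TensorProduct.tmul_smul]
  have hgg : g ⊗ₜ[S] g = ∑ m ∈ g.coeff.support, ∑ n ∈ g.coeff.support,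
      (g.coeff m * g.coeff n) • (MonoidAlgebra.single m (1 : S) ⊗ₜ[S] MonoidAlgebra.single n (1 : S)) := by
    conv_lhs => rw [hg]
    rw [TensorProduct.sum_tmul]
    apply Finset.sum_congr rfl
    intro m _
    rw [TensorProduct.tmul_sum]
    apply Finset.sum_congr rfl
    intro n _
    rw [hs m (g.coeff m), hs n (g.coeff n), TensorProduct.smul_tmul_smul]
  rw [hΔ, hgg]
  apply Finset.sum_congr rfl
  intro m hm
  rw [Finset.sum_eq_single m]
  · rw [h1, if_pos rfl]
  · intro n _ hn
    rw [h1, if_neg (Ne.symm hn), zero_smul]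
  · intro h; exact absurd hm h

open Classical in
/-- (E-diag): an element of a group algebra which is group-like modulo a nil ideal lifts to a
group-like element. -/
theorem exists_groupLike_lift (J : Ideal S) (hJ : ∀ x ∈ J, IsNilpotent x) (z : MonoidAlgebra S N)
    (h1 : ∀ m n, z.coeff m * z.coeff n - (if m = n then z.coeff m else 0) ∈ J)
    (h2 : z.coeff.sum (fun _ r => r) - 1 ∈ J) :
    ∃ g : MonoidAlgebra S N, IsGroupLikeElem S g ∧ ∀ ν, (g - z).coeff ν ∈ J := by
  set F := z.coeff.support with hF
  let ē : F → S ⧸ J := fun ν => Ideal.Quotient.mk J (z.coeff ν.1)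
  have hē : CompleteOrthogonalIdempotents ē := by
    refine ⟨⟨fun ν => ?_, fun ν μ hνμ => ?_⟩, ?_⟩
    · change Ideal.Quotient.mk J _ * Ideal.Quotient.mk J _ = Ideal.Quotient.mk J _
      rw [← map_mul, Ideal.Quotient.eq]
      simpa using h1 ν.1 ν.1
    · change Ideal.Quotient.mk J _ * Ideal.Quotient.mk J _ = 0
      rw [← map_mul, Ideal.Quotient.eq_zero_iff_mem]
      have hne : ν.1 ≠ μ.1 := fun h => hνμ (Subtype.ext h)
      simpa [hne] using h1 ν.1 μ.1
    · change ∑ ν : F, Ideal.Quotient.mk J (z.coeff ν.1) = 1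
      rw [← map_sum, ← map_one (Ideal.Quotient.mk J), Ideal.Quotient.eq,
        Finset.sum_coe_sort F (fun n => z.coeff n)]
      exact h2
  obtain ⟨e', he', hfe⟩ := CompleteOrthogonalIdempotents.lift_of_isNilpotent_ker
    (Ideal.Quotient.mk J) (by
      intro x hx
      rw [Ideal.mk_ker] at hx
      exact hJ x hx) hē (fun ν => ⟨z.coeff ν.1, rfl⟩)
  let γ : N → S := fun n => if h : n ∈ F then e' ⟨n, h⟩ else 0
  have hγ : ∀ n, γ n ≠ 0 → n ∈ F := by
    intro n hn
    by_contra h
    exact hn (by simp [γ, h])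
  let g : MonoidAlgebra S N := MonoidAlgebra.ofCoeff (Finsupp.onFinset F γ hγ)
  have hgc : ∀ n, g.coeff n = γ n := fun n => rfl
  refine ⟨g, isGroupLikeElem_of_coeff g ?_ ?_, ?_⟩
  · intro m n
    rw [hgc, hgc]
    by_cases hm : m ∈ F
    · by_cases hn : n ∈ F
      · simp only [γ, dif_pos hm, dif_pos hn]
        by_cases hmn : m = n
        · subst hmn
          rw [if_pos rfl]
          exact he'.idem ⟨m, hm⟩
        · rw [if_neg hmn]
          exact he'.ortho (fun h => hmn (congrArg Subtype.val h))
      · have : m ≠ n := fun h => hn (h ▸ hm)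
        simp [γ, hn, this]
    · by_cases hmn : m = n
      · subst hmn; simp [γ, hm]
      · simp [γ, hm, hmn]
  · rw [Finsupp.sum_of_support_subset (s := F) _ (Finsupp.support_onFinset_subset) _ (by simp),
      ← Finset.sum_coe_sort F]
    rw [← he'.complete]
    apply Finset.sum_congr rfl
    intro ν _
    rw [hgc]
    simp [γ, ν.2]
  · intro n
    rw [MonoidAlgebra.coeff_sub, Finsupp.sub_apply, hgc]
    by_cases hn : n ∈ F
    · simp only [γ, dif_pos hn]
      rw [← Ideal.Quotient.eq]
      exact congrFun hfe ⟨n, hn⟩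
    · simp only [γ, dif_neg hn]
      rw [Finsupp.notMem_support_iff.mp hn, sub_zero]
      exact J.zero_mem

end diag

section glmod
variable {R : Type u} [CommRing R] {A : Type u} [CommRing A] [HopfAlgebra R A]

/-- `tmul₂` of the canonical map into a base change is `distribBaseChange ∘ (1 ⊗ ·)` -/
lemma tmul₂_inc_eq (S : Type*) [CommRing S] [Algebra R S] (y : A ⊗[R] A) :
    tmul₂ S (TensorProduct.mk R S A 1) y =
      TensorProduct.AlgebraTensorModule.distribBaseChange R S A A ((1 : S) ⊗ₜ[R] y) := by
  induction y with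
  | zero => simp
  | add x y hx hy => rw [map_add, tmul_add, map_add, hx, hy]
  | tmul a b => simp [TensorProduct.AlgebraTensorModule.distribBaseChange_tmul]

/-- an element which is group-like modulo `I` satisfies the group-like identities modulo `I` -/
lemma glmod_of_isGroupLikeElem (I : Ideal R) (a : A)
    (ha : IsGroupLikeElem (R ⧸ I) ((1 : R ⧸ I) ⊗ₜ[R] a)) :
    (Coalgebra.comul (R := R) a - a ⊗ₜ[R] a ∈ (I • ⊤ : Submodule R (A ⊗[R] A))) ∧
      Coalgebra.counit (R := R) a - 1 ∈ I := by
  constructor
  · apply mem_smul_top_of_one_tmul_eq_zero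
    apply (TensorProduct.AlgebraTensorModule.distribBaseChange R (R ⧸ I) A A).injective
    rw [map_zero, ← tmul₂_inc_eq, map_sub, sub_eq_zero, tmul₂_tmul]
    have h1 := (isCoalgMapOver_inc (R := R) (R ⧸ I) A).comul a
    have h2 := ha.comul_eq_tmul_self
    rw [← h1]
    exact h2
  · have h1 := (isCoalgMapOver_inc (R := R) (R ⧸ I) A).counit a
    have h2 := ha.counit_eq_one
    change Coalgebra.counit (R := R ⧸ I) ((1 : R ⧸ I) ⊗ₜ[R] a) = _ at h1
    rw [h2] at h1
    rw [← Ideal.Quotient.eq, map_one]
    exact h1.symm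

end glmod

section charttransfer
variable {R : Type u} [CommRing R] {A : Type u} [CommRing A] [HopfAlgebra R A]
  {R' : Type u} [CommRing R'] [Algebra R R'] {N : Type u} [CommGroup N]
  {L : A →ₐ[R] MonoidAlgebra R' N}

lemma mem_smul_top_of_coeff_mem (I : Ideal R) (y : MonoidAlgebra R' N)
    (h : ∀ ν, y.coeff ν ∈ Ideal.map (algebraMap R R') I) :
    y ∈ (I • ⊤ : Submodule R (MonoidAlgebra R' N)) := by
  classical
  have hy : y = ∑ m ∈ y.coeff.support, MonoidAlgebra.single m (y.coeff m) := by
    ext n
    rw [MonoidAlgebra.coeff_sum, Finset.sum_apply']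
    simp only [MonoidAlgebra.coeff_single, Finsupp.single_apply]
    rw [Finset.sum_ite_eq']
    split_ifs with hn
    · rfl
    · exact Finsupp.notMem_support_iff.mp hn
  rw [hy]
  apply Submodule.sum_mem
  intro m _
  have h1 : y.coeff m ∈ (I • ⊤ : Submodule R R') := by
    rw [Ideal.smul_top_eq_map]; exact h m
  exact map_mem_smul_top I ((MonoidAlgebra.lsingle m : R' →ₗ[R'] MonoidAlgebra R' N).restrictScalars R) h1

open Classical in
/-- in a chart, an element which is group-like modulo `I` has coefficients forming a complete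
family of orthogonal idempotents modulo `I R'`. -/
lemma chart_glmod (hL : IsCoalgMapOver R' L.toLinearMap) (I : Ideal R) (a : A)
    (h1 : Coalgebra.comul (R := R) a - a ⊗ₜ[R] a ∈ (I • ⊤ : Submodule R (A ⊗[R] A)))
    (h2 : Coalgebra.counit (R := R) a - 1 ∈ I) :
    (∀ m n, (L a).coeff m * (L a).coeff n - (if m = n then (L a).coeff m else 0) ∈
      Ideal.map (algebraMap R R') I) ∧
    ((L a).coeff.sum (fun _ r => r) - 1 ∈ Ideal.map (algebraMap R R') I) := by
  constructor
  · intro m n
    have h3 := mem_map_of_mem_smul_top I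
      (((coeffPair m n : _ →ₗ[R'] R').restrictScalars R) ∘ₗ tmul₂ R' L.toLinearMap) h1
    rw [map_sub, LinearMap.comp_apply, LinearMap.comp_apply, ← hL.comul, tmul₂_tmul] at h3
    simp only [LinearMap.restrictScalars_apply, AlgHom.toLinearMap_apply] at h3
    rw [coeffPair_comul', coeffPair_tmul] at h3
    have := Ideal.neg_mem_iff _ |>.mpr h3
    simpa using this
  · have h3 := hL.counit a
    rw [AlgHom.toLinearMap_apply, counit_eq_sum] at h3
    rw [h3, ← map_one (algebraMap R R'), ← map_sub]
    exact Ideal.mem_map_of_mem _ h2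

end charttransfer

end Groth.Agent.H15.MTC
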