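import Groth.Agent.H15.MTAtlas
import Groth.Agent.H15.GLDiag
import Groth.Agent.H15.MTRigid
import Groth.Agent.H26.AdicSepDiag

set_option autoImplicit false
set_option linter.style.haveILetI false
universe u
open TensorProduct Coalgebra

namespace Groth.Agent.H15.MTC
open Groth.Agent.H26 Groth.Agent.H15.GLD

section prod
variable {R : Type u} [CommRing R] {A : Type u} [CommRing A] [HopfAlgebra R A]
  {ι : Type u} [Fintype ι] (c : ι → Chart R A)

/-- the product of the chart rings -/
abbrev ProdRing : Type u := ∀ i, (c i).R'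

instance prodRing_flat : Module.Flat R (ProdRing c) := by
  classical
  haveI : ∀ i, Module.Flat R (c i).R' := fun i => (c i).flat
  exact Module.Flat.of_linearEquiv
    (DFinsupp.linearEquivFunOnFintype (R := R) (M := fun i => (c i).R')).symm

variable {c}

theorem prodRing_faithfullyFlat
    (hc : ∀ (K : Ideal R) (x : R),
      (∀ i, algebraMap R (c i).R' x ∈ K.map (algebraMap R (c i).R')) → x ∈ K) :
    Module.FaithfullyFlat R (ProdRing c) := by
  rw [Module.FaithfullyFlat.iff_flat_and_ideal_smul_eq_top]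
  refine ⟨inferInstance, fun K hK => ?_⟩
  rw [Ideal.eq_top_iff_one]
  apply hc
  intro i
  rw [map_one]
  have h1 : (1 : ProdRing c) ∈ (K • ⊤ : Submodule R (ProdRing c)) := by rw [hK]; trivial
  have h2 : (LinearMap.proj i : (ProdRing c) →ₗ[R] (c i).R') 1 ∈
      (K • ⊤ : Submodule R (c i).R') := map_mem_smul_top K _ h1
  rw [Ideal.smul_top_eq_map] at h2
  exact h2

/-- joint faithfulness for elements of modules -/
theorem eq_zero_of_forall_tmul_eq_zero
    (hc : ∀ (K : Ideal R) (x : R),
      (∀ i, algebraMap R (c i).R' x ∈ K.map (algebraMap R (c i).R')) → x ∈ K)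
    {P : Type*} [AddCommGroup P] [Module R P] (p : P)
    (h : ∀ i, (1 : (c i).R') ⊗ₜ[R] p = 0) : p = 0 := by
  classical
  haveI := prodRing_faithfullyFlat hc
  apply Module.FaithfullyFlat.tensorProduct_mk_injective (A := R) (B := ProdRing c) P
  rw [map_zero]
  change (1 : ProdRing c) ⊗ₜ[R] p = 0
  have h1 : (1 : ProdRing c) = ∑ i, Pi.single i (1 : (c i).R') := by
    rw [Finset.univ_sum_single]; rfl
  rw [h1, TensorProduct.sum_tmul]
  apply Finset.sum_eq_zero
  intro i _
  have := congrArg (LinearMap.rTensor P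
    (LinearMap.single R (fun i => (c i).R') i)) (h i)
  simpa using this

/-- joint injectivity of the charts -/
theorem eq_zero_of_forall_chart_eq_zero
    (hc : ∀ (K : Ideal R) (x : R),
      (∀ i, algebraMap R (c i).R' x ∈ K.map (algebraMap R (c i).R')) → x ∈ K)
    (a : A) (h : ∀ i, (c i).L a = 0) : a = 0 := by
  apply eq_zero_of_forall_tmul_eq_zero hc
  intro i
  apply (c i).isChart.bc.equiv.injective
  rw [IsBaseChange.equiv_tmul, one_smul, map_zero]
  exact h i

end prod

section U

/-- (U-diag): group-like elements of a group algebra congruent modulo a nil ideal are equal. -/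
theorem eq_of_coeff_sub_mem {S : Type*} [CommRing S] {N : Type*} (J : Ideal S)
    (hJ : ∀ x ∈ J, IsNilpotent x) {g g' : MonoidAlgebra S N} (hg : IsGroupLikeElem S g)
    (hg' : IsGroupLikeElem S g') (h : ∀ ν, (g - g').coeff ν ∈ J) : g = g' := by
  ext ν
  apply eq_of_isNilpotent_sub_of_isIdempotentElem (coeff_idem hg ν) (coeff_idem hg' ν)
  apply hJ
  have := h ν
  rwa [MonoidAlgebra.coeff_sub, Finsupp.sub_apply] at this

lemma map_nil {R : Type*} [CommRing R] {R' : Type*} [CommRing R'] (φ : R →+* R') (I : Ideal R)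
    (hI : ∀ x ∈ I, IsNilpotent x) : ∀ x ∈ Ideal.map φ I, IsNilpotent x := by
  have h1 : I ≤ nilradical R := fun x hx => mem_nilradical.mpr (hI x hx)
  have h2 : Ideal.map φ I ≤ nilradical R' := by
    rw [Ideal.map_le_iff_le_comap]
    intro x hx
    rw [Ideal.mem_comap, mem_nilradical]
    exact (mem_nilradical.mp (h1 hx)).map φ
  intro x hx
  exact mem_nilradical.mp (h2 hx)

variable {R : Type u} [CommRing R] {A : Type u} [CommRing A] [HopfAlgebra R A]
  {ι : Type u} [Fintype ι] {c : ι → Chart R A}

/-- (U): group-like elements of a group of multiplicative type which are congruent modulo a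
nil ideal are equal. -/
theorem eq_of_sub_mem_map
    (hc : ∀ (K : Ideal R) (x : R),
      (∀ i, algebraMap R (c i).R' x ∈ K.map (algebraMap R (c i).R')) → x ∈ K)
    (I : Ideal R) (hI : ∀ x ∈ I, IsNilpotent x) {u v : A} (hu : IsGroupLikeElem R u)
    (hv : IsGroupLikeElem R v) (h : u - v ∈ Ideal.map (algebraMap R A) I) : u = v := by
  rw [← sub_eq_zero]
  apply eq_zero_of_forall_chart_eq_zero hc
  intro i
  rw [map_sub, sub_eq_zero]
  apply eq_of_coeff_sub_mem (Ideal.map (algebraMap R (c i).R') I) (map_nil _ I hI)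
    (IsCoalgMapOver.isGroupLikeElem (c i).isChart.coalg hu)
    (IsCoalgMapOver.isGroupLikeElem (c i).isChart.coalg hv)
  intro ν
  have := coeff_mem_map_of_mem_map (L := (c i).L) I _ h ν
  rwa [map_sub] at this

end U

end Groth.Agent.H15.MTC
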