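import Groth.Agent.H15.MTHens6

/-!
# Groups of multiplicative type and of finite type are of finite presentation
-/

set_option autoImplicit false
set_option linter.style.haveILetI false
universe u
open TensorProduct Coalgebra

namespace Groth.Agent.H15.MTQI
open Groth.Agent.H26 Groth.Agent.H15.MTC Groth.Agent.H15.MT Groth.Agent.H15.GLD

section fp

/-- the group algebra of a finitely generated commutative group is of finite presentation
(base change from `ℤ`) -/
theorem finitePresentation_monoidAlgebra (S : Type*) [CommRing S] (M : Type*) [CommGroup M]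
    [Group.FG M] : Algebra.FinitePresentation S (MonoidAlgebra S M) := by
  haveI : Algebra.FiniteType ℤ (MonoidAlgebra ℤ M) :=
    MonoidAlgebra.finiteType_iff_group_fg.mpr inferInstance
  haveI : Algebra.FinitePresentation ℤ (MonoidAlgebra ℤ M) :=
    Algebra.FinitePresentation.of_finiteType.mp inferInstance
  haveI : Algebra.FinitePresentation S (S ⊗[ℤ] MonoidAlgebra ℤ M) := inferInstance
  obtain ⟨e⟩ := nonempty_bialgEquiv_of_chart (liftAlg S (mapCoeff (S := ℤ) (S' := S) M))
    (isCoalgMapOver_liftAlg S (isCoalgMapOver_mapCoeff M))
    (isBaseChange_liftAlg S (isBaseChange_mapCoeff M))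
  exact Algebra.FinitePresentation.equiv (e : (S ⊗[ℤ] MonoidAlgebra ℤ M) ≃ₐ[S] MonoidAlgebra S M)

variable (R : Type u) [CommRing R] (A : Type u) [CommRing A] [HopfAlgebra R A]

/-- a group of multiplicative type (of constant type) and of finite type is of finite
presentation -/
theorem finitePresentation_of_isMultTypeConst (hft : Algebra.FiniteType R A)
    (h : SGA3b.IsMultTypeConst R A) : Algebra.FinitePresentation R A := by
  obtain ⟨T, _, _, hff, N, _, ⟨e⟩⟩ := h
  haveI := hff
  rcases subsingleton_or_nontrivial T with hT | hT
  · haveI : Subsingleton R :=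
      (FaithfulSMul.algebraMap_injective R T).subsingleton
    haveI : Subsingleton A := Module.subsingleton R A
    exact Algebra.FinitePresentation.of_surjective (f := Algebra.ofId R A)
      (fun a => ⟨0, Subsingleton.elim _ _⟩) (by
        have : RingHom.ker (Algebra.ofId R A).toRingHom = ⊥ := Subsingleton.elim _ _
        rw [this]
        exact Submodule.fg_bot)
  · have hft' : Algebra.FiniteType T (T ⊗[R] A) := inferInstance
    have hft'' : Algebra.FiniteType T (MonoidAlgebra T N) :=
      hft'.equiv (e : (T ⊗[R] A) ≃ₐ[T] MonoidAlgebra T N)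
    haveI hfg : Group.FG N := MonoidAlgebra.finiteType_iff_group_fg.mp hft''
    haveI := finitePresentation_monoidAlgebra T N
    haveI : Algebra.FinitePresentation T (T ⊗[R] A) :=
      Algebra.FinitePresentation.equiv (e.symm : MonoidAlgebra T N ≃ₐ[T] (T ⊗[R] A))
    exact Algebra.FinitePresentation.of_finitePresentation_tensorProduct_of_faithfullyFlat T

end fp

end Groth.Agent.H15.MTQI
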