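import Groth.Agent.H15.MTQI1
import Groth.Agent.H15.MTConn
import Groth.Agent.H3.EtNbhdImage
import Groth.Agent.H3.HensFlatMain

/-!
# Spreading out from the henselization of a pair: killing elements
-/

set_option autoImplicit false
set_option linter.style.haveILetI false
universe u
open TensorProduct Coalgebra

namespace Groth.Agent.H15.MTQI
open Groth.Agent.H26 Groth.Agent.H15.MTC Groth.Agent.H15.MT Groth.Agent.H15.GLD
open Groth.Agent.H3 Groth.Agent.H3.EtNbhd Hens2

section kill

variable {B₀ : Type u} [CommRing B₀] {I : Ideal B₀} {H : Type u} [CommRing H] [Algebra B₀ H]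

lemma mul_sub_one_mem {S : Type*} [CommRing S] (J : Ideal S) {k₁ k₂ : S} (h₁ : k₁ - 1 ∈ J)
    (h₂ : k₂ - 1 ∈ J) : k₁ * k₂ - 1 ∈ J := by
  have h : k₁ * k₂ - 1 = k₁ * (k₂ - 1) + (k₁ - 1) := by ring
  rw [h]
  exact Ideal.add_mem _ (Ideal.mul_mem_left _ _ h₂) h₁

/-- an element of a module over a neighbourhood dying in the base change to the henselization is
killed by an element congruent to `1` -/
theorem exists_smul_eq_zero (hH : IsPairHenselization B₀ I H)
    {A' : Type u} [CommRing A'] [Algebra B₀ A'] (hN : IsNbhd I A') [Algebra A' H]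
    [IsScalarTower B₀ A' H]
    {N' : Type*} [AddCommGroup N'] [Module A' N'] {T : Type*} [AddCommGroup T] [Module A' T]
    [Module H T] [IsScalarTower A' H T] (L : N' →ₗ[A'] T) (hL : IsBaseChange H L) (z : N')
    (hz : L z = 0) : ∃ k : A', k - 1 ∈ I.map (algebraMap B₀ A') ∧ k • z = 0 := by
  have hH' := isPairHenselization_nbhd hH hN
  haveI hflat : Module.Flat A' H := HensFlatMain.flat hH'
  have h1 := Groth.Agent.H15.MTC.mem_map_ann_of_smul_eq_zero L hL z (1 : H)
    (by rw [one_smul]; exact hz)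
  set 𝔞 : Ideal A' := LinearMap.ker (LinearMap.toSpanSingleton A' N' z) with h𝔞
  have key : ∀ x ∈ Ideal.map (algebraMap A' H) 𝔞, ∃ c ∈ 𝔞,
      x - algebraMap A' H c ∈ (I.map (algebraMap B₀ A')).map (algebraMap A' H) := by
    intro x hx
    refine Submodule.span_induction (p := fun x _ => ∃ c ∈ 𝔞,
      x - algebraMap A' H c ∈ (I.map (algebraMap B₀ A')).map (algebraMap A' H)) ?_ ?_ ?_ ?_ hx
    · rintro _ ⟨a, ha, rfl⟩
      exact ⟨a, ha, by rw [sub_self]; exact Ideal.zero_mem _⟩
    · exact ⟨0, Ideal.zero_mem _, by rw [map_zero, sub_self]; exact Ideal.zero_mem _⟩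
    · rintro x y _ _ ⟨c, hc, hxc⟩ ⟨d, hd, hyd⟩
      refine ⟨c + d, Ideal.add_mem _ hc hd, ?_⟩
      have : x + y - algebraMap A' H (c + d) = (x - algebraMap A' H c) + (y - algebraMap A' H d) := by
        rw [map_add]; ring
      rw [this]
      exact Ideal.add_mem _ hxc hyd
    · rintro h x _ ⟨c, hc, hxc⟩
      obtain ⟨a₀, ha₀⟩ := PairHens.exists_sub_mem hH' h
      refine ⟨a₀ * c, Ideal.mul_mem_left _ _ hc, ?_⟩
      have : h • x - algebraMap A' H (a₀ * c) =
          h * (x - algebraMap A' H c) + (h - algebraMap A' H a₀) * algebraMap A' H c := by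
        rw [map_mul, smul_eq_mul]; ring
      rw [this]
      exact Ideal.add_mem _ (Ideal.mul_mem_left _ _ hxc) (Ideal.mul_mem_right _ _ ha₀)
  obtain ⟨c, hc, hc1⟩ := key 1 h1
  refine ⟨c, ?_, ?_⟩
  · apply PairHens.mem_of_algebraMap_mem hH'
    have : algebraMap A' H (c - 1) = -(1 - algebraMap A' H c) := by
      rw [map_sub, map_one]; ring
    rw [this]
    exact (Ideal.neg_mem_iff _).mpr hc1
  · have := LinearMap.mem_ker.mp hc
    rwa [LinearMap.toSpanSingleton_apply] at this

/-- the same for finitely many elements -/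
theorem exists_smul_eq_zero_finset (hH : IsPairHenselization B₀ I H)
    {A' : Type u} [CommRing A'] [Algebra B₀ A'] (hN : IsNbhd I A') [Algebra A' H]
    [IsScalarTower B₀ A' H]
    {N' : Type*} [AddCommGroup N'] [Module A' N'] {T : Type*} [AddCommGroup T] [Module A' T]
    [Module H T] [IsScalarTower A' H T] (L : N' →ₗ[A'] T) (hL : IsBaseChange H L)
    {ι : Type*} (s : Finset ι) (z : ι → N')
    (hz : ∀ i ∈ s, L (z i) = 0) :
    ∃ k : A', k - 1 ∈ I.map (algebraMap B₀ A') ∧ ∀ i ∈ s, k • z i = 0 := by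
  classical
  induction s using Finset.induction_on with
  | empty =>
    exact ⟨1, by rw [sub_self]; exact Ideal.zero_mem _, fun i hi => absurd hi (Finset.notMem_empty i)⟩
  | insert a t ha ih =>
    obtain ⟨k₁, hk₁, hk₁'⟩ := ih fun i hi => hz i (Finset.mem_insert_of_mem hi)
    obtain ⟨k₂, hk₂, hk₂'⟩ := exists_smul_eq_zero hH hN L hL (z a)
      (hz a (Finset.mem_insert_self a t))
    refine ⟨k₁ * k₂, mul_sub_one_mem _ hk₁ hk₂, ?_⟩
    intro i hi
    rcases Finset.mem_insert.mp hi with rfl | hi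
    · rw [mul_smul, hk₂', smul_zero]
    · rw [mul_comm, mul_smul, hk₁' i hi, smul_zero]

end kill

end Groth.Agent.H15.MTQI
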