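import Groth.Agent.H15.MTQI2

/-!
# Spreading out from the henselization of a pair: lifting a chart
-/

set_option autoImplicit false
set_option linter.style.haveILetI false
universe u
open TensorProduct Coalgebra

namespace Groth.Agent.H15.MTQI
open Groth.Agent.H26 Groth.Agent.H15.MTC Groth.Agent.H15.MT Groth.Agent.H15.GLD
open Groth.Agent.H3 Groth.Agent.H3.EtNbhd Hens2

section basics

variable {B₀ : Type u} [CommRing B₀] {I : Ideal B₀} {H : Type u} [CommRing H] [Algebra B₀ H]

/-- the structure map from a localized neighbourhood to the henselization -/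
theorem exists_away_algebra (hH : IsPairHenselization B₀ I H)
    {A' : Type u} [CommRing A'] [Algebra B₀ A'] (hN : IsNbhd I A') [Algebra A' H]
    [IsScalarTower B₀ A' H] (k : A') (hk : k - 1 ∈ I.map (algebraMap B₀ A')) :
    ∃ (_ : Algebra (Localization.Away k) H), IsScalarTower B₀ (Localization.Away k) H ∧
      IsScalarTower A' (Localization.Away k) H := by
  have hN' : IsNbhd I (Localization.Away k) := hN.away k hk
  obtain ⟨φ⟩ := exists_algHom hH.1 hN'
  have h1 : φ.comp (IsScalarTower.toAlgHom B₀ A' (Localization.Away k)) =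
      IsScalarTower.toAlgHom B₀ A' H := algHom_unique hH.1 hN _ _
  letI : Algebra (Localization.Away k) H := φ.toRingHom.toAlgebra
  refine ⟨inferInstance, IsScalarTower.of_algebraMap_eq fun b => (φ.commutes b).symm,
    IsScalarTower.of_algebraMap_eq fun a => ?_⟩
  exact (congrArg (fun ψ : A' →ₐ[B₀] H => ψ a) h1).symm

variable {M : Type u} [CommGroup M]

lemma mapCoeff_mapCoeff {S₁ S₂ S₃ : Type*} [CommRing S₁] [CommRing S₂] [CommRing S₃]
    [Algebra S₁ S₂] [Algebra S₂ S₃] [Algebra S₁ S₃] [IsScalarTower S₁ S₂ S₃]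
    (y : MonoidAlgebra S₁ M) :
    mapCoeff (S := S₂) (S' := S₃) M (mapCoeff (S := S₁) (S' := S₂) M y) =
      mapCoeff (S := S₁) (S' := S₃) M y := by
  induction y using MonoidAlgebra.induction_linear with
  | zero => simp
  | add x y hx hy => rw [map_add, map_add, map_add, hx, hy]
  | single m r =>
    simp only [mapCoeff, MonoidAlgebra.mapAlgHom_single, Algebra.ofId_apply]
    rw [← IsScalarTower.algebraMap_apply]

/-- torsion for `k` dies in modules over the localization at `k` -/
lemma eq_zero_of_smul_eq_zero_away {A' : Type*} [CommRing A'] (k : A')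
    {N' : Type*} [AddCommGroup N'] [Module A' N'] {N'' : Type*} [AddCommGroup N''] [Module A' N'']
    [Module (Localization.Away k) N''] [IsScalarTower A' (Localization.Away k) N'']
    (g : N' →ₗ[A'] N'') (z : N') (hz : k • z = 0) : g z = 0 := by
  have h1 : k • g z = 0 := by rw [← map_smul, hz, map_zero]
  have hu : IsUnit (algebraMap A' (Localization.Away k) k) :=
    IsLocalization.Away.algebraMap_isUnit k
  obtain ⟨u, hu'⟩ := hu
  have h2 : (algebraMap A' (Localization.Away k) k) • g z = 0 := by
    rw [algebraMap_smul]; exact h1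
  have h3 : ((u⁻¹ : (Localization.Away k)ˣ) : Localization.Away k) •
      ((algebraMap A' (Localization.Away k) k) • g z) = g z := by
    rw [← hu', smul_smul, Units.inv_mul, one_smul]
  rw [← h3, h2, smul_zero]

/-- an element all of whose coefficients come from `S` comes from `S[M]` -/
lemma exists_mapCoeff_eq {S S' : Type*} [CommRing S] [CommRing S'] [Algebra S S']
    (y : MonoidAlgebra S' M) (hy : ∀ m, y.coeff m ∈ Set.range (algebraMap S S')) :
    ∃ y' : MonoidAlgebra S M, mapCoeff (S := S) (S' := S') M y' = y := by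
  classical
  choose pre hpre using hy
  refine ⟨∑ m ∈ y.coeff.support, MonoidAlgebra.single m (pre m), ?_⟩
  rw [map_sum]
  have h1 : ∀ m ∈ y.coeff.support, mapCoeff (S := S) (S' := S') M (MonoidAlgebra.single m (pre m)) =
      MonoidAlgebra.single m (y.coeff m) := by
    intro m _
    simp only [mapCoeff, MonoidAlgebra.mapAlgHom_single, Algebra.ofId_apply, hpre]
  rw [Finset.sum_congr rfl h1]
  apply MonoidAlgebra.coeff_injective
  ext n
  rw [MonoidAlgebra.coeff_sum, Finsupp.finsetSum_apply]
  simp only [MonoidAlgebra.coeff_single, Finsupp.single_apply]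
  rw [Finset.sum_ite_eq']
  split_ifs with h
  · rfl
  · exact (Finsupp.notMem_support_iff.mp h).symm

end basics

section lift

variable {B₀ : Type u} [CommRing B₀] {I : Ideal B₀} {H : Type u} [CommRing H] [Algebra B₀ H]
  {C : Type u} [CommRing C] [Algebra B₀ C] {M : Type u} [CommGroup M]

/-- a map from a finitely presented algebra to the group algebra over the henselization comes from
a neighbourhood (which may be asked to contain finitely many given elements in its image) -/
theorem exists_lift_chart (hH : IsPairHenselization B₀ I H) [Algebra.FinitePresentation B₀ C]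
    (lH : C →ₐ[B₀] MonoidAlgebra H M) (S : Finset H) :
    ∃ (A' : Type u) (_ : CommRing A') (_ : Algebra B₀ A') (_ : Algebra A' H)
      (_ : IsScalarTower B₀ A' H) (_ : IsNbhd I A') (l' : C →ₐ[B₀] MonoidAlgebra A' M),
      (∀ c, mapCoeff (S := A') (S' := H) M (l' c) = lH c) ∧
        ∀ h ∈ S, h ∈ Set.range (algebraMap A' H) := by
  classical
  obtain ⟨n, f, hfs, hfg⟩ := Algebra.FinitePresentation.out (R := B₀) (A := C)
  obtain ⟨rs, hrs⟩ := hfg
  let y : Fin n → MonoidAlgebra H M := fun i => lH (f (MvPolynomial.X i))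
  let S' : Finset H := S ∪ Finset.univ.biUnion fun i => (y i).coeff.support.image (y i).coeff
  obtain ⟨A₁, _, _, hN₁, φ₁, hφ₁⟩ := inImage_finset hH S'
  letI : Algebra A₁ H := φ₁.toRingHom.toAlgebra
  haveI : IsScalarTower B₀ A₁ H := IsScalarTower.of_algebraMap_eq fun b => (φ₁.commutes b).symm
  have hy : ∀ i, ∃ y' : MonoidAlgebra A₁ M, mapCoeff (S := A₁) (S' := H) M y' = y i := by
    intro i
    apply exists_mapCoeff_eq
    intro m
    by_cases hm : m ∈ (y i).coeff.support
    · apply hφ₁
      rw [Finset.mem_coe, Finset.mem_union]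
      right
      rw [Finset.mem_biUnion]
      exact ⟨i, Finset.mem_univ i, Finset.mem_image_of_mem _ hm⟩
    · rw [Finsupp.notMem_support_iff.mp hm]
      exact ⟨0, map_zero _⟩
  choose y' hy' using hy
  let L₁ : MvPolynomial (Fin n) B₀ →ₐ[B₀] MonoidAlgebra A₁ M := MvPolynomial.aeval y'
  have hL₁ : ((mapCoeff (S := A₁) (S' := H) M).restrictScalars B₀).comp L₁ = lH.comp f := by
    apply MvPolynomial.algHom_ext
    intro i
    change mapCoeff (S := A₁) (S' := H) M (MvPolynomial.aeval y' (MvPolynomial.X i)) = _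
    rw [MvPolynomial.aeval_X, hy']
    rfl
  have hL₁' : ∀ p, mapCoeff (S := A₁) (S' := H) M (L₁ p) = lH (f p) := fun p =>
    congrArg (fun ψ : MvPolynomial (Fin n) B₀ →ₐ[B₀] MonoidAlgebra H M => ψ p) hL₁
  have hker : ∀ r ∈ rs, (mapCoeff (S := A₁) (S' := H) M).toLinearMap (L₁ r) = 0 := by
    intro r hr
    change mapCoeff (S := A₁) (S' := H) M (L₁ r) = 0
    rw [hL₁']
    have : r ∈ RingHom.ker f.toRingHom := by
      rw [← hrs]; exact Ideal.subset_span hr
    have h0 : f r = 0 := this
    rw [h0, map_zero]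
  obtain ⟨k, hk, hk'⟩ := exists_smul_eq_zero_finset hH hN₁
    (mapCoeff (S := A₁) (S' := H) M).toLinearMap (isBaseChange_mapCoeff M) rs (fun r => L₁ r) hker
  obtain ⟨algk, tw₀, tw⟩ := exists_away_algebra hH hN₁ k hk
  letI := algk
  haveI := tw₀
  haveI := tw
  let L₂ : MvPolynomial (Fin n) B₀ →ₐ[B₀] MonoidAlgebra (Localization.Away k) M :=
    ((mapCoeff (S := A₁) (S' := Localization.Away k) M).restrictScalars B₀).comp L₁
  have hL₂ : RingHom.ker f.toRingHom ≤ RingHom.ker L₂.toRingHom := by
    rw [← hrs, Ideal.span_le]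
    intro r hr
    rw [SetLike.mem_coe, RingHom.mem_ker]
    change mapCoeff (S := A₁) (S' := Localization.Away k) M (L₁ r) = 0
    exact eq_zero_of_smul_eq_zero_away k
      (mapCoeff (S := A₁) (S' := Localization.Away k) M).toLinearMap (L₁ r) (hk' r hr)
  refine ⟨Localization.Away k, inferInstance, inferInstance, inferInstance, inferInstance,
    hN₁.away k hk, AlgHom.liftOfSurjective f hfs L₂ hL₂, ?_, ?_⟩
  · intro c
    obtain ⟨p, rfl⟩ := hfs c
    rw [AlgHom.liftOfSurjective_apply]
    change mapCoeff (S := Localization.Away k) (S' := H) M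
      (mapCoeff (S := A₁) (S' := Localization.Away k) M (L₁ p)) = _
    rw [mapCoeff_mapCoeff, hL₁']
  · intro h hh
    have : h ∈ Set.range φ₁ := hφ₁ (by
      rw [Finset.mem_coe, Finset.mem_union]; exact Or.inl hh)
    obtain ⟨a, rfl⟩ := this
    refine ⟨algebraMap A₁ (Localization.Away k) a, ?_⟩
    rw [← IsScalarTower.algebraMap_apply]
    rfl

end lift

end Groth.Agent.H15.MTQI
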