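import Groth.Agent.H15.MTQI3

/-!
# Spreading out from the henselization of a pair: the coalgebra property of a chart
-/

set_option autoImplicit false
set_option linter.style.haveILetI false
set_option linter.unusedSectionVars false
universe u
open TensorProduct Coalgebra

namespace Groth.Agent.H15.MTQI
open Groth.Agent.H26 Groth.Agent.H15.MTC Groth.Agent.H15.MT Groth.Agent.H15.GLD
open Groth.Agent.H3 Groth.Agent.H3.EtNbhd Hens2

section tm

variable {R : Type*} [CommRing R] {S₁ : Type*} [CommRing S₁] [Algebra R S₁]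
  {S₂ : Type*} [CommRing S₂] [Algebra S₁ S₂] [Algebra R S₂] [IsScalarTower R S₁ S₂]
  {C : Type*} [AddCommGroup C] [Module R C]
  {T₁ : Type*} [AddCommGroup T₁] [Module R T₁] [Module S₁ T₁] [IsScalarTower R S₁ T₁]
  {T₂ : Type*} [AddCommGroup T₂] [Module R T₂] [Module S₁ T₂] [Module S₂ T₂]
  [IsScalarTower R S₁ T₂] [IsScalarTower S₁ S₂ T₂] [IsScalarTower R S₂ T₂]

lemma tmul₂_tower (θ₁ : C →ₗ[R] T₁) (θ₂ : T₁ →ₗ[S₁] T₂) (x : C ⊗[R] C) :
    tmul₂ S₂ θ₂ (tmul₂ S₁ θ₁ x) = tmul₂ S₂ ((θ₂.restrictScalars R) ∘ₗ θ₁) x := by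
  induction x with
  | zero => simp
  | add x y hx hy => rw [map_add, map_add, map_add, hx, hy]
  | tmul b₁ b₂ => simp

end tm

section bc

variable {R : Type*} [CommRing R] {S : Type*} [CommRing S] [Algebra R S]
  {B : Type*} [AddCommGroup B] [Module R B]
  {T : Type*} [AddCommGroup T] [Module R T] [Module S T] [IsScalarTower R S T]

lemma isBaseChange_tmul₂ (ι : B →ₗ[R] T) (hι : IsBaseChange S ι) :
    IsBaseChange S (tmul₂ S ι) := by
  let e : S ⊗[R] (B ⊗[R] B) ≃ₗ[S] T ⊗[S] T :=
    (TensorProduct.AlgebraTensorModule.distribBaseChange R S B B).trans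
      (TensorProduct.congr hι.equiv hι.equiv)
  refine IsBaseChange.of_equiv e fun x => ?_
  induction x with
  | zero => simp
  | add x y hx hy => rw [tmul_add, map_add, map_add, hx, hy]
  | tmul b₁ b₂ =>
    simp [e, IsBaseChange.equiv_tmul]

end bc

section mul

variable {R : Type*} [CommRing R] {S : Type*} [CommRing S] [Algebra R S]
  {B : Type*} [CommRing B] [Algebra R B]
  {T : Type*} [CommRing T] [Algebra R T] [Algebra S T] [IsScalarTower R S T]

lemma tmul₂_mul (θ : B →ₐ[R] T) (x y : B ⊗[R] B) :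
    tmul₂ S θ.toLinearMap (x * y) = tmul₂ S θ.toLinearMap x * tmul₂ S θ.toLinearMap y := by
  induction x with
  | zero => simp
  | add x₁ x₂ h₁ h₂ => rw [add_mul, map_add, map_add, add_mul, h₁, h₂]
  | tmul a b =>
    induction y with
    | zero => simp
    | add y₁ y₂ h₁ h₂ => rw [mul_add, map_add, map_add, mul_add, h₁, h₂]
    | tmul c d =>
      rw [Algebra.TensorProduct.tmul_mul_tmul, tmul₂_tmul, tmul₂_tmul, tmul₂_tmul,
        Algebra.TensorProduct.tmul_mul_tmul]
      simp

lemma tmul₂_algebraMap (θ : B →ₐ[R] T) (r : R) :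
    tmul₂ S θ.toLinearMap (algebraMap R (B ⊗[R] B) r) =
      algebraMap S (T ⊗[S] T) (algebraMap R S r) := by
  rw [Algebra.algebraMap_eq_smul_one, Algebra.TensorProduct.one_def, map_smul, tmul₂_tmul,
    Algebra.algebraMap_eq_smul_one (algebraMap R S r), Algebra.TensorProduct.one_def,
    algebraMap_smul]
  simp

end mul

section coalg

variable {B₀ : Type u} [CommRing B₀] {I : Ideal B₀} {H : Type u} [CommRing H] [Algebra B₀ H]
  {C : Type u} [CommRing C] [Bialgebra B₀ C] {M : Type u} [CommGroup M]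

/-- the chart over a localization of the neighbourhood -/
noncomputable abbrev awayChart {A' : Type u} [CommRing A'] [Algebra B₀ A'] (k : A')
    (l' : C →ₐ[B₀] MonoidAlgebra A' M) : C →ₐ[B₀] MonoidAlgebra (Localization.Away k) M :=
  ((mapCoeff (S := A') (S' := Localization.Away k) M).restrictScalars B₀).comp l'

lemma comul_defect {A' A'' : Type u} [CommRing A'] [Algebra B₀ A'] [CommRing A''] [Algebra B₀ A'']
    [Algebra A' A''] [IsScalarTower B₀ A' A''] (l' : C →ₐ[B₀] MonoidAlgebra A' M) (c : C) :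
    tmul₂ A'' (mapCoeff (S := A') (S' := A'') M).toLinearMap
      (comul (R := A') (l' c) - tmul₂ A' l'.toLinearMap (comul (R := B₀) c)) =
    comul (R := A'') (mapCoeff (S := A') (S' := A'') M (l' c)) -
      tmul₂ A'' (((mapCoeff (S := A') (S' := A'') M).restrictScalars B₀).comp l').toLinearMap
        (comul (R := B₀) c) := by
  rw [map_sub, tmul₂_tower]
  congr 1
  exact ((isCoalgMapOver_mapCoeff (S := A') (S' := A'') M).comul (l' c)).symm

lemma counit_defect {A' A'' : Type u} [CommRing A'] [Algebra B₀ A'] [CommRing A''] [Algebra B₀ A'']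
    [Algebra A' A''] [IsScalarTower B₀ A' A''] (l' : C →ₐ[B₀] MonoidAlgebra A' M) (c : C) :
    algebraMap A' A'' (counit (R := A') (l' c) - algebraMap B₀ A' (counit (R := B₀) c)) =
    counit (R := A'') (mapCoeff (S := A') (S' := A'') M (l' c)) -
      algebraMap B₀ A'' (counit (R := B₀) c) := by
  rw [map_sub, ← IsScalarTower.algebraMap_apply]
  congr 1
  exact ((isCoalgMapOver_mapCoeff (S := A') (S' := A'') M).counit (l' c)).symm

/-- a chart which is a coalgebra map on algebra generators is a coalgebra map -/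
theorem isCoalgMapOver_of_generators {A'' : Type u} [CommRing A''] [Algebra B₀ A'']
    (l : C →ₐ[B₀] MonoidAlgebra A'' M) (gs : Set C) (hgs : Algebra.adjoin B₀ gs = ⊤)
    (h1 : ∀ g ∈ gs, comul (R := A'') (l g) = tmul₂ A'' l.toLinearMap (comul (R := B₀) g))
    (h2 : ∀ g ∈ gs, counit (R := A'') (l g) = algebraMap B₀ A'' (counit (R := B₀) g)) :
    IsCoalgMapOver A'' l.toLinearMap := by
  have key : ∀ c : C, comul (R := A'') (l c) = tmul₂ A'' l.toLinearMap (comul (R := B₀) c) ∧
      counit (R := A'') (l c) = algebraMap B₀ A'' (counit (R := B₀) c) := by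
    intro c
    have hc : c ∈ Algebra.adjoin B₀ gs := by rw [hgs]; trivial
    induction hc using Algebra.adjoin_induction with
    | mem x hx => exact ⟨h1 x hx, h2 x hx⟩
    | algebraMap r =>
      constructor
      · rw [Bialgebra.comul_algebraMap, tmul₂_algebraMap, l.commutes,
          IsScalarTower.algebraMap_apply B₀ A'' (MonoidAlgebra A'' M), Bialgebra.comul_algebraMap]
      · rw [Bialgebra.counit_algebraMap, l.commutes,
          IsScalarTower.algebraMap_apply B₀ A'' (MonoidAlgebra A'' M), Bialgebra.counit_algebraMap]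
    | add x y _ _ hx hy =>
      constructor
      · rw [map_add, map_add, map_add, map_add, hx.1, hy.1]
      · rw [map_add, map_add, map_add, map_add, hx.2, hy.2]
    | mul x y _ _ hx hy =>
      constructor
      · rw [map_mul, Bialgebra.comul_mul, Bialgebra.comul_mul, tmul₂_mul, hx.1, hy.1]
      · rw [map_mul, Bialgebra.counit_mul, Bialgebra.counit_mul, map_mul, hx.2, hy.2]
  exact ⟨fun c => (key c).1, fun c => (key c).2⟩

/-- after localizing the neighbourhood, a lift of a chart over the henselization is a coalgebra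
map -/
theorem exists_isCoalgMapOver_away (hH : IsPairHenselization B₀ I H) [Algebra.FiniteType B₀ C]
    (lH : C →ₐ[B₀] MonoidAlgebra H M) (hcoH : IsCoalgMapOver H lH.toLinearMap)
    {A' : Type u} [CommRing A'] [Algebra B₀ A'] (hN : IsNbhd I A') [Algebra A' H]
    [IsScalarTower B₀ A' H] (l' : C →ₐ[B₀] MonoidAlgebra A' M)
    (hl' : ∀ c, mapCoeff (S := A') (S' := H) M (l' c) = lH c) :
    ∃ k : A', k - 1 ∈ I.map (algebraMap B₀ A') ∧
      IsCoalgMapOver (Localization.Away k) (awayChart k l').toLinearMap := by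
  classical
  obtain ⟨gs, hgs⟩ := (Algebra.FiniteType.out : (⊤ : Subalgebra B₀ C).FG)
  have hlH : ((mapCoeff (S := A') (S' := H) M).restrictScalars B₀).comp l' = lH :=
    AlgHom.ext hl'
  -- the comultiplication defects die over the henselization
  have hd1 : ∀ g ∈ gs, tmul₂ H (mapCoeff (S := A') (S' := H) M).toLinearMap
      (comul (R := A') (l' g) - tmul₂ A' l'.toLinearMap (comul (R := B₀) g)) = 0 := by
    intro g _
    rw [comul_defect, hlH, hl', sub_eq_zero]
    exact hcoH.comul g
  obtain ⟨k₁, hk₁, hk₁'⟩ := exists_smul_eq_zero_finset hH hN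
    (tmul₂ H (mapCoeff (S := A') (S' := H) M).toLinearMap)
    (isBaseChange_tmul₂ _ (isBaseChange_mapCoeff M)) gs
    (fun g => comul (R := A') (l' g) - tmul₂ A' l'.toLinearMap (comul (R := B₀) g)) hd1
  have hd2 : ∀ g ∈ gs, Algebra.linearMap A' H
      (counit (R := A') (l' g) - algebraMap B₀ A' (counit (R := B₀) g)) = 0 := by
    intro g _
    rw [Algebra.linearMap_apply, counit_defect, hl', sub_eq_zero]
    exact hcoH.counit g
  obtain ⟨k₂, hk₂, hk₂'⟩ := exists_smul_eq_zero_finset hH hN
    (Algebra.linearMap A' H) (IsBaseChange.linearMap A' H) gs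
    (fun g => counit (R := A') (l' g) - algebraMap B₀ A' (counit (R := B₀) g)) hd2
  refine ⟨k₁ * k₂, mul_sub_one_mem _ hk₁ hk₂, ?_⟩
  apply isCoalgMapOver_of_generators (awayChart (k₁ * k₂) l') (gs : Set C) hgs
  · intro g hg
    have h0 : (k₁ * k₂) • (comul (R := A') (l' g) -
        tmul₂ A' l'.toLinearMap (comul (R := B₀) g)) = 0 := by
      rw [mul_comm, mul_smul, hk₁' g hg, smul_zero]
    have h1 := eq_zero_of_smul_eq_zero_away (k₁ * k₂)
      (tmul₂ (Localization.Away (k₁ * k₂))
        (mapCoeff (S := A') (S' := Localization.Away (k₁ * k₂)) M).toLinearMap) _ h0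
    rw [comul_defect, sub_eq_zero] at h1
    exact h1
  · intro g hg
    have h0 : (k₁ * k₂) • (counit (R := A') (l' g) -
        algebraMap B₀ A' (counit (R := B₀) g)) = 0 := by
      rw [mul_smul, hk₂' g hg, smul_zero]
    have h1 := eq_zero_of_smul_eq_zero_away (k₁ * k₂)
      (Algebra.linearMap A' (Localization.Away (k₁ * k₂))) _ h0
    rw [Algebra.linearMap_apply, counit_defect, sub_eq_zero] at h1
    exact h1

end coalg

end Groth.Agent.H15.MTQI
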