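import Groth.Agent.H15.MTQI4

/-!
# Spreading out from the henselization of a pair: bijectivity of a chart
-/

set_option autoImplicit false
set_option linter.style.haveILetI false
set_option linter.unusedSectionVars false
universe u
open TensorProduct Coalgebra

namespace Groth.Agent.H15.MTQI
open Groth.Agent.H26 Groth.Agent.H15.MTC Groth.Agent.H15.MT Groth.Agent.H15.GLD
open Groth.Agent.H3 Groth.Agent.H3.EtNbhd Hens2

section gen

variable {B₀ : Type u} [CommRing B₀] {C : Type u} [CommRing C] [Bialgebra B₀ C]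
  {M : Type u} [CommGroup M]

lemma liftAlg_map {A' A'' : Type u} [CommRing A'] [Algebra B₀ A'] [CommRing A''] [Algebra B₀ A'']
    [Algebra A' A''] [IsScalarTower B₀ A' A''] (l' : C →ₐ[B₀] MonoidAlgebra A' M)
    (l'' : C →ₐ[B₀] MonoidAlgebra A'' M)
    (h : ∀ c, mapCoeff (S := A') (S' := A'') M (l' c) = l'' c) (w : A' ⊗[B₀] C) :
    liftAlg A'' l'' (TensorProduct.AlgebraTensorModule.map (Algebra.linearMap A' A'')
      (LinearMap.id : C →ₗ[B₀] C) w) = mapCoeff (S := A') (S' := A'') M (liftAlg A' l' w) := by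
  induction w with
  | zero => simp
  | add x y hx hy => rw [map_add, map_add, map_add, map_add, hx, hy]
  | tmul a c =>
    rw [TensorProduct.AlgebraTensorModule.map_tmul, liftAlg_tmul, liftAlg_tmul,
      Algebra.linearMap_apply, LinearMap.id_apply, map_smul, h, algebraMap_smul]

lemma liftAlg_eq_equiv {K : Type u} [CommRing K] [Algebra B₀ K] (l : C →ₐ[B₀] MonoidAlgebra K M)
    (hbc : IsBaseChange K l.toLinearMap) (t : K ⊗[B₀] C) : liftAlg K l t = hbc.equiv t := by
  have h1 : liftAlg K l t = (liftAlg K l).toLinearMap t := rfl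
  rw [h1, liftAlg_toLinearMap, liftBaseChange_eq_equiv hbc]

lemma bijective_liftAlg {K : Type u} [CommRing K] [Algebra B₀ K] (l : C →ₐ[B₀] MonoidAlgebra K M)
    (hbc : IsBaseChange K l.toLinearMap) : Function.Bijective (liftAlg K l) := by
  have h : ⇑(liftAlg K l) = ⇑hbc.equiv := funext (liftAlg_eq_equiv l hbc)
  rw [h]
  exact hbc.equiv.bijective

lemma isBaseChange_of_bijective {K : Type u} [CommRing K] [Algebra B₀ K]
    (l : C →ₐ[B₀] MonoidAlgebra K M) (h : Function.Bijective (liftAlg K l)) :
    IsBaseChange K l.toLinearMap := by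
  refine IsBaseChange.of_equiv (LinearEquiv.ofBijective (liftAlg K l).toLinearMap h) fun c => ?_
  change liftAlg K l ((1 : K) ⊗ₜ[B₀] c) = l c
  rw [liftAlg_tmul, one_smul]

/-- an algebra map to a group algebra whose image contains generators of the group and their
inverses is surjective -/
lemma surjective_of_single_mem {S : Type*} [CommRing S] {T : Type*} [CommRing T] [Algebra S T]
    (lam : T →ₐ[S] MonoidAlgebra S M) (S₀ : Set M) (hS₀ : Subgroup.closure S₀ = ⊤)
    (h : ∀ s ∈ S₀, MonoidAlgebra.single s (1 : S) ∈ lam.range ∧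
      MonoidAlgebra.single s⁻¹ (1 : S) ∈ lam.range) : Function.Surjective lam := by
  have key : ∀ m : M, MonoidAlgebra.single m (1 : S) ∈ lam.range ∧
      MonoidAlgebra.single m⁻¹ (1 : S) ∈ lam.range := by
    intro m
    have hm : m ∈ Subgroup.closure S₀ := by rw [hS₀]; trivial
    induction hm using Subgroup.closure_induction with
    | mem x hx => exact h x hx
    | one =>
      rw [inv_one]
      exact ⟨Subalgebra.one_mem _, Subalgebra.one_mem _⟩
    | mul x y _ _ hx hy =>
      constructor
      · have : (MonoidAlgebra.single (x * y) (1 : S)) =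
            MonoidAlgebra.single x 1 * MonoidAlgebra.single y 1 := by
          rw [MonoidAlgebra.single_mul_single, one_mul]
        rw [this]
        exact Subalgebra.mul_mem _ hx.1 hy.1
      · have : (MonoidAlgebra.single (x * y)⁻¹ (1 : S)) =
            MonoidAlgebra.single y⁻¹ 1 * MonoidAlgebra.single x⁻¹ 1 := by
          rw [MonoidAlgebra.single_mul_single, one_mul, mul_inv_rev]
        rw [this]
        exact Subalgebra.mul_mem _ hy.2 hx.2
    | inv x _ hx =>
      rw [inv_inv]
      exact ⟨hx.2, hx.1⟩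
  intro y
  have hy : y ∈ lam.range := by
    induction y using MonoidAlgebra.induction_linear with
    | zero => exact Subalgebra.zero_mem _
    | add x y hx hy => exact Subalgebra.add_mem _ hx hy
    | single m r =>
      have : (MonoidAlgebra.single m r : MonoidAlgebra S M) = r • MonoidAlgebra.single m 1 := by
        rw [MonoidAlgebra.smul_single, smul_eq_mul, mul_one]
      rw [this]
      exact Subalgebra.smul_mem _ (key m).1 r
  exact hy

lemma exists_finset_sum_eq {K : Type u} [CommRing K] [Algebra B₀ K]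
    (l : C →ₐ[B₀] MonoidAlgebra K M) (hbc : IsBaseChange K l.toLinearMap)
    (y : MonoidAlgebra K M) : ∃ J : Finset (K × C), ∑ p ∈ J, p.1 • l p.2 = y := by
  obtain ⟨w, hw⟩ := (bijective_liftAlg l hbc).2 y
  obtain ⟨J, hJ⟩ := TensorProduct.exists_finset w
  refine ⟨J, ?_⟩
  rw [← hw, hJ, map_sum]
  exact Finset.sum_congr rfl fun p _ => (liftAlg_tmul K l p.1 p.2).symm

end gen

section surj

variable {B₀ : Type u} [CommRing B₀] {I : Ideal B₀} {H : Type u} [CommRing H] [Algebra B₀ H]
  {C : Type u} [CommRing C] [Bialgebra B₀ C] {M : Type u} [CommGroup M]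

lemma exists_tensor_of_preimages (lH : C →ₐ[B₀] MonoidAlgebra H M)
    {A' : Type u} [CommRing A'] [Algebra B₀ A'] [Algebra A' H] [IsScalarTower B₀ A' H]
    (l' : C →ₐ[B₀] MonoidAlgebra A' M)
    (hl' : ∀ c, mapCoeff (S := A') (S' := H) M (l' c) = lH c) (J : Finset (H × C))
    (hJ : ∀ p ∈ J, p.1 ∈ Set.range (algebraMap A' H)) :
    ∃ w : A' ⊗[B₀] C, mapCoeff (S := A') (S' := H) M (liftAlg A' l' w) =
      ∑ p ∈ J, p.1 • lH p.2 := by
  classical
  choose! pre hpre using hJ
  refine ⟨∑ p ∈ J, pre p ⊗ₜ[B₀] p.2, ?_⟩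
  rw [map_sum, map_sum]
  refine Finset.sum_congr rfl fun p hp => ?_
  rw [liftAlg_tmul, map_smul, hl', ← hpre p hp, algebraMap_smul]

/-- after localizing the neighbourhood the linearised chart becomes surjective -/
theorem exists_surjective_away [DecidableEq M] (hH : IsPairHenselization B₀ I H)
    {A' : Type u} [CommRing A'] [Algebra B₀ A'] (hN : IsNbhd I A') [Algebra A' H]
    [IsScalarTower B₀ A' H] (l' : C →ₐ[B₀] MonoidAlgebra A' M)
    (S₀ : Finset M) (hS₀ : Subgroup.closure (S₀ : Set M) = ⊤)
    (hw : ∀ s ∈ S₀ ∪ S₀.image (·⁻¹), ∃ w : A' ⊗[B₀] C,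
      mapCoeff (S := A') (S' := H) M (liftAlg A' l' w) = MonoidAlgebra.single s 1) :
    ∃ k : A', k - 1 ∈ I.map (algebraMap B₀ A') ∧
      Function.Surjective (liftAlg (Localization.Away k) (awayChart k l')) := by
  classical
  choose! w hw' using hw
  have hz : ∀ s ∈ S₀ ∪ S₀.image (·⁻¹), (mapCoeff (S := A') (S' := H) M).toLinearMap
      (liftAlg A' l' (w s) - MonoidAlgebra.single s 1) = 0 := by
    intro s hs
    change mapCoeff (S := A') (S' := H) M (liftAlg A' l' (w s) - MonoidAlgebra.single s 1) = 0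
    rw [map_sub, hw' s hs, sub_eq_zero]
    simp [mapCoeff]
  obtain ⟨k, hk, hk'⟩ := exists_smul_eq_zero_finset hH hN
    (mapCoeff (S := A') (S' := H) M).toLinearMap (isBaseChange_mapCoeff M) _
    (fun s => liftAlg A' l' (w s) - MonoidAlgebra.single s 1) hz
  refine ⟨k, hk, ?_⟩
  have hmem : ∀ s ∈ S₀ ∪ S₀.image (·⁻¹), MonoidAlgebra.single s (1 : Localization.Away k) ∈
      (liftAlg (Localization.Away k) (awayChart k l')).range := by
    intro s hs
    refine ⟨TensorProduct.AlgebraTensorModule.map (Algebra.linearMap A' (Localization.Away k))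
      (LinearMap.id : C →ₗ[B₀] C) (w s), ?_⟩
    change liftAlg (Localization.Away k) (awayChart k l') _ = _
    rw [liftAlg_map l' (awayChart k l') (fun c => rfl)]
    have h0 := eq_zero_of_smul_eq_zero_away k
      (mapCoeff (S := A') (S' := Localization.Away k) M).toLinearMap _ (hk' s hs)
    change mapCoeff (S := A') (S' := Localization.Away k) M
      (liftAlg A' l' (w s) - MonoidAlgebra.single s 1) = 0 at h0
    rw [map_sub, sub_eq_zero] at h0
    rw [h0]
    simp [mapCoeff]
  apply surjective_of_single_mem _ (S₀ : Set M) hS₀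
  intro s hs
  constructor
  · exact hmem s (Finset.mem_union_left _ hs)
  · exact hmem s⁻¹ (Finset.mem_union_right _ (Finset.mem_image_of_mem _ hs))

end surj

end Groth.Agent.H15.MTQI
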