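import Groth.Agent.H15.MTQI5

/-!
# Spreading out from the henselization of a pair: injectivity of a chart, and the main theorem
-/

set_option autoImplicit false
set_option linter.style.haveILetI false
set_option linter.unusedSectionVars false
universe u
open TensorProduct Coalgebra

namespace Groth.Agent.H15.MTQI
open Groth.Agent.H26 Groth.Agent.H15.MTC Groth.Agent.H15.MT Groth.Agent.H15.GLD
open Groth.Agent.H3 Groth.Agent.H3.EtNbhd Hens2

section inj

variable {B₀ : Type u} [CommRing B₀] {I : Ideal B₀} {H : Type u} [CommRing H] [Algebra B₀ H]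
  {C : Type u} [CommRing C] [Bialgebra B₀ C] {M : Type u} [CommGroup M]

/-- after localizing the neighbourhood a surjective linearised chart becomes bijective -/
theorem exists_isBaseChange_away (hH : IsPairHenselization B₀ I H)
    [Algebra.FinitePresentation B₀ C] [Group.FG M]
    (lH : C →ₐ[B₀] MonoidAlgebra H M) (hbcH : IsBaseChange H lH.toLinearMap)
    {A' : Type u} [CommRing A'] [Algebra B₀ A'] (hN : IsNbhd I A') [Algebra A' H]
    [IsScalarTower B₀ A' H] (l' : C →ₐ[B₀] MonoidAlgebra A' M)
    (hl' : ∀ c, mapCoeff (S := A') (S' := H) M (l' c) = lH c)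
    (hsurj : Function.Surjective (liftAlg A' l')) :
    ∃ k : A', k - 1 ∈ I.map (algebraMap B₀ A') ∧
      IsBaseChange (Localization.Away k) (awayChart k l').toLinearMap := by
  classical
  haveI : Algebra.FinitePresentation A' (A' ⊗[B₀] C) := inferInstance
  haveI := finitePresentation_monoidAlgebra A' M
  obtain ⟨zs, hzs⟩ := Algebra.FinitePresentation.ker_fG_of_surjective (liftAlg A' l') hsurj
  -- the map to the henselization
  let L : A' ⊗[B₀] C →ₗ[A'] H ⊗[B₀] C :=
    TensorProduct.AlgebraTensorModule.map (Algebra.linearMap A' H) (LinearMap.id : C →ₗ[B₀] C)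
  have hL : IsBaseChange H L :=
    isBaseChange_tensorProduct_map (R := B₀) (P := C) H (IsBaseChange.linearMap A' H)
  have hLz : ∀ z ∈ zs, L z = 0 := by
    intro z hz
    have hzker : z ∈ RingHom.ker (liftAlg A' l').toRingHom := by
      rw [← hzs]; exact Ideal.subset_span hz
    have h0 : liftAlg A' l' z = 0 := hzker
    apply (bijective_liftAlg lH hbcH).1
    rw [map_zero, liftAlg_map l' lH hl', h0, map_zero]
  obtain ⟨k, hk, hk'⟩ := exists_smul_eq_zero_finset hH hN L hL zs (fun z => z) hLz
  have hkspan : ∀ w ∈ Ideal.span (zs : Set (A' ⊗[B₀] C)), k • w = 0 := by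
    intro w hwker
    induction hwker using Submodule.span_induction with
    | mem x hx => exact hk' x hx
    | zero => rw [smul_zero]
    | add x y _ _ hx hy => rw [smul_add, hx, hy, add_zero]
    | smul a x _ hx => rw [smul_comm, hx, smul_zero]
  have hkker : ∀ w : A' ⊗[B₀] C, liftAlg A' l' w = 0 → k • w = 0 := by
    intro w hw
    apply hkspan
    rw [hzs]; exact hw
  refine ⟨k, hk, ?_⟩
  apply isBaseChange_of_bijective
  -- the localization maps
  let f₁ : A' ⊗[B₀] C →ₗ[A'] Localization.Away k ⊗[B₀] C :=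
    TensorProduct.AlgebraTensorModule.map (Algebra.linearMap A' (Localization.Away k))
      (LinearMap.id : C →ₗ[B₀] C)
  have hf₁ : IsBaseChange (Localization.Away k) f₁ :=
    isBaseChange_tensorProduct_map (R := B₀) (P := C) (Localization.Away k)
      (IsBaseChange.linearMap A' (Localization.Away k))
  haveI : IsLocalizedModule (Submonoid.powers k) f₁ :=
    (isLocalizedModule_iff_isBaseChange (Submonoid.powers k) (Localization.Away k) f₁).mpr hf₁
  let f₂ : MonoidAlgebra A' M →ₗ[A'] MonoidAlgebra (Localization.Away k) M :=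
    (mapCoeff (S := A') (S' := Localization.Away k) M).toLinearMap
  haveI : IsLocalizedModule (Submonoid.powers k) f₂ :=
    (isLocalizedModule_iff_isBaseChange (Submonoid.powers k) (Localization.Away k) f₂).mpr
      (isBaseChange_mapCoeff M)
  have hcomm : ∀ w, liftAlg (Localization.Away k) (awayChart k l') (f₁ w) = f₂ (liftAlg A' l' w) :=
    fun w => liftAlg_map l' (awayChart k l') (fun c => rfl) w
  constructor
  · rw [injective_iff_map_eq_zero]
    intro x hx
    obtain ⟨⟨w, s⟩, hs⟩ := IsLocalizedModule.surj (Submonoid.powers k) f₁ x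
    change s • x = f₁ w at hs
    have h1 : f₂ (liftAlg A' l' w) = 0 := by
      rw [← hcomm, ← hs, Submonoid.smul_def, ← algebraMap_smul (Localization.Away k) (s : A') x,
        map_smul, hx, smul_zero]
    obtain ⟨t, ht⟩ := (IsLocalizedModule.eq_zero_iff (Submonoid.powers k) f₂).mp h1
    have h2 : liftAlg A' l' ((t : A') • w) = 0 := by
      rw [map_smul]; exact ht
    have h3 := hkker _ h2
    have h4 : f₁ w = 0 := by
      rw [IsLocalizedModule.eq_zero_iff (Submonoid.powers k) f₁]
      refine ⟨⟨k, Submonoid.mem_powers k⟩ * t, ?_⟩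
      rw [Submonoid.smul_def, Submonoid.coe_mul, mul_smul]
      exact h3
    rw [h4] at hs
    exact IsLocalizedModule.smul_injective f₁ s (hs.trans (smul_zero s).symm)
  · intro y
    have hy : y ∈ (liftAlg (Localization.Away k) (awayChart k l')).range := by
      induction y using MonoidAlgebra.induction_linear with
      | zero => exact Subalgebra.zero_mem _
      | add x y hx hy => exact Subalgebra.add_mem _ hx hy
      | single m r =>
        obtain ⟨w, hw⟩ := hsurj (MonoidAlgebra.single m 1)
        have h1 : (MonoidAlgebra.single m r : MonoidAlgebra (Localization.Away k) M) =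
            r • f₂ (MonoidAlgebra.single m 1) := by
          simp [f₂, mapCoeff]
        rw [h1, ← hw, ← hcomm]
        exact Subalgebra.smul_mem _ (AlgHom.mem_range_self _ _) r
    exact hy

lemma isBaseChange_awayChart {A' : Type u} [CommRing A'] [Algebra B₀ A'] (k : A')
    (l' : C →ₐ[B₀] MonoidAlgebra A' M) (h : IsBaseChange A' l'.toLinearMap) :
    IsBaseChange (Localization.Away k) (awayChart k l').toLinearMap := by
  have h0 := h.comp (isBaseChange_mapCoeff (S := A') (S' := Localization.Away k) M)
  have h1 : (awayChart k l').toLinearMap =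
      ((mapCoeff (S := A') (S' := Localization.Away k) M).toLinearMap.restrictScalars B₀).comp
        l'.toLinearMap :=
    LinearMap.ext fun _ => rfl
  rw [h1]
  exact h0

end inj

section main

variable {B₀ : Type u} [CommRing B₀] {I : Ideal B₀} {H : Type u} [CommRing H] [Algebra B₀ H]

/-- **Spreading out a diagonalisation from the henselization**: if a Hopf algebra of finite
presentation becomes the group algebra of a finitely generated group over the henselization of a
pair, it does so over an étale neighbourhood of the pair. -/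
theorem exists_nbhd_hasDChart (hH : IsPairHenselization B₀ I H)
    (C : Type u) [CommRing C] [HopfAlgebra B₀ C] [Algebra.FinitePresentation B₀ C]
    (M : Type u) [CommGroup M] [Group.FG M] (h : HasDChart B₀ C H M) :
    ∃ (A' : Type u) (_ : CommRing A') (_ : Algebra B₀ A'), IsNbhd I A' ∧ HasDChart B₀ C A' M := by
  classical
  obtain ⟨lH, hcoH, hbcH⟩ := h
  obtain ⟨S₀, hS₀⟩ := (Group.FG.out : (⊤ : Subgroup M).FG)
  have hJ : ∀ s : M, ∃ J : Finset (H × C), ∑ p ∈ J, p.1 • lH p.2 = MonoidAlgebra.single s 1 :=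
    fun s => exists_finset_sum_eq lH hbcH _
  choose J hJ using hJ
  let SH : Finset H := (S₀ ∪ S₀.image (·⁻¹)).biUnion fun s => (J s).image Prod.fst
  obtain ⟨A₁, _, _, _, _, hN₁, l₁, hl₁, hS⟩ := exists_lift_chart hH lH SH
  -- surjectivity
  have hw : ∀ s ∈ S₀ ∪ S₀.image (·⁻¹), ∃ w : A₁ ⊗[B₀] C,
      mapCoeff (S := A₁) (S' := H) M (liftAlg A₁ l₁ w) = MonoidAlgebra.single s 1 := by
    intro s hs
    obtain ⟨w, hw⟩ := exists_tensor_of_preimages lH l₁ hl₁ (J s) (fun p hp => hS _ (by
      rw [Finset.mem_biUnion]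
      exact ⟨s, hs, Finset.mem_image_of_mem _ hp⟩))
    exact ⟨w, hw.trans (hJ s)⟩
  obtain ⟨k₂, hk₂, hsurj₂⟩ := exists_surjective_away hH hN₁ l₁ S₀ hS₀ hw
  obtain ⟨alg₂, tw₂, tw₂'⟩ := exists_away_algebra hH hN₁ k₂ hk₂
  letI := alg₂
  haveI := tw₂
  haveI := tw₂'
  have hN₂ : IsNbhd I (Localization.Away k₂) := hN₁.away k₂ hk₂
  have hl₂ : ∀ c, mapCoeff (S := Localization.Away k₂) (S' := H) M (awayChart k₂ l₁ c) = lH c := by
    intro c
    change mapCoeff (S := Localization.Away k₂) (S' := H) M
      (mapCoeff (S := A₁) (S' := Localization.Away k₂) M (l₁ c)) = _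
    rw [mapCoeff_mapCoeff, hl₁]
  -- injectivity
  obtain ⟨k₃, hk₃, hbc₃⟩ := exists_isBaseChange_away hH lH hbcH hN₂ (awayChart k₂ l₁) hl₂ hsurj₂
  obtain ⟨alg₃, tw₃, tw₃'⟩ := exists_away_algebra hH hN₂ k₃ hk₃
  letI := alg₃
  haveI := tw₃
  haveI := tw₃'
  have hN₃ : IsNbhd I (Localization.Away k₃) := hN₂.away k₃ hk₃
  have hl₃ : ∀ c, mapCoeff (S := Localization.Away k₃) (S' := H) M
      (awayChart k₃ (awayChart k₂ l₁) c) = lH c := by
    intro c
    change mapCoeff (S := Localization.Away k₃) (S' := H) M
      (mapCoeff (S := Localization.Away k₂) (S' := Localization.Away k₃) M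
        (awayChart k₂ l₁ c)) = _
    rw [mapCoeff_mapCoeff, hl₂]
  -- the coalgebra property
  haveI : Algebra.FiniteType B₀ C := inferInstance
  obtain ⟨k₄, hk₄, hco₄⟩ := exists_isCoalgMapOver_away hH lH hcoH hN₃
    (awayChart k₃ (awayChart k₂ l₁)) hl₃
  refine ⟨Localization.Away k₄, inferInstance, inferInstance, hN₃.away k₄ hk₄,
    awayChart k₄ (awayChart k₃ (awayChart k₂ l₁)), hco₄, ?_⟩
  exact isBaseChange_awayChart k₄ _ hbc₃

end main

end Groth.Agent.H15.MTQI
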