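import Groth.Agent.H15.MTQI6
import Groth.Agent.H47.EtaleLift
import Groth.Agent.H3.Henselization

/-!
# Groups of multiplicative type and of finite type: diagonalisation on an étale neighbourhood of a
closed point
-/

set_option autoImplicit false
set_option linter.style.haveILetI false
set_option linter.unusedSectionVars false
universe u
open TensorProduct Coalgebra

namespace Groth.Agent.H15.MTQI
open Groth.Agent.H26 Groth.Agent.H15.MTC Groth.Agent.H15.MT Groth.Agent.H15.GLD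
open Groth.Agent.H3 Groth.Agent.H3.EtNbhd Hens2

section hensloc

variable {E : Type u} [CommRing E] {𝔫 : Ideal E} {Hh : Type u} [CommRing Hh] [Algebra E Hh]
  {k' : Type u} [Field k']

/-- the residue map of the henselization of a ring along a maximal ideal -/
theorem exists_residue_map (hH : IsPairHenselization E 𝔫 Hh) (g : E →+* k')
    (hg : Function.Surjective g) (hker : RingHom.ker g = 𝔫) :
    ∃ G : Hh →+* k', G.comp (algebraMap E Hh) = g ∧ Function.Surjective G ∧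
      RingHom.ker G = 𝔫.map (algebraMap E Hh) := by
  obtain ⟨G, hG, -⟩ := hH.2 k' ⊥ g (PairHens.henselianRing_bot k') (by
    rw [← hker, Ideal.map_le_iff_le_comap, RingHom.ker_eq_comap_bot])
  have hG' : ∀ a, G (algebraMap E Hh a) = g a := fun a =>
    congrArg (fun ψ : E →+* k' => ψ a) hG
  refine ⟨G, hG, ?_, ?_⟩
  · intro y
    obtain ⟨x, rfl⟩ := hg y
    exact ⟨algebraMap E Hh x, hG' x⟩
  · have hle : 𝔫.map (algebraMap E Hh) ≤ RingHom.ker G := by
      rw [Ideal.map_le_iff_le_comap]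
      intro a ha
      rw [Ideal.mem_comap, RingHom.mem_ker, hG']
      rw [← hker] at ha
      exact ha
    apply le_antisymm _ hle
    intro x hx
    obtain ⟨a, ha⟩ := PairHens.exists_sub_mem hH x
    have h1 : G (x - algebraMap E Hh a) = 0 := hle ha
    rw [map_sub, RingHom.mem_ker.mp hx, zero_sub, neg_eq_zero, hG'] at h1
    have h2 : a ∈ 𝔫 := by rw [← hker]; exact h1
    have h3 : x = (x - algebraMap E Hh a) + algebraMap E Hh a := by ring
    rw [h3]
    exact Ideal.add_mem _ ha (Ideal.mem_map_of_mem _ h2)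

/-- the henselization of a ring along a maximal ideal is a henselian local ring -/
theorem henselianLocalRing_of_residue_map (hH : IsPairHenselization E 𝔫 Hh) (G : Hh →+* k')
    (hG : Function.Surjective G) (hkerG : RingHom.ker G = 𝔫.map (algebraMap E Hh)) :
    ∃ _ : IsLocalRing Hh, HenselianLocalRing Hh := by
  have hmax : (RingHom.ker G).IsMaximal := RingHom.ker_isMaximal_of_surjective G hG
  have hloc : IsLocalRing Hh := by
    apply IsLocalRing.of_unique_max_ideal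
    refine ⟨RingHom.ker G, hmax, fun P hP => ?_⟩
    have hle : RingHom.ker G ≤ P := by
      rw [hkerG]
      exact (hH.1.jac).trans (sInf_le ⟨bot_le, hP⟩)
    exact (hmax.eq_of_le hP.ne_top hle).symm
  refine ⟨hloc, ?_⟩
  have heq : IsLocalRing.maximalIdeal Hh = 𝔫.map (algebraMap E Hh) := by
    rw [← hkerG]
    exact (IsLocalRing.eq_maximalIdeal hmax).symm
  apply henselianLocalRing_of_henselianRing
  rw [heq]
  exact hH.1

end hensloc

section pointwise

variable (R : Type u) [CommRing R] (A : Type u) [CommRing A] [HopfAlgebra R A]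

/-- a group of multiplicative type (of constant type) and of finite type is diagonalisable over
an étale neighbourhood of any closed point -/
theorem exists_etale_hasDChart (hft : Algebra.FiniteType R A) (h : SGA3b.IsMultTypeConst R A)
    (𝔪 : Ideal R) [h𝔪 : 𝔪.IsMaximal] :
    ∃ (E : Type u) (_ : CommRing E) (_ : Algebra R E) (M : Type u) (_ : CommGroup M),
      Algebra.Etale R E ∧ HasDChart R A E M ∧ 𝔪.map (algebraMap R E) ≠ ⊤ := by
  letI : Field (R ⧸ 𝔪) := Ideal.Quotient.field 𝔪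
  -- the closed fibre is isotrivial
  have h0 : SGA3b.IsMultType (R ⧸ 𝔪) ((R ⧸ 𝔪) ⊗[R] A) :=
    Groth.Agent.H15.MTF.isMultType_of_isMultTypeConst
      (Groth.Agent.H15.MTF.isMultTypeConst_baseChange h _)
  have hft0 : Algebra.FiniteType (R ⧸ 𝔪) ((R ⧸ 𝔪) ⊗[R] A) := inferInstance
  obtain ⟨k', _, _, hfin, hsep, M, _, hfg, ⟨e₀⟩⟩ :=
    Groth.Agent.H15.IsoF.isotrivial_of_field (R ⧸ 𝔪) _ hft0 h0
  haveI := hfg
  haveI := hfin
  haveI := hsep
  letI : Algebra R k' := ((algebraMap (R ⧸ 𝔪) k').comp (algebraMap R (R ⧸ 𝔪))).toAlgebra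
  haveI : IsScalarTower R (R ⧸ 𝔪) k' := IsScalarTower.of_algebraMap_eq fun _ => rfl
  haveI : Algebra.FormallyEtale (R ⧸ 𝔪) k' := Algebra.FormallyEtale.of_isSeparable _ _
  haveI : Algebra.FinitePresentation (R ⧸ 𝔪) k' := by
    have : Algebra.FiniteType (R ⧸ 𝔪) k' := inferInstance
    exact Algebra.FinitePresentation.of_finiteType.mp this
  haveI het0 : Algebra.Etale (R ⧸ 𝔪) k' := {}
  have h1 : HasDChart (R ⧸ 𝔪) ((R ⧸ 𝔪) ⊗[R] A) k' M := HasDChart.of_equiv e₀
  have h2 : HasDChart R A k' M := HasDChart.of_baseChange (R ⧸ 𝔪) h1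
  -- an étale algebra lifting the residue extension
  obtain ⟨E₁, _, _, hetE, ⟨ψ⟩⟩ := Groth.Agent.H47.exists_etale_lift_quotient R 𝔪 k'
  haveI := hetE
  let g : E₁ →ₐ[R] k' :=
    ((ψ : (R ⧸ 𝔪) ⊗[R] E₁ →ₐ[R ⧸ 𝔪] k').restrictScalars R).comp
      (Algebra.TensorProduct.includeRight : E₁ →ₐ[R] (R ⧸ 𝔪) ⊗[R] E₁)
  have hg : Function.Surjective g := by
    have hs1 : Function.Surjective (Algebra.TensorProduct.includeRight :
        E₁ →ₐ[R] (R ⧸ 𝔪) ⊗[R] E₁) :=
      Algebra.TensorProduct.includeRight_surjective E₁ Ideal.Quotient.mk_surjective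
    exact ψ.surjective.comp hs1
  set 𝔫 : Ideal E₁ := RingHom.ker g.toRingHom with h𝔫
  haveI h𝔫max : 𝔫.IsMaximal := RingHom.ker_isMaximal_of_surjective g.toRingHom hg
  -- the henselization
  have hH := HensFlatMain.isPairHenselization_Lim E₁ 𝔫
  obtain ⟨G, hG, hGsurj, hGker⟩ := exists_residue_map hH g.toRingHom hg rfl
  obtain ⟨hloc, hhens⟩ := henselianLocalRing_of_residue_map hH G hGsurj hGker
  haveI := hhens
  letI : Algebra R (HensTower.Lim E₁ 𝔫) :=
    ((algebraMap E₁ (HensTower.Lim E₁ 𝔫)).comp (algebraMap R E₁)).toAlgebra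
  haveI : IsScalarTower R E₁ (HensTower.Lim E₁ 𝔫) := IsScalarTower.of_algebraMap_eq fun _ => rfl
  letI : Algebra (HensTower.Lim E₁ 𝔫) k' := G.toAlgebra
  haveI : IsScalarTower R (HensTower.Lim E₁ 𝔫) k' := IsScalarTower.of_algebraMap_eq fun r => by
    change algebraMap R k' r = G (algebraMap E₁ (HensTower.Lim E₁ 𝔫) (algebraMap R E₁ r))
    have : G (algebraMap E₁ (HensTower.Lim E₁ 𝔫) (algebraMap R E₁ r)) = g (algebraMap R E₁ r) :=
      congrArg (fun ψ : E₁ →+* k' => ψ (algebraMap R E₁ r)) hG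
    rw [this, g.commutes]
  have h4 : HasDChart (HensTower.Lim E₁ 𝔫) (HensTower.Lim E₁ 𝔫 ⊗[R] A) k' M :=
    h2.baseChange (HensTower.Lim E₁ 𝔫)
  have hmt' : SGA3b.IsMultType (HensTower.Lim E₁ 𝔫) (HensTower.Lim E₁ 𝔫 ⊗[R] A) :=
    Groth.Agent.H15.MTF.isMultType_of_isMultTypeConst
      (Groth.Agent.H15.MTF.isMultTypeConst_baseChange h _)
  have hft' : Algebra.FiniteType (HensTower.Lim E₁ 𝔫) (HensTower.Lim E₁ 𝔫 ⊗[R] A) :=
    inferInstance
  obtain ⟨M', _, ⟨e⟩⟩ := Groth.Agent.H15.MTHens.isDiag_of_henselian (HensTower.Lim E₁ 𝔫)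
    (HensTower.Lim E₁ 𝔫 ⊗[R] A) hft' hmt' k' hGsurj M h4
  haveI : Group.FG M' := by
    have hft'' : Algebra.FiniteType (HensTower.Lim E₁ 𝔫) (MonoidAlgebra (HensTower.Lim E₁ 𝔫) M') :=
      hft'.equiv (e : (HensTower.Lim E₁ 𝔫 ⊗[R] A) ≃ₐ[HensTower.Lim E₁ 𝔫] MonoidAlgebra _ M')
    exact MonoidAlgebra.finiteType_iff_group_fg.mp hft''
  -- spreading out
  have hconstC : SGA3b.IsMultTypeConst E₁ (E₁ ⊗[R] A) :=
    Groth.Agent.H15.MTF.isMultTypeConst_baseChange h _
  have hftC : Algebra.FiniteType E₁ (E₁ ⊗[R] A) := inferInstance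
  haveI hfpC : Algebra.FinitePresentation E₁ (E₁ ⊗[R] A) :=
    finitePresentation_of_isMultTypeConst E₁ (E₁ ⊗[R] A) hftC hconstC
  have h5 : HasDChart R A (HensTower.Lim E₁ 𝔫) M' := HasDChart.of_equiv e
  have h6 : HasDChart E₁ (E₁ ⊗[R] A) (HensTower.Lim E₁ 𝔫) M' := h5.baseChange E₁
  obtain ⟨A', _, _, hN, h7⟩ := exists_nbhd_hasDChart hH (E₁ ⊗[R] A) M' h6
  haveI := hN.etale
  letI : Algebra R A' := ((algebraMap E₁ A').comp (algebraMap R E₁)).toAlgebra
  haveI : IsScalarTower R E₁ A' := IsScalarTower.of_algebraMap_eq fun _ => rfl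
  refine ⟨A', inferInstance, inferInstance, M', inferInstance,
    Algebra.Etale.comp R E₁ A', HasDChart.of_baseChange E₁ h7, ?_⟩
  intro htop
  have h8 : 𝔪.map (algebraMap R E₁) ≤ 𝔫 := by
    rw [Ideal.map_le_iff_le_comap]
    intro r hr
    rw [Ideal.mem_comap, h𝔫, RingHom.mem_ker]
    change g (algebraMap R E₁ r) = 0
    rw [g.commutes, IsScalarTower.algebraMap_apply R (R ⧸ 𝔪) k',
      Ideal.Quotient.algebraMap_eq, Ideal.Quotient.eq_zero_iff_mem.mpr hr, map_zero]
  have h9 : 𝔫.map (algebraMap E₁ A') = ⊤ := by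
    rw [eq_top_iff, ← htop, IsScalarTower.algebraMap_eq R E₁ A', ← Ideal.map_map]
    exact Ideal.map_mono h8
  have h10 : algebraMap E₁ A' 1 ∈ 𝔫.map (algebraMap E₁ A') := by rw [h9]; trivial
  exact h𝔫max.ne_top ((Ideal.eq_top_iff_one _).mpr (hN.inj 1 h10))

end pointwise

end Groth.Agent.H15.MTQI
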