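import Groth.Agent.H15.MTRigid

/-!
# Rigidity over a local base, without cocommutativity (commuting coefficient functionals)
-/

set_option autoImplicit false
set_option linter.style.haveILetI false
universe u
open TensorProduct Coalgebra

namespace Groth.Agent.H15.MTC
open Groth.Agent.H26

section conv
variable {R' : Type*} [CommRing R'] {M : Type*} {R : Type*} [CommRing R] [Algebra R R']
  {C : Type*} [AddCommGroup C] [Module R C] [Coalgebra R C] [Monoid M]

/-- variant of `coeff_sub_mem_cube` where only the relevant coefficient functionals commute -/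
theorem coeff_sub_mem_cube_of_commute (J : Ideal R')
    (θ₁ θ₂ : C →ₗ[R] MonoidAlgebra R' M)
    (h₁ : IsCoalgMapOver R' θ₁) (h₂ : IsCoalgMapOver R' θ₂)
    (hcomm : ∀ m, WithConv.toConv (coeffFun θ₁ m) * WithConv.toConv (coeffFun θ₂ m) =
      WithConv.toConv (coeffFun θ₂ m) * WithConv.toConv (coeffFun θ₁ m))
    (h : ∀ c m, (θ₁ c).coeff m - (θ₂ c).coeff m ∈ J) (c : C) (m : M) :
    (θ₁ c).coeff m - (θ₂ c).coeff m ∈ J * J * J := by
  set e : WithConv (C →ₗ[R] R') := WithConv.toConv (coeffFun θ₁ m) with he_def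
  set f : WithConv (C →ₗ[R] R') := WithConv.toConv (coeffFun θ₂ m) with hf_def
  have he : e * e = e := coeffFun_idem θ₁ h₁ m
  have hf : f * f = f := coeffFun_idem θ₂ h₂ m
  have hef : e * f = f * e := hcomm m
  have hd2 : (e - f) * (e - f) = e - 2 • (e * f) + f := by
    rw [mul_sub, sub_mul, sub_mul, he, hf, ← hef]
    abel
  have hefe : e * f * e = e * f := by rw [mul_assoc, ← hef, ← mul_assoc, he]
  have heff : e * f * f = e * f := by rw [mul_assoc, hf]
  have hd3 : (e - f) * (e - f) * (e - f) = e - f := by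
    rw [hd2, mul_sub, add_mul, add_mul, sub_mul, sub_mul, he, hf, smul_mul_assoc, smul_mul_assoc,
      hefe, heff, ← hef]
    abel
  have hval : ∀ c, (e - f).ofConv c ∈ J := by
    intro c
    have h1 := h c m
    simpa [he_def, hf_def, coeffFun_apply] using h1
  have h2 := convMul_mem J J (e - f) (e - f) hval hval
  have h3 := convMul_mem (J * J) J ((e - f) * (e - f)) (e - f) h2 hval c
  rw [hd3] at h3
  simpa [he_def, hf_def, coeffFun_apply] using h3

end conv

section main
variable {R : Type u} [CommRing R] {A : Type u} [CommRing A] [HopfAlgebra R A]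
  {R' : Type u} [CommRing R'] [Algebra R R'] {N : Type u} [CommGroup N]
  {L : A →ₐ[R] MonoidAlgebra R' N}

/-- Key lemma: over a local ring, with a faithfully flat chart, two homomorphisms to a commutative
finite type group agreeing on the closed fibre are equal. -/
theorem eq_of_chart_of_commute [IsLocalRing R] [Module.FaithfullyFlat R R'] (hL : IsChart R A R' N L)
    {C : Type u} [CommRing C] [HopfAlgebra R C]
    (hC : Algebra.FiniteType R C) (φ ψ : C →ₐc[R] A)
    (hcomm : ∀ m, WithConv.toConv (coeffFun (L.comp (φ : C →ₐ[R] A)).toLinearMap m) *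
        WithConv.toConv (coeffFun (L.comp (ψ : C →ₐ[R] A)).toLinearMap m) =
      WithConv.toConv (coeffFun (L.comp (ψ : C →ₐ[R] A)).toLinearMap m) *
        WithConv.toConv (coeffFun (L.comp (φ : C →ₐ[R] A)).toLinearMap m))
    (hs : ∀ c : C, φ c - ψ c ∈ Ideal.map (algebraMap R A) (IsLocalRing.maximalIdeal R)) :
    φ = ψ := by
  classical
  obtain ⟨t, ht⟩ := hC.out
  set θ₁ : C →ₐ[R] MonoidAlgebra R' N := L.comp (φ : C →ₐ[R] A) with hθ₁
  set θ₂ : C →ₐ[R] MonoidAlgebra R' N := L.comp (ψ : C →ₐ[R] A) with hθ₂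
  have h₁ : IsCoalgMapOver R' θ₁.toLinearMap :=
    hL.coalg.comp (isCoalgMapOver_of_coalgHom (R := R) (φ : C →ₗc[R] A))
  have h₂ : IsCoalgMapOver R' θ₂.toLinearMap :=
    hL.coalg.comp (isCoalgMapOver_of_coalgHom (R := R) (ψ : C →ₗc[R] A))
  let d : C → MonoidAlgebra R' N := fun c => θ₁ c - θ₂ c
  let B : Finset R' := t.biUnion (fun c => (d c).coeff.support.image (fun m => (d c).coeff m))
  set 𝔟 : Ideal R' := Ideal.span (B : Set R') with h𝔟
  have hB : ∀ c ∈ t, ∀ m, (d c).coeff m ∈ 𝔟 := by
    intro c hc m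
    by_cases hm : m ∈ (d c).coeff.support
    · apply Ideal.subset_span
      simp only [B, Finset.coe_biUnion, Finset.coe_image, Set.mem_iUnion]
      exact ⟨c, hc, m, hm, rfl⟩
    · rw [Finsupp.notMem_support_iff.mp hm]; exact Ideal.zero_mem _
  -- all differences have coefficients in 𝔟
  let π : MonoidAlgebra R' N →ₐ[R] MonoidAlgebra (R' ⧸ 𝔟) N :=
    MonoidAlgebra.mapAlgHom N (Ideal.Quotient.mkₐ R 𝔟)
  have hall : π.comp θ₁ = π.comp θ₂ := by
    apply AlgHom.ext_of_adjoin_eq_top ht
    intro c hc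
    have := (coeff_mem_iff 𝔟 (d c)).mp (hB c hc)
    simp only [d, map_sub, sub_eq_zero] at this
    exact this
  have hall' : ∀ c m, (θ₁ c).coeff m - (θ₂ c).coeff m ∈ 𝔟 := by
    intro c m
    have h1 : MonoidAlgebra.mapRingHom N (Ideal.Quotient.mk 𝔟) (θ₁ c - θ₂ c) = 0 := by
      rw [map_sub, sub_eq_zero]
      exact congrArg (fun g => g c) hall
    have := (coeff_mem_iff 𝔟 _).mpr h1 m
    simpa using this
  have hcube := coeff_sub_mem_cube_of_commute 𝔟 θ₁.toLinearMap θ₂.toLinearMap h₁ h₂ hcomm hall'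
  have hle : 𝔟 ≤ 𝔟 * 𝔟 * 𝔟 := by
    rw [h𝔟, Ideal.span_le]
    intro b hb
    simp only [B, Finset.coe_biUnion, Finset.coe_image, Set.mem_iUnion] at hb
    obtain ⟨c, hc, m, hm, rfl⟩ := hb
    have := hcube c m
    simpa [d] using this
  have hidem : IsIdempotentElem 𝔟 :=
    le_antisymm Ideal.mul_le_left (hle.trans Ideal.mul_le_left)
  obtain ⟨e, he, h𝔟e⟩ := (Ideal.isIdempotentElem_iff_of_fg 𝔟 ⟨B, rfl⟩).mp hidem
  set 𝔪 := IsLocalRing.maximalIdeal R with h𝔪
  have hLd : ∀ c, L (φ c - ψ c) = θ₁ c - θ₂ c := by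
    intro c; simp [hθ₁, hθ₂, map_sub]
  have h𝔟𝔪 : 𝔟 ≤ Ideal.map (algebraMap R R') 𝔪 := by
    rw [h𝔟, Ideal.span_le]
    intro b hb
    simp only [B, Finset.coe_biUnion, Finset.coe_image, Set.mem_iUnion] at hb
    obtain ⟨c, hc, m, hm, rfl⟩ := hb
    have := coeff_mem_map_of_mem_map (L := L) 𝔪 _ (hs c) m
    rw [hLd] at this
    exact this
  have he𝔪 : e ∈ Ideal.map (algebraMap R R') 𝔪 :=
    h𝔟𝔪 (h𝔟e ▸ Ideal.subset_span (Set.mem_singleton e))
  -- the finitely generated module of differences
  set Y : Submodule R A := Submodule.span R ((fun c => φ c - ψ c) '' (t : Set C)) with hY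
  have hYfg : Y.FG := Submodule.fg_span ((t.finite_toSet).image _)
  have hYcoeff : ∀ y ∈ Y, ∀ m, (L y).coeff m ∈ 𝔟 := by
    intro y hy
    induction hy using Submodule.span_induction with
    | mem y hy =>
      obtain ⟨c, hc, rfl⟩ := hy
      intro m
      have := hall' c m
      rw [hLd]
      simpa using this
    | zero => intro m; simp
    | add x y _ _ hx hy =>
      intro m
      rw [map_add, MonoidAlgebra.coeff_add, Finsupp.add_apply]
      exact Ideal.add_mem _ (hx m) (hy m)
    | smul a x _ hx =>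
      intro m
      rw [map_smul, Algebra.smul_def]
      exact coeff_mul_mem _ _ _ hx m
  have heL : ∀ y ∈ Y, e • L y = L y := by
    intro y hy
    ext m
    have h1 := hYcoeff y hy m
    rw [h𝔟e, Ideal.mem_span_singleton'] at h1
    obtain ⟨a, ha⟩ := h1
    rw [MonoidAlgebra.coeff_smul, Finsupp.smul_apply, smul_eq_mul, ← ha, mul_comm a e, ← mul_assoc,
      he.eq]
  -- the injective map `R' ⊗ Y → R'[N]`
  have hΛinj : Function.Injective
      (fun z : R' ⊗[R] Y => hL.bc.equiv (LinearMap.lTensor R' Y.subtype z)) :=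
    hL.bc.equiv.injective.comp
      (Module.Flat.lTensor_preserves_injective_linearMap Y.subtype Subtype.val_injective)
  have htw : ∀ (r' : R') (y : Y), r' ⊗ₜ[R] y = (e * r') ⊗ₜ[R] y := by
    intro r' y
    apply hΛinj
    simp only [LinearMap.lTensor_tmul, Submodule.subtype_apply, IsBaseChange.equiv_tmul]
    rw [mul_smul, smul_comm]
    congr 1
    exact (heL y y.2).symm
  -- the quotient `Y / 𝔪 Y` dies after tensoring with `R'`
  let Q := Y ⧸ (𝔪 • ⊤ : Submodule R Y)
  have hkill : ∀ x ∈ Ideal.map (algebraMap R R') 𝔪, ∀ q : Q, x ⊗ₜ[R] q = (0 : R' ⊗[R] Q) := by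
    intro x hx
    rw [Ideal.map] at hx
    induction hx using Submodule.span_induction with
    | mem x hx =>
      obtain ⟨a, ha, rfl⟩ := hx
      intro q
      induction q using Submodule.Quotient.induction_on with
      | H y =>
        rw [Algebra.algebraMap_eq_smul_one, TensorProduct.smul_tmul, ← Submodule.Quotient.mk_smul]
        have : a • y ∈ (𝔪 • ⊤ : Submodule R Y) := Submodule.smul_mem_smul ha Submodule.mem_top
        rw [(Submodule.Quotient.mk_eq_zero _).mpr this, tmul_zero]
    | zero => intro q; simp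
    | add x y _ _ hx hy => intro q; rw [add_tmul, hx q, hy q, add_zero]
    | smul a x _ hx =>
      intro q
      have : (a • x) ⊗ₜ[R] q = a • (x ⊗ₜ[R] q) := by rw [TensorProduct.smul_tmul']
      rw [this, hx q, smul_zero]
  have hzero : ∀ z : R' ⊗[R] Q, z = 0 := by
    intro z
    induction z using TensorProduct.induction_on with
    | zero => rfl
    | add x y hx hy => rw [hx, hy, add_zero]
    | tmul r' q =>
      induction q using Submodule.Quotient.induction_on with
      | H y =>
        have h1 := congrArg (LinearMap.lTensor R' (𝔪 • ⊤ : Submodule R Y).mkQ) (htw r' y)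
        simp only [LinearMap.lTensor_tmul, Submodule.mkQ_apply] at h1
        rw [h1]
        exact hkill _ (Ideal.mul_mem_right _ _ he𝔪) _
  haveI : Subsingleton (R' ⊗[R] Q) := ⟨fun a b => by rw [hzero a, hzero b]⟩
  have hQ : Subsingleton Q := Module.FaithfullyFlat.lTensor_reflects_triviality R R' Q
  have htop : (𝔪 • ⊤ : Submodule R Y) = ⊤ := Submodule.Quotient.subsingleton_iff.mp hQ
  haveI : Module.Finite R Y := Module.Finite.iff_fg.mpr hYfg
  have hbot : (⊤ : Submodule R Y) = ⊥ :=
    Submodule.eq_bot_of_le_smul_of_le_jacobson_bot 𝔪 ⊤ Module.Finite.fg_top (by rw [htop])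
      (by rw [IsLocalRing.jacobson_eq_maximalIdeal ⊥ bot_ne_top])
  have hY0 : ∀ y ∈ Y, y = 0 := by
    intro y hy
    have : (⟨y, hy⟩ : Y) ∈ (⊤ : Submodule R Y) := Submodule.mem_top
    rw [hbot, Submodule.mem_bot] at this
    exact congrArg Subtype.val this
  have halg : (φ : C →ₐ[R] A) = (ψ : C →ₐ[R] A) := by
    apply AlgHom.ext_of_adjoin_eq_top ht
    intro c hc
    have := hY0 (φ c - ψ c) (Submodule.subset_span ⟨c, hc, rfl⟩)
    exact sub_eq_zero.mp this
  apply DFunLike.ext
  intro c
  exact congrArg (fun g => g c) halg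

/-- the trivial homomorphism -/
noncomputable def trivHom (R : Type u) [CommRing R] (A : Type u) [CommRing A] [HopfAlgebra R A]
    (C : Type u) [CommRing C] [HopfAlgebra R C] : C →ₐc[R] A :=
  (Bialgebra.unitBialgHom R A).comp (Bialgebra.counitBialgHom R C)

lemma trivHom_apply {C : Type u} [CommRing C] [HopfAlgebra R C] (c : C) :
    trivHom R A C c = algebraMap R A (Coalgebra.counit c) := rfl

open Classical in
lemma coeffFun_trivHom {C : Type u} [CommRing C] [HopfAlgebra R C] (m : N) :
    (WithConv.toConv (coeffFun (L.comp (trivHom R A C : C →ₐ[R] A)).toLinearMap m) :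
      WithConv (C →ₗ[R] R')) = if m = 1 then 1 else 0 := by
  classical
  apply WithConv.ofConv_injective
  ext c
  rw [WithConv.ofConv_toConv, coeffFun_apply]
  change (L (trivHom R A C c)).coeff m = _
  rw [trivHom_apply, AlgHom.commutes, MonoidAlgebra.coe_algebraMap, Function.comp_apply,
    MonoidAlgebra.coeff_single, Finsupp.single_apply]
  by_cases hm : m = 1
  · subst hm
    rw [if_pos rfl, if_pos rfl]
    rfl
  · rw [if_neg (Ne.symm hm), if_neg hm]
    rfl

/-- over a local ring, with a faithfully flat chart: a homomorphism to a finite type affine group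
which is trivial on the closed fibre is trivial. -/
theorem eq_trivial_of_chart [IsLocalRing R] [Module.FaithfullyFlat R R'] (hL : IsChart R A R' N L)
    {C : Type u} [CommRing C] [HopfAlgebra R C]
    (hC : Algebra.FiniteType R C) (φ : C →ₐc[R] A)
    (hs : ∀ c : C, φ c - algebraMap R A (Coalgebra.counit c) ∈
      Ideal.map (algebraMap R A) (IsLocalRing.maximalIdeal R)) (c : C) :
    φ c = algebraMap R A (Coalgebra.counit c) := by
  classical
  have h := eq_of_chart_of_commute hL hC φ (trivHom R A C) (fun m => by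
    rw [coeffFun_trivHom]
    split_ifs
    · rw [mul_one, one_mul]
    · rw [mul_zero, zero_mul]) hs
  rw [h]
  rfl

end main

end Groth.Agent.H15.MTC
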