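import Mathlib

/-!
# Augmented algebras over a local ring

For an `R`-algebra `B` with an augmentation `ε : B →ₐ[R] R` and kernel `I`:
* `I ∩ 𝔪B ⊆ 𝔪 I`;
* if `R` is local, `I` is a finitely generated ideal and `I ⊆ 𝔪B`, then `I` is generated by an
  idempotent;
* if `B` is a finite `R`-module and `I ⊆ 𝔪B`, then `I = 0`.
-/

set_option autoImplicit false
universe u

namespace Groth.Agent.H15.MTSub

variable {R : Type*} [CommRing R] {B : Type*} [CommRing B] [Algebra R B]

/-- the projection `b ↦ b - ε b` onto the augmentation ideal -/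
noncomputable def augProj (ε : B →ₐ[R] R) : B →ₗ[R] B :=
  LinearMap.id - (Algebra.linearMap R B) ∘ₗ ε.toLinearMap

lemma augProj_apply (ε : B →ₐ[R] R) (b : B) : augProj ε b = b - algebraMap R B (ε b) := rfl

lemma augProj_mem (ε : B →ₐ[R] R) (b : B) : augProj ε b ∈ RingHom.ker ε := by
  rw [RingHom.mem_ker, augProj_apply, map_sub, AlgHom.commutes]
  simp

lemma augProj_of_mem (ε : B →ₐ[R] R) {b : B} (hb : b ∈ RingHom.ker ε) : augProj ε b = b := by
  rw [augProj_apply, (RingHom.mem_ker).mp hb, map_zero, sub_zero]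

/-- `I ∩ 𝔪B ⊆ 𝔪 • I` -/
lemma mem_smul_ker_of_mem_map (ε : B →ₐ[R] R) (m : Ideal R) {x : B} (hx : x ∈ RingHom.ker ε)
    (hxm : x ∈ Ideal.map (algebraMap R B) m) :
    x ∈ m • ((RingHom.ker ε).restrictScalars R : Submodule R B) := by
  have h1 : x ∈ (m • ⊤ : Submodule R B) := by
    rw [Ideal.smul_top_eq_map]
    exact hxm
  have h2 : augProj ε x ∈ Submodule.map (augProj ε) (m • ⊤ : Submodule R B) :=
    Submodule.mem_map_of_mem h1
  rw [Submodule.map_smul'', augProj_of_mem ε hx] at h2
  refine Submodule.smul_mono le_rfl ?_ h2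
  rintro _ ⟨b, -, rfl⟩
  exact augProj_mem ε b

/-- Over a local ring, a finitely generated augmentation ideal contained in `𝔪B` is generated by an
idempotent. -/
theorem exists_idem_of_ker_le [IsLocalRing R] (ε : B →ₐ[R] R) (hfg : (RingHom.ker ε).FG)
    (h : RingHom.ker ε ≤ Ideal.map (algebraMap R B) (IsLocalRing.maximalIdeal R)) :
    ∃ e : B, IsIdempotentElem e ∧ ε e = 0 ∧ ∀ x ∈ RingHom.ker ε, x = e * x := by
  have hle : RingHom.ker ε ≤
      Ideal.map (algebraMap R B) (IsLocalRing.maximalIdeal R) * RingHom.ker ε := by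
    intro x hx
    have h1 := mem_smul_ker_of_mem_map ε (IsLocalRing.maximalIdeal R) hx (h hx)
    refine Submodule.smul_induction_on h1 ?_ ?_
    · intro r hr n hn
      rw [Algebra.smul_def]
      exact Ideal.mul_mem_mul (Ideal.mem_map_of_mem _ hr) hn
    · intro y z hy hz
      exact add_mem hy hz
  obtain ⟨b, hb1, hb2⟩ :=
    Submodule.exists_sub_one_mem_and_smul_eq_zero_of_fg_of_le_smul
      (Ideal.map (algebraMap R B) (IsLocalRing.maximalIdeal R)) (RingHom.ker ε) hfg
      (by rw [Ideal.smul_eq_mul]; exact hle)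
  set I := RingHom.ker ε with hI
  set m := IsLocalRing.maximalIdeal R with hm
  -- `ε b` is a unit
  have hεm : ∀ y ∈ Ideal.map (algebraMap R B) m, ε y ∈ m := by
    have : Ideal.map (algebraMap R B) m ≤ Ideal.comap (ε : B →+* R) m := by
      rw [Ideal.map_le_iff_le_comap]
      intro r hr
      rw [Ideal.mem_comap, Ideal.mem_comap]
      change ε (algebraMap R B r) ∈ m
      rw [AlgHom.commutes]
      exact hr
    intro y hy
    exact this hy
  have hb0 : ε b - 1 ∈ m := by
    have := hεm _ hb1
    rwa [map_sub, map_one] at this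
  have hunit : IsUnit (ε b) := by
    by_contra hnu
    have h1 : ε b ∈ m := (IsLocalRing.mem_maximalIdeal _).mpr hnu
    have h2 : (1 : R) ∈ m := by
      have := m.sub_mem h1 hb0
      simpa using this
    exact (IsLocalRing.maximalIdeal.isMaximal R).ne_top ((Ideal.eq_top_iff_one _).mpr h2)
  obtain ⟨u, hu⟩ := hunit.exists_left_inv
  refine ⟨1 - algebraMap R B u * b, ?_, ?_, ?_⟩
  · -- idempotent: `e ∈ I` and `(1 - e) e = 0`
    have heI : (1 - algebraMap R B u * b) ∈ I := by
      rw [hI, RingHom.mem_ker, map_sub, map_one, map_mul, AlgHom.commutes]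
      simp [hu]
    have h0 := hb2 _ heI
    rw [smul_eq_mul] at h0
    change (1 - algebraMap R B u * b) * (1 - algebraMap R B u * b) = 1 - algebraMap R B u * b
    have : (1 - algebraMap R B u * b) * (1 - algebraMap R B u * b) =
        (1 - algebraMap R B u * b) - algebraMap R B u * (b * (1 - algebraMap R B u * b)) := by ring
    rw [this, h0, mul_zero, sub_zero]
  · rw [map_sub, map_one, map_mul, AlgHom.commutes]
    simp [hu]
  · intro x hx
    have h0 := hb2 x hx
    rw [smul_eq_mul] at h0
    have : (1 - algebraMap R B u * b) * x = x - algebraMap R B u * (b * x) := by ring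
    rw [this, h0, mul_zero, sub_zero]

/-- If `B` is a finite module over a local ring, an augmentation ideal contained in `𝔪B` is zero. -/
theorem ker_eq_bot_of_finite [IsLocalRing R] [Module.Finite R B] (ε : B →ₐ[R] R)
    (h : RingHom.ker ε ≤ Ideal.map (algebraMap R B) (IsLocalRing.maximalIdeal R)) :
    RingHom.ker ε = ⊥ := by
  set m := IsLocalRing.maximalIdeal R with hm
  set N : Submodule R B := (RingHom.ker ε).restrictScalars R with hN
  have hNfg : N.FG := by
    have h1 : N = LinearMap.range (augProj ε) := by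
      ext x
      constructor
      · intro hx
        exact ⟨x, augProj_of_mem ε hx⟩
      · rintro ⟨b, rfl⟩
        exact augProj_mem ε b
    rw [h1, LinearMap.range_eq_map]
    exact Submodule.FG.map _ Module.Finite.fg_top
  have hle : N ≤ m • N := fun x hx => mem_smul_ker_of_mem_map ε m hx (h hx)
  have hbot : N = ⊥ :=
    Submodule.eq_bot_of_le_smul_of_le_jacobson_bot m N hNfg hle
      (by rw [IsLocalRing.jacobson_eq_maximalIdeal ⊥ bot_ne_top])
  rw [eq_bot_iff]
  intro x hx
  have : x ∈ N := hx
  rw [hbot] at this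
  exact this

end Groth.Agent.H15.MTSub
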