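import Groth.Agent.H15.MTSub1
import Groth.Agent.H15.MTRigid3

/-!
# Closed subgroups of groups of multiplicative type with trivial closed fibre

* `counit_powConv`, `torsionIdeal_le_ker_counit`;
* `ker_counit_le_sup_torsionIdeal`: if `Ker ε ⊆ J + 𝔪A` over a local ring and `A / Tₙ` is finite,
  then `Ker ε ⊆ J + Tₙ`;
* `tmul_eq_zero_of_field`: over a field `L` over which `A` is diagonalised, if
  `Ker ε ⊆ J + Tₙ` for all `n > 0` then the augmentation ideal of `A ⧸ J` dies in `L ⊗ (A ⧸ J)`.
-/

set_option autoImplicit false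
set_option linter.style.haveILetI false
universe u
open TensorProduct Coalgebra

namespace Groth.Agent.H15.MTSub
open Groth.Agent.H26 Groth.Agent.H15.MT Groth.Agent.H15.MTC

section torsion
variable {R : Type u} [CommRing R] {A : Type u} [CommRing A] [HopfAlgebra R A]

theorem counit_powConv (n : ℕ) (a : A) :
    counit (R := R) (SGA3b.powConv R A n a) = counit (R := R) a := by
  induction n generalizing a with
  | zero =>
    rw [powConv_zero_apply]
    simp
  | succ n ih =>
    rw [powConv_succ_apply' A n a (ℛ R a), map_sum]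
    simp only [Bialgebra.counit_mul, ih]
    have h := congrArg (counit (R := R)) (Coalgebra.sum_counit_smul (ℛ R a))
    rw [map_sum] at h
    simp only [map_smul, smul_eq_mul] at h
    exact h

theorem torsionIdeal_le_ker_counit (n : ℕ) :
    SGA3b.torsionIdeal R A n ≤ RingHom.ker (Bialgebra.counitAlgHom R A) := by
  unfold SGA3b.torsionIdeal
  rw [Ideal.map_le_iff_le_comap]
  intro a ha
  rw [Ideal.mem_comap, RingHom.mem_ker]
  change counit (R := R) (SGA3b.powConv R A n a) = 0
  rw [counit_powConv]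
  exact ha

/-- Step B: the `n`-torsion of a closed subgroup with trivial closed fibre is trivial. -/
theorem ker_counit_le_sup_torsionIdeal [IsLocalRing R] (n : ℕ)
    (hfin : Module.Finite R (A ⧸ SGA3b.torsionIdeal R A n))
    (J : Ideal A) (hJ : J ≤ RingHom.ker (Bialgebra.counitAlgHom R A))
    (hs : RingHom.ker (Bialgebra.counitAlgHom R A) ≤
      J ⊔ Ideal.map (algebraMap R A) (IsLocalRing.maximalIdeal R)) :
    RingHom.ker (Bialgebra.counitAlgHom R A) ≤ J ⊔ SGA3b.torsionIdeal R A n := by
  set T := SGA3b.torsionIdeal R A n with hT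
  have hle : T ≤ J ⊔ T := le_sup_right
  haveI : Module.Finite R (A ⧸ (J ⊔ T)) :=
    Module.Finite.of_surjective ((Ideal.Quotient.factorₐ R hle).toLinearMap)
      (Ideal.Quotient.factor_surjective hle)
  have hvan : ∀ a ∈ J ⊔ T, Bialgebra.counitAlgHom R A a = 0 := by
    intro a ha
    have : J ⊔ T ≤ RingHom.ker (Bialgebra.counitAlgHom R A) :=
      sup_le hJ (torsionIdeal_le_ker_counit n)
    exact this ha
  let εP : (A ⧸ (J ⊔ T)) →ₐ[R] R := Ideal.Quotient.liftₐ (J ⊔ T) (Bialgebra.counitAlgHom R A) hvan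
  have hεP : ∀ a, εP (Ideal.Quotient.mk (J ⊔ T) a) = Bialgebra.counitAlgHom R A a := fun a => rfl
  have hker : RingHom.ker εP = ⊥ := by
    apply ker_eq_bot_of_finite
    intro p hp
    obtain ⟨a, rfl⟩ := Ideal.Quotient.mk_surjective p
    have ha : a ∈ RingHom.ker (Bialgebra.counitAlgHom R A) := by
      rw [RingHom.mem_ker] at hp ⊢
      rw [← hεP]
      exact hp
    obtain ⟨j, hj, y, hy, rfl⟩ := Submodule.mem_sup.mp (hs ha)
    have hj0 : Ideal.Quotient.mk (J ⊔ T) j = 0 :=
      Ideal.Quotient.eq_zero_iff_mem.mpr (Ideal.mem_sup_left hj)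
    rw [map_add, hj0, zero_add]
    have h1 : Ideal.Quotient.mk (J ⊔ T) y ∈
        Ideal.map (Ideal.Quotient.mk (J ⊔ T))
          (Ideal.map (algebraMap R A) (IsLocalRing.maximalIdeal R)) :=
      Ideal.mem_map_of_mem _ hy
    rw [Ideal.map_map] at h1
    exact h1
  intro a ha
  have h1 : Ideal.Quotient.mk (J ⊔ T) a ∈ RingHom.ker εP := by
    rw [RingHom.mem_ker, hεP]
    exact ha
  rw [hker, Ideal.mem_bot, Ideal.Quotient.eq_zero_iff_mem] at h1
  exact h1

end torsion

section group

lemma subsingleton_of_divisible_fg (G : Type*) [AddCommGroup G] [Module.Finite ℤ G]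
    (h : ∀ n : ℕ, 0 < n → ∀ a : G, ∃ b : G, n • b = a) : Subsingleton G := by
  have hle : (⊤ : Submodule ℤ G) ≤ (Ideal.span {(2 : ℤ)}) • (⊤ : Submodule ℤ G) := by
    intro a _
    obtain ⟨b, rfl⟩ := h 2 (by norm_num) a
    rw [← natCast_zsmul]
    exact Submodule.smul_mem_smul (Ideal.mem_span_singleton_self _) trivial
  obtain ⟨r, hr1, hr2⟩ :=
    Submodule.exists_sub_one_mem_and_smul_eq_zero_of_fg_of_le_smul _ _ Module.Finite.fg_top hle
  have hr0 : r ≠ 0 := by
    rintro rfl
    rw [Ideal.mem_span_singleton] at hr1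
    omega
  have key : ∀ a : G, a = 0 := by
    intro a
    obtain ⟨c, rfl⟩ := h r.natAbs (Int.natAbs_pos.mpr hr0) a
    have h0 : r • c = 0 := hr2 c trivial
    rw [← natCast_zsmul]
    rcases Int.natAbs_eq r with h1 | h1
    · rw [← h1]; exact h0
    · have : ((r.natAbs : ℕ) : ℤ) = -r := by omega
      rw [this, neg_smul, h0, neg_zero]
  exact ⟨fun a b => by rw [key a, key b]⟩

lemma subsingleton_of_forall_pow (M : Type*) [CommGroup M] [Group.FG M]
    (h : ∀ n : ℕ, 0 < n → ∀ a : M, ∃ b : M, b ^ n = a) : Subsingleton M := by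
  haveI : AddGroup.FG (Additive M) := GroupFG.iff_add_fg.mp inferInstance
  haveI : Module.Finite ℤ (Additive M) := Module.Finite.iff_addGroup_fg.mpr inferInstance
  have := subsingleton_of_divisible_fg (Additive M) (fun n hn a => by
    obtain ⟨b, hb⟩ := h n hn (Additive.toMul a)
    exact ⟨Additive.ofMul b, by rw [← ofMul_pow, hb]; rfl⟩)
  exact ⟨fun a b => by
    have := Subsingleton.elim (Additive.ofMul a) (Additive.ofMul b)
    exact Additive.ofMul.injective this⟩

end group

end Groth.Agent.H15.MTSub
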