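import Groth.Agent.H15.MTSub2

/-!
# The field step: a closed subgroup of a diagonalisable group over a field without torsion is
trivial.
-/

set_option autoImplicit false
set_option linter.style.haveILetI false
universe u
open TensorProduct Coalgebra

namespace Groth.Agent.H15.MTSub
open Groth.Agent.H26 Groth.Agent.H15.MT Groth.Agent.H15.MTC

lemma span_groupLike_of_surjective {K : Type*} [CommRing K] {H₁ H₂ : Type*} [Ring H₁] [Ring H₂]
    [Bialgebra K H₁] [Bialgebra K H₂] (Ψ : H₁ →ₐc[K] H₂) (hΨ : Function.Surjective Ψ)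
    (h : Submodule.span K {a : H₁ | IsGroupLikeElem K a} = ⊤) :
    Submodule.span K {b : H₂ | IsGroupLikeElem K b} = ⊤ := by
  have key : ∀ a : H₁, a ∈ Submodule.span K {a : H₁ | IsGroupLikeElem K a} →
      Ψ a ∈ Submodule.span K {b : H₂ | IsGroupLikeElem K b} := by
    intro a ha
    induction ha using Submodule.span_induction with
    | mem x hx => exact Submodule.subset_span (IsGroupLikeElem.map Ψ hx)
    | zero => rw [map_zero]; exact Submodule.zero_mem _
    | add x y _ _ hx hy => rw [map_add]; exact Submodule.add_mem _ hx hy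
    | smul r x _ hx => rw [map_smul]; exact Submodule.smul_mem _ _ hx
  rw [eq_top_iff]
  intro b _
  obtain ⟨a, rfl⟩ := hΨ b
  exact key a (by rw [h]; trivial)

/-- in a group algebra of a trivial group every element is a scalar -/
lemma eq_algebraMap_counit_of_subsingleton (L : Type*) [CommRing L] (M : Type*) [CommGroup M]
    [Subsingleton M] (x : MonoidAlgebra L M) :
    x = algebraMap L (MonoidAlgebra L M) (counit (R := L) x) := by
  induction x using MonoidAlgebra.induction_linear with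
  | zero => simp
  | add x y hx hy => rw [map_add, map_add, ← hx, ← hy]
  | single m r =>
    rw [Subsingleton.elim m 1]
    simp [MonoidAlgebra.coe_algebraMap]

variable {R : Type u} [CommRing R] {A : Type u} [CommRing A] [HopfAlgebra R A]

theorem tmul_eq_zero_of_field (L : Type u) [Field L] [Algebra R L] (hft : Algebra.FiniteType R A)
    (N : Type u) [CommGroup N] (E : L ⊗[R] A ≃ₐc[L] MonoidAlgebra L N)
    (J : Ideal A) [J.IsHopfIdeal R]
    (htors : ∀ n : ℕ, 0 < n →
      RingHom.ker (Bialgebra.counitAlgHom R A) ≤ J ⊔ SGA3b.torsionIdeal R A n)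
    (e : A ⧸ J) (he : counit (R := R) e = 0) : (1 : L) ⊗ₜ[R] e = (0 : L ⊗[R] (A ⧸ J)) := by
  classical
  -- the quotient map after base change
  let q : L ⊗[R] A →ₐc[L] L ⊗[R] (A ⧸ J) :=
    Bialgebra.TensorProduct.map (BialgHom.id L L) (Bialgebra.Quotient.mkBialgHom (R := R) J)
  have hq : Function.Surjective q := by
    intro y
    induction y using TensorProduct.induction_on with
    | zero => exact ⟨0, map_zero _⟩
    | add x y hx hy =>
      obtain ⟨a, rfl⟩ := hx
      obtain ⟨b, rfl⟩ := hy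
      exact ⟨a + b, map_add _ _ _⟩
    | tmul r b =>
      obtain ⟨a, rfl⟩ := Ideal.Quotient.mk_surjective b
      exact ⟨r ⊗ₜ[R] a, rfl⟩
  let Ψ : MonoidAlgebra L N →ₐc[L] L ⊗[R] (A ⧸ J) := q.comp (E.symm : MonoidAlgebra L N →ₐc[L] L ⊗[R] A)
  have hΨ : Function.Surjective Ψ := hq.comp E.symm.surjective
  have hspan : Submodule.span L {b : L ⊗[R] (A ⧸ J) | IsGroupLikeElem L b} = ⊤ :=
    span_groupLike_of_surjective Ψ hΨ MonoidAlgebra.span_isGroupLikeElem
  obtain ⟨M, hM, ⟨F⟩⟩ := isDiag_of_span_isGroupLikeElem L (L ⊗[R] (A ⧸ J)) hspan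
  -- `M` is finitely generated
  haveI : Algebra.FiniteType R A := hft
  haveI hftB : Algebra.FiniteType R (A ⧸ J) :=
    Algebra.FiniteType.of_surjective (Ideal.Quotient.mkₐ R J) Ideal.Quotient.mk_surjective
  have hft' : Algebra.FiniteType L (L ⊗[R] (A ⧸ J)) := inferInstance
  have hft'' : Algebra.FiniteType L (MonoidAlgebra L M) :=
    hft'.equiv (F : (L ⊗[R] (A ⧸ J)) ≃ₐ[L] MonoidAlgebra L M)
  haveI hfg : Group.FG M := MonoidAlgebra.finiteType_iff_group_fg.mp hft''
  -- augmentation ideal is contained in all torsion ideals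
  have haug : ∀ n : ℕ, 0 < n → ∀ y : L ⊗[R] (A ⧸ J), counit (R := L) y = 0 →
      y ∈ SGA3b.torsionIdeal L (L ⊗[R] (A ⧸ J)) n := by
    intro n hn y hy
    have h1 := sub_counit_mem L (A ⧸ J) y
    rw [hy, map_zero, sub_zero] at h1
    have h2 : Submodule.span L (Set.range fun b : {b : A ⧸ J // counit (R := R) b = 0} =>
        (1 : L) ⊗ₜ[R] b.1) ≤
        (SGA3b.torsionIdeal L (L ⊗[R] (A ⧸ J)) n).restrictScalars L := by
      rw [Submodule.span_le]
      rintro _ ⟨⟨b, hb⟩, rfl⟩
      obtain ⟨a, rfl⟩ := Ideal.Quotient.mk_surjective b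
      have ha : a ∈ RingHom.ker (Bialgebra.counitAlgHom R A) := hb
      obtain ⟨j, hj, t, ht, rfl⟩ := Submodule.mem_sup.mp (htors n hn ha)
      have hj0 : Ideal.Quotient.mk J j = 0 := Ideal.Quotient.eq_zero_iff_mem.mpr hj
      change (1 : L) ⊗ₜ[R] (Ideal.Quotient.mk J (j + t)) ∈ SGA3b.torsionIdeal L (L ⊗[R] (A ⧸ J)) n
      rw [map_add, hj0, zero_add]
      apply tmul_mem_torsionIdeal_bc
      exact map_mem_torsionIdeal (Bialgebra.Quotient.mkBialgHom (R := R) J) n t ht
    exact h2 h1
  -- every element of `M` is an `n`-th power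
  have hpow : ∀ n : ℕ, 0 < n → ∀ m : M, ∃ b : M, b ^ n = m := by
    intro n hn m
    have hc : counit (R := L) (F.symm (MonoidAlgebra.single m (1 : L) - 1)) = 0 := by
      have : counit (R := L) (F.symm (MonoidAlgebra.single m (1 : L) - 1)) =
          counit (R := L) (MonoidAlgebra.single m (1 : L) - 1 : MonoidAlgebra L M) :=
        CoalgHomClass.counit_comp_apply F.symm _
      rw [this]
      simp [MonoidAlgebra.one_def]
    have h1 := haug n hn _ hc
    have h2 := map_mem_torsionIdeal (F : (L ⊗[R] (A ⧸ J)) →ₐc[L] MonoidAlgebra L M) n _ h1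
    have h3 : (F : (L ⊗[R] (A ⧸ J)) →ₐc[L] MonoidAlgebra L M)
        (F.symm (MonoidAlgebra.single m (1 : L) - 1)) = MonoidAlgebra.single m (1 : L) - 1 :=
      F.apply_symm_apply _
    rw [h3, torsionIdeal_monoidAlgebra_eq, ← ker_quotMap, RingHom.mem_ker, map_sub, map_one] at h2
    simp only [quotMap, MonoidAlgebra.mapDomainRingHom_apply, MonoidAlgebra.mapDomain_single] at h2
    rw [sub_eq_zero, MonoidAlgebra.one_def] at h2
    have h4 := MonoidAlgebra.single_left_injective (one_ne_zero (α := L)) h2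
    have h5 : m ∈ powSubgroup M n := (QuotientGroup.eq_one_iff m).mp h4
    obtain ⟨b, hb⟩ := h5
    exact ⟨b, hb⟩
  haveI : Subsingleton M := subsingleton_of_forall_pow M hpow
  -- conclude
  have h1 := eq_algebraMap_counit_of_subsingleton L M (F ((1 : L) ⊗ₜ[R] e))
  have h2 : counit (R := L) (F ((1 : L) ⊗ₜ[R] e)) = 0 := by
    have : counit (R := L) (F ((1 : L) ⊗ₜ[R] e)) = counit (R := L) ((1 : L) ⊗ₜ[R] e) :=
      CoalgHomClass.counit_comp_apply F _
    rw [this, TensorProduct.counit_tmul, he, zero_smul]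
  rw [h2, map_zero] at h1
  have h3 : F ((1 : L) ⊗ₜ[R] e) = F 0 := by rw [h1, map_zero]
  exact F.injective h3

end Groth.Agent.H15.MTSub
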