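import Mathlib

/-!
# Field-valued points of a nonzero idempotent, compatible with a faithfully flat base change
-/

set_option autoImplicit false
set_option linter.style.haveILetI false
universe u
open TensorProduct

namespace Groth.Agent.H15.MTSub

theorem exists_field_point {R : Type u} [CommRing R] (R' : Type u) [CommRing R'] [Algebra R R']
    [Module.FaithfullyFlat R R'] {B : Type u} [CommRing B] [Algebra R B] (e : B)
    (he : IsIdempotentElem e) (hne : e ≠ 0) :
    ∃ (L : Type u) (_ : Field L) (_ : Algebra R L) (_ : Algebra R' L) (_ : IsScalarTower R R' L)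
      (φ : B →ₐ[R] L), φ e = 1 := by
  let I' : Ideal B := Ideal.span {1 - e}
  have hI' : I' ≠ ⊤ := by
    intro htop
    rw [Ideal.eq_top_iff_one, Ideal.mem_span_singleton'] at htop
    obtain ⟨c, hc⟩ := htop
    apply hne
    calc e = e * (c * (1 - e)) := by rw [hc, mul_one]
      _ = c * (e - e * e) := by ring
      _ = 0 := by rw [he.eq, sub_self, mul_zero]
  haveI : Nontrivial (B ⧸ I') := Ideal.Quotient.nontrivial_iff.mpr hI'
  haveI : Nontrivial (R' ⊗[R] (B ⧸ I')) := inferInstance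
  obtain ⟨𝔐, h𝔐⟩ := Ideal.exists_maximal (R' ⊗[R] (B ⧸ I'))
  letI : Field ((R' ⊗[R] (B ⧸ I')) ⧸ 𝔐) := Ideal.Quotient.field 𝔐
  let φ : B →ₐ[R] ((R' ⊗[R] (B ⧸ I')) ⧸ 𝔐) :=
    (Ideal.Quotient.mkₐ R 𝔐).comp
      ((Algebra.TensorProduct.includeRight : (B ⧸ I') →ₐ[R] R' ⊗[R] (B ⧸ I')).comp
        (Ideal.Quotient.mkₐ R I'))
  refine ⟨(R' ⊗[R] (B ⧸ I')) ⧸ 𝔐, inferInstance, inferInstance, inferInstance, inferInstance, φ, ?_⟩
  have h1 : φ (1 - e) = 0 := by
    change Ideal.Quotient.mk 𝔐 ((1 : R') ⊗ₜ[R] (Ideal.Quotient.mk I' (1 - e))) = 0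
    rw [Ideal.Quotient.eq_zero_iff_mem.mpr (Ideal.mem_span_singleton_self (1 - e)),
      TensorProduct.tmul_zero, map_zero]
  rw [map_sub, map_one, sub_eq_zero] at h1
  exact h1.symm

end Groth.Agent.H15.MTSub
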