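import Groth.Agent.H15.MultType
import Mathlib.RingTheory.HopfAlgebra.Convolution

/-!
# Points of a commutative Hopf algebra: translations, a finiteness argument, torsion points
-/

set_option autoImplicit false
set_option linter.style.haveILetI false
universe u
open TensorProduct WithConv Coalgebra

namespace Groth.Agent.H15.MTT

lemma inv_pow_mul_pow {G : Type*} [Group G] (h : G) (n m : ℕ) (hn : n ≤ m) :
    (h⁻¹) ^ n * h ^ m = h ^ (m - n) := by
  obtain ⟨d, rfl⟩ := Nat.exists_eq_add_of_le hn
  rw [inv_pow, pow_add, inv_mul_cancel_left, Nat.add_sub_cancel_left]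

section transl
variable {Ω : Type u} [CommRing Ω] {D : Type u} [CommRing D] [HopfAlgebra Ω D]

/-- translation by a point `x`: `c ↦ Σ x(c₁) c₂` -/
noncomputable def transl (x : D →ₐ[Ω] Ω) : D →ₐ[Ω] D :=
  ((Algebra.TensorProduct.lid Ω D : Ω ⊗[Ω] D ≃ₐ[Ω] D) : Ω ⊗[Ω] D →ₐ[Ω] D).comp
    ((Algebra.TensorProduct.map x (AlgHom.id Ω D)).comp (Bialgebra.comulAlgHom Ω D))

lemma apply_lid_map (x y : D →ₐ[Ω] Ω) (z : D ⊗[Ω] D) :
    y (Algebra.TensorProduct.lid Ω D (Algebra.TensorProduct.map x (AlgHom.id Ω D) z)) =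
      Algebra.TensorProduct.lift x y (fun _ _ => Commute.all _ _) z := by
  induction z using TensorProduct.induction_on with
  | zero => simp
  | add a b ha hb => rw [map_add, map_add, map_add, map_add, ha, hb]
  | tmul a b =>
    rw [Algebra.TensorProduct.map_tmul, Algebra.TensorProduct.lid_tmul,
      Algebra.TensorProduct.lift_tmul, map_smul, AlgHom.id_apply, smul_eq_mul]

/-- evaluating at a translate is the convolution product -/
theorem apply_transl (x y : D →ₐ[Ω] Ω) (c : D) :
    y (transl x c) = (toConv x * toConv y).ofConv c := by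
  have h1 : (toConv x * toConv y).ofConv c = (toConv x * toConv y) c := rfl
  rw [h1, AlgHom.convMul_apply]
  exact apply_lid_map x y (comul c)

theorem apply_iterate_transl (k y : WithConv (D →ₐ[Ω] Ω)) (n : ℕ) (c : D) :
    y.ofConv ((transl k.ofConv)^[n] c) = (k ^ n * y).ofConv c := by
  induction n generalizing y with
  | zero => simp
  | succ n ih =>
    rw [Function.iterate_succ_apply', apply_transl]
    have h2 : (toConv k.ofConv * toConv y.ofConv) = k * y := rfl
    rw [h2, ih (k * y), pow_succ, mul_assoc]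

/-- the value of the unit point -/
lemma one_apply (c : D) : (1 : WithConv (D →ₐ[Ω] Ω)).ofConv c = counit (R := Ω) c := by
  change (1 : WithConv (D →ₐ[Ω] Ω)) c = _
  rw [AlgHom.convOne_apply]
  rfl

/-- **finiteness of the component group**: some power of any point lies in the open and closed
subgroup cut out by an idempotent `e` of the augmentation ideal. -/
theorem exists_pow_apply_eq_zero [IsNoetherianRing D] [IsDomain Ω] (e : D)
    (he : IsIdempotentElem e) (hε : counit (R := Ω) e = 0) (h : WithConv (D →ₐ[Ω] Ω)) :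
    ∃ m : ℕ, 0 < m ∧ (h ^ m).ofConv e = 0 := by
  set k := h⁻¹ with hk
  set u : D := 1 - e with hu
  let f : ℕ →o Ideal D :=
    ⟨fun n => Ideal.span ((fun i => (transl k.ofConv)^[i] u) '' {i | i ≤ n}), by
      intro a b hab
      apply Ideal.span_mono
      apply Set.image_mono
      intro i hi
      exact le_trans hi hab⟩
  obtain ⟨N, hN⟩ := monotone_stabilizes_iff_noetherian.mpr (inferInstance : IsNoetherian D D) f
  have hmem : (transl k.ofConv)^[N + 1] u ∈ f N := by
    rw [hN (N + 1) (Nat.le_succ N)]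
    exact Ideal.subset_span ⟨N + 1, le_refl (N + 1), rfl⟩
  set x := h ^ (N + 1) with hx
  have hxu : ∀ n : ℕ, n ≤ N + 1 → x.ofConv ((transl k.ofConv)^[n] u) =
      1 - (h ^ (N + 1 - n)).ofConv e := by
    intro n hn
    have hg : k ^ n * x = h ^ (N + 1 - n) := inv_pow_mul_pow h n (N + 1) hn
    rw [apply_iterate_transl, hg, hu, map_sub, map_one]
  have h1 : x.ofConv ((transl k.ofConv)^[N + 1] u) = 1 := by
    rw [hxu (N + 1) le_rfl, Nat.sub_self, pow_zero, one_apply, hε, sub_zero]
  by_contra hcon
  push Not at hcon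
  have h2 : f N ≤ RingHom.ker (x.ofConv : D →+* Ω) := by
    change Ideal.span _ ≤ _
    rw [Ideal.span_le]
    rintro _ ⟨i, hi, rfl⟩
    have hi' : i ≤ N := hi
    rw [SetLike.mem_coe, RingHom.mem_ker]
    change x.ofConv ((transl k.ofConv)^[i] u) = 0
    rw [hxu i (le_trans hi' (Nat.le_succ N))]
    have hpos : 0 < N + 1 - i := by omega
    have hv := hcon (N + 1 - i) hpos
    -- an idempotent value in a domain
    have hidem : IsIdempotentElem ((h ^ (N + 1 - i)).ofConv e) := he.map _
    rcases IsIdempotentElem.iff_eq_zero_or_one.mp hidem with h0 | h1'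
    · exact absurd h0 hv
    · rw [h1', sub_self]
  have h3 : x.ofConv ((transl k.ofConv)^[N + 1] u) = 0 := h2 hmem
  rw [h1] at h3
  exact one_ne_zero h3

/-- torsion points kill the torsion ideals -/
theorem apply_eq_zero_of_pow_eq_one (x : WithConv (D →ₐ[Ω] Ω)) (m : ℕ) (hx : x ^ m = 1) (e : D)
    (he : e ∈ SGA3b.torsionIdeal Ω D m) : x.ofConv e = 0 := by
  have h1 : SGA3b.torsionIdeal Ω D m ≤ RingHom.ker (x.ofConv : D →+* Ω) := by
    unfold SGA3b.torsionIdeal
    rw [Ideal.map_le_iff_le_comap]
    intro a ha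
    rw [Ideal.mem_comap, RingHom.mem_ker]
    have h2 := Groth.Agent.H15.MT.comp_convPow x.ofConv (toConv (AlgHom.id Ω D)) m
    have h3 : x.ofConv.comp (toConv (AlgHom.id Ω D) ^ m).ofConv = (x ^ m).ofConv := h2
    have h4 : x.ofConv (SGA3b.powConv Ω D m a) = (x ^ m).ofConv a :=
      congrArg (fun g : D →ₐ[Ω] Ω => g a) h3
    change x.ofConv (SGA3b.powConv Ω D m a) = 0
    rw [h4, hx, one_apply]
    exact ha
  exact h1 he

end transl

end Groth.Agent.H15.MTT
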