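import Mathlib.Algebra.Category.Grp.Injective
import Mathlib.Algebra.Module.Torsion.Basic
import Mathlib.GroupTheory.Divisible
import Mathlib.GroupTheory.QuotientGroup.Basic
import Mathlib.FieldTheory.IsAlgClosed.Basic
import Mathlib.RingTheory.Noetherian.Basic

/-!
# Divisibility of characters up to torsion
-/

set_option autoImplicit false
set_option linter.style.haveILetI false
universe u

namespace Groth.Agent.H15.MTT

section additive
variable (Ma : Type u) [AddCommGroup Ma] [Module.Finite ℤ Ma]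
  (Dv : Type u) [AddCommGroup Dv] [DivisibleBy Dv ℤ]

/-- characters of a finitely generated abelian group with values in a divisible group are
divisible up to torsion -/
theorem exists_div_up_to_torsion (χ : Ma →+ Dv) (n : ℕ) (hn : 0 < n) :
    ∃ t : ℕ, 0 < t ∧ ∃ ψ : Ma →+ Dv, ∀ m : Ma, (n * t) • ψ m = t • χ m := by
  -- the exponent of the torsion subgroup
  haveI : IsNoetherian ℤ Ma := isNoetherian_of_isNoetherianRing_of_finite ℤ Ma
  haveI : Module.Finite ℤ (Submodule.torsion ℤ Ma) := Module.Finite.of_fg (IsNoetherian.noetherian _)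
  obtain ⟨a, ha1, ha2⟩ := Submodule.annihilator_top_inter_nonZeroDivisors
    (Submodule.torsion_isTorsion (R := ℤ) (M := Ma))
  have ha0 : a ≠ 0 := nonZeroDivisors.ne_zero ha2
  have hat : ∀ x : Ma, x ∈ Submodule.torsion ℤ Ma → a • x = 0 := by
    intro x hx
    have h1 := Submodule.mem_annihilator.mp ha1 ⟨x, hx⟩ Submodule.mem_top
    exact congrArg Subtype.val h1
  set t : ℕ := a.natAbs with ht
  have htpos : 0 < t := Int.natAbs_pos.mpr ha0
  have htt : ∀ x : Ma, x ∈ Submodule.torsion ℤ Ma → t • x = 0 := by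
    intro x hx
    have h1 := hat x hx
    rcases Int.natAbs_eq a with h | h
    · rw [h, natCast_zsmul] at h1
      exact h1
    · rw [h, neg_smul, natCast_zsmul, neg_eq_zero] at h1
      exact h1
  refine ⟨t, htpos, ?_⟩
  -- multiplication by `n t`
  let f : Ma →+ Ma := (n * t) • AddMonoidHom.id Ma
  let g : Ma →+ Dv := t • χ
  have hfg : f.ker ≤ g.ker := by
    intro m hm
    rw [AddMonoidHom.mem_ker] at hm ⊢
    have hm' : (n * t) • m = 0 := hm
    have hmt : m ∈ Submodule.torsion ℤ Ma := by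
      rw [Submodule.mem_torsion_iff]
      refine ⟨⟨((n * t : ℕ) : ℤ), mem_nonZeroDivisors_of_ne_zero ?_⟩, ?_⟩
      · exact_mod_cast (Nat.mul_pos hn htpos).ne'
      · change ((n * t : ℕ) : ℤ) • m = 0
        rw [natCast_zsmul]
        exact hm'
    change t • χ m = 0
    rw [← map_nsmul, htt m hmt, map_zero]
  let fbar : Ma ⧸ f.ker →+ Ma := QuotientAddGroup.kerLift f
  have hinj : Function.Injective fbar := QuotientAddGroup.kerLift_injective f
  let gbar : Ma ⧸ f.ker →+ Dv := QuotientAddGroup.lift f.ker g hfg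
  obtain ⟨ψ, hψ⟩ := (Module.Baer.of_divisible Dv).extension_property_addMonoidHom fbar hinj gbar
  refine ⟨ψ, fun m => ?_⟩
  have h1 : ψ (fbar (QuotientAddGroup.mk m)) = gbar (QuotientAddGroup.mk m) :=
    DFunLike.congr_fun hψ (QuotientAddGroup.mk m)
  have h2 : fbar (QuotientAddGroup.mk m) = (n * t) • m := rfl
  have h3 : gbar (QuotientAddGroup.mk m) = t • χ m := rfl
  rw [h2, h3, map_nsmul] at h1
  exact h1

end additive

section mult
variable (M : Type u) [CommGroup M] [Group.FG M] (Ω : Type u) [Field Ω] [IsAlgClosed Ω]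

/-- the units of an algebraically closed field form a divisible group -/
@[instance_reducible] noncomputable def divisibleByUnits : DivisibleBy (Additive Ωˣ) ℤ := by
  apply divisibleByOfSMulRightSurj
  intro n hn y
  obtain ⟨k, hk⟩ : ∃ k : ℕ, 0 < k ∧ (n = k ∨ n = -(k : ℤ)) := by
    refine ⟨n.natAbs, Int.natAbs_pos.mpr hn, ?_⟩
    rcases Int.natAbs_eq n with h | h
    · exact Or.inl h
    · exact Or.inr h
  obtain ⟨hkpos, hk'⟩ := hk
  obtain ⟨z, hz⟩ := IsAlgClosed.exists_pow_nat_eq ((Additive.toMul y : Ωˣ) : Ω) hkpos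
  have hz0 : z ≠ 0 := by
    intro h0
    rw [h0, zero_pow hkpos.ne'] at hz
    exact (Additive.toMul y : Ωˣ).ne_zero hz.symm
  let zu : Ωˣ := Units.mk0 z hz0
  have hzu : zu ^ k = Additive.toMul y := by
    ext
    rw [Units.val_pow_eq_pow_val]
    exact hz
  rcases hk' with h | h
  · refine ⟨Additive.ofMul zu, ?_⟩
    change n • Additive.ofMul zu = y
    rw [h, natCast_zsmul, ← ofMul_pow, hzu]
    rfl
  · refine ⟨Additive.ofMul zu⁻¹, ?_⟩
    change n • Additive.ofMul zu⁻¹ = y
    rw [h, neg_smul, natCast_zsmul, ← ofMul_pow, inv_pow, hzu, ofMul_inv, neg_neg]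
    rfl

/-- characters of a finitely generated commutative group with values in an algebraically closed
field have roots up to torsion -/
theorem exists_root_up_to_torsion (χ : M →* Ω) (n : ℕ) (hn : 0 < n) :
    ∃ t : ℕ, 0 < t ∧ ∃ ψ : M →* Ω, ∀ m : M, ψ m ^ (n * t) = χ m ^ t := by
  letI := divisibleByUnits Ω
  haveI : Module.Finite ℤ (Additive M) := Module.Finite.iff_addGroup_fg.mpr inferInstance
  let χu : M →* Ωˣ := χ.toHomUnits
  let χa : Additive M →+ Additive Ωˣ := MonoidHom.toAdditive χu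
  obtain ⟨t, ht, ψa, hψ⟩ := exists_div_up_to_torsion (Additive M) (Additive Ωˣ) χa n hn
  let ψu : M →* Ωˣ := MonoidHom.toAdditive.symm ψa
  refine ⟨t, ht, (Units.coeHom Ω).comp ψu, fun m => ?_⟩
  have h1 := hψ (Additive.ofMul m)
  have h2 : (ψu m) ^ (n * t) = (χu m) ^ t := by
    have h3 : Additive.toMul ((n * t) • ψa (Additive.ofMul m)) =
        Additive.toMul (t • χa (Additive.ofMul m)) := congrArg _ h1
    rw [toMul_nsmul, toMul_nsmul] at h3
    exact h3
  have h4 := congrArg (fun z : Ωˣ => (z : Ω)) h2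
  simp only [Units.val_pow_eq_pow_val] at h4
  exact h4

end mult

end Groth.Agent.H15.MTT
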