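import Groth.Agent.H15.MTTf1
import Groth.Agent.H15.MTTf2
import Mathlib.RingTheory.HopfAlgebra.MonoidAlgebra

set_option autoImplicit false
set_option linter.style.haveILetI false
universe u
open TensorProduct WithConv Coalgebra

namespace Groth.Agent.H15.MTT

section chars
variable {Ω : Type u} [CommRing Ω] {M : Type u} [CommGroup M]

/-- the character of a point of `Ω[M]` -/
noncomputable def charOf (y : WithConv (MonoidAlgebra Ω M →ₐ[Ω] Ω)) : M →* Ω :=
  (MonoidAlgebra.lift Ω Ω M).symm y.ofConv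

lemma charOf_apply (y : WithConv (MonoidAlgebra Ω M →ₐ[Ω] Ω)) (m : M) :
    charOf y m = y.ofConv (MonoidAlgebra.single m 1) := rfl

lemma charOf_injective :
    Function.Injective (charOf : WithConv (MonoidAlgebra Ω M →ₐ[Ω] Ω) → (M →* Ω)) := by
  intro y y' h
  apply WithConv.ofConv_injective
  exact (MonoidAlgebra.lift Ω Ω M).symm.injective h

lemma charOf_mul (y y' : WithConv (MonoidAlgebra Ω M →ₐ[Ω] Ω)) (m : M) :
    charOf (y * y') m = charOf y m * charOf y' m := by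
  rw [charOf_apply, charOf_apply, charOf_apply]
  change (y * y') (MonoidAlgebra.single m 1) = _
  rw [AlgHom.convMul_apply, MonoidAlgebra.comul_single]
  simp

lemma charOf_pow (y : WithConv (MonoidAlgebra Ω M →ₐ[Ω] Ω)) (n : ℕ) (m : M) :
    charOf (y ^ n) m = charOf y m ^ n := by
  induction n with
  | zero =>
    rw [pow_zero, pow_zero, charOf_apply, one_apply, MonoidAlgebra.counit_single]
    simp
  | succ n ih => rw [pow_succ, pow_succ, charOf_mul, ih]

end chars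

section roots
variable {Ω : Type u} [Field Ω] [IsAlgClosed Ω] {M : Type u} [CommGroup M] [Group.FG M]

/-- points of a diagonalisable group of finite type over an algebraically closed field are
divisible up to torsion -/
theorem exists_root_point (y : WithConv (MonoidAlgebra Ω M →ₐ[Ω] Ω)) (n : ℕ) (hn : 0 < n) :
    ∃ t : ℕ, 0 < t ∧ ∃ y₁ : WithConv (MonoidAlgebra Ω M →ₐ[Ω] Ω), y₁ ^ (n * t) = y ^ t := by
  obtain ⟨t, ht, ψ, hψ⟩ := exists_root_up_to_torsion M Ω (charOf y) n hn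
  refine ⟨t, ht, toConv (MonoidAlgebra.lift Ω Ω M ψ), ?_⟩
  apply charOf_injective
  ext m
  rw [charOf_pow, charOf_pow, ← hψ m]
  congr 1
  change (MonoidAlgebra.lift Ω Ω M).symm (MonoidAlgebra.lift Ω Ω M ψ) m = ψ m
  rw [Equiv.symm_apply_apply]

/-- the same for any Hopf algebra isomorphic to `Ω[M]` -/
theorem exists_root_point_of_equiv {Q : Type u} [CommRing Q] [HopfAlgebra Ω Q]
    (E : Q ≃ₐc[Ω] MonoidAlgebra Ω M) (y : WithConv (Q →ₐ[Ω] Ω)) (n : ℕ) (hn : 0 < n) :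
    ∃ t : ℕ, 0 < t ∧ ∃ y₁ : WithConv (Q →ₐ[Ω] Ω), y₁ ^ (n * t) = y ^ t := by
  let Es : MonoidAlgebra Ω M →ₐc[Ω] Q := (E.symm : MonoidAlgebra Ω M →ₐc[Ω] Q)
  let Ef : Q →ₐc[Ω] MonoidAlgebra Ω M := (E : Q →ₐc[Ω] MonoidAlgebra Ω M)
  obtain ⟨t, ht, z₁, hz⟩ := exists_root_point
    (toConv (y.ofConv.comp (Es : MonoidAlgebra Ω M →ₐ[Ω] Q))) n hn
  refine ⟨t, ht, toConv (z₁.ofConv.comp (Ef : Q →ₐ[Ω] MonoidAlgebra Ω M)), ?_⟩
  apply WithConv.ofConv_injective
  have h1 := Groth.Agent.H15.MT.convPow_comp Ef z₁ (n * t)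
  have h2 := Groth.Agent.H15.MT.convPow_comp Es y t
  rw [← h1, hz, ← h2]
  ext q
  change (y ^ t).ofConv (E.symm (E q)) = _
  rw [BialgEquiv.symm_apply_apply]

end roots

end Groth.Agent.H15.MTT
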