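import Groth.Agent.H15.MTTf3

/-!
# Torsion points and the open subgroup of multiplicative type
-/

set_option autoImplicit false
set_option linter.style.haveILetI false
universe u
open TensorProduct WithConv Coalgebra

namespace Groth.Agent.H15.MTT

section assembly
variable {Ω : Type u} [Field Ω] [IsAlgClosed Ω] {D : Type u} [CommRing D] [HopfAlgebra Ω D]
  [IsCocomm Ω D] [IsNoetherianRing D] {Q : Type u} [CommRing Q] [HopfAlgebra Ω Q]
  {M : Type u} [CommGroup M] [Group.FG M]

/-- a commutative group scheme of finite type over an algebraically closed field whose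
torsion subgroups are contained in an open and closed subgroup of multiplicative type coincides
with that subgroup, on the level of points. -/
theorem apply_eq_zero_of_torsion (E : Q ≃ₐc[Ω] MonoidAlgebra Ω M) (π : D →ₐc[Ω] Q) (e : D)
    (he : IsIdempotentElem e) (hε : counit (R := Ω) e = 0) (hπ : π e = 0)
    (hfac : ∀ x : D →ₐ[Ω] Ω, x e = 0 → ∃ xb : Q →ₐ[Ω] Ω, x = xb.comp (π : D →ₐ[Ω] Q))
    (htors : ∀ m : ℕ, 0 < m → e ∈ SGA3b.torsionIdeal Ω D m) (h : D →ₐ[Ω] Ω) : h e = 0 := by
  obtain ⟨n, hn, hne⟩ := exists_pow_apply_eq_zero e he hε (toConv h)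
  obtain ⟨gb, hgb⟩ := hfac ((toConv h) ^ n).ofConv hne
  obtain ⟨t, ht, gb₁, hgb₁⟩ := exists_root_point_of_equiv E (toConv gb) n hn
  set g₁ : WithConv (D →ₐ[Ω] Ω) := toConv (gb₁.ofConv.comp (π : D →ₐ[Ω] Q)) with hg₁
  have hpow : g₁ ^ (n * t) = (toConv h) ^ (n * t) := by
    apply WithConv.ofConv_injective
    have h1 := Groth.Agent.H15.MT.convPow_comp π gb₁ (n * t)
    have h2 := Groth.Agent.H15.MT.convPow_comp π (toConv gb) t
    rw [hg₁, ← h1, hgb₁, h2, pow_mul]
    congr 2
    apply WithConv.ofConv_injective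
    exact hgb.symm
  set x : WithConv (D →ₐ[Ω] Ω) := toConv h * g₁⁻¹ with hx
  have hxpow : x ^ (n * t) = 1 := by
    rw [hx, mul_pow, inv_pow, hpow, mul_inv_cancel]
  have hxe : x.ofConv e = 0 :=
    apply_eq_zero_of_pow_eq_one x (n * t) hxpow e (htors (n * t) (Nat.mul_pos hn ht))
  obtain ⟨xb, hxb⟩ := hfac x.ofConv hxe
  have hh : toConv h = x * g₁ := by rw [hx, inv_mul_cancel_right]
  have hprod : (x * g₁).ofConv = ((toConv xb) * gb₁).ofConv.comp (π : D →ₐ[Ω] Q) := by
    rw [AlgHom.convMul_comp_bialgHom_distrib]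
    congr 2
    apply WithConv.ofConv_injective
    exact hxb
  have h3 : h = (x * g₁).ofConv := congrArg WithConv.ofConv hh
  rw [h3, hprod, AlgHom.comp_apply]
  change ((toConv xb) * gb₁).ofConv (π e) = 0
  rw [hπ, map_zero]

end assembly

end Groth.Agent.H15.MTT
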