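import Groth.Agent.H15.MTTf4
import Groth.Agent.H15.MultDense
import Mathlib.RingTheory.HopfAlgebra.Quotient

/-!
# Points of a flat commutative group over an algebraically closed field kill the idempotent
cutting out the open subgroup of multiplicative type, if the torsion subgroups lie in it
-/

set_option autoImplicit false
set_option linter.style.haveILetI false
universe u
open TensorProduct WithConv Coalgebra

namespace Groth.Agent.H15.MTT

section concrete
variable {A : Type u} [CommRing A] {C : Type u} [CommRing C] [HopfAlgebra A C] [IsCocomm A C]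
  {Ω : Type u} [Field Ω] [IsAlgClosed Ω] [Algebra A Ω] {M : Type u} [CommGroup M] [Group.FG M]

theorem point_apply_eq_zero (hft : Algebra.FiniteType A C) (e : C) (he : IsIdempotentElem e)
    [(Ideal.span {e}).IsHopfIdeal A]
    (E : (Ω ⊗[A] (C ⧸ Ideal.span {e})) ≃ₐc[Ω] MonoidAlgebra Ω M)
    (htors : ∀ m : ℕ, 0 < m → e ∈ SGA3b.torsionIdeal A C m) (φ : C →ₐ[A] Ω) : φ e = 0 := by
  haveI : Algebra.FiniteType Ω (Ω ⊗[A] C) := Algebra.FiniteType.baseChange Ω
  haveI : IsNoetherianRing (Ω ⊗[A] C) := Algebra.FiniteType.isNoetherianRing Ω (Ω ⊗[A] C)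
  let π : Ω ⊗[A] C →ₐc[Ω] Ω ⊗[A] (C ⧸ Ideal.span {e}) :=
    Bialgebra.TensorProduct.map (BialgHom.id Ω Ω) (Bialgebra.Quotient.mkBialgHom (R := A) (Ideal.span {e}))
  have heI : e ∈ Ideal.span {e} := Ideal.subset_span rfl
  have hεe : counit (R := A) e = 0 :=
    Submodule.IsCoideal.counit_eq_zero (I := (Ideal.span {e}).restrictScalars A) heI
  let h : Ω ⊗[A] C →ₐ[Ω] Ω :=
    Algebra.TensorProduct.lift (Algebra.ofId Ω Ω) φ (fun _ _ => Commute.all _ _)
  have hmain := apply_eq_zero_of_torsion E π ((1 : Ω) ⊗ₜ[A] e) ?_ ?_ ?_ ?_ ?_ h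
  · have h1 : h ((1 : Ω) ⊗ₜ[A] e) = φ e := by
      change Algebra.TensorProduct.lift (Algebra.ofId Ω Ω) φ _ ((1 : Ω) ⊗ₜ[A] e) = _
      rw [Algebra.TensorProduct.lift_tmul, map_one, one_mul]
    rw [← h1]
    exact hmain
  · change ((1 : Ω) ⊗ₜ[A] e) * ((1 : Ω) ⊗ₜ[A] e) = _
    rw [Algebra.TensorProduct.tmul_mul_tmul, one_mul, he.eq]
  · rw [TensorProduct.counit_tmul, hεe, zero_smul]
  · change (1 : Ω) ⊗ₜ[A] (Ideal.Quotient.mk (Ideal.span {e}) e) = 0
    rw [Ideal.Quotient.eq_zero_iff_mem.mpr heI, tmul_zero]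
  · intro x hx
    let x0 : C →ₐ[A] Ω := (x.restrictScalars A).comp Algebra.TensorProduct.includeRight
    have hx0 : ∀ a ∈ Ideal.span {e}, x0 a = 0 := by
      intro a ha
      obtain ⟨c, rfl⟩ := Ideal.mem_span_singleton'.mp ha
      have : x0 e = 0 := hx
      rw [map_mul, this, mul_zero]
    let xb : Ω ⊗[A] (C ⧸ Ideal.span {e}) →ₐ[Ω] Ω :=
      Algebra.TensorProduct.lift (Algebra.ofId Ω Ω) (Ideal.Quotient.liftₐ (Ideal.span {e}) x0 hx0)
        (fun _ _ => Commute.all _ _)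
    refine ⟨xb, ?_⟩
    apply Algebra.TensorProduct.ext'
    intro a c
    change x (a ⊗ₜ c) = xb (a ⊗ₜ[A] (Ideal.Quotient.mk (Ideal.span {e}) c))
    change _ = Algebra.TensorProduct.lift (Algebra.ofId Ω Ω) _ _ _
    rw [Algebra.TensorProduct.lift_tmul]
    change _ = a * x ((1 : Ω) ⊗ₜ[A] c)
    rw [← smul_eq_mul, ← map_smul, TensorProduct.smul_tmul', smul_eq_mul, mul_one]
  · intro m hm
    exact Groth.Agent.H15.MT.tmul_mem_torsionIdeal_bc Ω m e (htors m hm)

end concrete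

end Groth.Agent.H15.MTT
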