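import Groth.Agent.H15.MTTf4

/-!
# Translations by points, and their effect on the torsion ideals
-/

set_option autoImplicit false
set_option linter.style.haveILetI false
universe u
open TensorProduct WithConv Coalgebra

namespace Groth.Agent.H15.MTT

section transl2
variable {Ω : Type u} [CommRing Ω] {D : Type u} [CommRing D] [HopfAlgebra Ω D]

/-- a point with values in the base, viewed as a point with values in `D` -/
noncomputable def iota (u : WithConv (D →ₐ[Ω] Ω)) : WithConv (D →ₐ[Ω] D) :=
  toConv ((Algebra.ofId Ω D).comp u.ofConv)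

lemma iota_mul (u v : WithConv (D →ₐ[Ω] Ω)) : iota (u * v) = iota u * iota v := by
  apply WithConv.ofConv_injective
  exact AlgHom.comp_convMul_distrib (Algebra.ofId Ω D) u v

lemma iota_one : iota (1 : WithConv (D →ₐ[Ω] Ω)) = 1 := by
  apply WithConv.ofConv_injective
  ext c
  change algebraMap Ω D ((1 : WithConv (D →ₐ[Ω] Ω)) c) = (1 : WithConv (D →ₐ[Ω] D)) c
  rw [AlgHom.convOne_apply, AlgHom.convOne_apply]
  rfl

/-- translation as a convolution product -/
lemma transl_eq (u : WithConv (D →ₐ[Ω] Ω)) :
    toConv (transl u.ofConv) = iota u * toConv (AlgHom.id Ω D) := by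
  apply WithConv.ofConv_injective
  rw [AlgHom.convMul_def]
  change transl u.ofConv = _
  unfold transl
  rw [← AlgHom.comp_assoc, ← AlgHom.comp_assoc]
  congr 1
  apply Algebra.TensorProduct.ext'
  intro a b
  change Algebra.TensorProduct.lid Ω D (Algebra.TensorProduct.map u.ofConv (AlgHom.id Ω D) (a ⊗ₜ b)) =
    Algebra.TensorProduct.lmul' Ω (Algebra.TensorProduct.map (iota u).ofConv (AlgHom.id Ω D) (a ⊗ₜ b))
  rw [Algebra.TensorProduct.map_tmul, Algebra.TensorProduct.map_tmul,
    Algebra.TensorProduct.lid_tmul, Algebra.TensorProduct.lmul'_apply_tmul, Algebra.smul_def]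
  rfl

lemma transl_comp_iota (u v : WithConv (D →ₐ[Ω] Ω)) :
    (transl v.ofConv).comp (iota u).ofConv = (iota u).ofConv := by
  ext c
  change transl v.ofConv (algebraMap Ω D (u.ofConv c)) = algebraMap Ω D (u.ofConv c)
  rw [AlgHom.commutes]

/-- composition of translations -/
theorem transl_comp_transl (u v : WithConv (D →ₐ[Ω] Ω)) :
    (transl v.ofConv).comp (transl u.ofConv) = transl (u * v).ofConv := by
  have h1 : (transl v.ofConv).comp (iota u * toConv (AlgHom.id Ω D)).ofConv =
      (iota u * (iota v * toConv (AlgHom.id Ω D))).ofConv := by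
    rw [AlgHom.comp_convMul_distrib]
    congr 2
    · apply WithConv.ofConv_injective
      exact transl_comp_iota u v
    · rw [← transl_eq]
      rfl
  have h2 := congrArg WithConv.ofConv (transl_eq u)
  have h3 := congrArg WithConv.ofConv (transl_eq (u * v))
  change transl u.ofConv = _ at h2
  change transl (u * v).ofConv = _ at h3
  rw [h2, h3, h1, iota_mul, mul_assoc]

theorem transl_one : transl (1 : WithConv (D →ₐ[Ω] Ω)).ofConv = AlgHom.id Ω D := by
  have h3 := congrArg WithConv.ofConv (transl_eq (1 : WithConv (D →ₐ[Ω] Ω)))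
  change transl (1 : WithConv (D →ₐ[Ω] Ω)).ofConv = _ at h3
  rw [h3, iota_one, one_mul]

theorem transl_inv_transl (u : WithConv (D →ₐ[Ω] Ω)) (c : D) :
    transl (u⁻¹).ofConv (transl u.ofConv c) = c := by
  have h := transl_comp_transl u u⁻¹
  rw [mul_inv_cancel, transl_one] at h
  exact congrArg (fun f : D →ₐ[Ω] D => f c) h

theorem transl_transl_inv (u : WithConv (D →ₐ[Ω] Ω)) (c : D) :
    transl u.ofConv (transl (u⁻¹).ofConv c) = c := by
  have h := transl_comp_transl u⁻¹ u
  rw [inv_mul_cancel, transl_one] at h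
  exact congrArg (fun f : D →ₐ[Ω] D => f c) h

end transl2

end Groth.Agent.H15.MTT
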