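import Groth.Agent.H15.MTTf6

/-!
# Translations by torsion points preserve the torsion ideals (cocommutative case)
-/

set_option autoImplicit false
set_option linter.style.haveILetI false
universe u
open TensorProduct WithConv Coalgebra

namespace Groth.Agent.H15.MTT

section cocomm
variable {Ω : Type u} [CommRing Ω] {D : Type u} [CommRing D] [HopfAlgebra Ω D] [IsCocomm Ω D]

/-- the `n`-th power map as a bialgebra homomorphism -/
noncomputable def powB (n : ℕ) : D →ₐc[Ω] D := ((toConv (BialgHom.id Ω D)) ^ n).ofConv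

lemma powB_toAlgHom (n : ℕ) : ((powB n : D →ₐc[Ω] D) : D →ₐ[Ω] D) = SGA3b.powConv Ω D n := by
  have h := BialgHom.toAlgHom_convPow (toConv (BialgHom.id Ω D)) n
  have h2 := congrArg WithConv.ofConv h
  exact h2

lemma counit_powConv (n : ℕ) (c : D) : counit (R := Ω) (SGA3b.powConv Ω D n c) = counit (R := Ω) c := by
  rw [← powB_toAlgHom]
  exact CoalgHomClass.counit_comp_apply (powB (Ω := Ω) (D := D) n) c

theorem powConv_mul (N n : ℕ) :
    SGA3b.powConv Ω D (N * n) = (SGA3b.powConv Ω D n).comp (SGA3b.powConv Ω D N) := by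
  have h := Groth.Agent.H15.MT.convPow_comp (powB (Ω := Ω) (D := D) N) (toConv (AlgHom.id Ω D)) n
  rw [powB_toAlgHom] at h
  change (SGA3b.powConv Ω D n).comp (SGA3b.powConv Ω D N) = _ at h
  rw [h]
  change _ = ((toConv ((AlgHom.id Ω D).comp (SGA3b.powConv Ω D N))) ^ n).ofConv
  rw [AlgHom.id_comp]
  change ((toConv (AlgHom.id Ω D)) ^ (N * n)).ofConv = (((toConv (AlgHom.id Ω D)) ^ N) ^ n).ofConv
  rw [pow_mul]

theorem torsionIdeal_mul_le (N n : ℕ) :
    SGA3b.torsionIdeal Ω D (N * n) ≤ SGA3b.torsionIdeal Ω D n := by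
  unfold SGA3b.torsionIdeal
  rw [powConv_mul, Ideal.map_le_iff_le_comap]
  intro c hc
  rw [Ideal.mem_comap]
  change (SGA3b.powConv Ω D n) (SGA3b.powConv Ω D N c) ∈ _
  apply Ideal.mem_map_of_mem
  rw [RingHom.mem_ker] at hc ⊢
  change counit (R := Ω) (SGA3b.powConv Ω D N c) = 0
  rw [counit_powConv]
  exact hc

theorem transl_comp_powConv (t : WithConv (D →ₐ[Ω] Ω)) (n : ℕ) (ht : t ^ n = 1) :
    (transl t.ofConv).comp (SGA3b.powConv Ω D n) = SGA3b.powConv Ω D n := by
  have h2 := congrArg WithConv.ofConv (transl_eq t)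
  change transl t.ofConv = _ at h2
  rw [h2, ← powB_toAlgHom, AlgHom.convMul_comp_bialgHom_distrib, powB_toAlgHom]
  have h3 : (iota t).ofConv.comp (SGA3b.powConv Ω D n) = (1 : WithConv (D →ₐ[Ω] D)).ofConv := by
    have h4 := Groth.Agent.H15.MT.comp_convPow t.ofConv (toConv (AlgHom.id Ω D)) n
    change t.ofConv.comp (SGA3b.powConv Ω D n) = (t ^ n).ofConv at h4
    change ((Algebra.ofId Ω D).comp t.ofConv).comp (SGA3b.powConv Ω D n) = _
    rw [AlgHom.comp_assoc, h4, ht, ← iota_one]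
    rfl
  rw [h3, AlgHom.id_comp]
  change ((1 : WithConv (D →ₐ[Ω] D)) * toConv (SGA3b.powConv Ω D n)).ofConv = _
  rw [one_mul]

theorem transl_mem_torsionIdeal (t : WithConv (D →ₐ[Ω] Ω)) (n : ℕ) (ht : t ^ n = 1) (c : D)
    (hc : c ∈ SGA3b.torsionIdeal Ω D n) : transl t.ofConv c ∈ SGA3b.torsionIdeal Ω D n := by
  have h1 : SGA3b.torsionIdeal Ω D n ≤
      Ideal.comap (transl t.ofConv) (SGA3b.torsionIdeal Ω D n) := by
    unfold SGA3b.torsionIdeal
    rw [Ideal.map_le_iff_le_comap]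
    intro x hx
    rw [Ideal.mem_comap, Ideal.mem_comap]
    have h3 := congrArg (fun f : D →ₐ[Ω] D => f x) (transl_comp_powConv t n ht)
    change transl t.ofConv (SGA3b.powConv Ω D n x) = SGA3b.powConv Ω D n x at h3
    rw [h3]
    exact Ideal.mem_map_of_mem _ hx
  exact h1 hc

end cocomm

end Groth.Agent.H15.MTT
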