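import Groth.Agent.H15.MTTf7
import Groth.Agent.H15.MultDense
import Mathlib.RingTheory.Jacobson.Ring

/-!
# Schematic density of the torsion subgroups in a commutative group with an open subgroup of
multiplicative type, over an algebraically closed field
-/

set_option autoImplicit false
set_option linter.style.haveILetI false
universe u
open TensorProduct WithConv Coalgebra

namespace Groth.Agent.H15.MTT

section null
variable {Ω : Type u} [Field Ω] [IsAlgClosed Ω] {D : Type u} [CommRing D] [Algebra Ω D]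

/-- Nullstellensatz: maximal ideals of an algebra of finite type over an algebraically closed
field are kernels of points -/
theorem exists_point_of_isMaximal [Algebra.FiniteType Ω D] (n : Ideal D) [n.IsMaximal] :
    ∃ h : D →ₐ[Ω] Ω, ∀ c : D, h c = 0 ↔ c ∈ n := by
  letI := Ideal.Quotient.field n
  haveI : Algebra.FiniteType Ω (D ⧸ n) :=
    Algebra.FiniteType.of_surjective (Ideal.Quotient.mkₐ Ω n) (Ideal.Quotient.mkₐ_surjective Ω n)
  haveI : Module.Finite Ω (D ⧸ n) := finite_of_finite_type_of_isJacobsonRing Ω (D ⧸ n)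
  haveI : Algebra.IsIntegral Ω (D ⧸ n) := Algebra.IsIntegral.of_finite Ω (D ⧸ n)
  have hb : Function.Bijective (algebraMap Ω (D ⧸ n)) :=
    IsAlgClosed.algebraMap_bijective_of_isIntegral
  let eq : Ω ≃ₐ[Ω] (D ⧸ n) := AlgEquiv.ofBijective (Algebra.ofId Ω (D ⧸ n)) hb
  refine ⟨(eq.symm : (D ⧸ n) →ₐ[Ω] Ω).comp (Ideal.Quotient.mkₐ Ω n), fun c => ?_⟩
  change eq.symm (Ideal.Quotient.mk n c) = 0 ↔ _
  rw [map_eq_zero_iff eq.symm eq.symm.injective, Ideal.Quotient.eq_zero_iff_mem]

end null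

section density
variable {Ω : Type u} [Field Ω] [IsAlgClosed Ω] {D : Type u} [CommRing D] [HopfAlgebra Ω D]
  [IsCocomm Ω D] [IsNoetherianRing D] {Q : Type u} [CommRing Q] [HopfAlgebra Ω Q]
  {M : Type u} [CommGroup M] [Group.FG M]

/-- every point is the product of a torsion point and a point of the open subgroup -/
theorem exists_torsion_mul (E : Q ≃ₐc[Ω] MonoidAlgebra Ω M) (π : D →ₐc[Ω] Q) (e : D)
    (he : IsIdempotentElem e) (hε : counit (R := Ω) e = 0) (hπ : π e = 0)
    (hfac : ∀ x : D →ₐ[Ω] Ω, x e = 0 → ∃ xb : Q →ₐ[Ω] Ω, x = xb.comp (π : D →ₐ[Ω] Q))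
    (h : WithConv (D →ₐ[Ω] Ω)) :
    ∃ (N : ℕ) (t g : WithConv (D →ₐ[Ω] Ω)), 0 < N ∧ t ^ N = 1 ∧ g.ofConv e = 0 ∧ h = t * g := by
  obtain ⟨n, hn, hne⟩ := exists_pow_apply_eq_zero e he hε h
  obtain ⟨gb, hgb⟩ := hfac (h ^ n).ofConv hne
  obtain ⟨t, ht, gb₁, hgb₁⟩ := exists_root_point_of_equiv E (toConv gb) n hn
  set g₁ : WithConv (D →ₐ[Ω] Ω) := toConv (gb₁.ofConv.comp (π : D →ₐ[Ω] Q)) with hg₁
  have hpow : g₁ ^ (n * t) = h ^ (n * t) := by
    apply WithConv.ofConv_injective
    have h1 := Groth.Agent.H15.MT.convPow_comp π gb₁ (n * t)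
    have h2 := Groth.Agent.H15.MT.convPow_comp π (toConv gb) t
    rw [hg₁, ← h1, hgb₁, h2, pow_mul]
    congr 2
    apply WithConv.ofConv_injective
    exact hgb.symm
  refine ⟨n * t, h * g₁⁻¹, g₁, Nat.mul_pos hn ht, ?_, ?_, ?_⟩
  · rw [mul_pow, inv_pow, hpow, mul_inv_cancel]
  · change gb₁.ofConv (π e) = 0
    rw [hπ, map_zero]
  · rw [inv_mul_cancel_right]

open Groth.Agent.H15.MT in
/-- **schematic density of the torsion subgroups** -/
theorem dense_of_open_subgroup [Algebra.FiniteType Ω D] (E : Q ≃ₐc[Ω] MonoidAlgebra Ω M)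
    (π : D →ₐc[Ω] Q) (e : D)
    (he : IsIdempotentElem e) (hε : counit (R := Ω) e = 0) (hπ : π e = 0)
    (hfac : ∀ x : D →ₐ[Ω] Ω, x e = 0 → ∃ xb : Q →ₐ[Ω] Ω, x = xb.comp (π : D →ₐ[Ω] Q))
    (hker : ∀ z : D, π z = 0 → (1 - e) * z = 0) : Dense Ω D := by
  intro a y hay
  haveI : IsJacobsonRing D := isJacobsonRing_of_finiteType (A := Ω) (B := D)
  have hDQ : Dense Ω Q := Dense.of_equiv E (dense_monoidAlgebra' Ω M)
  -- local annihilators
  have hB : ∀ h : D →ₐ[Ω] Ω, h a ≠ 0 → ∃ s : D, h s ≠ 0 ∧ s * y = 0 := by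
    intro h hha
    obtain ⟨N, t, g, hN, htN, hge, hh⟩ := exists_torsion_mul E π e he hε hπ hfac (toConv h)
    have hτ : ∀ n : ℕ, 0 < n → ∃ j : ℕ, π (transl t.ofConv a) ^ j * π (transl t.ofConv y) ∈
        SGA3b.torsionIdeal Ω Q n := by
      intro n hn
      obtain ⟨j, hj⟩ := hay (N * n) (Nat.mul_pos hN hn)
      refine ⟨j, ?_⟩
      have h1 : transl t.ofConv (a ^ j * y) ∈ SGA3b.torsionIdeal Ω D (N * n) :=
        transl_mem_torsionIdeal t (N * n) (by rw [pow_mul, htN, one_pow]) _ hj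
      have h2 := torsionIdeal_mul_le N n h1
      have h3 := map_mem_torsionIdeal π n _ h2
      rwa [map_mul, map_pow, map_mul, map_pow] at h3
    obtain ⟨j, hj⟩ := hDQ (π (transl t.ofConv a)) (π (transl t.ofConv y)) hτ
    have h4 : (1 - e) * ((transl t.ofConv a) ^ j * transl t.ofConv y) = 0 :=
      hker _ (by rw [map_mul, map_pow]; exact hj)
    have hg : ∀ c : D, g.ofConv (transl t.ofConv c) = h c := by
      intro c
      rw [apply_transl]
      change (t * g).ofConv c = h c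
      rw [← hh]
    refine ⟨transl (t⁻¹).ofConv ((1 - e) * (transl t.ofConv a) ^ j), ?_, ?_⟩
    · rw [← hg, transl_transl_inv, map_mul, map_sub, map_one, hge, sub_zero, one_mul, map_pow, hg]
      exact pow_ne_zero j hha
    · have hy : transl (t⁻¹).ofConv (transl t.ofConv y) = y := transl_inv_transl t y
      calc transl (t⁻¹).ofConv ((1 - e) * (transl t.ofConv a) ^ j) * y
          = transl (t⁻¹).ofConv ((1 - e) * (transl t.ofConv a) ^ j) *
              transl (t⁻¹).ofConv (transl t.ofConv y) := by rw [hy]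
        _ = transl (t⁻¹).ofConv ((1 - e) * ((transl t.ofConv a) ^ j * transl t.ofConv y)) := by
            rw [← map_mul, mul_assoc]
        _ = 0 := by rw [h4, map_zero]
  -- the Jacobson property
  let I : Ideal D := (Submodule.span D {y}).annihilator
  have hrad : a ∈ I.radical := by
    rw [Ideal.radical_eq_jacobson, Ideal.jacobson, Ideal.mem_sInf]
    rintro n ⟨hIn, hn⟩
    haveI := hn
    obtain ⟨h, hh⟩ := exists_point_of_isMaximal (Ω := Ω) n
    by_contra han
    have hha : h a ≠ 0 := fun h0 => han ((hh a).mp h0)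
    obtain ⟨s, hs, hsy⟩ := hB h hha
    have hsI : s ∈ I := by
      rw [Submodule.mem_annihilator_span_singleton]
      exact hsy
    exact hs ((hh s).mpr (hIn hsI))
  obtain ⟨j, hj⟩ := hrad
  refine ⟨j, ?_⟩
  have := (Submodule.mem_annihilator_span_singleton y (a ^ j)).mp hj
  exact this

end density

end Groth.Agent.H15.MTT
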