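import Mathlib
import Groth.Agent.Lead.RegularLocal2
import Groth.Agent.H29.CM

/-!
# Length of the quotient of a regular local ring by norms of a weakly admissible system of parameters

If `y_i = a * b` inside a system of parameters of a Cohen–Macaulay local ring, the colength is additive.
Expanding all the norms `∏ σ • u i` gives `g ^ n` summands, each of length at least one.
-/

set_option linter.style.haveILetI false
set_option linter.unusedSectionVars false

namespace Groth.Agent.H15.NormLen

universe u v

open IsLocalRing RingTheory.Sequence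

section Additive

variable {A : Type u} [CommRing A]

/-- Additivity of colength: if `a` is a nonzerodivisor modulo `J`, then
`ℓ(A/(J + ab)) = ℓ(A/(J + b)) + ℓ(A/(J + a))`. -/
theorem length_sup_span_mul (J : Ideal A) (a b : A) (ha : ∀ z, a * z ∈ J → z ∈ J) :
    Module.length A (A ⧸ (J ⊔ Ideal.span {a * b})) =
      Module.length A (A ⧸ (J ⊔ Ideal.span {b})) + Module.length A (A ⧸ (J ⊔ Ideal.span {a})) := by
  have h1 : J ⊔ Ideal.span {b} ≤
      Submodule.comap (LinearMap.mulLeft A a) (J ⊔ Ideal.span {a * b}) := by
    intro x hx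
    rw [Submodule.mem_comap, LinearMap.mulLeft_apply]
    obtain ⟨j, hj, c, hc, rfl⟩ := Submodule.mem_sup.mp hx
    obtain ⟨t, rfl⟩ := Ideal.mem_span_singleton'.mp hc
    have : a * (j + t * b) = a * j + t * (a * b) := by ring
    rw [this]
    exact Submodule.add_mem_sup (J.mul_mem_left _ hj)
      (Ideal.mul_mem_left _ _ (Ideal.mem_span_singleton_self _))
  have h2 : J ⊔ Ideal.span {a * b} ≤
      Submodule.comap (LinearMap.id : A →ₗ[A] A) (J ⊔ Ideal.span {a}) := by
    rw [Submodule.comap_id]
    apply sup_le le_sup_left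
    rw [Ideal.span_singleton_le_iff_mem]
    exact Ideal.mem_sup_right (Ideal.mul_mem_right _ _ (Ideal.mem_span_singleton_self a))
  let f := Submodule.mapQ _ _ (LinearMap.mulLeft A a) h1
  let g := Submodule.mapQ _ _ LinearMap.id h2
  refine Module.length_eq_add_of_exact f g ?_ ?_ ?_
  · rw [injective_iff_map_eq_zero]
    intro x hx
    obtain ⟨z, rfl⟩ := Submodule.Quotient.mk_surjective _ x
    rw [Submodule.mapQ_apply, Submodule.Quotient.mk_eq_zero, LinearMap.mulLeft_apply] at hx
    rw [Submodule.Quotient.mk_eq_zero]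
    obtain ⟨j, hj, c, hc, hsum⟩ := Submodule.mem_sup.mp hx
    obtain ⟨t, rfl⟩ := Ideal.mem_span_singleton'.mp hc
    have hmem : a * (z - t * b) ∈ J := by
      have : a * (z - t * b) = j := by linear_combination (-1 : A) * hsum
      rw [this]; exact hj
    have hz := ha _ hmem
    have : z = (z - t * b) + t * b := by ring
    rw [this]
    exact Submodule.add_mem_sup hz (Ideal.mul_mem_left _ _ (Ideal.mem_span_singleton_self _))
  · intro x
    obtain ⟨z, rfl⟩ := Submodule.Quotient.mk_surjective _ x
    exact ⟨Submodule.Quotient.mk z, by simp [g]⟩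
  · intro x
    obtain ⟨z, rfl⟩ := Submodule.Quotient.mk_surjective _ x
    constructor
    · intro hx
      rw [Submodule.mapQ_apply, Submodule.Quotient.mk_eq_zero, LinearMap.id_apply] at hx
      obtain ⟨j, hj, c, hc, rfl⟩ := Submodule.mem_sup.mp hx
      obtain ⟨t, rfl⟩ := Ideal.mem_span_singleton'.mp hc
      refine ⟨Submodule.Quotient.mk t, ?_⟩
      rw [Submodule.mapQ_apply, LinearMap.mulLeft_apply, Submodule.Quotient.eq]
      have : a * t - (j + t * a) = -j := by ring
      rw [this]
      exact Ideal.mem_sup_left (J.neg_mem hj)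
    · rintro ⟨y, hy⟩
      obtain ⟨t, rfl⟩ := Submodule.Quotient.mk_surjective _ y
      rw [← hy, Submodule.mapQ_apply, Submodule.mapQ_apply, Submodule.Quotient.mk_eq_zero,
        LinearMap.id_apply, LinearMap.mulLeft_apply]
      exact Ideal.mem_sup_right (Ideal.mul_mem_right _ _ (Ideal.mem_span_singleton_self a))

lemma le_radical_sup_span_mul (J : Ideal A) (a b : A) (m : Ideal A)
    (ha : m ≤ (J ⊔ Ideal.span {a}).radical) (hb : m ≤ (J ⊔ Ideal.span {b}).radical) :
    m ≤ (J ⊔ Ideal.span {a * b}).radical := by
  have h : (J ⊔ Ideal.span {a}) * (J ⊔ Ideal.span {b}) ≤ J ⊔ Ideal.span {a * b} := by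
    rw [Ideal.mul_le]
    intro r hr s hs
    obtain ⟨j1, hj1, c1, hc1, rfl⟩ := Submodule.mem_sup.mp hr
    obtain ⟨j2, hj2, c2, hc2, rfl⟩ := Submodule.mem_sup.mp hs
    obtain ⟨t1, rfl⟩ := Ideal.mem_span_singleton'.mp hc1
    obtain ⟨t2, rfl⟩ := Ideal.mem_span_singleton'.mp hc2
    have : (j1 + t1 * a) * (j2 + t2 * b) =
        (j1 * (j2 + t2 * b) + t1 * a * j2) + (t1 * t2) * (a * b) := by ring
    rw [this]
    exact Submodule.add_mem_sup (J.add_mem (J.mul_mem_right _ hj1) (J.mul_mem_left _ hj2))
      (Ideal.mul_mem_left _ _ (Ideal.mem_span_singleton_self _))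
  calc m ≤ (J ⊔ Ideal.span {a}).radical ⊓ (J ⊔ Ideal.span {b}).radical := le_inf ha hb
    _ = ((J ⊔ Ideal.span {a}) * (J ⊔ Ideal.span {b})).radical := (Ideal.radical_mul _ _).symm
    _ ≤ _ := Ideal.radical_mono h

end Additive

section Sop

variable {A : Type u} [CommRing A]

/-- The ideal generated by the entries of `y` other than the `i`-th. -/
def JJ {n : ℕ} (y : Fin n → A) (i : Fin n) : Ideal A := Ideal.span (y '' {j | j ≠ i})

lemma span_range_eq {n : ℕ} (y : Fin n → A) (i : Fin n) :
    Ideal.span (Set.range y) = JJ y i ⊔ Ideal.span {y i} := by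
  unfold JJ
  rw [← Ideal.span_union]
  congr 1
  ext x
  constructor
  · rintro ⟨j, rfl⟩
    by_cases h : j = i
    · right; rw [h]; rfl
    · left; exact ⟨j, h, rfl⟩
  · rintro (⟨j, -, rfl⟩ | h)
    · exact ⟨j, rfl⟩
    · rw [Set.mem_singleton_iff] at h; exact ⟨i, h.symm⟩

lemma JJ_update {n : ℕ} (y : Fin n → A) (i : Fin n) (c : A) :
    JJ (Function.update y i c) i = JJ y i := by
  unfold JJ
  congr 1
  ext x
  constructor
  · rintro ⟨j, hj, rfl⟩; exact ⟨j, hj, by rw [Function.update_of_ne hj]⟩
  · rintro ⟨j, hj, rfl⟩; exact ⟨j, hj, by rw [Function.update_of_ne hj]⟩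

lemma span_range_update {n : ℕ} (y : Fin n → A) (i : Fin n) (c : A) :
    Ideal.span (Set.range (Function.update y i c)) = JJ y i ⊔ Ideal.span {c} := by
  rw [span_range_eq _ i, JJ_update, Function.update_self]

variable [IsLocalRing A]

/-- A family of elements of the maximal ideal generating an ideal primary to it. -/
def IsSop {n : ℕ} (y : Fin n → A) : Prop :=
  (∀ i, y i ∈ maximalIdeal A) ∧ maximalIdeal A ≤ (Ideal.span (Set.range y)).radical

lemma IsSop.span_le {n : ℕ} {y : Fin n → A} (hy : IsSop y) :
    Ideal.span (Set.range y) ≤ maximalIdeal A := by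
  rw [Ideal.span_le]
  rintro _ ⟨i, rfl⟩
  exact hy.1 i

lemma IsSop.one_le_length {n : ℕ} {y : Fin n → A} (hy : IsSop y) :
    1 ≤ Module.length A (A ⧸ Ideal.span (Set.range y)) := by
  have hne : Ideal.span (Set.range y) ≠ ⊤ := fun h =>
    (maximalIdeal.isMaximal A).ne_top (top_le_iff.mp (h ▸ hy.span_le))
  have : Nontrivial (A ⧸ Ideal.span (Set.range y)) := Ideal.Quotient.nontrivial_iff.mpr hne
  rw [Order.one_le_iff_pos, Module.length_pos_iff]
  exact this

variable [IsNoetherianRing A]

lemma ringKrullDim_quotient_eq_zero (I : Ideal A) (hI : I ≠ ⊤)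
    (hrad : maximalIdeal A ≤ I.radical) : ringKrullDim (A ⧸ I) = 0 := by
  have hnt : Nontrivial (A ⧸ I) := Ideal.Quotient.nontrivial_iff.mpr hI
  have hle : Ring.KrullDimLE 0 (A ⧸ I) := by
    apply Ring.KrullDimLE.mk₀
    intro P hP
    have hc : (P.comap (Ideal.Quotient.mk I)).IsPrime := Ideal.comap_isPrime _ _
    have hIle : I ≤ P.comap (Ideal.Quotient.mk I) := by
      intro x hx
      rw [Ideal.mem_comap, Ideal.Quotient.eq_zero_iff_mem.mpr hx]
      exact P.zero_mem
    have hm : maximalIdeal A ≤ P.comap (Ideal.Quotient.mk I) :=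
      hrad.trans (hc.radical_le_iff.mpr hIle)
    have heq : P.comap (Ideal.Quotient.mk I) = maximalIdeal A :=
      le_antisymm (IsLocalRing.le_maximalIdeal hc.ne_top) hm
    have hmax : (P.comap (Ideal.Quotient.mk I)).IsMaximal := heq ▸ maximalIdeal.isMaximal A
    have hmc := Ideal.map_comap_of_surjective _ Ideal.Quotient.mk_surjective P
    rcases Ideal.map_eq_top_or_isMaximal_of_surjective (Ideal.Quotient.mk I)
      Ideal.Quotient.mk_surjective hmax with h | h
    · rw [hmc] at h
      exact absurd h hP.ne_top
    · rwa [hmc] at h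
  apply le_antisymm
  · exact Ring.krullDimLE_iff.mp hle
  · exact ringKrullDim_nonneg_of_nontrivial

/-- In a Cohen–Macaulay local ring of dimension `n`, each member of a system of parameters with `n`
elements is a nonzerodivisor modulo the others. -/
theorem regular_mod (hCM : LocCoh.IsCohenMacaulayModule A A) {n : ℕ} (hn : ringKrullDim A = n)
    (y : Fin n → A) (hy : IsSop y) (i : Fin n) :
    ∀ z, y i * z ∈ JJ y i → z ∈ JJ y i := by
  classical
  let l : List A := ((List.finRange n).erase i).map y
  have hlset : {x | x ∈ l} = y '' {j | j ≠ i} := by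
    ext x
    simp only [l, List.mem_map, (List.nodup_finRange n).mem_erase_iff, List.mem_finRange, and_true,
      Set.mem_ofPred_eq, Set.mem_image]
  have hlJ : Ideal.ofList l = JJ y i := by
    unfold JJ Ideal.ofList
    rw [hlset]
  have hllen : l.length + 1 = n := by
    simp only [l, List.length_map]
    rw [List.length_erase_of_mem (List.mem_finRange i), List.length_finRange]
    have := i.pos
    omega
  let xs := l ++ [y i]
  have hxsI : Ideal.ofList xs = Ideal.span (Set.range y) := by
    rw [Ideal.ofList_append, Ideal.ofList_singleton, hlJ, span_range_eq y i]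
  have hxsm : ∀ x ∈ xs, x ∈ maximalIdeal A := by
    intro x hx
    rw [List.mem_append] at hx
    rcases hx with hx | hx
    · have : x ∈ {x | x ∈ l} := hx
      rw [hlset] at this
      obtain ⟨j, -, rfl⟩ := this
      exact hy.1 j
    · rw [List.mem_singleton] at hx
      rw [hx]; exact hy.1 i
  have hne : Ideal.span (Set.range y) ≠ ⊤ := fun h =>
    (maximalIdeal.isMaximal A).ne_top (top_le_iff.mp (h ▸ hy.span_le))
  have hsmul : (Ideal.ofList xs • ⊤ : Submodule A A) = Ideal.span (Set.range y) := by
    rw [smul_eq_mul, Ideal.mul_top, hxsI]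
  have hdim : Module.supportDim A (A ⧸ (Ideal.ofList xs • ⊤ : Submodule A A)) + xs.length =
      Module.supportDim A A := by
    rw [Module.supportDim_eq_of_equiv (Submodule.quotEquivOfEq _ _ hsmul),
      Module.supportDim_quotient_eq_ringKrullDim, ringKrullDim_quotient_eq_zero _ hne hy.2,
      Module.supportDim_self_eq_ringKrullDim, hn]
    simp only [xs, List.length_append, List.length_singleton]
    rw [hllen]
    simp
  have hreg := Groth.Agent.H29.CML.isWeaklyRegular_of_supportDim_eq xs A hCM hxsm hdim
  have hreg2 := ((isWeaklyRegular_append_iff A l [y i]).mp hreg).2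
  have hreg3 := ((isWeaklyRegular_cons_iff _ (y i) []).mp hreg2).1
  intro z hz
  have hsm : (Ideal.ofList l • ⊤ : Submodule A A) = JJ y i := by
    rw [smul_eq_mul, Ideal.mul_top, hlJ]
  have h0 : (y i) • (Submodule.Quotient.mk z : A ⧸ (Ideal.ofList l • ⊤ : Submodule A A)) =
      (y i) • (0 : A ⧸ (Ideal.ofList l • ⊤ : Submodule A A)) := by
    rw [smul_zero, ← Submodule.Quotient.mk_smul, Submodule.Quotient.mk_eq_zero, hsm]
    exact hz
  have h1 := hreg3 h0
  rw [Submodule.Quotient.mk_eq_zero, hsm] at h1
  exact h1

/-- Expanding a product in one slot of a system of parameters. -/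
theorem sum_length_le_prod (hCM : LocCoh.IsCohenMacaulayModule A A) {n : ℕ}
    (hn : ringKrullDim A = n) (y : Fin n → A) (i : Fin n) {ι : Type*} (c : ι → A) (S : Finset ι)
    (hS : ∀ s ∈ S, IsSop (Function.update y i (c s))) :
    ∑ s ∈ S, Module.length A (A ⧸ (JJ y i ⊔ Ideal.span {c s})) ≤
        Module.length A (A ⧸ (JJ y i ⊔ Ideal.span {∏ s ∈ S, c s})) ∧
      maximalIdeal A ≤ (JJ y i ⊔ Ideal.span {∏ s ∈ S, c s}).radical := by
  classical
  induction S using Finset.induction_on with
  | empty =>
    refine ⟨by simp, ?_⟩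
    rw [Finset.prod_empty, Ideal.span_singleton_one, sup_top_eq, Ideal.radical_top]
    exact le_top
  | insert s S hs ih =>
    have ih' := ih (fun t ht => hS t (Finset.mem_insert_of_mem ht))
    have hsop := hS s (Finset.mem_insert_self s S)
    have hreg : ∀ z, c s * z ∈ JJ y i → z ∈ JJ y i := by
      have := regular_mod hCM hn (Function.update y i (c s)) hsop i
      rw [JJ_update, Function.update_self] at this
      exact this
    have hrad : maximalIdeal A ≤ (JJ y i ⊔ Ideal.span {c s}).radical := by
      have := hsop.2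
      rwa [span_range_update] at this
    rw [Finset.prod_insert hs, Finset.sum_insert hs]
    refine ⟨?_, le_radical_sup_span_mul _ _ _ _ hrad ih'.2⟩
    rw [length_sup_span_mul _ _ _ hreg, add_comm]
    exact add_le_add_left ih'.1 _

end Sop

section Main

variable (A : Type u) [CommRing A] [IsRegularLocalRing A]

theorem isCM_self (n : ℕ) (hn : ringKrullDim A = n) (u : Fin n → A)
    (hu : Ideal.span (Set.range u) = maximalIdeal A) : LocCoh.IsCohenMacaulayModule A A := by
  unfold LocCoh.IsCohenMacaulayModule
  apply le_antisymm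
  · rw [Module.supportDim_self_eq_ringKrullDim, hn]
    have hreg := Groth.Agent.Lead.RLR.isRegular_ofFn A n hn u hu
    have := Groth.Agent.H15.le_idealDepth (maximalIdeal A) A hreg.toIsWeaklyRegular (by
      intro r hr
      rw [List.mem_ofFn] at hr
      obtain ⟨i, rfl⟩ := hr
      rw [← hu]
      exact Ideal.subset_span ⟨i, rfl⟩)
    rw [List.length_ofFn] at this
    unfold LocCoh.depth
    exact_mod_cast this
  · exact Groth.Agent.H29.CML.depth_le_supportDim A

variable (G : Type v) [Group G] [Fintype G] [MulSemiringAction G A]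

omit [IsRegularLocalRing A] in
lemma smul_mem_maximalIdeal [IsLocalRing A] (σ : G) (a : A) (ha : a ∈ maximalIdeal A) :
    σ • a ∈ maximalIdeal A := by
  rw [mem_maximalIdeal, mem_nonunits_iff] at ha ⊢
  intro hunit
  apply ha
  have := hunit.map (MulSemiringAction.toRingHom G A σ⁻¹)
  rwa [MulSemiringAction.toRingHom_apply, inv_smul_smul] at this

theorem main (n : ℕ) (hn : ringKrullDim A = n) (u : Fin n → A)
    (hu : Ideal.span (Set.range u) = maximalIdeal A)
    (hwa : ∀ τ : Fin n → G,
      maximalIdeal A ≤ (Ideal.span (Set.range fun i => τ i • u i)).radical) :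
    ((Fintype.card G ^ n : ℕ) : ℕ∞) ≤
      Module.length A (A ⧸ Ideal.span (Set.range fun i => ∏ σ : G, σ • u i)) := by
  classical
  have hCM := isCM_self A n hn u hu
  have hum : ∀ i, u i ∈ maximalIdeal A := fun i => by
    rw [← hu]; exact Ideal.subset_span ⟨i, rfl⟩
  let x : Fin n → A := fun i => ∏ σ : G, σ • u i
  have hxm : ∀ i, x i ∈ maximalIdeal A := by
    intro i
    have hdvd : (1 : G) • u i ∣ x i := Finset.dvd_prod_of_mem (fun σ : G => σ • u i) (Finset.mem_univ 1)
    exact Ideal.mem_of_dvd _ hdvd (smul_mem_maximalIdeal A G 1 (u i) (hum i))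
  let Y : Finset (Fin n) → (Fin n → G) → Fin n → A := fun S τ i =>
    if i ∈ S then x i else τ i • u i
  have key : ∀ S : Finset (Fin n), ∀ τ : Fin n → G, IsSop (Y S τ) ∧
      ((Fintype.card G ^ S.card : ℕ) : ℕ∞) ≤
        Module.length A (A ⧸ Ideal.span (Set.range (Y S τ))) := by
    intro S
    induction S using Finset.induction_on with
    | empty =>
      intro τ
      have hY : Y ∅ τ = fun i => τ i • u i := by
        funext i
        simp [Y]
      have hsop : IsSop (Y ∅ τ) := by
        rw [hY]
        exact ⟨fun i => smul_mem_maximalIdeal A G (τ i) (u i) (hum i), hwa τ⟩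
      refine ⟨hsop, ?_⟩
      simpa using hsop.one_le_length
    | insert i S hi ih =>
      intro τ
      have hupd : ∀ σ : G, Function.update (Y S τ) i (σ • u i) = Y S (Function.update τ i σ) := by
        intro σ
        funext j
        by_cases hj : j = i
        · subst hj
          simp [Y, hi]
        · rw [Function.update_of_ne hj]
          simp only [Y]
          rw [Function.update_of_ne hj]
      have hins : Y (insert i S) τ = Function.update (Y S τ) i (x i) := by
        funext j
        by_cases hj : j = i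
        · subst hj
          simp [Y]
        · rw [Function.update_of_ne hj]
          simp only [Y, Finset.mem_insert, hj, false_or]
      have hsopσ : ∀ σ ∈ (Finset.univ : Finset G),
          IsSop (Function.update (Y S τ) i ((fun σ : G => σ • u i) σ)) := by
        intro σ _
        beta_reduce
        rw [hupd σ]
        exact (ih _).1
      obtain ⟨hsum, hrad⟩ := sum_length_le_prod hCM hn (Y S τ) i (fun σ : G => σ • u i)
        Finset.univ hsopσ
      have hspan : Ideal.span (Set.range (Y (insert i S) τ)) =
          JJ (Y S τ) i ⊔ Ideal.span {∏ σ : G, σ • u i} := by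
        rw [hins, span_range_update]
      constructor
      · refine ⟨?_, ?_⟩
        · intro j
          by_cases hj : j ∈ insert i S
          · simp only [Y, if_pos hj]; exact hxm j
          · simp only [Y, if_neg hj]; exact smul_mem_maximalIdeal A G _ _ (hum j)
        · rw [hspan]; exact hrad
      · rw [hspan]
        refine le_trans ?_ hsum
        have hterm : ∀ σ ∈ (Finset.univ : Finset G), ((Fintype.card G ^ S.card : ℕ) : ℕ∞) ≤
            Module.length A (A ⧸ (JJ (Y S τ) i ⊔ Ideal.span {σ • u i})) := by
          intro σ _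
          have := (ih (Function.update τ i σ)).2
          rwa [← hupd σ, span_range_update] at this
        calc ((Fintype.card G ^ (insert i S).card : ℕ) : ℕ∞)
            = ∑ _σ ∈ (Finset.univ : Finset G), ((Fintype.card G ^ S.card : ℕ) : ℕ∞) := by
              rw [Finset.card_insert_of_notMem hi, Finset.sum_const, Finset.card_univ, pow_succ]
              push_cast
              rw [nsmul_eq_mul, mul_comm]
          _ ≤ _ := Finset.sum_le_sum hterm
  have hfin := (key Finset.univ (fun _ => 1)).2
  have hYu : Y Finset.univ (fun _ => 1) = fun i => ∏ σ : G, σ • u i := by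
    funext i
    simp [Y, x]
  rw [hYu, Finset.card_univ, Fintype.card_fin] at hfin
  exact hfin

end Main

end Groth.Agent.H15.NormLen
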