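import Mathlib
import Groth.Prelude.Def_LieHopf
import Groth.Agent.H40.SubComod
import Groth.Agent.H82.Chev

/-! The `p`-operation on the Lie algebra of a unipotent group in characteristic `p` is nilpotent
(Hopf form): Frobenius in the convolution algebra + flag vanishing. -/

set_option autoImplicit false
universe u

open TensorProduct HopfRep WithConv

namespace Groth.Agent.H15.PLie

section Conv

variable {k : Type u} [CommRing k] {A : Type u} [CommRing A] [Bialgebra k A]

/-- pullback of a functional along the multiplication `A ⊗ A → A` -/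
noncomputable def Phi (f : WithConv (A →ₗ[k] k)) : WithConv (A ⊗[k] A →ₗ[k] k) :=
  toConv (f.ofConv ∘ₗ LinearMap.mul' k A)

lemma Phi_apply (f : WithConv (A →ₗ[k] k)) (a b : A) : Phi f (a ⊗ₜ[k] b) = f (a * b) := rfl

lemma Phi_mul (f g : WithConv (A →ₗ[k] k)) : Phi (f * g) = Phi f * Phi g := by
  have h := LinearMap.convMul_comp_coalgHom_distrib f g (Bialgebra.mulCoalgHom k A)
  apply WithConv.ofConv_injective
  simpa [Phi] using h

lemma Phi_one : Phi (1 : WithConv (A →ₗ[k] k)) = 1 := by
  apply WithConv.ofConv_injective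
  apply TensorProduct.ext'
  intro a b
  simp [Phi, LinearMap.convOne_def, mul_comm]

lemma Phi_pow (f : WithConv (A →ₗ[k] k)) (n : ℕ) : Phi (f ^ n) = Phi f ^ n := by
  induction n with
  | zero => simp [Phi_one]
  | succ n ih => rw [pow_succ, pow_succ, Phi_mul, ih]

/-- external product of two functionals -/
noncomputable def box (f g : WithConv (A →ₗ[k] k)) : WithConv (A ⊗[k] A →ₗ[k] k) :=
  toConv (LinearMap.mul' k k ∘ₗ TensorProduct.map f.ofConv g.ofConv)

lemma box_apply (f g : WithConv (A →ₗ[k] k)) (a b : A) : box f g (a ⊗ₜ[k] b) = f a * g b := rfl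

lemma box_mul (f g f' g' : WithConv (A →ₗ[k] k)) :
    box f g * box f' g' = box (f * f') (g * g') := by
  have h1 := TensorProduct.map_convMul_map (R := k) (f := f) (h := f') (g := g) (k := g')
  have h2 := LinearMap.algHom_comp_convMul_distrib (R := k) (Algebra.TensorProduct.lmul' k (S := k))
    (toConv (TensorProduct.map f.ofConv g.ofConv)) (toConv (TensorProduct.map f'.ofConv g'.ofConv))
  rw [h1] at h2
  apply WithConv.ofConv_injective
  exact h2.symm

lemma box_add_left (f f' g : WithConv (A →ₗ[k] k)) : box (f + f') g = box f g + box f' g := by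
  apply WithConv.ofConv_injective
  apply TensorProduct.ext'
  intro a b
  simp [box, add_mul]

lemma box_pow (f g : WithConv (A →ₗ[k] k)) (n : ℕ) : box f g ^ n = box (f ^ n) (g ^ n) := by
  induction n with
  | zero =>
    apply WithConv.ofConv_injective
    apply TensorProduct.ext'
    intro a b
    simp [box, LinearMap.convOne_def, mul_comm]
  | succ n ih => rw [pow_succ, pow_succ, pow_succ, ih, box_mul]

/-- `f` is an `ε`-derivation (in functional form) -/
def IsEpsDer (f : WithConv (A →ₗ[k] k)) : Prop := Phi f = box 1 f + box f 1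

lemma IsEpsDer.apply_mul {f : WithConv (A →ₗ[k] k)} (hf : IsEpsDer f) (a b : A) :
    f (a * b) = Coalgebra.counit (R := k) a * f b + f a * Coalgebra.counit (R := k) b := by
  have h := congrArg (fun F : WithConv (A ⊗[k] A →ₗ[k] k) => F (a ⊗ₜ[k] b)) hf
  simpa [Phi_apply, box_apply] using h

lemma isEpsDer_of_apply_mul {f : WithConv (A →ₗ[k] k)}
    (hf : ∀ a b : A, f (a * b) =
      Coalgebra.counit (R := k) a * f b + f a * Coalgebra.counit (R := k) b) : IsEpsDer f := by
  apply WithConv.ofConv_injective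
  apply TensorProduct.ext'
  intro a b
  have := hf a b
  simpa [Phi, box] using this

lemma IsEpsDer.apply_one {f : WithConv (A →ₗ[k] k)} (hf : IsEpsDer f) : f 1 = 0 := by
  have h := hf.apply_mul 1 1
  simp only [mul_one, Bialgebra.counit_one, one_mul] at h
  have : f 1 + f 1 = f 1 + 0 := by rw [add_zero]; exact h.symm
  exact add_left_cancel this

/-- an `ε`-derivation vanishing on algebra generators vanishes -/
lemma IsEpsDer.eq_zero_of_adjoin {f : WithConv (A →ₗ[k] k)} (hf : IsEpsDer f) (S : Set A)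
    (hS : Algebra.adjoin k S = ⊤) (h0 : ∀ s ∈ S, f s = 0) : f = 0 := by
  have key : ∀ x ∈ Algebra.adjoin k S, f x = 0 := by
    intro x hx
    induction hx using Algebra.adjoin_induction with
    | mem x hx => exact h0 x hx
    | algebraMap r =>
      rw [Algebra.algebraMap_eq_smul_one]
      have : f (r • (1 : A)) = r • f 1 := map_smul f.ofConv r 1
      rw [this, hf.apply_one, smul_zero]
    | add x y _ _ hx hy =>
      have : f (x + y) = f x + f y := map_add f.ofConv x y
      rw [this, hx, hy, add_zero]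
    | mul x y _ _ hx hy => rw [hf.apply_mul, hx, hy, mul_zero, zero_mul, add_zero]
  apply WithConv.ofConv_injective
  ext x
  exact key x (hS ▸ Algebra.mem_top)

lemma commute_box (f : WithConv (A →ₗ[k] k)) : Commute (box 1 f) (box f 1) := by
  show box 1 f * box f 1 = box f 1 * box 1 f
  rw [box_mul, box_mul, one_mul, mul_one]

lemma algebraMap_injective [Nontrivial k] :
    Function.Injective (algebraMap k (WithConv (A ⊗[k] A →ₗ[k] k))) := by
  intro c d h
  have h1 := congrArg (fun F : WithConv (A ⊗[k] A →ₗ[k] k) => F ((1 : A) ⊗ₜ[k] (1 : A))) h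
  simpa [LinearMap.convAlgebraMap_apply] using h1

/-- Frobenius: the `p`-th convolution power of an `ε`-derivation is an `ε`-derivation. -/
lemma IsEpsDer.pow_char [Nontrivial k] (p : ℕ) [Fact p.Prime] [CharP k p]
    {f : WithConv (A →ₗ[k] k)} (hf : IsEpsDer f) : IsEpsDer (f ^ p) := by
  haveI : CharP (WithConv (A ⊗[k] A →ₗ[k] k)) p :=
    charP_of_injective_algebraMap algebraMap_injective p
  unfold IsEpsDer at hf ⊢
  rw [Phi_pow, hf, add_pow_char_of_commute _ (commute_box f), box_pow, box_pow, one_pow]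

lemma IsEpsDer.pow_char_pow [Nontrivial k] (p : ℕ) [Fact p.Prime] [CharP k p]
    {f : WithConv (A →ₗ[k] k)} (hf : IsEpsDer f) (n : ℕ) : IsEpsDer (f ^ (p ^ n)) := by
  induction n with
  | zero => simpa using hf
  | succ n ih =>
    rw [pow_succ, pow_mul]
    exact ih.pow_char p

end Conv

section Vanish

open Groth.Agent.H40

variable {k : Type u} [Field k] {A : Type u} [CommRing A] [Bialgebra k A]

/-- convolution with a functional vanishing on a subcomodule (on the left) vanishes there -/
lemma conv_vanish_sub (V₀ : Submodule k A) (hV₀ : IsSubcomod (k := k) (A := A) V₀)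
    (g h : WithConv (A →ₗ[k] k)) (hg : ∀ v ∈ V₀, g v = 0) : ∀ v ∈ V₀, (g * h) v = 0 := by
  intro v hv
  have h1 : Coalgebra.comul (R := k) (A := A) v =
      V₀.subtype.rTensor A (subCoact V₀ hV₀ ⟨v, hv⟩) :=
    (subtype_rTensor_subCoact V₀ hV₀ ⟨v, hv⟩).symm
  have h2 : (TensorProduct.map g.ofConv h.ofConv) ∘ₗ (V₀.subtype.rTensor A) = 0 := by
    apply TensorProduct.ext'
    intro w a
    have : g.ofConv (w : A) = 0 := hg w w.2
    simp [this]
  rw [LinearMap.convMul_apply, h1]
  have h3 := LinearMap.congr_fun h2 (subCoact V₀ hV₀ ⟨v, hv⟩)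
  simp only [LinearMap.comp_apply] at h3
  rw [h3]
  simp

/-- one step up the flag -/
lemma conv_vanish_flag (V₀ : Submodule k A) (hV₀ : IsSubcomod (k := k) (A := A) V₀)
    (F G : Submodule k V₀)
    (hFG : ∀ v ∈ G, subCoact V₀ hV₀ v - v ⊗ₜ[k] (1 : A) ∈ LinearMap.range (F.subtype.rTensor A))
    (g D : WithConv (A →ₗ[k] k)) (hD : D 1 = 0) (hg : ∀ w ∈ F, g (w : A) = 0) :
    ∀ v ∈ G, (g * D) (v : A) = 0 := by
  intro v hv
  obtain ⟨y, hy⟩ := hFG v hv
  have h1 : Coalgebra.comul (R := k) (A := A) (v : A) =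
      V₀.subtype.rTensor A (subCoact V₀ hV₀ v) :=
    (subtype_rTensor_subCoact V₀ hV₀ v).symm
  have h0 : subCoact V₀ hV₀ v = v ⊗ₜ[k] (1 : A) + F.subtype.rTensor A y := by
    rw [hy]; abel
  have h2 : (TensorProduct.map g.ofConv D.ofConv) ∘ₗ (V₀.subtype.rTensor A) ∘ₗ
      (F.subtype.rTensor A) = 0 := by
    apply TensorProduct.ext'
    intro w a
    have : g.ofConv ((w : V₀) : A) = 0 := hg w w.2
    simp [this]
  have h3 := LinearMap.congr_fun h2 y
  simp only [LinearMap.comp_apply] at h3
  have hD' : D.ofConv 1 = 0 := hD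
  rw [LinearMap.convMul_apply, h1, h0, map_add, map_add, h3]
  simp [hD']

end Vanish

section Main

open Groth.Agent.H40

variable {k : Type u} [Field k] {A : Type u} [CommRing A] [HopfAlgebra k A]

lemma toConv_convPow (D : A →ₗ[k] k) (n : ℕ) :
    toConv (LieHopf.convPow D n) = (toConv D) ^ n := by
  induction n with
  | zero =>
    apply WithConv.ofConv_injective
    ext a
    simp [LieHopf.convPow, LinearMap.convOne_def]
  | succ n ih =>
    rw [pow_succ, ← ih]
    rfl

theorem main (p : ℕ) [Fact p.Prime] [CharP k p] [Algebra.FiniteType k A]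
    (hU : HopfRep.IsUnipotent k A) (D : LieHopf.Lie k A) :
    ∃ n : ℕ, 0 < n ∧
      LieHopf.convPow (D.toLinearMap.restrictScalars k ∘ₗ LinearMap.id) (p ^ n) = 0 := by
  set d : WithConv (A →ₗ[k] k) := toConv (LieHopf.dlin D) with hd
  have hder : IsEpsDer d := by
    apply isEpsDer_of_apply_mul
    intro a b
    have := LieHopf.dlin_mul D a b
    show LieHopf.dlin D (a * b) = _
    rw [this]
    simp only [Bialgebra.counitAlgHom_apply]
    ring
  have hd1 : d 1 = 0 := hder.apply_one
  -- finite-dimensional subcomodule containing generators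
  obtain ⟨S, hS⟩ := (Algebra.FiniteType.out : (⊤ : Subalgebra k A).FG)
  obtain ⟨V₀, hV₀, hfin, hmem⟩ := Groth.Agent.H82.Chev.exists_finite_subcomod (k := k) (C := A)
    (V := A) (fun j : (S : Set A) => (j : A))
  letI c₀ : Comod k A V₀ := subComod V₀ hV₀
  obtain ⟨m, F, hmono, hF0, hFm, hFsub, htriv⟩ :=
    hasFlag_of_isUnipotent hU (Module.finrank k V₀) V₀ rfl
  -- vanishing along the flag
  have hflag : ∀ i, ∀ w ∈ F i, (d ^ i) (w : A) = 0 := by
    intro i
    induction i with
    | zero =>
      intro w hw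
      rw [hF0, Submodule.mem_bot] at hw
      subst hw
      exact map_zero (d ^ 0).ofConv
    | succ i ih =>
      intro w hw
      rw [pow_succ]
      exact conv_vanish_flag V₀ hV₀ (F i) (F (i + 1)) (htriv i) (d ^ i) d hd1 ih w hw
  have hV : ∀ N, m ≤ N → ∀ v ∈ V₀, (d ^ N) v = 0 := by
    intro N hN
    induction N, hN using Nat.le_induction with
    | base =>
      intro v hv
      exact hflag m ⟨v, hv⟩ (hFm ▸ Submodule.mem_top)
    | succ N _ ih =>
      rw [pow_succ]
      exact conv_vanish_sub V₀ hV₀ (d ^ N) d ih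
  refine ⟨m + 1, Nat.succ_pos m, ?_⟩
  have hder2 : IsEpsDer (d ^ (p ^ (m + 1))) := hder.pow_char_pow p (m + 1)
  have hle : m ≤ p ^ (m + 1) :=
    (Nat.le_succ m).trans (Nat.lt_pow_self (Fact.out : p.Prime).one_lt).le
  have hzero : d ^ (p ^ (m + 1)) = 0 := by
    apply hder2.eq_zero_of_adjoin (S : Set A) hS
    intro s hs
    exact hV _ hle s (hmem ⟨s, hs⟩)
  have := toConv_convPow (LieHopf.dlin D) (p ^ (m + 1))
  rw [← hd, hzero] at this
  exact WithConv.toConv_injective this

end Main

end Groth.Agent.H15.PLie
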