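import Groth.Prelude.Def_SGA1
import Mathlib.RingTheory.Invariant.Basic
import Mathlib.AlgebraicGeometry.Morphisms.Integral

/-!
# Local structure of quotients of schemes by finite groups (`SGA1.IsQuot`)
-/

set_option autoImplicit false
set_option linter.style.haveILetI false

universe u

open CategoryTheory AlgebraicGeometry

namespace Groth.Agent.H15.Quot

theorem id_appLE {X : Scheme.{u}} (U V : X.Opens) (e : V ≤ (𝟙 X : X ⟶ X) ⁻¹ᵁ U) :
    (𝟙 X : X ⟶ X).appLE U V e = X.presheaf.map (homOfLE e).op := by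
  rw [Scheme.Hom.appLE]
  simp only [Scheme.Hom.id_app]
  exact Category.id_comp _

variable {X Y : Scheme.{u}} {G : Type u} [Group G] {ρ : G →* Aut X} {p : X ⟶ Y}

/-- The ring endomorphism of `Γ(X, p⁻¹V)` induced by `g : G` (this is a *right* action). -/
noncomputable def sig (hp : SGA1.IsQuot ρ p) (V : Y.Opens) (g : G) :
    Γ(X, p ⁻¹ᵁ V) →+* Γ(X, p ⁻¹ᵁ V) :=
  ((ρ g).hom.appLE (p ⁻¹ᵁ V) (p ⁻¹ᵁ V) (SGA1.preimage_le_of_inv ρ p hp.inv g V)).hom

theorem sig_one (hp : SGA1.IsQuot ρ p) (V : Y.Opens) : sig hp V 1 = RingHom.id _ := by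
  ext s
  simp only [sig, map_one]
  change ((𝟙 X : X ⟶ X).appLE (p ⁻¹ᵁ V) (p ⁻¹ᵁ V) _).hom s = s
  rw [id_appLE]
  have : X.presheaf.map (homOfLE (le_refl (p ⁻¹ᵁ V))).op = 𝟙 _ := X.presheaf.map_id _
  exact congr($(this).hom s)

theorem sig_mul (hp : SGA1.IsQuot ρ p) (V : Y.Opens) (g h : G) :
    sig hp V (g * h) = (sig hp V h).comp (sig hp V g) := by
  ext s
  simp only [sig, map_mul, RingHom.comp_apply]
  have : (ρ g * ρ h).hom = (ρ h).hom ≫ (ρ g).hom := rfl
  simp only [this]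
  rw [← CommRingCat.comp_apply, Scheme.Hom.appLE_comp_appLE]

theorem sig_app (hp : SGA1.IsQuot ρ p) (V : Y.Opens) (g : G) (a : Γ(Y, V)) :
    sig hp V g ((p.app V).hom a) = (p.app V).hom a := by
  simp only [sig]
  rw [← CommRingCat.comp_apply, Scheme.Hom.app_eq_appLE, Scheme.Hom.appLE_comp_appLE]
  congr! 3
  exact hp.inv g

theorem mem_range_iff (hp : SGA1.IsQuot ρ p) (V : Y.Opens) (s : Γ(X, p ⁻¹ᵁ V)) :
    s ∈ Set.range (p.app V).hom ↔ ∀ g : G, sig hp V g s = s :=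
  hp.range_iff V s

/-- The left action of `G` on `Γ(X, p⁻¹V)`: `g • s = sig g⁻¹ s`. -/
@[reducible] noncomputable def action (hp : SGA1.IsQuot ρ p) (V : Y.Opens) :
    MulSemiringAction G Γ(X, p ⁻¹ᵁ V) where
  smul g s := sig hp V g⁻¹ s
  one_smul s := by
    change sig hp V 1⁻¹ s = s
    rw [inv_one, sig_one]; rfl
  mul_smul g h s := by
    change sig hp V (g * h)⁻¹ s = sig hp V g⁻¹ (sig hp V h⁻¹ s)
    rw [mul_inv_rev, sig_mul]; rfl
  smul_zero g := map_zero (sig hp V g⁻¹)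
  smul_add g s t := map_add (sig hp V g⁻¹) s t
  smul_one g := map_one (sig hp V g⁻¹)
  smul_mul g s t := map_mul (sig hp V g⁻¹) s t

theorem smul_def (hp : SGA1.IsQuot ρ p) (V : Y.Opens) (g : G) (s : Γ(X, p ⁻¹ᵁ V)) :
    letI := action hp V
    g • s = sig hp V g⁻¹ s := rfl

/-- The algebra structure of `Γ(X, p⁻¹V)` over `Γ(Y, V)`. -/
@[reducible] noncomputable def alg (p : X ⟶ Y) (V : Y.Opens) : Algebra Γ(Y, V) Γ(X, p ⁻¹ᵁ V) :=
  (p.app V).hom.toAlgebra

theorem smulCommClass (hp : SGA1.IsQuot ρ p) (V : Y.Opens) :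
    letI := action hp V
    letI := alg p V
    SMulCommClass G Γ(Y, V) Γ(X, p ⁻¹ᵁ V) := by
  letI := action hp V
  letI := alg p V
  refine ⟨fun g a s => ?_⟩
  change sig hp V g⁻¹ ((p.app V).hom a * s) = (p.app V).hom a * sig hp V g⁻¹ s
  rw [map_mul, sig_app]

theorem isInvariant (hp : SGA1.IsQuot ρ p) (V : Y.Opens) :
    letI := action hp V
    letI := alg p V
    Algebra.IsInvariant Γ(Y, V) Γ(X, p ⁻¹ᵁ V) G := by
  letI := action hp V
  letI := alg p V
  refine ⟨fun s hs => ?_⟩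
  have : s ∈ Set.range (p.app V).hom := by
    rw [mem_range_iff hp]
    intro g
    have := hs g⁻¹
    rwa [smul_def, inv_inv] at this
  exact this

theorem isIntegral_app [Finite G] (hp : SGA1.IsQuot ρ p) (V : Y.Opens) :
    (p.app V).hom.IsIntegral := by
  letI := action hp V
  letI := alg p V
  haveI := isInvariant hp V
  have : Algebra.IsIntegral Γ(Y, V) Γ(X, p ⁻¹ᵁ V) := Algebra.IsInvariant.isIntegral _ _ G
  exact algebraMap_isIntegral_iff.mpr this

theorem isIntegralHom [Finite G] (hp : SGA1.IsQuot ρ p) : IsIntegralHom p :=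
  { hp.affine with isIntegral_app := fun U _ => isIntegral_app hp U }

/-- Primes of `Γ(X, p⁻¹V)` with the same contraction to `Γ(Y, V)` are conjugate. -/
theorem exists_comap_sig_eq [Finite G] (hp : SGA1.IsQuot ρ p) (V : Y.Opens)
    (Q Q' : Ideal Γ(X, p ⁻¹ᵁ V)) [Q.IsPrime] [Q'.IsPrime]
    (h : Q.comap (p.app V).hom = Q'.comap (p.app V).hom) :
    ∃ g : G, Q' = Q.comap (sig hp V g) := by
  letI := action hp V
  letI := alg p V
  haveI := isInvariant hp V
  haveI := smulCommClass hp V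
  obtain ⟨g, hg⟩ := Algebra.IsInvariant.exists_smul_of_under_eq Γ(Y, V) Γ(X, p ⁻¹ᵁ V) G Q Q' h
  refine ⟨g, ?_⟩
  rw [hg, Ideal.pointwise_smul_eq_comap]
  ext b
  simp only [Ideal.mem_comap]
  have : (MulSemiringAction.toRingAut G Γ(X, p ⁻¹ᵁ V) g).symm b = sig hp V g b := by
    change g⁻¹ • b = _
    rw [smul_def, inv_inv]
  rw [← this]

end Groth.Agent.H15.Quot
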