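import Groth.Agent.H15.QuotTop
import Mathlib.AlgebraicGeometry.Morphisms.Affine

/-!
# If the preimage of an open under a quotient map by a finite group is affine, so is the open.
-/

set_option autoImplicit false
set_option linter.style.haveILetI false

universe u

open CategoryTheory AlgebraicGeometry

namespace Groth.Agent.H15.Quot

variable {X Y : Scheme.{u}} {G : Type u} [Group G] {ρ : G →* Aut X} {p : X ⟶ Y}

/-- The norm `∏ g, sig g b` is invariant. -/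
theorem sig_prod [Fintype G] (hp : SGA1.IsQuot ρ p) (V : Y.Opens) (b : Γ(X, p ⁻¹ᵁ V)) (h : G) :
    sig hp V h (∏ g : G, sig hp V g b) = ∏ g : G, sig hp V g b := by
  rw [map_prod]
  have : ∀ g : G, sig hp V h (sig hp V g b) = sig hp V (g * h) b := by
    intro g
    rw [sig_mul]; rfl
  simp_rw [this]
  exact Fintype.prod_equiv (Equiv.mulRight h) _ _ (fun g => rfl)

/-- Membership in a basic open of an affine open, in terms of the prime ideal of a point. -/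
theorem mem_basicOpen_iff {X : Scheme.{u}} {U : X.Opens} (hU : IsAffineOpen U) (b : Γ(X, U))
    (x : X) (hx : x ∈ U) : x ∈ X.basicOpen b ↔ b ∉ (hU.primeIdealOf ⟨x, hx⟩).asIdeal := by
  have h1 : hU.fromSpec (hU.primeIdealOf ⟨x, hx⟩) = x := hU.fromSpec_primeIdealOf ⟨x, hx⟩
  have h2 := hU.fromSpec_preimage_basicOpen b
  have h3 : x ∈ X.basicOpen b ↔ hU.primeIdealOf ⟨x, hx⟩ ∈ hU.fromSpec ⁻¹ᵁ X.basicOpen b := by
    change _ ↔ hU.fromSpec (hU.primeIdealOf ⟨x, hx⟩) ∈ X.basicOpen b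
    rw [h1]
  rw [h3, h2]
  exact PrimeSpectrum.mem_basicOpen _ _

end Groth.Agent.H15.Quot

namespace Groth.Agent.H15.Quot

variable {X Y : Scheme.{u}} {G : Type u} [Group G] {ρ : G →* Aut X} {p : X ⟶ Y}

/-- Given a point `x` of the affine `p⁻¹V` and a smaller open `V' ≤ V` containing `p x`, there is an
invariant function, nonvanishing at `x`, whose nonvanishing locus lies over `V'`. -/
theorem exists_invariant_basicOpen_le [Finite G] (hp : SGA1.IsQuot ρ p) (V : Y.Opens)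
    (hU : IsAffineOpen (p ⁻¹ᵁ V)) (x : X) (hx : x ∈ p ⁻¹ᵁ V) (V' : Y.Opens)
    (hxV' : p.base x ∈ V') :
    ∃ a : Γ(Y, V), x ∈ X.basicOpen ((p.app V).hom a) ∧ Y.basicOpen a ≤ V' := by
  cases nonempty_fintype G
  set Q := hU.primeIdealOf ⟨x, hx⟩ with hQ
  let O : Set (PrimeSpectrum Γ(X, p ⁻¹ᵁ V)) := {q | hU.fromSpec q ∈ p ⁻¹ᵁ V'}
  have hO : IsOpen O := (p ⁻¹ᵁ V').isOpen.preimage hU.fromSpec.continuous
  let I := PrimeSpectrum.vanishingIdeal Oᶜ
  have hzero : PrimeSpectrum.zeroLocus (I : Set Γ(X, p ⁻¹ᵁ V)) = Oᶜ := by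
    rw [PrimeSpectrum.zeroLocus_vanishingIdeal_eq_closure, hO.isClosed_compl.closure_eq]
  -- the conjugates of `Q` lie in `O`
  have hconj : ∀ g : G, ¬ I ≤ Q.asIdeal.comap (sig hp V g) := by
    intro g hle
    have hgx : (ρ g).hom x ∈ p ⁻¹ᵁ V := SGA1.preimage_le_of_inv ρ p hp.inv g V hx
    have h1 := primeIdealOf_smul hp V hU g x hx
    have h2 : hU.primeIdealOf ⟨(ρ g).hom x, hgx⟩ ∈ PrimeSpectrum.zeroLocus (I : Set _) := by
      rw [PrimeSpectrum.mem_zeroLocus, h1]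
      exact hle
    rw [hzero] at h2
    apply h2
    change hU.fromSpec (hU.primeIdealOf ⟨(ρ g).hom x, hgx⟩) ∈ p ⁻¹ᵁ V'
    rw [hU.fromSpec_primeIdealOf ⟨(ρ g).hom x, hgx⟩]
    change p.base ((ρ g).hom.base x) ∈ V'
    have : p.base ((ρ g).hom.base x) = p.base x := congr($(hp.inv g).base x)
    rw [this]
    exact hxV'
  have havoid : ¬ ((I : Set Γ(X, p ⁻¹ᵁ V)) ⊆
      ⋃ g ∈ ((Finset.univ : Finset G) : Set G), (Q.asIdeal.comap (sig hp V g) : Set _)) := by
    rw [Ideal.subset_union_prime (1 : G) 1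
      (fun g _ _ _ => Ideal.comap_isPrime (sig hp V g) Q.asIdeal)]
    rintro ⟨g, -, hg⟩
    exact hconj g hg
  obtain ⟨b, hbI, hb⟩ := Set.not_subset.mp havoid
  have hbQ : ∀ g : G, sig hp V g b ∉ Q.asIdeal := by
    intro g hg
    apply hb
    simp only [Set.mem_iUnion]
    exact ⟨g, Finset.mem_coe.mpr (Finset.mem_univ g), hg⟩
  have hbO : X.basicOpen b ≤ p ⁻¹ᵁ V' := by
    intro x' hx'
    have hx'U : x' ∈ p ⁻¹ᵁ V := X.basicOpen_le b hx'
    by_contra hcon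
    have h1 : hU.primeIdealOf ⟨x', hx'U⟩ ∈ Oᶜ := by
      change ¬ (hU.fromSpec (hU.primeIdealOf ⟨x', hx'U⟩) ∈ p ⁻¹ᵁ V')
      rw [hU.fromSpec_primeIdealOf ⟨x', hx'U⟩]
      exact hcon
    have h2 := PrimeSpectrum.subset_zeroLocus_vanishingIdeal Oᶜ h1
    rw [PrimeSpectrum.mem_zeroLocus] at h2
    exact (mem_basicOpen_iff hU b x' hx'U).mp hx' (h2 hbI)
  -- the norm
  set a' := ∏ g : G, sig hp V g b with ha'
  have hinv : ∀ h : G, sig hp V h a' = a' := sig_prod hp V b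
  obtain ⟨a, haa'⟩ := (mem_range_iff hp V a').mpr hinv
  refine ⟨a, ?_, ?_⟩
  · rw [haa', mem_basicOpen_iff hU a' x hx, ha', Ideal.IsPrime.prod_mem_iff]
    rintro ⟨g, -, hg⟩
    exact hbQ g hg
  · have hle : X.basicOpen a' ≤ X.basicOpen b := by
      have hdvd : b ∣ a' := by
        have : sig hp V 1 b = b := by rw [sig_one]; rfl
        rw [← this]
        exact Finset.dvd_prod_of_mem _ (Finset.mem_univ 1)
      obtain ⟨c, hc⟩ := hdvd
      rw [hc, Scheme.basicOpen_mul]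
      exact inf_le_left
    intro y' hy'
    have hy'V : y' ∈ V := Y.basicOpen_le a hy'
    obtain ⟨x', rfl⟩ := surjective hp y'
    have h1 : x' ∈ p ⁻¹ᵁ Y.basicOpen a := hy'
    rw [Scheme.preimage_basicOpen] at h1
    have h2 : x' ∈ X.basicOpen a' := by rw [← haa']; exact h1
    exact hbO (hle h2)

end Groth.Agent.H15.Quot

namespace Groth.Agent.H15.Quot

variable {X Y : Scheme.{u}} {G : Type u} [Group G] {ρ : G →* Aut X} {p : X ⟶ Y}

/-- If `p⁻¹V` is affine then so is `V`. -/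
theorem isAffineOpen_of_isAffineOpen_preimage [Finite G] (hp : SGA1.IsQuot ρ p) (V : Y.Opens)
    (hU : IsAffineOpen (p ⁻¹ᵁ V)) : IsAffineOpen V := by
  apply isAffineOpen_of_isAffineOpen_basicOpen V {a | IsAffineOpen (Y.basicOpen a)} ?_
    (fun a ha => ha)
  by_contra hne
  obtain ⟨m, hm, hle⟩ := Ideal.exists_le_maximal _ hne
  letI := alg p V
  have hint : Algebra.IsIntegral Γ(Y, V) Γ(X, p ⁻¹ᵁ V) :=
    algebraMap_isIntegral_iff.mp (isIntegral_app hp V)
  obtain ⟨Q, -, hQ, hQm⟩ := Ideal.exists_ideal_over_prime_of_isIntegral m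
    (⊥ : Ideal Γ(X, p ⁻¹ᵁ V)) (by
      rw [← RingHom.ker_eq_comap_bot]
      have : RingHom.ker (algebraMap Γ(Y, V) Γ(X, p ⁻¹ᵁ V)) = ⊥ :=
        (RingHom.injective_iff_ker_eq_bot _).mp (hp.injective V)
      rw [this]
      exact bot_le)
  let qq : PrimeSpectrum Γ(X, p ⁻¹ᵁ V) := ⟨Q, hQ⟩
  have hx : hU.fromSpec qq ∈ p ⁻¹ᵁ V := fromSpec_mem hU qq
  have hqq : hU.primeIdealOf ⟨hU.fromSpec qq, hx⟩ = qq := primeIdealOf_fromSpec hU qq hx
  obtain ⟨_, ⟨V', hV' : IsAffineOpen V', rfl⟩, hyV', hV'V⟩ :=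
    Y.isBasis_affineOpens.exists_subset_of_mem_open (show p.base (hU.fromSpec qq) ∈ V from hx)
      V.isOpen
  obtain ⟨a, hxa, haV'⟩ := exists_invariant_basicOpen_le hp V hU (hU.fromSpec qq) hx V' hyV'
  have haff : IsAffineOpen (Y.basicOpen a) := by
    have hle' : V' ≤ V := hV'V
    have h1 := hV'.basicOpen (Y.presheaf.map (homOfLE hle').op a)
    rwa [Scheme.basicOpen_res, inf_eq_right.mpr haV'] at h1
  have ham : a ∈ m := hle (Ideal.subset_span haff)
  rw [mem_basicOpen_iff hU _ _ hx, hqq] at hxa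
  apply hxa
  change (algebraMap Γ(Y, V) Γ(X, p ⁻¹ᵁ V)) a ∈ Q
  rw [← Ideal.mem_comap, hQm]
  exact ham

end Groth.Agent.H15.Quot
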