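import Groth.Agent.H15.QuotTop
import Groth.Agent.H15.EpiLike

/-!
# A quotient of a scheme by a finite group is a categorical quotient
-/

set_option autoImplicit false
set_option linter.style.haveILetI false

universe u

open CategoryTheory AlgebraicGeometry

namespace Groth.Agent.H15.Quot

theorem exists_ringHom_lift {A B C : Type*} [CommRing A] [CommRing B] [CommRing C]
    (φ : A →+* B) (hφ : Function.Injective φ) (χ : C →+* B) (h : ∀ c, χ c ∈ Set.range φ) :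
    ∃ ψ : C →+* A, φ.comp ψ = χ := by
  choose ψ₀ hψ₀ using h
  refine ⟨{ toFun := ψ₀
            map_one' := hφ (by rw [hψ₀, map_one, map_one])
            map_mul' := fun a b => hφ (by rw [hψ₀, map_mul, map_mul, hψ₀, hψ₀])
            map_zero' := hφ (by rw [hψ₀, map_zero, map_zero])
            map_add' := fun a b => hφ (by rw [hψ₀, map_add, map_add, hψ₀, hψ₀]) }, ?_⟩
  ext c
  exact hψ₀ c

variable {X Y : Scheme.{u}} {G : Type u} [Group G] {ρ : G →* Aut X} {p : X ⟶ Y}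

theorem epiLike [Finite G] (hp : SGA1.IsQuot ρ p) : EpiLike p :=
  ⟨surjective hp, hp.injective⟩

/-- `p` is an epimorphism. -/
theorem eq_of_comp_eq [Finite G] (hp : SGA1.IsQuot ρ p) {Z : Scheme.{u}} {a b : Y ⟶ Z}
    (h : p ≫ a = p ≫ b) : a = b :=
  (epiLike hp).eq_of_comp_eq h

/-- Local descent to an affine open of the target. -/
theorem exists_desc_affine (hp : SGA1.IsQuot ρ p) {Z : Scheme.{u}} (h : X ⟶ Z)
    (hh : ∀ g : G, (ρ g).hom ≫ h = h) (W : Z.Opens) (hW : IsAffineOpen W) (V : Y.Opens)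
    (hVW : p ⁻¹ᵁ V ≤ h ⁻¹ᵁ W) :
    ∃ f : V.toScheme ⟶ Z, p.resLE V (p ⁻¹ᵁ V) le_rfl ≫ f = (p ⁻¹ᵁ V).ι ≫ h := by
  obtain ⟨ψ, hψ⟩ := exists_ringHom_lift (p.app V).hom (hp.injective V) (h.appLE W (p ⁻¹ᵁ V) hVW).hom
    (by
      intro c
      rw [mem_range_iff hp]
      intro g
      simp only [sig]
      rw [← CommRingCat.comp_apply, Scheme.Hom.appLE_comp_appLE]
      congr! 3
      exact hh g)
  refine ⟨V.toSpecΓ ≫ Spec.map (CommRingCat.ofHom ψ) ≫ hW.fromSpec, ?_⟩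
  have h1 : CommRingCat.ofHom ψ ≫ p.app V = h.appLE W (p ⁻¹ᵁ V) hVW := by
    apply CommRingCat.hom_ext
    exact hψ
  rw [Scheme.Hom.resLE_eq_morphismRestrict, ← Scheme.Opens.toSpecΓ_naturality_assoc,
    ← Spec.map_comp_assoc, h1, Scheme.Opens.toSpecΓ_SpecMap_appLE_assoc,
    IsAffineOpen.toSpecΓ_fromSpec, Scheme.Hom.resLE_comp_ι]

end Groth.Agent.H15.Quot

namespace Groth.Agent.H15.Quot

variable {X Y : Scheme.{u}} {G : Type u} [Group G] {ρ : G →* Aut X} {p : X ⟶ Y}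

/-- The image in `Y` of the (`G`-stable) preimage of an open of `Z` under an invariant map. -/
theorem exists_opens_preimage_eq [Finite G] (hp : SGA1.IsQuot ρ p) {Z : Scheme.{u}} (h : X ⟶ Z)
    (hh : ∀ g : G, (ρ g).hom ≫ h = h) (W : Z.Opens) :
    ∃ V : Y.Opens, p ⁻¹ᵁ V = h ⁻¹ᵁ W ∧ ∀ x : X, h.base x ∈ W → p.base x ∈ V := by
  have hpre : p.base ⁻¹' (p.base '' (h ⁻¹ᵁ W : Set X)) = (h ⁻¹ᵁ W : Set X) := by
    apply Set.Subset.antisymm
    · rintro x ⟨s, hs, hsx⟩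
      obtain ⟨g, rfl⟩ := (base_eq_iff hp s x).mp hsx
      change h.base ((ρ g).hom.base s) ∈ W
      have : h.base ((ρ g).hom.base s) = h.base s := congr($(hh g).base s)
      rw [this]
      exact hs
    · exact Set.subset_preimage_image _ _
  have hopen : IsOpen (p.base '' (h ⁻¹ᵁ W : Set X)) := by
    rw [← (isQuotientMap hp).isOpen_preimage, hpre]
    exact (h ⁻¹ᵁ W).isOpen
  refine ⟨⟨_, hopen⟩, ?_, ?_⟩
  · ext x
    exact Set.ext_iff.mp hpre x
  · intro x hx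
    exact ⟨x, hx, rfl⟩

/-- **Categorical quotient**: every invariant morphism factors uniquely through the quotient. -/
theorem existsUnique_desc [Finite G] (hp : SGA1.IsQuot ρ p) {Z : Scheme.{u}} (h : X ⟶ Z)
    (hh : ∀ g : G, (ρ g).hom ≫ h = h) : ∃! h' : Y ⟶ Z, p ≫ h' = h := by
  suffices hex : ∃ h' : Y ⟶ Z, p ≫ h' = h by
    obtain ⟨h', hh'⟩ := hex
    exact ⟨h', hh', fun h'' hh'' => eq_of_comp_eq hp (hh''.trans hh'.symm)⟩
  choose V hV hV' using fun W : Z.affineOpens => exists_opens_preimage_eq hp h hh W.1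
  have hcover : TopologicalSpace.IsOpenCover V := by
    rw [TopologicalSpace.IsOpenCover, eq_top_iff]
    intro y _
    obtain ⟨x, rfl⟩ := surjective hp y
    obtain ⟨_, ⟨W, hW : IsAffineOpen W, rfl⟩, hxW, -⟩ :=
      Z.isBasis_affineOpens.exists_subset_of_mem_open (Set.mem_univ (h.base x)) isOpen_univ
    exact TopologicalSpace.Opens.mem_iSup.mpr ⟨⟨W, hW⟩, hV' ⟨W, hW⟩ x hxW⟩
  choose f hf using fun W : Z.affineOpens =>
    exists_desc_affine hp h hh W.1 W.2 (V W) (hV W).le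
  have key : ∀ (W : Z.affineOpens) (V' : Y.Opens) (hle : V' ≤ V W),
      p.resLE V' (p ⁻¹ᵁ V') le_rfl ≫ Y.homOfLE hle ≫ f W = (p ⁻¹ᵁ V').ι ≫ h := by
    intro W V' hle
    have hle' : p ⁻¹ᵁ V' ≤ p ⁻¹ᵁ V W := fun x hx => hle hx
    rw [Scheme.Hom.resLE_map_assoc, ← Scheme.Hom.map_resLE_assoc p le_rfl hle', hf W,
      Scheme.homOfLE_ι_assoc]
  obtain ⟨g, hg⟩ := exists_glue V hcover f (fun W W' => by
    apply ((epiLike hp).resLE (V W ⊓ V W')).eq_of_comp_eq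
    rw [key W _ inf_le_left, key W' _ inf_le_right])
  refine ⟨g, ?_⟩
  refine Scheme.hom_ext_of_forall _ _ fun x => ?_
  obtain ⟨_, ⟨W, hW : IsAffineOpen W, rfl⟩, hxW, -⟩ :=
    Z.isBasis_affineOpens.exists_subset_of_mem_open (Set.mem_univ (h.base x)) isOpen_univ
  refine ⟨p ⁻¹ᵁ V ⟨W, hW⟩, hV' ⟨W, hW⟩ x hxW, ?_⟩
  rw [← Scheme.Hom.resLE_comp_ι_assoc p (le_refl (p ⁻¹ᵁ V ⟨W, hW⟩)), hg, hf]

end Groth.Agent.H15.Quot
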