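import Groth.Agent.H15.QuotTop
import Mathlib.AlgebraicGeometry.Morphisms.Finite
import Mathlib.AlgebraicGeometry.Morphisms.FiniteType
import Mathlib.AlgebraicGeometry.Noetherian
import Mathlib.RingTheory.Adjoin.Tower

/-!
# Finiteness properties of quotients by finite groups
-/

set_option autoImplicit false
set_option linter.style.haveILetI false

universe u

open CategoryTheory AlgebraicGeometry

namespace Groth.Agent.H15.Quot

variable {X Y Z : Scheme.{u}} {G : Type u} [Group G] {ρ : G →* Aut X} {p : X ⟶ Y}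

theorem isFinite_of_locallyOfFiniteType [Finite G] (hp : SGA1.IsQuot ρ p) (f : X ⟶ Z) (q : Y ⟶ Z)
    (hq : p ≫ q = f) [LocallyOfFiniteType f] : IsFinite p := by
  rw [IsFinite.iff_isIntegralHom_and_locallyOfFiniteType]
  refine ⟨isIntegralHom hp, ?_⟩
  haveI : LocallyOfFiniteType (p ≫ q) := by rw [hq]; infer_instance
  exact locallyOfFiniteType_of_comp p q

theorem quasiCompact_of_comp [Finite G] (hp : SGA1.IsQuot ρ p) (f : X ⟶ Z) (q : Y ⟶ Z)
    (hq : p ≫ q = f) [QuasiCompact f] : QuasiCompact q := by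
  refine ⟨fun U hU hUc => ?_⟩
  have h1 : IsCompact (f.base ⁻¹' U) := QuasiCompact.isCompact_preimage U hU hUc
  have h2 : q.base ⁻¹' U = p.base '' (f.base ⁻¹' U) := by
    ext y
    constructor
    · intro hy
      obtain ⟨x, rfl⟩ := surjective hp y
      refine ⟨x, ?_, rfl⟩
      change f.base x ∈ U
      rw [← hq]
      exact hy
    · rintro ⟨x, hx, rfl⟩
      change q.base (p.base x) ∈ U
      have : f.base x ∈ U := hx
      rw [← hq] at this
      exact this
  rw [h2]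
  exact h1.image p.continuous

theorem finiteType_stableSource :
    RingHom.StableUnderCompositionWithLocalizationAwaySource @RingHom.FiniteType := by
  intro R S T _ _ _ _ r _ f hf
  exact hf.comp (RingHom.finiteType_holdsForLocalizationAway S r)

theorem locallyOfFiniteType_of_comp [Finite G] (hp : SGA1.IsQuot ρ p) (f : X ⟶ Z) (q : Y ⟶ Z)
    (hq : p ≫ q = f) [IsLocallyNoetherian Z] [LocallyOfFiniteType f] :
    LocallyOfFiniteType q := by
  haveI := hp.affine
  haveI : IsFinite p := isFinite_of_locallyOfFiniteType hp f q hq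
  rw [HasRingHomProperty.iff_exists_appLE (P := @LocallyOfFiniteType) finiteType_stableSource]
  intro y
  obtain ⟨_, ⟨W, hW : IsAffineOpen W, rfl⟩, hyW, -⟩ :=
    Z.isBasis_affineOpens.exists_subset_of_mem_open (Set.mem_univ (q.base y)) isOpen_univ
  obtain ⟨_, ⟨V, hV : IsAffineOpen V, rfl⟩, hyV, hVW⟩ :=
    Y.isBasis_affineOpens.exists_subset_of_mem_open (show y ∈ q ⁻¹ᵁ W from hyW) (q ⁻¹ᵁ W).isOpen
  have e : V ≤ q ⁻¹ᵁ W := hVW
  refine ⟨⟨W, hW⟩, ⟨V, hV⟩, hyV, e, ?_⟩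
  have hU : IsAffineOpen (p ⁻¹ᵁ V) := hV.preimage p
  have e' : p ⁻¹ᵁ V ≤ f ⁻¹ᵁ W := by
    intro x hx
    change f.base x ∈ W
    rw [← hq]
    exact e hx
  have hcomp : q.appLE W V e ≫ p.app V = f.appLE W (p ⁻¹ᵁ V) e' := by
    rw [Scheme.Hom.app_eq_appLE, Scheme.Hom.appLE_comp_appLE]
    congr 1
  have hft : (f.appLE W (p ⁻¹ᵁ V) e').hom.FiniteType := f.finiteType_appLE hW hU e'
  have hfin : (p.app V).hom.Finite := p.finite_app V hV
  haveI : IsNoetherianRing Γ(Z, W) := IsLocallyNoetherian.component_noetherian ⟨W, hW⟩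
  letI := (q.appLE W V e).hom.toAlgebra
  letI := (p.app V).hom.toAlgebra
  letI := (f.appLE W (p ⁻¹ᵁ V) e').hom.toAlgebra
  haveI : IsScalarTower Γ(Z, W) Γ(Y, V) Γ(X, p ⁻¹ᵁ V) := by
    apply IsScalarTower.of_algebraMap_eq'
    simp only [RingHom.algebraMap_toAlgebra]
    rw [← hcomp]
    rfl
  have h1 : (⊤ : Subalgebra Γ(Z, W) Γ(X, p ⁻¹ᵁ V)).FG := hft.out
  have h2 : (⊤ : Submodule Γ(Y, V) Γ(X, p ⁻¹ᵁ V)).FG := Module.finite_def.mp hfin
  have := fg_of_fg_of_fg Γ(Z, W) Γ(Y, V) Γ(X, p ⁻¹ᵁ V) h1 h2 (hp.injective V)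
  exact ⟨this⟩

end Groth.Agent.H15.Quot
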