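import Groth.Agent.H15.QuotTop
import Mathlib.AlgebraicGeometry.Morphisms.Separated
import Mathlib.AlgebraicGeometry.Morphisms.Immersion
import Mathlib.AlgebraicGeometry.PullbackCarrier

/-!
# Separatedness descends to quotients by finite groups
-/

set_option autoImplicit false
set_option linter.style.haveILetI false

universe u

open CategoryTheory AlgebraicGeometry Limits

namespace Groth.Agent.H15.Quot

variable {X Y Z : Scheme.{u}} {G : Type u} [Group G] {ρ : G →* Aut X} {p : X ⟶ Y}

theorem isSeparated_of_comp [Finite G] (hp : SGA1.IsQuot ρ p) (f : X ⟶ Z) (q : Y ⟶ Z)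
    (hq : p ≫ q = f) [IsSeparated f] : IsSeparated q := by
  haveI := isIntegralHom hp
  have hsurj : Surjective p := ⟨surjective hp⟩
  let P : pullback f f ⟶ pullback q q :=
    pullback.map f f q q p p (𝟙 Z) ((Category.comp_id _).trans hq.symm)
      ((Category.comp_id _).trans hq.symm)
  have hP1 : UniversallyClosed P :=
    MorphismProperty.pullbackMap (P := @UniversallyClosed) inferInstance inferInstance hq.symm
      hq.symm
  haveI : MorphismProperty.IsStableUnderComposition @Surjective.{u} :=
    ⟨fun f g hf hg => by haveI := hf; haveI := hg; infer_instance⟩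
  have hP2 : Surjective P :=
    MorphismProperty.pullbackMap (P := @Surjective.{u}) hsurj hsurj hq.symm hq.symm
  have hcomm : pullback.diagonal f ≫ P = p ≫ pullback.diagonal q := by
    apply pullback.hom_ext
    · simp only [P, Category.assoc, pullback.lift_fst, pullback.map, pullback.diagonal_fst,
        pullback.diagonal_fst_assoc, Category.comp_id]
    · simp only [P, Category.assoc, pullback.lift_snd, pullback.map, pullback.diagonal_snd,
        pullback.diagonal_snd_assoc, Category.comp_id]
  have hrange : Set.range (pullback.diagonal q).base =
      P.base '' Set.range (pullback.diagonal f).base := by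
    ext z
    constructor
    · rintro ⟨y, rfl⟩
      obtain ⟨x, rfl⟩ := surjective hp y
      refine ⟨(pullback.diagonal f).base x, ⟨x, rfl⟩, ?_⟩
      have := congr($(hcomm).base x)
      simpa using this
    · rintro ⟨_, ⟨x, rfl⟩, rfl⟩
      refine ⟨p.base x, ?_⟩
      have := congr($(hcomm).base x)
      simpa using this.symm
  have hclosed : IsClosed (Set.range (pullback.diagonal q).base) := by
    rw [hrange]
    exact P.isClosedMap _ (pullback.diagonal f).isClosedEmbedding.isClosed_range
  exact ⟨IsClosedImmersion.of_isPreimmersion _ hclosed⟩

end Groth.Agent.H15.Quot
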