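import Groth.Agent.H15.Quot

/-!
# Topology of quotients of schemes by finite groups
-/

set_option autoImplicit false
set_option linter.style.haveILetI false

universe u

open CategoryTheory AlgebraicGeometry

namespace Groth.Agent.H15.Quot

variable {X Y : Scheme.{u}} {G : Type u} [Group G] {ρ : G →* Aut X} {p : X ⟶ Y}

theorem primeIdealOf_injective {X : Scheme.{u}} {U : X.Opens} (hU : IsAffineOpen U) {x x' : U}
    (h : hU.primeIdealOf x = hU.primeIdealOf x') : x = x' := by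
  apply Subtype.ext
  rw [← hU.fromSpec_primeIdealOf x, ← hU.fromSpec_primeIdealOf x', h]

theorem primeIdealOf_fromSpec {X : Scheme.{u}} {U : X.Opens} (hU : IsAffineOpen U)
    (q : PrimeSpectrum Γ(X, U)) (hq : hU.fromSpec q ∈ U) :
    hU.primeIdealOf ⟨hU.fromSpec q, hq⟩ = q := by
  have h1 : hU.fromSpec (hU.primeIdealOf ⟨hU.fromSpec q, hq⟩) = hU.fromSpec q :=
    hU.fromSpec_primeIdealOf _
  have : Function.Injective hU.fromSpec :=
    (hU.fromSpec.isOpenEmbedding).injective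
  exact this h1

theorem fromSpec_mem {X : Scheme.{u}} {U : X.Opens} (hU : IsAffineOpen U)
    (q : PrimeSpectrum Γ(X, U)) : hU.fromSpec q ∈ U := by
  have : hU.fromSpec q ∈ Set.range hU.fromSpec := ⟨q, rfl⟩
  rw [hU.range_fromSpec] at this
  exact this

/-- The action on points corresponds to `comap (sig g)` on primes. -/
theorem primeIdealOf_smul (hp : SGA1.IsQuot ρ p) (V : Y.Opens) (hU : IsAffineOpen (p ⁻¹ᵁ V)) (g : G)
    (x : X) (hx : x ∈ p ⁻¹ᵁ V) :
    hU.primeIdealOf ⟨(ρ g).hom x, SGA1.preimage_le_of_inv ρ p hp.inv g V hx⟩ =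
      (hU.primeIdealOf ⟨x, hx⟩).comap (sig hp V g) :=
  (IsAffineOpen.comap_primeIdealOf_appLE (f := (ρ g).hom) (p ⁻¹ᵁ V) hU (p ⁻¹ᵁ V) hU
    (SGA1.preimage_le_of_inv ρ p hp.inv g V) hx).symm

theorem primeIdealOf_map (V : Y.Opens) (hV : IsAffineOpen V) (hU : IsAffineOpen (p ⁻¹ᵁ V))
    (x : X) (hx : x ∈ p ⁻¹ᵁ V) :
    hV.primeIdealOf ⟨p x, hx⟩ = (hU.primeIdealOf ⟨x, hx⟩).comap (p.app V).hom := by
  have := (IsAffineOpen.comap_primeIdealOf_appLE (f := p) V hV (p ⁻¹ᵁ V) hU le_rfl hx).symm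
  rwa [Scheme.Hom.appLE_eq_app] at this

theorem surjective [Finite G] (hp : SGA1.IsQuot ρ p) : Function.Surjective p.base := by
  intro y
  haveI := hp.affine
  obtain ⟨_, ⟨V, hV : IsAffineOpen V, rfl⟩, hyV, -⟩ :=
    Y.isBasis_affineOpens.exists_subset_of_mem_open (Set.mem_univ y) isOpen_univ
  have hU : IsAffineOpen (p ⁻¹ᵁ V) := hV.preimage p
  letI := alg p V
  have hint : Algebra.IsIntegral Γ(Y, V) Γ(X, p ⁻¹ᵁ V) :=
    algebraMap_isIntegral_iff.mp (isIntegral_app hp V)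
  obtain ⟨Q, -, hQ, hQP⟩ := Ideal.exists_ideal_over_prime_of_isIntegral
    (hV.primeIdealOf ⟨y, hyV⟩).asIdeal (⊥ : Ideal Γ(X, p ⁻¹ᵁ V)) (by
      rw [← RingHom.ker_eq_comap_bot]
      have : RingHom.ker (algebraMap Γ(Y, V) Γ(X, p ⁻¹ᵁ V)) = ⊥ :=
        (RingHom.injective_iff_ker_eq_bot _).mp (hp.injective V)
      rw [this]
      exact bot_le)
  let q : PrimeSpectrum Γ(X, p ⁻¹ᵁ V) := ⟨Q, hQ⟩
  have hx : hU.fromSpec q ∈ p ⁻¹ᵁ V := fromSpec_mem hU q
  refine ⟨hU.fromSpec q, ?_⟩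
  have h1 := primeIdealOf_map V hV hU (hU.fromSpec q) hx
  rw [primeIdealOf_fromSpec hU q hx] at h1
  have h2 : hV.primeIdealOf ⟨p (hU.fromSpec q), hx⟩ = hV.primeIdealOf ⟨y, hyV⟩ := by
    rw [h1]
    exact PrimeSpectrum.ext hQP
  exact congrArg Subtype.val (primeIdealOf_injective hV h2)

theorem base_eq_iff [Finite G] (hp : SGA1.IsQuot ρ p) (x x' : X) :
    p.base x = p.base x' ↔ ∃ g : G, (ρ g).hom.base x = x' := by
  haveI := hp.affine
  constructor
  · intro h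
    obtain ⟨_, ⟨V, hV : IsAffineOpen V, rfl⟩, hyV, -⟩ :=
      Y.isBasis_affineOpens.exists_subset_of_mem_open (Set.mem_univ (p.base x)) isOpen_univ
    have hU : IsAffineOpen (p ⁻¹ᵁ V) := hV.preimage p
    have hx : x ∈ p ⁻¹ᵁ V := hyV
    have hx' : x' ∈ p ⁻¹ᵁ V := by
      change p.base x' ∈ V
      rw [← h]; exact hyV
    have h1 := primeIdealOf_map V hV hU x hx
    have h2 := primeIdealOf_map V hV hU x' hx'
    have h3 : hV.primeIdealOf ⟨p x, hx⟩ = hV.primeIdealOf ⟨p x', hx'⟩ := by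
      congr 1
      exact Subtype.ext h
    rw [h1, h2] at h3
    obtain ⟨g, hg⟩ := exists_comap_sig_eq hp V (hU.primeIdealOf ⟨x, hx⟩).asIdeal
      (hU.primeIdealOf ⟨x', hx'⟩).asIdeal (congrArg PrimeSpectrum.asIdeal h3)
    refine ⟨g, ?_⟩
    have h4 := primeIdealOf_smul hp V hU g x hx
    have h5 : hU.primeIdealOf ⟨(ρ g).hom x, SGA1.preimage_le_of_inv ρ p hp.inv g V hx⟩ =
        hU.primeIdealOf ⟨x', hx'⟩ := by
      rw [h4]
      exact PrimeSpectrum.ext hg.symm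
    exact congrArg Subtype.val (primeIdealOf_injective hU h5)
  · rintro ⟨g, rfl⟩
    have := hp.inv g
    exact (congr($(this).base x)).symm

theorem isQuotientMap [Finite G] (hp : SGA1.IsQuot ρ p) : Topology.IsQuotientMap p.base := by
  haveI := isIntegralHom hp
  exact IsClosedMap.isQuotientMap p.isClosedMap p.continuous (surjective hp)

end Groth.Agent.H15.Quot
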