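import Mathlib

/-!
# Tensoring a field in which `k` is algebraically closed with a finite separable extension

If `k` is algebraically closed in the field `K` and `k'/k` is a finite separable extension, then
`k' ⊗[k] K` is a field.
-/

namespace Groth.Agent.H15.RegExt

open Polynomial IntermediateField

universe u v

/-- If `k` is algebraically closed in `L ⊆ E` and `a : E` is algebraic over `k`, then the minimal
polynomials of `a` over `k` and over `L` have the same degree. -/
theorem natDegree_minpoly_eq {k L E : Type*} [Field k] [Field L] [Field E] [Algebra k L]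
    [Algebra L E] [Algebra k E] [IsScalarTower k L E]
    (hL : ∀ y : L, IsAlgebraic k y → y ∈ Set.range (algebraMap k L))
    (a : E) (ha : IsIntegral k a) :
    (minpoly L a).natDegree = (minpoly k a).natDegree := by
  have haL : IsIntegral L a := ha.tower_top
  set f := minpoly k a
  set g := minpoly L a
  have hgmonic : g.Monic := minpoly.monic haL
  have hfmonic : f.Monic := minpoly.monic ha
  have hdvd : g ∣ f.map (algebraMap k L) := minpoly.dvd_map_of_isScalarTower k L a
  have hlift := integralClosure.mem_lifts_of_monic_of_dvd_map L hfmonic hgmonic hdvd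
  have hlift' : g ∈ lifts (algebraMap k L) := by
    rw [lifts_iff_coeff_lifts] at hlift ⊢
    intro n
    obtain ⟨c, hc⟩ := hlift n
    have : IsAlgebraic k (c : L) := (c.2 : IsIntegral k (c : L)).isAlgebraic
    rw [← hc]
    exact hL _ this
  obtain ⟨g0, hg0⟩ := (mem_lifts _).1 hlift'
  have hg0ne : g0 ≠ 0 := by
    rintro rfl
    rw [Polynomial.map_zero] at hg0
    exact hgmonic.ne_zero hg0.symm
  have hdeg0 : g0.natDegree = g.natDegree := by
    rw [← hg0, natDegree_map]
  have hroot : aeval a g0 = 0 := by
    have : aeval a g = 0 := minpoly.aeval L a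
    rw [← hg0, aeval_map_algebraMap] at this
    exact this
  have h1 : f.natDegree ≤ g0.natDegree := natDegree_le_of_dvd (minpoly.dvd k a hroot) hg0ne
  have h2 : g.natDegree ≤ f.natDegree := by
    have := natDegree_le_of_dvd hdvd (by
      rw [Ne, Polynomial.map_eq_zero]
      exact hfmonic.ne_zero)
    rwa [natDegree_map] at this
  omega

theorem isField_tensor {k : Type u} {K : Type v} [Field k] [Field K] [Algebra k K]
    (hK : ∀ y : K, IsAlgebraic k y → y ∈ Set.range (algebraMap k K))
    (k' : Type u) [Field k'] [Algebra k k'] [FiniteDimensional k k'] [Algebra.IsSeparable k k'] :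
    IsField (TensorProduct k k' K) := by
  obtain ⟨α, hα⟩ := Field.exists_primitive_element k k'
  apply IntermediateField.LinearDisjoint.isField_of_forall k k' K
  intro E _ _ fa fb
  set a : E := fa α with ha
  have hint : IsIntegral k a := (Algebra.IsIntegral.isIntegral α).map fa
  have hA : fa.fieldRange = k⟮a⟯ := by
    rw [AlgHom.fieldRange_eq_map, ← hα, IntermediateField.adjoin_map, Set.image_singleton]
  rw [hA]
  -- `k` is algebraically closed in `fb.fieldRange`
  have hL : ∀ y : fb.fieldRange, IsAlgebraic k y → y ∈ Set.range (algebraMap k fb.fieldRange) := by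
    rintro ⟨y, y0, rfl⟩ hy
    have hy0 : IsAlgebraic k y0 := by
      have : IsAlgebraic k (fb y0) :=
        (isAlgebraic_algHom_iff fb.fieldRange.val Subtype.val_injective).mpr hy
      exact (isAlgebraic_algHom_iff fb fb.injective).mp this
    obtain ⟨c, hc⟩ := hK y0 hy0
    refine ⟨c, Subtype.ext ?_⟩
    simp [← hc]
  have hdeg := natDegree_minpoly_eq (L := fb.fieldRange) hL a hint
  let pb := IntermediateField.adjoin.powerBasis hint
  refine IntermediateField.LinearDisjoint.of_basis_left pb.basis ?_
  have hdim : pb.dim = (minpoly fb.fieldRange a).natDegree := by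
    rw [hdeg]
    exact IntermediateField.adjoin.powerBasis_dim hint
  have hli := linearIndependent_pow (K := fb.fieldRange) a
  have : (k⟮a⟯.val ∘ pb.basis) = (fun i : Fin (minpoly fb.fieldRange a).natDegree => a ^ (i : ℕ)) ∘
      Fin.cast hdim := by
    ext i
    simp [pb]
  rw [this]
  exact hli.comp _ (Fin.cast_injective _)

end Groth.Agent.H15.RegExt
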