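import Mathlib
import Groth.Agent.S11468

/-!
# Rigidity lemma, part 1: factorisation over an artinian local base

If `g : X' ⟶ B` induces an isomorphism on global sections, every morphism from `X'` to an affine
scheme factors through `g`.  Over an artinian local base `Spec C`, a flat `X'` whose closed fibre
has only constant global functions satisfies this (S11468), hence every morphism from `X'`
contracting `X'` to a point factors through `g`.
-/

set_option autoImplicit false
set_option linter.style.haveILetI false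
universe u

open CategoryTheory CategoryTheory.Limits AlgebraicGeometry

namespace Groth.Agent.H15.Rigid

/-- a morphism to an affine scheme factors through any `g` inducing an isomorphism on global
sections -/
theorem exists_fac_of_isAffine {X' B T : Scheme.{u}} (g : X' ⟶ B) [IsIso g.appTop] [IsAffine T]
    (a : X' ⟶ T) : ∃ r : B ⟶ T, a = g ≫ r := by
  refine ⟨B.toSpecΓ ≫ Spec.map (inv g.appTop) ≫ Spec.map a.appTop ≫ T.isoSpec.inv, ?_⟩
  rw [← Category.assoc, Scheme.toSpecΓ_naturality, Category.assoc, ← Spec.map_comp_assoc,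
    IsIso.inv_hom_id, Spec.map_id, Category.id_comp, ← Scheme.toSpecΓ_naturality_assoc]
  have : T.toSpecΓ ≫ T.isoSpec.inv = 𝟙 T := T.isoSpec.hom_inv_id
  rw [this, Category.comp_id]

/-- a morphism whose image lies in an affine open factors through any `g` inducing an isomorphism on
global sections -/
theorem exists_fac_of_range_subset {X' B Y : Scheme.{u}} (g : X' ⟶ B) [IsIso g.appTop]
    (F : X' ⟶ Y) (V : Y.Opens) (hV : IsAffineOpen V) (hF : ∀ z : X', F z ∈ V) :
    ∃ r : B ⟶ Y, F = g ≫ r := by
  have hr : Set.range F ⊆ Set.range V.ι := by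
    rintro _ ⟨z, rfl⟩
    rw [Scheme.Opens.range_ι]
    exact hF z
  let F' : X' ⟶ V := IsOpenImmersion.lift V.ι F hr
  have hF' : F' ≫ V.ι = F := IsOpenImmersion.lift_fac _ _ _
  haveI : IsAffine V := hV
  obtain ⟨r', hr'⟩ := exists_fac_of_isAffine g F'
  exact ⟨r' ≫ V.ι, by rw [← Category.assoc, ← hr', hF']⟩

/-- the artinian case of the rigidity lemma -/
theorem exists_fac_artinian (C : Type u) [CommRing C] [IsLocalRing C] [IsArtinianRing C]
    {X' X₀ Y : Scheme.{u}} (g : X' ⟶ Spec (CommRingCat.of C)) [Flat g]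
    (i : X₀ ⟶ X') (f₀ : X₀ ⟶ Spec (CommRingCat.of (C ⧸ IsLocalRing.maximalIdeal C)))
    (hsq : IsPullback i f₀ g
      (Spec.map (CommRingCat.ofHom (Ideal.Quotient.mk (IsLocalRing.maximalIdeal C)))))
    (h0 : Function.Bijective ((Scheme.ΓSpecIso (CommRingCat.of (C ⧸ IsLocalRing.maximalIdeal C))).inv ≫
      f₀.appTop))
    (F : X' ⟶ Y) (y : Y) (hF : ∀ z : X', F z = y) :
    ∃ r : Spec (CommRingCat.of C) ⟶ Y, F = g ≫ r := by
  have hb := Groth.Agent.S11468.result C X' X₀ g i f₀ hsq h0
  haveI : IsIso ((Scheme.ΓSpecIso (CommRingCat.of C)).inv ≫ g.appTop) :=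
    (ConcreteCategory.isIso_iff_bijective _).mpr hb
  haveI : IsIso g.appTop := IsIso.of_isIso_comp_left (Scheme.ΓSpecIso (CommRingCat.of C)).inv g.appTop
  obtain ⟨_, ⟨V, hV, rfl⟩, hyV, -⟩ :=
    Y.isBasis_affineOpens.exists_subset_of_mem_open (Set.mem_univ y) isOpen_univ
  exact exists_fac_of_range_subset g F V hV (fun z => by rw [hF z]; exact hyV)

end Groth.Agent.H15.Rigid
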