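import Mathlib

/-!
# Rigidity lemma, part 2 (algebra): infinitesimal neighbourhoods of the closed point of a
noetherian local ring
-/

set_option autoImplicit false
set_option linter.style.haveILetI false
universe u

open IsLocalRing

namespace Groth.Agent.H15.Rigid

variable (R : Type u) [CommRing R] [IsLocalRing R]

theorem maximalIdeal_pow_ne_top {n : ℕ} (hn : n ≠ 0) : (maximalIdeal R) ^ n ≠ ⊤ := by
  intro h
  have h1 : (maximalIdeal R) ^ n ≤ maximalIdeal R := Ideal.pow_le_self hn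
  rw [h] at h1
  exact (maximalIdeal.isMaximal R).ne_top (top_le_iff.mp h1)

instance isLocalRing_quot_pow {n : ℕ} [NeZero n] : IsLocalRing (R ⧸ (maximalIdeal R) ^ n) := by
  haveI : Nontrivial (R ⧸ (maximalIdeal R) ^ n) :=
    Ideal.Quotient.nontrivial_iff.mpr (maximalIdeal_pow_ne_top R (NeZero.ne n))
  exact IsLocalRing.of_surjective' (Ideal.Quotient.mk _) Ideal.Quotient.mk_surjective

theorem mk_mem_maximalIdeal_iff {n : ℕ} [NeZero n] (r : R) :
    Ideal.Quotient.mk ((maximalIdeal R) ^ n) r ∈ maximalIdeal (R ⧸ (maximalIdeal R) ^ n) ↔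
      r ∈ maximalIdeal R := by
  rw [mem_maximalIdeal, mem_maximalIdeal, mem_nonunits_iff, mem_nonunits_iff, not_iff_not]
  constructor
  · intro h
    obtain ⟨c, hc⟩ := h.exists_right_inv
    obtain ⟨r', rfl⟩ := Ideal.Quotient.mk_surjective c
    rw [← map_mul, ← map_one (Ideal.Quotient.mk ((maximalIdeal R) ^ n)), Ideal.Quotient.eq] at hc
    have h1 : r * r' - 1 ∈ maximalIdeal R := Ideal.pow_le_self (NeZero.ne n) hc
    by_contra hr
    have h2 : r * r' ∈ maximalIdeal R := Ideal.mul_mem_right _ _ ((mem_maximalIdeal r).mpr hr)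
    have h3 : (1 : R) ∈ maximalIdeal R := by
      have := Ideal.sub_mem _ h2 h1
      rwa [sub_sub_cancel] at this
    exact (maximalIdeal.isMaximal R).ne_top ((Ideal.eq_top_iff_one _).mpr h3)
  · intro h
    exact h.map _

theorem maximalIdeal_quot_pow_pow {n : ℕ} [NeZero n] :
    (maximalIdeal (R ⧸ (maximalIdeal R) ^ n)) ^ n = ⊥ := by
  have h1 : maximalIdeal (R ⧸ (maximalIdeal R) ^ n) ≤
      Ideal.map (Ideal.Quotient.mk ((maximalIdeal R) ^ n)) (maximalIdeal R) := by
    intro x hx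
    obtain ⟨r, rfl⟩ := Ideal.Quotient.mk_surjective x
    exact Ideal.mem_map_of_mem _ ((mk_mem_maximalIdeal_iff R r).mp hx)
  refine le_bot_iff.mp ((Ideal.pow_right_mono h1 n).trans ?_)
  rw [← Ideal.map_pow, Ideal.map_quotient_self]

instance isArtinianRing_quot_pow [IsNoetherianRing R] {n : ℕ} [NeZero n] :
    IsArtinianRing (R ⧸ (maximalIdeal R) ^ n) := by
  rw [isArtinianRing_iff_isNilpotent_maximalIdeal]
  exact ⟨n, maximalIdeal_quot_pow_pow R⟩

/-- the residue field of `R ⧸ 𝔪 ^ n` is the residue field of `R` -/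
noncomputable def residueQuotHom (n : ℕ) [NeZero n] :
    ResidueField R →+* (R ⧸ (maximalIdeal R) ^ n) ⧸ maximalIdeal (R ⧸ (maximalIdeal R) ^ n) :=
  Ideal.quotientMap _ (Ideal.Quotient.mk ((maximalIdeal R) ^ n))
    (fun r hr => (mk_mem_maximalIdeal_iff R r).mpr hr)

theorem residueQuotHom_residue (n : ℕ) [NeZero n] (r : R) :
    residueQuotHom R n (residue R r) =
      Ideal.Quotient.mk _ (Ideal.Quotient.mk ((maximalIdeal R) ^ n) r) := by
  exact Ideal.quotientMap_mk

theorem residueQuotHom_bijective (n : ℕ) [NeZero n] :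
    Function.Bijective (residueQuotHom R n) := by
  haveI : Nontrivial ((R ⧸ (maximalIdeal R) ^ n) ⧸ maximalIdeal (R ⧸ (maximalIdeal R) ^ n)) :=
    Ideal.Quotient.nontrivial_iff.mpr (maximalIdeal.isMaximal _).ne_top
  refine ⟨(residueQuotHom R n).injective, ?_⟩
  intro x
  obtain ⟨c, rfl⟩ := Ideal.Quotient.mk_surjective x
  obtain ⟨r, rfl⟩ := Ideal.Quotient.mk_surjective c
  exact ⟨residue R r, residueQuotHom_residue R n r⟩

/-- the inverse isomorphism -/
noncomputable def residueQuotEquiv (n : ℕ) [NeZero n] :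
    ResidueField R ≃+* (R ⧸ (maximalIdeal R) ^ n) ⧸ maximalIdeal (R ⧸ (maximalIdeal R) ^ n) :=
  RingEquiv.ofBijective (residueQuotHom R n) (residueQuotHom_bijective R n)

theorem residueQuotEquiv_symm_mk (n : ℕ) [NeZero n] (r : R) :
    (residueQuotEquiv R n).symm (Ideal.Quotient.mk _ (Ideal.Quotient.mk ((maximalIdeal R) ^ n) r)) =
      residue R r := by
  rw [RingEquiv.symm_apply_eq]
  exact (residueQuotHom_residue R n r).symm

end Groth.Agent.H15.Rigid
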