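import Mathlib
import Groth.Agent.H15.Rigid1
import Groth.Agent.H15.Rigid2

/-!
# Rigidity lemma, part 3: infinitesimal neighbourhoods of a fibre

For a flat morphism `p : X ⟶ S` to a locally noetherian scheme whose fibre at `s` has only constant
global functions, a morphism `F : X ⟶ Y` contracting the fibre `p⁻¹(s)` to a point factors, over
every infinitesimal neighbourhood `Spec (𝒪_{S,s} / 𝔪ⁿ)` of `s`, through the projection.
-/

set_option autoImplicit false
set_option linter.style.haveILetI false
universe u

open CategoryTheory CategoryTheory.Limits AlgebraicGeometry IsLocalRing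

namespace Groth.Agent.H15.Rigid

variable {S X Y : Scheme.{u}}

/-- the ring of the `n`-th infinitesimal neighbourhood of `s` -/
noncomputable abbrev thickRing (S : Scheme.{u}) (s : S) (n : ℕ) : CommRingCat.{u} :=
  CommRingCat.of ((S.presheaf.stalk s) ⧸ (maximalIdeal (S.presheaf.stalk s)) ^ n)

/-- the `n`-th infinitesimal neighbourhood of `s` -/
noncomputable abbrev thick (S : Scheme.{u}) (s : S) (n : ℕ) : Spec (thickRing S s n) ⟶ S :=
  Spec.map (CommRingCat.ofHom (Ideal.Quotient.mk ((maximalIdeal (S.presheaf.stalk s)) ^ n))) ≫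
    S.fromSpecStalk s

theorem thick_apply (s : S) (n : ℕ) (w : Spec (thickRing S s n)) : thick S s n w = s := by
  have h1 : Spec.map (CommRingCat.ofHom (Ideal.Quotient.mk ((maximalIdeal (S.presheaf.stalk s)) ^ n))) w
      = closedPoint (S.presheaf.stalk s) := by
    apply PrimeSpectrum.ext
    change Ideal.comap (Ideal.Quotient.mk ((maximalIdeal (S.presheaf.stalk s)) ^ n)) w.asIdeal
      = maximalIdeal (S.presheaf.stalk s)
    have hle : (maximalIdeal (S.presheaf.stalk s)) ^ n ≤
        Ideal.comap (Ideal.Quotient.mk ((maximalIdeal (S.presheaf.stalk s)) ^ n)) w.asIdeal := by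
      intro r hr
      rw [Ideal.mem_comap, Ideal.Quotient.eq_zero_iff_mem.mpr hr]
      exact Ideal.zero_mem _
    haveI hw : w.asIdeal.IsPrime := w.isPrime
    haveI hc : (Ideal.comap (Ideal.Quotient.mk ((maximalIdeal (S.presheaf.stalk s)) ^ n))
      w.asIdeal).IsPrime := Ideal.comap_isPrime _ _
    have h2 := Ideal.IsPrime.le_of_pow_le hle
    exact ((maximalIdeal.isMaximal _).eq_of_le hc.ne_top h2).symm
  rw [thick, Scheme.Hom.comp_apply, h1, Scheme.fromSpecStalk_closedPoint]

/-- Over the `n`-th infinitesimal neighbourhood of `s`, a morphism contracting the fibre of `p`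
at `s` factors through the projection. -/
theorem exists_fac_thick [IsLocallyNoetherian S] (p : X ⟶ S) [Flat p] (s : S)
    (h0 : Function.Bijective (pullback.snd p (S.fromSpecResidueField s)).appTop)
    (n : ℕ) [NeZero n] (F : X ⟶ Y) (y : Y) (hF : ∀ x : X, p x = s → F x = y) :
    ∃ r : Spec (thickRing S s n) ⟶ Y,
      pullback.fst p (thick S s n) ≫ F = pullback.snd p (thick S s n) ≫ r := by
  set O := S.presheaf.stalk s with hO
  set mn : O ⟶ thickRing S s n :=
    CommRingCat.ofHom (Ideal.Quotient.mk ((maximalIdeal O) ^ n)) with hmn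
  set C : Type u := (O ⧸ (maximalIdeal O) ^ n) with hC
  set mC : thickRing S s n ⟶ CommRingCat.of (C ⧸ maximalIdeal C) :=
    CommRingCat.ofHom (Ideal.Quotient.mk (maximalIdeal C)) with hmC
  -- the inverse of the identification of residue fields
  let ψi : CommRingCat.of (C ⧸ maximalIdeal C) ⟶ S.residueField s :=
    CommRingCat.ofHom (residueQuotEquiv O n).symm.toRingHom
  have hψ : mn ≫ mC ≫ ψi = S.residue s := by
    ext r
    exact residueQuotEquiv_symm_mk O n r
  haveI : IsIso ψi := by
    have : ψi = (residueQuotEquiv O n).symm.toCommRingCatIso.hom := rfl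
    rw [this]
    exact ⟨⟨(residueQuotEquiv O n).symm.toCommRingCatIso.inv, Iso.hom_inv_id _, Iso.inv_hom_id _⟩⟩
  set ρ := S.fromSpecResidueField s with hρ
  have hρ' : ρ = Spec.map ψi ≫ Spec.map mC ≫ thick S s n := by
    rw [hρ, Scheme.fromSpecResidueField, ← hψ, Spec.map_comp, Spec.map_comp, Category.assoc,
      Category.assoc]
    rfl
  let f₀ : pullback p ρ ⟶ Spec (CommRingCat.of (C ⧸ maximalIdeal C)) :=
    pullback.snd p ρ ≫ Spec.map ψi
  have w : pullback.fst p ρ ≫ p = (f₀ ≫ Spec.map mC) ≫ thick S s n := by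
    rw [pullback.condition, Category.assoc, Category.assoc, ← hρ']
  let i : pullback p ρ ⟶ pullback p (thick S s n) :=
    pullback.lift (pullback.fst p ρ) (f₀ ≫ Spec.map mC) w
  have outer : IsPullback (i ≫ pullback.fst p (thick S s n)) f₀ p (Spec.map mC ≫ thick S s n) := by
    rw [pullback.lift_fst]
    refine IsPullback.of_iso (IsPullback.of_hasPullback p ρ) (Iso.refl _) (Iso.refl _)
      (asIso (Spec.map ψi)) (Iso.refl _) ?_ ?_ ?_ ?_
    · simp
    · simp [f₀]
    · simp
    · simp only [Iso.refl_hom, Category.comp_id, asIso_hom]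
      exact hρ'
  have hsq : IsPullback i f₀ (pullback.snd p (thick S s n)) (Spec.map mC) :=
    IsPullback.of_right outer (pullback.lift_snd _ _ _) (IsPullback.of_hasPullback p (thick S s n))
  have h0' : Function.Bijective ((Scheme.ΓSpecIso (CommRingCat.of (C ⧸ maximalIdeal C))).inv ≫
      f₀.appTop) := by
    have e : (Scheme.ΓSpecIso (CommRingCat.of (C ⧸ maximalIdeal C))).inv ≫ f₀.appTop =
        ψi ≫ (Scheme.ΓSpecIso (S.residueField s)).inv ≫ (pullback.snd p ρ).appTop := by
      rw [Scheme.Hom.comp_appTop, ← Category.assoc, ← Scheme.ΓSpecIso_inv_naturality,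
        Category.assoc]
    rw [e]
    haveI : IsIso (pullback.snd p ρ).appTop := (ConcreteCategory.isIso_iff_bijective _).mpr h0
    exact ConcreteCategory.bijective_of_isIso _
  have hF' : ∀ z : ↥(pullback p (thick S s n)), (pullback.fst p (thick S s n) ≫ F) z = y := by
    intro z
    rw [Scheme.Hom.comp_apply]
    apply hF
    rw [← Scheme.Hom.comp_apply, pullback.condition, Scheme.Hom.comp_apply, thick_apply]
  exact exists_fac_artinian C (pullback.snd p (thick S s n)) i f₀ hsq h0'
    (pullback.fst p (thick S s n) ≫ F) y hF'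

end Groth.Agent.H15.Rigid
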