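import Mathlib
import Groth.Agent.H15.Rigid3

/-!
# Rigidity lemma, part 4: from infinitesimal neighbourhoods to an open neighbourhood

Krull's intersection theorem shows that two morphisms `Spec R ⟶ Y` (with `R` noetherian local,
`Y` separated over a base over which they agree) which agree on all `Spec (R / Kₙ)` with
`Kₙ ≤ 𝔪ⁿ` are equal.  Together with part 3 and spreading out this gives: if `p : X ⟶ S` is flat
with a section `e`, and `F` contracts the fibre through `x`, then `F = p ≫ e ≫ F` near `x`.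
-/

set_option autoImplicit false
set_option linter.style.haveILetI false
universe u

open CategoryTheory CategoryTheory.Limits AlgebraicGeometry IsLocalRing

namespace Groth.Agent.H15.Rigid

theorem krull_ext (R : CommRingCat.{u}) [IsNoetherianRing R] [IsLocalRing R] {Y B : Scheme.{u}}
    (q : Y ⟶ B) [IsSeparated q] (a b : Spec R ⟶ Y) (hab : a ≫ q = b ≫ q) (K : ℕ → Ideal R)
    (hK : ∀ n, K n ≤ (maximalIdeal R) ^ n)
    (h : ∀ n, n ≠ 0 → Spec.map (CommRingCat.ofHom (Ideal.Quotient.mk (K n))) ≫ a =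
      Spec.map (CommRingCat.ofHom (Ideal.Quotient.mk (K n))) ≫ b) : a = b := by
  let A' : Over B := Over.mk (a ≫ q)
  let Y' : Over B := Over.mk q
  let a' : A' ⟶ Y' := Over.homMk a rfl
  let b' : A' ⟶ Y' := Over.homMk b hab.symm
  haveI : IsSeparated Y'.hom := ‹_›
  have hci : IsClosedImmersion (equalizer.ι a' b').left := inferInstance
  obtain ⟨J, e, he⟩ := IsClosedImmersion.Spec_iff.mp hci
  have hJ : ∀ n, n ≠ 0 → J ≤ K n := by
    intro n hn
    let c := Spec.map (CommRingCat.ofHom (Ideal.Quotient.mk (K n)))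
    let c' : Over.mk (c ≫ a ≫ q) ⟶ A' := Over.homMk c rfl
    have hc' : c' ≫ a' = c' ≫ b' := by
      apply Over.OverMorphism.ext
      exact h n hn
    let l := equalizer.lift c' hc'
    have hl : l.left ≫ (equalizer.ι a' b').left = c := by
      rw [← Over.comp_left, equalizer.lift_ι]
      rfl
    obtain ⟨θ, hθ⟩ : ∃ θ : CommRingCat.of (R ⧸ J) ⟶ CommRingCat.of (R ⧸ K n),
        Spec.map θ = l.left ≫ e.hom := ⟨Spec.preimage _, Spec.map_preimage _⟩
    have hl2 : Spec.map (CommRingCat.ofHom (Ideal.Quotient.mk J) ≫ θ) =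
        Spec.map (CommRingCat.ofHom (Ideal.Quotient.mk (K n))) := by
      rw [Spec.map_comp, hθ, Category.assoc, ← he]
      exact hl
    have h2 := Spec.map_injective hl2
    intro r hr
    have h1 : (Ideal.Quotient.mk (K n)) r = θ ((Ideal.Quotient.mk J) r) := by
      have := congrArg (fun φ => φ.hom r) h2
      exact this.symm
    rw [Ideal.Quotient.eq_zero_iff_mem.mpr hr, map_zero] at h1
    exact Ideal.Quotient.eq_zero_iff_mem.mp h1
  have hJ0 : J = ⊥ := by
    have h1 : J ≤ ⨅ n, (maximalIdeal R) ^ n := by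
      refine le_iInf fun n => ?_
      rcases Nat.eq_zero_or_pos n with rfl | hn
      · simp
      · exact (hJ n hn.ne').trans (hK n)
    rw [Ideal.iInf_pow_eq_bot_of_isLocalRing _ (maximalIdeal.isMaximal R).ne_top] at h1
    exact le_bot_iff.mp h1
  haveI : IsIso (equalizer.ι a' b').left := by
    rw [he]
    haveI : IsIso (CommRingCat.ofHom (Ideal.Quotient.mk J)) := by
      rw [ConcreteCategory.isIso_iff_bijective]
      refine ⟨?_, Ideal.Quotient.mk_surjective⟩
      rw [hJ0]
      exact (RingHom.injective_iff_ker_eq_bot _).mpr Ideal.mk_ker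
    infer_instance
  have h3 := congrArg Over.Hom.left (equalizer.condition a' b')
  exact (cancel_epi (equalizer.ι a' b').left).mp h3

variable {S X Y B : Scheme.{u}}

/-- the ideals defining the thickened local points -/
noncomputable abbrev thickIdeal (p : X ⟶ S) (x : X) (n : ℕ) : Ideal (X.presheaf.stalk x) :=
  Ideal.map (p.stalkMap x).hom ((maximalIdeal (S.presheaf.stalk (p x))) ^ n)

theorem thickIdeal_le (p : X ⟶ S) (x : X) (n : ℕ) :
    thickIdeal p x n ≤ (maximalIdeal (X.presheaf.stalk x)) ^ n := by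
  unfold thickIdeal
  rw [Ideal.map_pow]
  have hloc : IsLocalHom (p.stalkMap x).hom := inferInstance
  exact Ideal.pow_right_mono
    (((IsLocalRing.local_hom_TFAE (p.stalkMap x).hom).out 0 2).mp hloc) n

/-- the map on thickenings induced by the stalk map -/
noncomputable abbrev thickMap (p : X ⟶ S) (x : X) (n : ℕ) :
    thickRing S (p x) n ⟶ CommRingCat.of ((X.presheaf.stalk x) ⧸ thickIdeal p x n) :=
  CommRingCat.ofHom (Ideal.quotientMap (thickIdeal p x n) (p.stalkMap x).hom Ideal.le_comap_map)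

theorem spec_quot_comm {O R : CommRingCat.{u}} (φ : O ⟶ R) (I : Ideal O) (K : Ideal R)
    (h : I ≤ K.comap φ.hom) :
    Spec.map (CommRingCat.ofHom (Ideal.Quotient.mk K)) ≫ Spec.map φ =
      Spec.map (CommRingCat.ofHom (Ideal.quotientMap K φ.hom h)) ≫
        Spec.map (CommRingCat.ofHom (Ideal.Quotient.mk I)) := by
  rw [← Spec.map_comp, ← Spec.map_comp]
  congr 1

theorem thickMap_comm (p : X ⟶ S) (x : X) (n : ℕ) :
    (Spec.map (CommRingCat.ofHom (Ideal.Quotient.mk (thickIdeal p x n))) ≫ X.fromSpecStalk x) ≫ p =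
      Spec.map (thickMap p x n) ≫ thick S (p x) n :=
  calc (Spec.map (CommRingCat.ofHom (Ideal.Quotient.mk (thickIdeal p x n))) ≫ X.fromSpecStalk x) ≫ p
      = Spec.map (CommRingCat.ofHom (Ideal.Quotient.mk (thickIdeal p x n))) ≫
          (X.fromSpecStalk x ≫ p) := Category.assoc _ _ _
    _ = Spec.map (CommRingCat.ofHom (Ideal.Quotient.mk (thickIdeal p x n))) ≫
          (Spec.map (p.stalkMap x) ≫ S.fromSpecStalk (p x)) :=
        congrArg (Spec.map (CommRingCat.ofHom (Ideal.Quotient.mk (thickIdeal p x n))) ≫ ·)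
          (Scheme.SpecMap_stalkMap_fromSpecStalk p (x := x)).symm
    _ = (Spec.map (CommRingCat.ofHom (Ideal.Quotient.mk (thickIdeal p x n))) ≫
          Spec.map (p.stalkMap x)) ≫ S.fromSpecStalk (p x) := (Category.assoc _ _ _).symm
    _ = (Spec.map (thickMap p x n) ≫ Spec.map (CommRingCat.ofHom
          (Ideal.Quotient.mk ((maximalIdeal (S.presheaf.stalk (p x))) ^ n)))) ≫
          S.fromSpecStalk (p x) :=
        congrArg (· ≫ S.fromSpecStalk (p x))
          (spec_quot_comm (p.stalkMap x) _ (thickIdeal p x n) Ideal.le_comap_map)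
    _ = Spec.map (thickMap p x n) ≫ thick S (p x) n := Category.assoc _ _ _

/-- With a section `e` of `p`, a morphism contracting the fibre through `x` agrees with
`p ≫ e ≫ F` on `Spec 𝒪_{X,x}`. -/
theorem agree_at_stalk [IsLocallyNoetherian S] [IsLocallyNoetherian X] (p : X ⟶ S) [Flat p]
    (e : S ⟶ X) (he : e ≫ p = 𝟙 S) (q : Y ⟶ B) [IsSeparated q] (b : S ⟶ B)
    (F : X ⟶ Y) (hFq : F ≫ q = p ≫ b) (x : X)
    (h0 : Function.Bijective (pullback.snd p (S.fromSpecResidueField (p x))).appTop)
    (hF : ∀ x' : X, p x' = p x → F x' = F x) :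
    X.fromSpecStalk x ≫ F = X.fromSpecStalk x ≫ p ≫ e ≫ F := by
  have hq : (X.fromSpecStalk x ≫ F) ≫ q = (X.fromSpecStalk x ≫ p ≫ e ≫ F) ≫ q := by
    simp only [Category.assoc, hFq]
    rw [reassoc_of% he]
  refine krull_ext (X.presheaf.stalk x) q _ _ hq (thickIdeal p x) (thickIdeal_le p x) ?_
  intro n hn
  haveI : NeZero n := ⟨hn⟩
  obtain ⟨r, hr⟩ := exists_fac_thick p (p x) h0 n F (F x) hF
  -- the section over the thickening
  let en : Spec (thickRing S (p x) n) ⟶ pullback p (thick S (p x) n) :=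
    pullback.lift (thick S (p x) n ≫ e) (𝟙 _) (by rw [Category.assoc, he, Category.comp_id,
      Category.id_comp])
  have hr' : r = thick S (p x) n ≫ e ≫ F := by
    have h1 : en ≫ pullback.fst p (thick S (p x) n) ≫ F =
        en ≫ pullback.snd p (thick S (p x) n) ≫ r := by
      rw [hr]
    rw [pullback.lift_fst_assoc, pullback.lift_snd_assoc, Category.id_comp, Category.assoc] at h1
    exact h1.symm
  have hagree : pullback.fst p (thick S (p x) n) ≫ F =
      pullback.fst p (thick S (p x) n) ≫ p ≫ e ≫ F := by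
    rw [hr, hr', pullback.condition_assoc]
  -- the thickened local point factors through the thickened fibre
  let ln : Spec (CommRingCat.of ((X.presheaf.stalk x) ⧸ thickIdeal p x n)) ⟶
      pullback p (thick S (p x) n) :=
    pullback.lift _ _ (thickMap_comm p x n)
  have hl : ln ≫ pullback.fst p (thick S (p x) n) =
      Spec.map (CommRingCat.ofHom (Ideal.Quotient.mk (thickIdeal p x n))) ≫ X.fromSpecStalk x :=
    pullback.lift_fst _ _ _
  rw [← Category.assoc, ← Category.assoc, ← hl, Category.assoc, Category.assoc, hagree]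

/-- With a section `e` of `p`, a morphism contracting the fibre through `x` agrees with
`p ≫ e ≫ F` on an open neighbourhood of `x`. -/
theorem exists_open_agree [IsLocallyNoetherian S] [IsLocallyNoetherian X] (p : X ⟶ S) [Flat p]
    (e : S ⟶ X) (he : e ≫ p = 𝟙 S) (q : Y ⟶ B) [IsSeparated q] (b : S ⟶ B)
    (F : X ⟶ Y) (hFq : F ≫ q = p ≫ b) (x : X)
    (h0 : Function.Bijective (pullback.snd p (S.fromSpecResidueField (p x))).appTop)
    (hF : ∀ x' : X, p x' = p x → F x' = F x) :
    ∃ U : X.Opens, x ∈ U ∧ U.ι ≫ F = U.ι ≫ p ≫ e ≫ F :=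
  spread_out_unique_of_isGermInjective' F (p ≫ e ≫ F)
    (agree_at_stalk p e he q b F hFq x h0 hF)

end Groth.Agent.H15.Rigid
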