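import Mathlib

/-!
# A topological lemma: open sets stable under specialisation in locally noetherian sober spaces
are closed
-/

set_option autoImplicit false
set_option linter.style.haveILetI false
universe u

open TopologicalSpace

namespace Groth.Agent.H15.Rigid

theorem isClosed_of_isOpen_of_stableUnderSpecialization {α : Type*} [TopologicalSpace α]
    [QuasiSober α]
    (hloc : ∀ x : α, ∃ V : Set α, IsOpen V ∧ x ∈ V ∧ NoetherianSpace V)
    (C : Set α) (hC : IsOpen C) (hs : StableUnderSpecialization C) : IsClosed C := by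
  rw [← closure_subset_iff_isClosed]
  intro s hsC
  obtain ⟨V, hVo, hsV, hVn⟩ := hloc s
  haveI : QuasiSober V := hVo.isOpenEmbedding_subtypeVal.quasiSober
  let CV : Set V := Subtype.val ⁻¹' C
  have hCV : IsOpen CV := hC.preimage continuous_subtype_val
  let sV : V := ⟨s, hsV⟩
  have hsV' : sV ∈ closure CV := by
    rw [mem_closure_iff]
    intro W hW hsW
    obtain ⟨W', hW', rfl⟩ := isOpen_induced_iff.mp hW
    have h1 : s ∈ W' ∩ V := ⟨hsW, hsV⟩
    obtain ⟨z, ⟨hzW, hzV⟩, hzC⟩ := mem_closure_iff.mp hsC (W' ∩ V) (hW'.inter hVo) h1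
    exact ⟨⟨z, hzV⟩, hzW, hzC⟩
  have hfin : (irreducibleComponents V).Finite := NoetherianSpace.finite_irreducibleComponents
  have hcov : CV = ⋃ Z ∈ irreducibleComponents V, (CV ∩ Z) := by
    ext z
    simp only [Set.mem_iUnion, Set.mem_inter_iff, exists_and_left, exists_prop]
    constructor
    · intro hz
      have : z ∈ ⋃₀ irreducibleComponents V := by
        rw [sUnion_irreducibleComponents]; trivial
      obtain ⟨Z, hZ, hzZ⟩ := this
      exact ⟨hz, Z, hZ, hzZ⟩
    · rintro ⟨hz, -⟩
      exact hz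
  rw [hcov, hfin.closure_biUnion] at hsV'
  simp only [Set.mem_iUnion, exists_prop] at hsV'
  obtain ⟨Z, hZ, hsZ⟩ := hsV'
  have hZc : IsClosed Z := isClosed_of_mem_irreducibleComponents Z hZ
  have hZi : IsIrreducible Z := hZ.1
  obtain ⟨η, hη⟩ := QuasiSober.sober hZi hZc
  have hsZ' : sV ∈ Z := by
    have : closure (CV ∩ Z) ⊆ Z := (closure_minimal Set.inter_subset_right hZc)
    exact this hsZ
  have hne : (Z ∩ CV).Nonempty := by
    by_contra hne
    rw [Set.not_nonempty_iff_eq_empty, Set.inter_comm] at hne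
    rw [hne, closure_empty] at hsZ
    exact hsZ
  have hηC : η ∈ CV := (hη.mem_open_set_iff hCV).mpr hne
  have hspec : η ⤳ sV := hη.specializes hsZ'
  have hspec' : (η : α) ⤳ s := hspec.map continuous_subtype_val
  exact hs hspec' hηC

end Groth.Agent.H15.Rigid
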