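import Mathlib
import Groth.Agent.H15.Rigid4
import Groth.Agent.H15.Rigid5

/-!
# Rigidity lemma, part 6: the case of a section

Let `p : X ⟶ S` be a flat closed morphism of locally noetherian schemes with a section `e`, whose
fibres have only constant global functions, and `F : X ⟶ Y` a morphism with `Y` separated over a
base `B` over which `F` and `p ≫ e ≫ F` agree.  The set of points of `S` whose fibre is contracted
by `F` is open and closed, and over it `F = p ≫ e ≫ F`.
-/

set_option autoImplicit false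
set_option linter.style.haveILetI false
universe u

open CategoryTheory CategoryTheory.Limits AlgebraicGeometry

namespace Groth.Agent.H15.Rigid

variable {S X Y B : Scheme.{u}}

/-- the locus of points whose fibre is contracted to a point by `F` -/
def collapsed (p : X ⟶ S) (F : X ⟶ Y) : Set S := {s | ∃ y : Y, ∀ x : X, p x = s → F x = y}

theorem isClosed_of_isOpen_of_stableUnderSpecialization_scheme [IsLocallyNoetherian S] (C : Set S)
    (hC : IsOpen C) (hs : StableUnderSpecialization C) : IsClosed C := by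
  refine isClosed_of_isOpen_of_stableUnderSpecialization ?_ C hC hs
  intro x
  obtain ⟨_, ⟨V, hV, rfl⟩, hxV, -⟩ :=
    S.isBasis_affineOpens.exists_subset_of_mem_open (Set.mem_univ x) isOpen_univ
  haveI : IsNoetherianRing Γ(S, V) := IsLocallyNoetherian.component_noetherian ⟨V, hV⟩
  exact ⟨V, V.isOpen, hxV, noetherianSpace_of_isAffineOpen V hV⟩

theorem section_case [IsLocallyNoetherian S] [IsLocallyNoetherian X] (p : X ⟶ S) [Flat p]
    (hcl : IsClosedMap p) (e : S ⟶ X) (he : e ≫ p = 𝟙 S) (q : Y ⟶ B) [IsSeparated q] (b : S ⟶ B)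
    (F : X ⟶ Y) (hFq : F ≫ q = p ≫ b)
    (h0 : ∀ s : S, Function.Bijective (pullback.snd p (S.fromSpecResidueField s)).appTop) :
    IsClopen (collapsed p F) ∧
      ∀ x : X, p x ∈ collapsed p F → ∃ U : X.Opens, x ∈ U ∧ U.ι ≫ F = U.ι ≫ p ≫ e ≫ F := by
  set G := p ≫ e ≫ F with hG
  have hloc : ∀ x : X, p x ∈ collapsed p F → ∃ U : X.Opens, x ∈ U ∧ U.ι ≫ F = U.ι ≫ G := by
    rintro x ⟨y, hy⟩
    exact exists_open_agree p e he q b F hFq x (h0 (p x))
      (fun x' hx' => (hy x' hx').trans (hy x rfl).symm)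
  refine ⟨?_, hloc⟩
  -- the open set where `F` and `G` agree
  let N : Set X := {x | ∃ U : X.Opens, x ∈ U ∧ U.ι ≫ F = U.ι ≫ G}
  have hNo : IsOpen N := by
    rw [isOpen_iff_forall_mem_open]
    rintro x ⟨U, hxU, hU⟩
    exact ⟨U, fun x' hx' => ⟨U, hx', hU⟩, U.isOpen, hxU⟩
  have hGpt : ∀ x : X, G x = (e ≫ F) (p x) := by
    intro x
    rw [hG, Scheme.Hom.comp_apply]
  have hNpt : ∀ x ∈ N, F x = (e ≫ F) (p x) := by
    rintro x ⟨U, hxU, hU⟩
    rw [← hGpt]
    obtain ⟨z, rfl⟩ : ∃ z : (U : Scheme.{u}), U.ι z = x := by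
      have : x ∈ Set.range U.ι := by rw [Scheme.Opens.range_ι]; exact hxU
      exact this
    have h1 : (U.ι ≫ F) z = (U.ι ≫ G) z := by rw [hU]
    rw [Scheme.Hom.comp_apply, Scheme.Hom.comp_apply] at h1
    exact h1
  have hopen : IsOpen (collapsed p F) := by
    rw [isOpen_iff_forall_mem_open]
    intro s hs
    refine ⟨(p '' Nᶜ)ᶜ, ?_, (hcl _ hNo.isClosed_compl).isOpen_compl, ?_⟩
    · intro s' hs'
      refine ⟨(e ≫ F) s', fun x hx => ?_⟩
      have hxN : x ∈ N := by
        by_contra hxN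
        exact hs' ⟨x, hxN, hx⟩
      rw [hNpt x hxN, hx]
    · rintro ⟨x, hxN, hx⟩
      exact hxN (hloc x (hx ▸ hs))
  refine ⟨?_, hopen⟩
  apply isClosed_of_isOpen_of_stableUnderSpecialization_scheme _ hopen
  intro s' s₀ hspec hs'
  -- the equaliser of `F` and `G`
  have hGq : G ≫ q = F ≫ q := by
    rw [hG, Category.assoc, Category.assoc, hFq, reassoc_of% he]
  let A' : Over B := Over.mk (F ≫ q)
  let Y' : Over B := Over.mk q
  let F' : A' ⟶ Y' := Over.homMk F rfl
  let G' : A' ⟶ Y' := Over.homMk G hGq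
  haveI : IsSeparated Y'.hom := ‹_›
  have hci : IsClosedImmersion (equalizer.ι F' G').left := inferInstance
  have hcr : IsClosed (Set.range (equalizer.ι F' G').left) :=
    (equalizer.ι F' G').left.isClosedEmbedding.isClosed_range
  have hNr : N ⊆ Set.range (equalizer.ι F' G').left := by
    rintro x ⟨U, hxU, hU⟩
    let u' : Over.mk (U.ι ≫ F ≫ q) ⟶ A' := Over.homMk U.ι rfl
    have hu' : u' ≫ F' = u' ≫ G' := by
      apply Over.OverMorphism.ext
      exact hU
    let l := equalizer.lift u' hu'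
    let l0 : (U : Scheme.{u}) ⟶ (equalizer F' G').left := l.left
    have hl : l0 ≫ (equalizer.ι F' G').left = U.ι := by
      change l.left ≫ (equalizer.ι F' G').left = U.ι
      rw [← Over.comp_left, equalizer.lift_ι]
      rfl
    obtain ⟨z, rfl⟩ : ∃ z : (U : Scheme.{u}), U.ι z = x := by
      have : x ∈ Set.range U.ι := by rw [Scheme.Opens.range_ι]; exact hxU
      exact this
    refine ⟨l0 z, ?_⟩
    rw [← Scheme.Hom.comp_apply, hl]
  have hrpt : ∀ x ∈ Set.range (equalizer.ι F' G').left, F x = (e ≫ F) (p x) := by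
    rintro _ ⟨z, rfl⟩
    rw [← hGpt, ← Scheme.Hom.comp_apply, ← Scheme.Hom.comp_apply]
    have h3 := congrArg Over.Hom.left (equalizer.condition F' G')
    exact congrArg (fun φ : (equalizer F' G').left ⟶ Y => φ z) h3
  refine ⟨(e ≫ F) s₀, fun x hx => ?_⟩
  obtain ⟨x', hx'x, hx's⟩ := (Flat.generalizingMap (f := p)) (hx ▸ hspec)
  have hx'N : x' ∈ N := hloc x' (hx's ▸ hs')
  have hxr : x ∈ Set.range (equalizer.ι F' G').left := by
    have : x ∈ closure {x'} := specializes_iff_mem_closure.mp hx'x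
    exact (closure_minimal (Set.singleton_subset_iff.mpr (hNr hx'N)) hcr) this
  rw [hrpt x hxr, hx]

end Groth.Agent.H15.Rigid
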