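import Mathlib
import Groth.Agent.H15.Rigid6

/-!
# Rigidity lemma, part 7: fibres of a base change and surjectivity
-/

set_option autoImplicit false
set_option linter.style.haveILetI false
universe u

open CategoryTheory CategoryTheory.Limits AlgebraicGeometry

namespace Groth.Agent.H15.Rigid

variable {S X T : Scheme.{u}}

/-- if all fibres have global functions `κ(s)`, they are nonempty -/
theorem surjective_of_bijective_appTop (p : X ⟶ S)
    (h0 : ∀ s : S, Function.Bijective (pullback.snd p (S.fromSpecResidueField s)).appTop) :
    Function.Surjective p := by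
  intro s
  have hne : Nonempty ↥(pullback p (S.fromSpecResidueField s)) := by
    by_contra hne
    rw [not_nonempty_iff] at hne
    haveI : Subsingleton Γ(pullback p (S.fromSpecResidueField s), ⊤) := inferInstance
    haveI : Nontrivial Γ(Spec (S.residueField s), ⊤) :=
      (Scheme.ΓSpecIso (S.residueField s)).commRingCatIsoToRingEquiv.nontrivial
    obtain ⟨a, b, hab⟩ := exists_pair_ne Γ(Spec (S.residueField s), ⊤)
    exact hab ((h0 s).1 (Subsingleton.elim _ _))
  obtain ⟨z⟩ := hne
  refine ⟨pullback.fst p (S.fromSpecResidueField s) z, ?_⟩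
  rw [← Scheme.Hom.comp_apply, pullback.condition, Scheme.Hom.comp_apply,
    Scheme.fromSpecResidueField_apply]

/-- Global functions on the fibres of a base change of a quasi-compact quasi-separated morphism. -/
theorem bijective_appTop_fibre_baseChange (p : X ⟶ S) [QuasiCompact p] [QuasiSeparated p]
    (π : T ⟶ S) (t : T)
    (h : Function.Bijective (pullback.snd p (S.fromSpecResidueField (π t))).appTop) :
    Function.Bijective (pullback.snd (pullback.snd p π) (T.fromSpecResidueField t)).appTop := by
  set ρ := S.fromSpecResidueField (π t) with hρ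
  set τ := T.fromSpecResidueField t with hτ
  set ι := π.residueFieldMap t with hιdef
  have hι : Spec.map ι ≫ ρ = τ ≫ π := Scheme.Hom.SpecMap_residueFieldMap_fromSpecResidueField π t
  have outer : IsPullback (pullback.fst (pullback.snd p π) τ ≫ pullback.fst p π)
      (pullback.snd (pullback.snd p π) τ) p (τ ≫ π) :=
    (IsPullback.of_hasPullback (pullback.snd p π) τ).paste_horiz (IsPullback.of_hasPullback p π)
  let m : pullback (pullback.snd p π) τ ⟶ pullback p ρ :=
    pullback.lift (pullback.fst (pullback.snd p π) τ ≫ pullback.fst p π)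
      (pullback.snd (pullback.snd p π) τ ≫ Spec.map ι) (by rw [outer.w, Category.assoc, hι])
  have sq : IsPullback m (pullback.snd (pullback.snd p π) τ) (pullback.snd p ρ) (Spec.map ι) := by
    refine IsPullback.of_right ?_ (pullback.lift_snd _ _ _) (IsPullback.of_hasPullback p ρ)
    rw [pullback.lift_fst, hι]
    exact outer
  haveI : Flat (Spec.map ι) := by
    rw [Flat.SpecMap_iff]
    letI := ι.hom.toAlgebra
    have : Module.Flat ↑(S.residueField (π t)) ↑(T.residueField t) := inferInstance
    exact this
  haveI : CompactSpace ↥(pullback p ρ) :=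
    (quasiCompact_iff_compactSpace (pullback.snd p ρ)).mp inferInstance
  haveI : QuasiSeparatedSpace ↥(pullback p ρ) :=
    (quasiSeparated_iff_quasiSeparatedSpace (pullback.snd p ρ)).mp inferInstance
  have hiso := isIso_pushoutSection_of_isQuasiSeparated_of_flat_right sq
    (US := ⊤) (UT := ⊤) (UX := ⊤) (UY := ⊤) le_top le_top (by simp)
    (isAffineOpen_top _) (isAffineOpen_top _) isCompact_univ
    (isQuasiSeparated_univ_iff.mpr inferInstance)
  have hpo := (isIso_pushoutSection_iff sq le_top le_top (by simp)).mp hiso
  have e1 : (pullback.snd p ρ).appLE ⊤ ⊤ le_top = (pullback.snd p ρ).appTop := by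
    simp [Scheme.Hom.appLE]
    try exact Category.comp_id _
  have e2 : (pullback.snd (pullback.snd p π) τ).appLE ⊤ ⊤ le_top =
      (pullback.snd (pullback.snd p π) τ).appTop := by
    simp [Scheme.Hom.appLE]
    try exact Category.comp_id _
  haveI : IsIso ((pullback.snd p ρ).appLE ⊤ ⊤ le_top) := by
    rw [e1]
    exact (ConcreteCategory.isIso_iff_bijective _).mpr h
  have h2 := hpo.isIso_inr_of_isIso
  rw [e2] at h2
  exact ConcreteCategory.bijective_of_isIso _

end Groth.Agent.H15.Rigid
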