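import Mathlib
import Groth.Agent.H15.Rigid7

/-!
# Rigidity lemma, part 8: the proper case and the general statement

For `p : X ⟶ S` proper and flat, base change along `p` itself produces a section (the diagonal);
the case of a section applies to `X ×_S X ⟶ X`, and faithfully flat descent of morphisms
(`EffectiveEpi p`) gives the factorisation of `F` through `p`.
-/

set_option autoImplicit false
set_option linter.style.haveILetI false
universe u

open CategoryTheory CategoryTheory.Limits AlgebraicGeometry

namespace Groth.Agent.H15.Rigid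

variable {S X Y B : Scheme.{u}}

theorem proper_case [IsLocallyNoetherian S] [IsLocallyNoetherian X] (p : X ⟶ S) [Flat p]
    [IsProper p] (q : Y ⟶ B) [IsSeparated q] (b : S ⟶ B) (F : X ⟶ Y) (hFq : F ≫ q = p ≫ b)
    (h0 : ∀ s : S, Function.Bijective (pullback.snd p (S.fromSpecResidueField s)).appTop) :
    IsClopen (collapsed p F) ∧ (collapsed p F = Set.univ → ∃ t : S ⟶ Y, F = p ≫ t) := by
  let p' : pullback p p ⟶ X := pullback.snd p p
  let e' : X ⟶ pullback p p := pullback.lift (𝟙 X) (𝟙 X) rfl
  have he' : e' ≫ p' = 𝟙 X := pullback.lift_snd _ _ _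
  let F' : pullback p p ⟶ Y := pullback.fst p p ≫ F
  have hF'q : F' ≫ q = p' ≫ (p ≫ b) := by
    change (pullback.fst p p ≫ F) ≫ q = pullback.snd p p ≫ p ≫ b
    rw [Category.assoc, hFq, pullback.condition_assoc]
  haveI : IsLocallyNoetherian (pullback p p) := LocallyOfFiniteType.isLocallyNoetherian p'
  have hcl : IsClosedMap p' := p'.isClosedMap
  have h0' : ∀ x : X, Function.Bijective (pullback.snd p' (X.fromSpecResidueField x)).appTop :=
    fun x => bijective_appTop_fibre_baseChange p p x (h0 (p x))
  obtain ⟨hclopen', hloc'⟩ := section_case p' hcl e' he' q (p ≫ b) F' hF'q h0'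
  have hsurj : Function.Surjective p := surjective_of_bijective_appTop p h0
  have key : collapsed p' F' = p ⁻¹' (collapsed p F) := by
    ext x
    constructor
    · rintro ⟨y, hy⟩
      refine ⟨y, fun x₁ hx₁ => ?_⟩
      obtain ⟨z, hz1, hz2⟩ := Scheme.Pullback.exists_preimage_pullback x₁ x hx₁
      have h1 := hy z hz2
      change (pullback.fst p p ≫ F) z = y at h1
      rw [Scheme.Hom.comp_apply, hz1] at h1
      exact h1
    · rintro ⟨y, hy⟩
      refine ⟨y, fun z hz => ?_⟩
      change (pullback.fst p p ≫ F) z = y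
      rw [Scheme.Hom.comp_apply]
      apply hy
      rw [← Scheme.Hom.comp_apply, pullback.condition, Scheme.Hom.comp_apply]
      exact congrArg p hz
  have hquot : Topology.IsQuotientMap p :=
    p.isClosedMap.isQuotientMap p.continuous hsurj
  refine ⟨?_, fun huniv => ?_⟩
  · rw [← hquot.isClopen_preimage, ← key]
    exact hclopen'
  · have huniv' : ∀ z : ↥(pullback p p), p' z ∈ collapsed p' F' := by
      intro z
      rw [key, huniv]
      trivial
    have hF' : F' = p' ≫ e' ≫ F' := Scheme.hom_ext_of_forall _ _ (fun z => hloc' z (huniv' z))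
    have heq : pullback.fst p p ≫ F = pullback.snd p p ≫ F := by
      have h1 : e' ≫ F' = F := by
        change e' ≫ pullback.fst p p ≫ F = F
        rw [pullback.lift_fst_assoc, Category.id_comp]
      rw [h1] at hF'
      exact hF'
    haveI : Surjective p := ⟨hsurj⟩
    refine ⟨EffectiveEpi.desc p F (fun {Z} g₁ g₂ hg => ?_), (EffectiveEpi.fac p F _).symm⟩
    have h1 : g₁ = pullback.lift g₁ g₂ hg ≫ pullback.fst p p := (pullback.lift_fst _ _ _).symm
    have h2 : g₂ = pullback.lift g₁ g₂ hg ≫ pullback.snd p p := (pullback.lift_snd _ _ _).symm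
    rw [h1, Category.assoc, heq, ← Category.assoc, ← h2]

/-- **Rigidity lemma** (general form).  `p : X ⟶ S` flat with `κ(s) = H⁰(X_s, 𝒪)` for all `s`,
`S` connected, `p` proper or closed with a section, `Y` separated over a base `B` over which
`F` is compatible with `p`.  If `F` contracts one fibre of `p` to a point, `F` factors through
`p`. -/
theorem rigidity [IsLocallyNoetherian S] [IsLocallyNoetherian X] [ConnectedSpace S] (p : X ⟶ S)
    [Flat p] (q : Y ⟶ B) [IsSeparated q] (b : S ⟶ B) (F : X ⟶ Y) (hFq : F ≫ q = p ≫ b)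
    (h0 : ∀ s : S, Function.Bijective (pullback.snd p (S.fromSpecResidueField s)).appTop)
    (hp : IsProper p ∨ (IsClosedMap p ∧ ∃ e : S ⟶ X, e ≫ p = 𝟙 S))
    (s : S) (hs : s ∈ collapsed p F) : ∃ t : S ⟶ Y, F = p ≫ t := by
  rcases hp with hp | ⟨hcl, e, he⟩
  · obtain ⟨hclopen, hfac⟩ := proper_case p q b F hFq h0
    exact hfac (hclopen.eq_univ ⟨s, hs⟩)
  · obtain ⟨hclopen, hloc⟩ := section_case p hcl e he q b F hFq h0
    have huniv : collapsed p F = Set.univ := hclopen.eq_univ ⟨s, hs⟩
    refine ⟨e ≫ F, Scheme.hom_ext_of_forall _ _ (fun x => hloc x ?_)⟩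
    rw [huniv]
    trivial

end Groth.Agent.H15.Rigid
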