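import Mathlib

set_option autoImplicit false
set_option linter.style.haveILetI false
set_option linter.unusedSectionVars false

namespace Groth.Agent.H15.SmoothField

universe u v

variable {R : Type u} [CommRing R] [IsNoetherianRing R] {K : Type v} [Field K] [Algebra R K]

/-- core lemma: a finite type subalgebra `A₀` with fraction field `K`, `K` formally smooth over `R`,
can be enlarged (by inverting one element) to a smooth subalgebra. -/
theorem exists_smooth_subalgebra (A₀ : Subalgebra R K) [Algebra.FiniteType R A₀]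
    [IsFractionRing A₀ K] [Algebra.FormallySmooth R K] :
    ∃ A : Subalgebra R K, Algebra.FiniteType R A ∧ Algebra.Smooth R A ∧ IsFractionRing A K := by
  haveI : Algebra.FinitePresentation R A₀ := Algebra.FinitePresentation.of_finiteType.1 inferInstance
  haveI hbp : (⊥ : Ideal A₀).IsPrime := Ideal.isPrime_bot
  have hcompl : (⊥ : Ideal A₀).primeCompl = nonZeroDivisors A₀ := by
    ext x
    rw [Ideal.mem_primeCompl_iff, Ideal.mem_bot, mem_nonZeroDivisors_iff_ne_zero]
  haveI : IsLocalization (⊥ : Ideal A₀).primeCompl K := by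
    rw [hcompl]; infer_instance
  let e0 : K ≃ₐ[A₀] Localization.AtPrime (⊥ : Ideal A₀) :=
    IsLocalization.algEquiv (⊥ : Ideal A₀).primeCompl K _
  let e1 : K ≃ₐ[R] Localization.AtPrime (⊥ : Ideal A₀) := e0.restrictScalars R
  haveI : Algebra.IsSmoothAt R (⊥ : Ideal A₀) := Algebra.FormallySmooth.of_equiv e1
  obtain ⟨f, hf, hsm⟩ := Algebra.IsSmoothAt.exists_notMem_smooth R (⊥ : Ideal A₀)
  have hf0 : f ≠ 0 := by simpa using hf
  have hfK : IsUnit (algebraMap A₀ K f) := by
    rw [isUnit_iff_ne_zero]
    exact (map_ne_zero_iff _ (IsFractionRing.injective A₀ K)).2 hf0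
  let φ0 : Localization.Away f →ₐ[A₀] K := IsLocalization.liftAlgHom (M := Submonoid.powers f)
    (f := Algebra.ofId A₀ K) (by
      rintro ⟨y, n, rfl⟩
      simpa using hfK.pow n)
  let φ : Localization.Away f →ₐ[R] K := φ0.restrictScalars R
  have hφinj : Function.Injective φ := by
    rw [injective_iff_map_eq_zero]
    intro x hx
    obtain ⟨a, s, rfl⟩ := IsLocalization.exists_mk'_eq (Submonoid.powers f) x
    have h1 : φ0 (IsLocalization.mk' (Localization.Away f) a s) = 0 := hx
    rw [IsLocalization.mk'_eq_zero_iff]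
    refine ⟨1, ?_⟩
    have h2 : IsLocalization.mk' (Localization.Away f) a s *
        algebraMap A₀ (Localization.Away f) s = algebraMap A₀ (Localization.Away f) a :=
      IsLocalization.mk'_spec _ _ _
    have h3 := congrArg φ0 h2
    rw [map_mul, h1, zero_mul, AlgHom.commutes] at h3
    have : a = 0 := (map_eq_zero_iff _ (IsFractionRing.injective A₀ K)).1 h3.symm
    simp [this]
  let A : Subalgebra R K := φ.range
  let e : Localization.Away f ≃ₐ[R] A := AlgEquiv.ofInjective φ hφinj
  haveI : Algebra.FiniteType A₀ (Localization.Away f) := IsLocalization.finiteType_of_monoid_fg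
    (Submonoid.powers f) _
  haveI : Algebra.FiniteType R (Localization.Away f) := Algebra.FiniteType.trans (S := A₀)
    inferInstance inferInstance
  refine ⟨A, Algebra.FiniteType.equiv inferInstance e, Algebra.Smooth.of_equiv e, ?_⟩
  have hA₀A : ∀ a : A₀, (a : K) ∈ A := fun a => ⟨algebraMap A₀ (Localization.Away f) a, by
    show φ0 _ = _
    rw [AlgHom.commutes]; rfl⟩
  apply IsFractionRing.of_field
  intro z
  obtain ⟨x, y, hy, rfl⟩ := IsFractionRing.div_surjective (A := A₀) z
  exact ⟨⟨_, hA₀A x⟩, ⟨_, hA₀A y⟩, rfl⟩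

end Groth.Agent.H15.SmoothField
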