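import Groth.Agent.H15.SmoothField
import Mathlib

set_option autoImplicit false
set_option linter.style.haveILetI false

namespace Groth.Agent.H15.SmoothField

universe u

theorem char_zero_case (K : Type u) [Field K] [CharZero K] (s : Finset K)
    (hs : Subfield.closure (↑s : Set K) = ⊤) :
    ∃ A : Subring K, Algebra.FiniteType ℤ A ∧ Algebra.Smooth ℤ A ∧ IsFractionRing A K := by
  let A₀ : Subalgebra ℤ K := Algebra.adjoin ℤ (s : Set K)
  haveI : Algebra.FiniteType ℤ A₀ :=
    (Subalgebra.fg_iff_finiteType _).1 (Subalgebra.fg_adjoin_finset s)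
  haveI : IsFractionRing A₀ K := by
    apply IsFractionRing.of_field
    intro z
    have hz : z ∈ Subfield.closure (s : Set K) := by rw [hs]; trivial
    obtain ⟨x, hx, y, hy, rfl⟩ := Subfield.mem_closure_iff.1 hz
    have hsub : ∀ w ∈ Subring.closure (s : Set K), w ∈ A₀ := by
      intro w hw
      show w ∈ Algebra.adjoin ℤ (s : Set K)
      rw [Algebra.adjoin_int]
      exact hw
    exact ⟨⟨x, hsub x hx⟩, ⟨y, hsub y hy⟩, rfl⟩
  haveI : Algebra.EssFiniteType A₀ K := Algebra.EssFiniteType.of_isLocalization K (nonZeroDivisors A₀)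
  haveI : Algebra.EssFiniteType ℤ K := Algebra.EssFiniteType.comp ℤ A₀ K
  haveI : Algebra.EssFiniteType ℚ K := Algebra.EssFiniteType.of_comp ℤ ℚ K
  haveI : Algebra.FormallySmooth ℤ ℚ := .of_isLocalization (nonZeroDivisors ℤ)
  haveI : Algebra.FormallySmooth ℚ K := inferInstance
  haveI : Algebra.FormallySmooth ℤ K := .comp ℤ ℚ K
  obtain ⟨A, h1, h2, h3⟩ := exists_smooth_subalgebra A₀
  have key1 : ∀ (i1 i2 : Algebra ℤ ↥A.toSubring), @Algebra.FiniteType ℤ ↥A.toSubring _ _ i1 →
      @Algebra.FiniteType ℤ ↥A.toSubring _ _ i2 := fun i1 i2 h => Subsingleton.elim i1 i2 ▸ h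
  have key2 : ∀ (i1 i2 : Algebra ℤ ↥A.toSubring), @Algebra.Smooth ℤ _ ↥A.toSubring _ i1 →
      @Algebra.Smooth ℤ _ ↥A.toSubring _ i2 := fun i1 i2 h => Subsingleton.elim i1 i2 ▸ h
  refine ⟨A.toSubring, ?_, ?_, ?_⟩
  · exact key1 (inferInstanceAs (Algebra ℤ ↥A)) _ h1
  · exact key2 (inferInstanceAs (Algebra ℤ ↥A)) _ h2
  · exact h3


theorem char_p_case (K : Type u) [Field K] (p : ℕ) [Fact p.Prime] [CharP K p] (s : Finset K)
    (hs : Subfield.closure (↑s : Set K) = ⊤) :
    ∃ A : Subalgebra (⊥ : Subfield K) K, Algebra.FiniteType (⊥ : Subfield K) A ∧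
      Algebra.Smooth (⊥ : Subfield K) A ∧ IsFractionRing A K := by
  haveI : Finite (⊥ : Subfield K) := by
    letI : Algebra (ZMod p) K := ZMod.algebra K p
    rw [Subfield.bot_eq_of_zMod_algebra p]
    exact Set.finite_range (algebraMap (ZMod p) K)
  haveI : PerfectField (⊥ : Subfield K) := PerfectField.ofFinite
  let A₀ : Subalgebra (⊥ : Subfield K) K := Algebra.adjoin (⊥ : Subfield K) (s : Set K)
  haveI : Algebra.FiniteType (⊥ : Subfield K) A₀ :=
    (Subalgebra.fg_iff_finiteType _).1 (Subalgebra.fg_adjoin_finset s)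
  haveI : IsFractionRing A₀ K := by
    apply IsFractionRing.of_field
    intro z
    have hz : z ∈ Subfield.closure (s : Set K) := by rw [hs]; trivial
    obtain ⟨x, hx, y, hy, rfl⟩ := Subfield.mem_closure_iff.1 hz
    have hle : Subring.closure (s : Set K) ≤ A₀.toSubring :=
      Subring.closure_le.2 (fun w hw => Algebra.subset_adjoin hw)
    exact ⟨⟨x, hle hx⟩, ⟨y, hle hy⟩, rfl⟩
  haveI : Algebra.EssFiniteType A₀ K := Algebra.EssFiniteType.of_isLocalization K (nonZeroDivisors A₀)
  haveI : Algebra.EssFiniteType (⊥ : Subfield K) K := Algebra.EssFiniteType.comp _ A₀ K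
  haveI : Algebra.FormallySmooth (⊥ : Subfield K) K := inferInstance
  exact exists_smooth_subalgebra A₀

end Groth.Agent.H15.SmoothField
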