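import Mathlib
import Groth.Agent.H13.AlgClosedTensor

/-!
# Functions vanishing on a very dense open subset of `X_R`

`k` algebraically closed, `A` a domain over `k`, `R` any `k`-algebra: an element of `R ⊗[k] A` which
vanishes on an open subset of `Spec (R ⊗ A)` meeting every fibre over `Spec R` is zero.
-/

set_option linter.style.haveILetI false

namespace Groth.Agent.H15.VDense

universe u

open TensorProduct

section Coeff

variable {k : Type*} [Field k] {C : Type*} [CommRing C] [Algebra k C] {D : Type*} [CommRing D]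
  [Algebra k D] {A : Type*} [CommRing A] [Algebra k A] {ι : Type*} (b : Module.Basis ι k A)

/-- The `i`-th coefficient of an element of `C ⊗[k] A` in the `C`-basis `1 ⊗ b i`. -/
noncomputable def coeff (i : ι) : (C ⊗[k] A) →ₗ[C] C :=
  (Finsupp.lapply i) ∘ₗ (Algebra.TensorProduct.basis C b).repr.toLinearMap

lemma coeff_apply (i : ι) (x : C ⊗[k] A) :
    coeff b i x = (Algebra.TensorProduct.basis C b).repr x i := rfl

lemma coeff_tmul (i : ι) (c : C) (a : A) :
    coeff b i (c ⊗ₜ[k] a) = c * algebraMap k C (b.repr a i) := by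
  rw [coeff_apply, Algebra.TensorProduct.basis_repr_tmul]
  simp

lemma coeff_mul_left (i : ι) (c : C) (x : C ⊗[k] A) :
    coeff b i ((c ⊗ₜ[k] (1 : A)) * x) = c * coeff b i x := by
  have : (c ⊗ₜ[k] (1 : A)) * x = c • x := by
    rw [Algebra.smul_def]; rfl
  rw [this, map_smul, smul_eq_mul]

lemma eq_zero_of_coeff (x : C ⊗[k] A) (h : ∀ i, coeff b i x = 0) : x = 0 := by
  apply (Algebra.TensorProduct.basis C b).repr.injective
  ext i
  simpa [coeff_apply] using h i

lemma coeff_map (φ : C →ₐ[k] D) (i : ι) (x : C ⊗[k] A) :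
    coeff b i (Algebra.TensorProduct.map φ (AlgHom.id k A) x) = φ (coeff b i x) := by
  induction x using TensorProduct.induction_on with
  | zero => simp
  | tmul c a =>
    rw [Algebra.TensorProduct.map_tmul, coeff_tmul, coeff_tmul, map_mul, AlgHom.commutes]
    rfl
  | add x y hx hy => rw [map_add, map_add, map_add, map_add, hx, hy]

lemma lin_mem (I : Ideal C) (L : (C ⊗[k] A) →ₗ[C] C) (x : C ⊗[k] A)
    (hx : ∀ i, coeff b i x ∈ I) : L x ∈ I := by
  have hsum := (Algebra.TensorProduct.basis C b).linearCombination_repr x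
  rw [← hsum, Finsupp.linearCombination_apply, map_finsuppSum]
  refine Ideal.sum_mem _ fun j _ => ?_
  beta_reduce
  rw [map_smul, smul_eq_mul]
  exact I.mul_mem_right _ (hx j)

lemma coeff_mul_mem (I : Ideal C) (t x : C ⊗[k] A) (hx : ∀ i, coeff b i x ∈ I) (i : ι) :
    coeff b i (t * x) ∈ I :=
  lin_mem b I ((coeff b i) ∘ₗ (LinearMap.mulLeft C t)) x hx

lemma coeff_mem_of_mem_map (I : Ideal C) (x : C ⊗[k] A)
    (hx : x ∈ I.map (Algebra.TensorProduct.includeLeftRingHom : C →+* C ⊗[k] A)) :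
    ∀ i, coeff b i x ∈ I := by
  unfold Ideal.map at hx
  refine Submodule.span_induction (p := fun x _ => ∀ i, coeff b i x ∈ I) ?_ ?_ ?_ ?_ hx
  · rintro _ ⟨c, hc, rfl⟩ i
    have : (Algebra.TensorProduct.includeLeftRingHom : C →+* C ⊗[k] A) c = c ⊗ₜ[k] (1 : A) := rfl
    rw [this, coeff_tmul]
    exact I.mul_mem_right _ hc
  · intro i; simp
  · intro x y _ _ hx hy i
    rw [map_add]; exact I.add_mem (hx i) (hy i)
  · intro t x _ hx i
    rw [smul_eq_mul]
    exact coeff_mul_mem b I t x hx i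

lemma mem_map_of_coeff_mem (I : Ideal C) (x : C ⊗[k] A) (hx : ∀ i, coeff b i x ∈ I) :
    x ∈ I.map (Algebra.TensorProduct.includeLeftRingHom : C →+* C ⊗[k] A) := by
  have hsum := (Algebra.TensorProduct.basis C b).linearCombination_repr x
  rw [← hsum, Finsupp.linearCombination_apply]
  refine Ideal.sum_mem _ fun j _ => ?_
  beta_reduce
  rw [Algebra.smul_def]
  exact Ideal.mul_mem_right _ _ (Ideal.mem_map_of_mem _ (hx j))

end Coeff

section Local

variable {k : Type*} [Field k] {C : Type*} [CommRing C] [IsLocalRing C] [Algebra k C]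
  {A : Type*} [CommRing A] [Algebra k A]

open IsLocalRing

/-- The reduction map `C ⊗ A → κ ⊗ A`. -/
noncomputable def red : (C ⊗[k] A) →ₐ[k] (ResidueField C ⊗[k] A) :=
  Algebra.TensorProduct.map (IsScalarTower.toAlgHom k C (ResidueField C)) (AlgHom.id k A)

lemma coeff_red {ι : Type*} (b : Module.Basis ι k A) (i : ι) (x : C ⊗[k] A) :
    coeff b i (red x) = residue C (coeff b i x) :=
  coeff_map b (IsScalarTower.toAlgHom k C (ResidueField C)) i x

set_option maxHeartbeats 800000 in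
/-- Over a local `k`-algebra `C`, an element of `C ⊗ A` which is nonzero on the closed fibre
`κ ⊗ A` (a domain) is a nonzerodivisor. -/
theorem eq_zero_of_mul_eq_zero [IsDomain (ResidueField C ⊗[k] A)] (g h : C ⊗[k] A)
    (hg : red g ≠ 0) (hgh : g * h = 0) : h = 0 := by
  classical
  by_contra hh
  let b := Module.Basis.ofVectorSpace k A
  let c := fun i => coeff b i h
  let S := ((Algebra.TensorProduct.basis C b).repr h).support
  have hcS : ∀ i, i ∉ S → c i = 0 := fun i hi => by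
    simpa [S, Finsupp.mem_support_iff, c, coeff_apply] using hi
  let 𝔠 : Ideal C := Ideal.span (c '' (S : Set _))
  have h𝔠fg : 𝔠.FG := Submodule.fg_span ((Finset.finite_toSet S).image c)
  have hc𝔠 : ∀ i, c i ∈ 𝔠 := by
    intro i
    by_cases hi : i ∈ S
    · exact Ideal.subset_span ⟨i, hi, rfl⟩
    · rw [hcS i hi]; exact 𝔠.zero_mem
  have h𝔠ne : 𝔠 ≠ ⊥ := by
    intro h0
    apply hh
    apply eq_zero_of_coeff b
    intro i
    have := hc𝔠 i
    rw [h0] at this
    exact this
  have : Module.Finite C 𝔠 := Module.Finite.iff_fg.mpr h𝔠fg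
  have : Nontrivial 𝔠 := Submodule.nontrivial_iff_ne_bot.mpr h𝔠ne
  obtain ⟨J, hJ, -⟩ := (eq_top_or_exists_le_coatom (⊥ : Submodule C 𝔠)).resolve_left bot_ne_top
  have hsimple : IsSimpleModule C (𝔠 ⧸ J) := isSimpleModule_iff_isCoatom.mpr hJ
  let 𝔠₁ : Ideal C := J.map 𝔠.subtype
  have mem𝔠₁ : ∀ (x : C) (hx : x ∈ 𝔠), x ∈ 𝔠₁ ↔ (⟨x, hx⟩ : 𝔠) ∈ J := by
    intro x hx
    constructor
    · rintro ⟨y, hy, hxy⟩
      have : y = ⟨x, hx⟩ := Subtype.ext hxy
      rw [← this]; exact hy
    · intro h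
      exact ⟨⟨x, hx⟩, h, rfl⟩
  -- a coefficient outside `𝔠₁`
  obtain ⟨i₀, hi₀⟩ : ∃ i₀, c i₀ ∉ 𝔠₁ := by
    by_contra hall
    push Not at hall
    apply hJ.1
    rw [eq_top_iff]
    rintro ⟨x, hx⟩ -
    rw [← mem𝔠₁ x hx]
    have hle : 𝔠 ≤ 𝔠₁ := by
      apply Ideal.span_le.mpr
      rintro _ ⟨i, -, rfl⟩
      exact hall i
    exact hle hx
  have hi₀S : i₀ ∈ S := by
    by_contra hi
    apply hi₀
    rw [hcS i₀ hi]
    exact 𝔠₁.zero_mem
  have hgen : ∀ x ∈ 𝔠, ∃ l : C, x - l * c i₀ ∈ 𝔠₁ := by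
    intro x hx
    have hne : (Submodule.Quotient.mk (⟨c i₀, hc𝔠 i₀⟩ : 𝔠) : 𝔠 ⧸ J) ≠ 0 := by
      rw [Ne, Submodule.Quotient.mk_eq_zero, ← mem𝔠₁]
      exact hi₀
    obtain ⟨l, hl⟩ := IsSimpleModule.toSpanSingleton_surjective C hne
      (Submodule.Quotient.mk (⟨x, hx⟩ : 𝔠))
    refine ⟨l, ?_⟩
    rw [LinearMap.toSpanSingleton_apply, ← Submodule.Quotient.mk_smul, eq_comm,
      Submodule.Quotient.eq] at hl
    have hmem : x - l * c i₀ ∈ 𝔠 := 𝔠.sub_mem hx (𝔠.mul_mem_left _ (hc𝔠 i₀))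
    rw [mem𝔠₁ _ hmem]
    convert hl using 1
    exact Subtype.ext (by simp [smul_eq_mul])
  choose lam hlam using fun i => hgen (c i) (hc𝔠 i)
  let lam' : _ → C := fun i => if i = i₀ then 1 else lam i
  have hlam' : ∀ i, c i - lam' i * c i₀ ∈ 𝔠₁ := by
    intro i
    by_cases hi : i = i₀
    · subst hi
      simp [lam']
    · simp only [lam', if_neg hi]
      exact hlam i
  let h' : C ⊗[k] A := ∑ i ∈ S, (lam' i) ⊗ₜ[k] (b i)
  have hcoeffh' : ∀ j, coeff b j h' = if j ∈ S then lam' j else 0 := by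
    intro j
    simp only [h', map_sum, coeff_tmul, Module.Basis.repr_self, Finsupp.single_apply]
    simp only [apply_ite (algebraMap k C), map_one, map_zero, mul_ite, mul_one, mul_zero]
    rw [Finset.sum_ite_eq' S j]
  -- the difference has coefficients in `𝔠₁`
  have hD : ∀ j, coeff b j (h - (c i₀ ⊗ₜ[k] (1 : A)) * h') ∈ 𝔠₁ := by
    intro j
    rw [map_sub, coeff_mul_left, hcoeffh']
    by_cases hj : j ∈ S
    · rw [if_pos hj, mul_comm]
      exact hlam' j
    · rw [if_neg hj, mul_zero, sub_zero]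
      change c j ∈ 𝔠₁
      rw [hcS j hj]
      exact 𝔠₁.zero_mem
  have hkey : ∀ j, c i₀ * coeff b j (g * h') ∈ 𝔠₁ := by
    intro j
    have e1 : (c i₀ ⊗ₜ[k] (1 : A)) * (g * h') =
        - (g * (h - (c i₀ ⊗ₜ[k] (1 : A)) * h')) := by
      have : g * (h - (c i₀ ⊗ₜ[k] (1 : A)) * h') = - ((c i₀ ⊗ₜ[k] (1 : A)) * (g * h')) := by
        rw [mul_sub, hgh, zero_sub]
        ring
      rw [this, neg_neg]
    rw [← coeff_mul_left, e1, map_neg]
    exact 𝔠₁.neg_mem (coeff_mul_mem b 𝔠₁ g _ hD j)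
  -- but some coefficient of `g * h'` is a unit
  have hredh' : red h' ≠ 0 := by
    intro h0
    have := coeff_red b i₀ h'
    rw [h0, map_zero, hcoeffh', if_pos hi₀S] at this
    simp only [lam', if_true] at this
    rw [map_one] at this
    exact zero_ne_one this
  have hprod : red (g * h') ≠ 0 := by
    rw [map_mul]
    exact mul_ne_zero hg hredh'
  obtain ⟨j, hj⟩ : ∃ j, coeff b j (red (g * h')) ≠ 0 := by
    by_contra hall
    push Not at hall
    exact hprod (eq_zero_of_coeff b _ hall)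
  rw [coeff_red] at hj
  have hu : IsUnit (coeff b j (g * h')) := by
    by_contra hnu
    apply hj
    rw [residue_eq_zero_iff]
    exact (mem_maximalIdeal _).mpr hnu
  apply hi₀
  have := 𝔠₁.mul_mem_right (↑hu.unit⁻¹ : C) (hkey j)
  rwa [mul_assoc, IsUnit.mul_val_inv, mul_one] at this

end Local

section Global

variable {k : Type*} [Field k] [IsAlgClosed k] {A : Type*} [CommRing A] [Algebra k A] [IsDomain A]
  {R : Type*} [CommRing R] [Algebra k R]

open IsLocalRing

/-- Local version: if `g ^ N * f = 0` in `R ⊗ A` with `g` outside a prime `P` lying over `q`, then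
`f` dies in `R_q ⊗ A`. -/
theorem map_atPrime_eq_zero (q : Ideal R) [q.IsPrime] (P : Ideal (R ⊗[k] A))
    (hP : (q.map (Algebra.TensorProduct.includeLeftRingHom : R →+* R ⊗[k] A)) ≤ P)
    (g f : R ⊗[k] A) (hg : g ∉ P) (N : ℕ) (hN : g ^ N * f = 0) :
    Algebra.TensorProduct.map (IsScalarTower.toAlgHom k R (Localization.AtPrime q))
      (AlgHom.id k A) f = 0 := by
  classical
  let C := Localization.AtPrime q
  let φ : R →ₐ[k] C := IsScalarTower.toAlgHom k R C
  let Φ : (R ⊗[k] A) →ₐ[k] (C ⊗[k] A) := Algebra.TensorProduct.map φ (AlgHom.id k A)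
  let b := Module.Basis.ofVectorSpace k A
  have : IsDomain (ResidueField C ⊗[k] A) :=
    Groth.Agent.H13.isDomain_tensorProduct_of_isAlgClosed (k := k) (ResidueField C) A
  have hred : red (Φ g) ≠ 0 := by
    intro h0
    apply hg
    apply hP
    apply mem_map_of_coeff_mem b
    intro i
    have h1 := coeff_red b i (Φ g)
    rw [h0, map_zero] at h1
    have h2 : coeff b i (Φ g) = algebraMap R C (coeff b i g) := coeff_map b φ i g
    rw [h2] at h1
    have h3 : algebraMap R C (coeff b i g) ∈ maximalIdeal C := by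
      rw [← residue_eq_zero_iff]; exact h1.symm
    exact (IsLocalization.AtPrime.to_map_mem_maximal_iff C q _).mp h3
  have hmul : (Φ g) ^ N * Φ f = 0 := by
    rw [← map_pow, ← map_mul, hN, map_zero]
  exact eq_zero_of_mul_eq_zero ((Φ g) ^ N) (Φ f) (by rw [map_pow]; exact pow_ne_zero _ hred) hmul

/-- An element of `R ⊗ A` vanishing on an open subset meeting every fibre over `Spec R` is zero. -/
theorem eq_zero_of_vanish
    (U : TopologicalSpace.Opens (PrimeSpectrum (R ⊗[k] A)))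
    (hsurj : ∀ q : PrimeSpectrum R, ∃ P ∈ U,
      PrimeSpectrum.comap (Algebra.TensorProduct.includeLeftRingHom : R →+* R ⊗[k] A) P = q)
    (f : R ⊗[k] A)
    (hf : ∀ g : R ⊗[k] A, (PrimeSpectrum.basicOpen g : Set (PrimeSpectrum (R ⊗[k] A))) ⊆ U →
      algebraMap (R ⊗[k] A) (Localization.Away g) f = 0) :
    f = 0 := by
  classical
  let b := Module.Basis.ofVectorSpace k A
  apply eq_zero_of_coeff b
  intro i
  by_contra hr
  set r := coeff b i f with hrdef
  let I : Ideal R := LinearMap.ker (LinearMap.toSpanSingleton R R r)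
  have hI : ∀ x, x ∈ I ↔ x * r = 0 := by
    intro x
    simp [I, LinearMap.mem_ker, LinearMap.toSpanSingleton_apply]
  have hIne : I ≠ ⊤ := by
    intro h
    have : (1 : R) ∈ I := by rw [h]; trivial
    rw [hI, one_mul] at this
    exact hr this
  obtain ⟨M, hM, hIM⟩ := Ideal.exists_le_maximal I hIne
  have hMp : M.IsPrime := hM.isPrime
  obtain ⟨P, hPU, hPq⟩ := hsurj ⟨M, hMp⟩
  obtain ⟨_, ⟨g, rfl⟩, hPg, hgU⟩ :=
    PrimeSpectrum.isTopologicalBasis_basic_opens.exists_subset_of_mem_open hPU U.isOpen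
  have hfg := hf g hgU
  rw [IsLocalization.map_eq_zero_iff (Submonoid.powers g)] at hfg
  obtain ⟨⟨_, N, rfl⟩, hN⟩ := hfg
  have hPle : (M.map (Algebra.TensorProduct.includeLeftRingHom : R →+* R ⊗[k] A)) ≤ P.asIdeal := by
    rw [Ideal.map_le_iff_le_comap]
    have := congrArg PrimeSpectrum.asIdeal hPq
    simp only [PrimeSpectrum.comap_asIdeal] at this
    rw [this]
  have h0 := map_atPrime_eq_zero M P.asIdeal hPle g f hPg N hN
  have h1 : algebraMap R (Localization.AtPrime M) r = 0 := by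
    have := coeff_map b (IsScalarTower.toAlgHom k R (Localization.AtPrime M)) i f
    rw [h0, map_zero] at this
    exact this.symm
  rw [IsLocalization.map_eq_zero_iff M.primeCompl] at h1
  obtain ⟨⟨s, hs⟩, hsr⟩ := h1
  exact hs (hIM ((hI s).mpr hsr))

end Global

end Groth.Agent.H15.VDense
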