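import Mathlib
import Groth.Agent.H15.VDense

/-!
# Relative effective Cartier divisors inside a fibrewise dense open of `X_R`

Continuation of `VDense.lean`: an element of `C ⊗[k] A` with a unit coefficient is a universally
injective nonzerodivisor, hence has flat quotient; existence of such elements inside a given
fibrewise dense open subset.
-/

set_option linter.style.haveILetI false

namespace Groth.Agent.H15.VDense

open TensorProduct

section FlatCrit

variable {C : Type*} [CommRing C] {M : Type*} [AddCommGroup M] [Module C M]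
  {Q : Type*} [AddCommGroup Q] [Module C Q]

lemma lid_rTensor_mem (I : Ideal C) (y : I ⊗[C] M) :
    TensorProduct.lid C M (LinearMap.rTensor M I.subtype y) ∈ I • (⊤ : Submodule C M) := by
  induction y using TensorProduct.induction_on with
  | zero => simp
  | tmul a t =>
    simp only [LinearMap.rTensor_tmul, Submodule.subtype_apply, TensorProduct.lid_tmul]
    exact Submodule.smul_mem_smul a.2 trivial
  | add x y hx hy => rw [map_add, map_add]; exact Submodule.add_mem _ hx hy

lemma exists_lid_rTensor_eq (I : Ideal C) (m : M) (hm : m ∈ I • (⊤ : Submodule C M)) :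
    ∃ y : I ⊗[C] M, TensorProduct.lid C M (LinearMap.rTensor M I.subtype y) = m := by
  refine Submodule.smul_induction_on hm ?_ ?_
  · intro a ha t _
    exact ⟨(⟨a, ha⟩ : I) ⊗ₜ[C] t, by simp⟩
  · rintro x y ⟨x', rfl⟩ ⟨y', rfl⟩
    exact ⟨x' + y', by rw [map_add, map_add]⟩

/-- If `φ : M → M` is an endomorphism of a flat module which stays injective modulo every ideal,
then its cokernel is flat. -/
theorem flat_of_exact_of_forall_mem [Module.Flat C M] (φ : M →ₗ[C] M) (π : M →ₗ[C] Q)
    (hπ : Function.Surjective π) (hex : Function.Exact φ π)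
    (h : ∀ (I : Ideal C) (m : M), φ m ∈ I • (⊤ : Submodule C M) → m ∈ I • (⊤ : Submodule C M)) :
    Module.Flat C Q := by
  rw [Module.Flat.iff_rTensor_injective']
  intro I
  rw [injective_iff_map_eq_zero]
  intro x hx
  obtain ⟨y, rfl⟩ := LinearMap.lTensor_surjective I hπ x
  have h1 : LinearMap.rTensor Q I.subtype (LinearMap.lTensor I π y) =
      LinearMap.lTensor C π (LinearMap.rTensor M I.subtype y) := by
    rw [← LinearMap.comp_apply, ← LinearMap.comp_apply, LinearMap.rTensor_comp_lTensor,
      LinearMap.lTensor_comp_rTensor]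
  rw [h1] at hx
  have h2 : π (TensorProduct.lid C M (LinearMap.rTensor M I.subtype y)) = 0 := by
    have := congrArg (TensorProduct.lid C Q) hx
    rw [map_zero] at this
    rw [← this]
    generalize LinearMap.rTensor M I.subtype y = w
    induction w using TensorProduct.induction_on with
    | zero => simp
    | tmul a t => simp
    | add x y hx hy => simp only [map_add, hx, hy]
  obtain ⟨m, hm⟩ := (hex _).mp h2
  have hm' : m ∈ I • (⊤ : Submodule C M) := by
    apply h I m
    rw [hm]
    exact lid_rTensor_mem I y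
  obtain ⟨y', hy'⟩ := exists_lid_rTensor_eq I m hm'
  have h3 : TensorProduct.lid C M (LinearMap.rTensor M I.subtype (LinearMap.lTensor I φ y')) =
      φ (TensorProduct.lid C M (LinearMap.rTensor M I.subtype y')) := by
    generalize y' = w
    induction w using TensorProduct.induction_on with
    | zero => simp
    | tmul a t => simp
    | add x y hx hy => simp only [map_add, hx, hy]
  have hinj : Function.Injective (LinearMap.rTensor M I.subtype) :=
    (Module.Flat.iff_rTensor_injective'.mp inferInstance) I
  have h4 : y = LinearMap.lTensor I φ y' := by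
    apply hinj
    apply (TensorProduct.lid C M).injective
    rw [h3, hy', hm]
  rw [h4, ← LinearMap.comp_apply, ← LinearMap.lTensor_comp]
  have : π ∘ₗ φ = 0 := by
    ext t
    exact (hex _).mpr ⟨t, rfl⟩
  rw [this, LinearMap.lTensor_zero, LinearMap.zero_apply]

end FlatCrit

section UnitCoeff

variable {k : Type*} [Field k] [IsAlgClosed k] {A : Type*} [CommRing A] [Algebra k A] [IsDomain A]
  {C : Type*} [CommRing C] [Algebra k C] {ι : Type*} (b : Module.Basis ι k A)

/-- An element of `C ⊗ A` with a unit coefficient is a nonzerodivisor (`C` any `k`-algebra). -/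
theorem eq_zero_of_mul_eq_zero_of_isUnit_coeff (g h : C ⊗[k] A) (i₀ : ι)
    (hu : IsUnit (coeff b i₀ g)) (hgh : g * h = 0) : h = 0 := by
  classical
  apply eq_zero_of_coeff b
  intro i
  by_contra hr
  set r := coeff b i h with hrdef
  let I : Ideal C := LinearMap.ker (LinearMap.toSpanSingleton C C r)
  have hI : ∀ x, x ∈ I ↔ x * r = 0 := by
    intro x
    simp [I, LinearMap.mem_ker, LinearMap.toSpanSingleton_apply]
  have hIne : I ≠ ⊤ := by
    intro h
    have : (1 : C) ∈ I := by rw [h]; trivial
    rw [hI, one_mul] at this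
    exact hr this
  obtain ⟨M, hM, hIM⟩ := Ideal.exists_le_maximal I hIne
  have hMp : M.IsPrime := hM.isPrime
  have hg : g ∉ M.map (Algebra.TensorProduct.includeLeftRingHom : C →+* C ⊗[k] A) := by
    intro hmem
    have := coeff_mem_of_mem_map b M g hmem i₀
    exact hM.ne_top (Ideal.eq_top_of_isUnit_mem _ this hu)
  have h0 := map_atPrime_eq_zero M _ le_rfl g h hg 1 (by rw [pow_one]; exact hgh)
  have h1 : algebraMap C (Localization.AtPrime M) r = 0 := by
    have := coeff_map b (IsScalarTower.toAlgHom k C (Localization.AtPrime M)) i h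
    rw [h0, map_zero] at this
    exact this.symm
  rw [IsLocalization.map_eq_zero_iff M.primeCompl] at h1
  obtain ⟨⟨s, hs⟩, hsr⟩ := h1
  exact hs (hIM ((hI s).mpr hsr))

/-- ... and stays so modulo every ideal of `C`. -/
theorem mem_map_of_mul_mem_map (𝔞 : Ideal C) (g m : C ⊗[k] A) (i₀ : ι)
    (hu : IsUnit (coeff b i₀ g))
    (hgm : g * m ∈ 𝔞.map (Algebra.TensorProduct.includeLeftRingHom : C →+* C ⊗[k] A)) :
    m ∈ 𝔞.map (Algebra.TensorProduct.includeLeftRingHom : C →+* C ⊗[k] A) := by
  let Ψ : (C ⊗[k] A) →ₐ[k] ((C ⧸ 𝔞) ⊗[k] A) :=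
    Algebra.TensorProduct.map (Ideal.Quotient.mkₐ k 𝔞) (AlgHom.id k A)
  have hΨ0 : ∀ x, x ∈ 𝔞.map (Algebra.TensorProduct.includeLeftRingHom : C →+* C ⊗[k] A) ↔
      Ψ x = 0 := by
    intro x
    constructor
    · intro hx
      apply eq_zero_of_coeff b
      intro i
      rw [coeff_map]
      exact Ideal.Quotient.eq_zero_iff_mem.mpr (coeff_mem_of_mem_map b 𝔞 x hx i)
    · intro hx
      apply mem_map_of_coeff_mem b
      intro i
      have := coeff_map b (Ideal.Quotient.mkₐ k 𝔞) i x
      rw [hx, map_zero] at this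
      exact Ideal.Quotient.eq_zero_iff_mem.mp this.symm
  rw [hΨ0] at hgm ⊢
  rw [map_mul] at hgm
  exact eq_zero_of_mul_eq_zero_of_isUnit_coeff b (Ψ g) (Ψ m) i₀
    (by rw [coeff_map]; exact hu.map _) hgm

/-- The quotient of `C ⊗ A` by an element with a unit coefficient is flat over `C`. -/
theorem flat_quotient_span_of_isUnit_coeff (g : C ⊗[k] A) (i₀ : ι) (hu : IsUnit (coeff b i₀ g)) :
    Module.Flat C ((C ⊗[k] A) ⧸ Ideal.span {g}) := by
  have : Module.Flat C (C ⊗[k] A) :=
    Module.Flat.of_free
  refine flat_of_exact_of_forall_mem (LinearMap.mulLeft C g)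
    (Ideal.Quotient.mkₐ C (Ideal.span {g})).toLinearMap ?_ ?_ ?_
  · exact Ideal.Quotient.mk_surjective
  · intro m
    constructor
    · intro hm
      have : m ∈ Ideal.span {g} := Ideal.Quotient.eq_zero_iff_mem.mp hm
      obtain ⟨a, rfl⟩ := Ideal.mem_span_singleton'.mp this
      exact ⟨a, mul_comm _ _⟩
    · rintro ⟨a, rfl⟩
      apply Ideal.Quotient.eq_zero_iff_mem.mpr
      exact Ideal.mul_mem_right _ _ (Ideal.mem_span_singleton_self g)
  · intro I m hm
    rw [Ideal.smul_top_eq_map] at hm ⊢
    exact mem_map_of_mul_mem_map b I g m i₀ hu hm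

end UnitCoeff

end Groth.Agent.H15.VDense
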