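import Mathlib
import Groth.Agent.H15.VDense2

/-!
# Existence of a principal relative Cartier divisor inside a fibrewise dense open of `X_R`
-/

set_option linter.style.haveILetI false

namespace Groth.Agent.H15.VDense

open TensorProduct IsLocalRing

section Exists

variable {k : Type*} [Field k] [IsAlgClosed k] {A : Type*} [CommRing A] [Algebra k A] [IsDomain A]
  {R : Type*} [CommRing R] [Algebra k R]

/-- evaluation at a `k`-point `z` of `A`, as a map `R ⊗ A → R`. -/
noncomputable abbrev evalAt (R : Type*) [CommRing R] [Algebra k R] (z : A →ₐ[k] k) :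
    (R ⊗[k] A) →ₐ[k] R :=
  Algebra.TensorProduct.lift (AlgHom.id k R) ((Algebra.ofId k R).comp z)
    (fun _ _ => Commute.all _ _)

omit [IsAlgClosed k] [IsDomain A] in
lemma evalAt_map {D : Type*} [CommRing D] [Algebra k D] (φ : R →ₐ[k] D) (z : A →ₐ[k] k)
    (x : R ⊗[k] A) :
    evalAt D z (Algebra.TensorProduct.map φ (AlgHom.id k A) x) = φ (evalAt R z x) := by
  induction x using TensorProduct.induction_on with
  | zero => simp
  | tmul c a =>
    simp only [evalAt, Algebra.TensorProduct.map_tmul, Algebra.TensorProduct.lift_tmul,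
      AlgHom.coe_id, id_eq, AlgHom.comp_apply, map_mul, Algebra.ofId_apply, AlgHom.commutes]
  | add x y hx hy => simp only [map_add, hx, hy]

theorem exists_divisor
    (Z : Finset (A →ₐ[k] k))
    (U : TopologicalSpace.Opens (PrimeSpectrum (R ⊗[k] A)))
    (hZ : ∀ z ∈ Z, ∀ q : PrimeSpectrum R,
      PrimeSpectrum.comap (evalAt R z).toRingHom q ∈ U)
    (hsurj : ∀ q : PrimeSpectrum R, ∃ P ∈ U,
      PrimeSpectrum.comap (Algebra.TensorProduct.includeLeftRingHom : R →+* R ⊗[k] A) P = q)
    (p : PrimeSpectrum R) :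
    ∃ r : R, r ∉ p.asIdeal ∧
      ∃ f : (Localization.Away r) ⊗[k] A,
        f ∈ nonZeroDivisors ((Localization.Away r) ⊗[k] A) ∧
        Module.Flat (Localization.Away r)
          (((Localization.Away r) ⊗[k] A) ⧸ Ideal.span {f}) ∧
        (∀ z ∈ Z, IsUnit (evalAt (Localization.Away r) z f)) ∧
        (∀ P : PrimeSpectrum ((Localization.Away r) ⊗[k] A), f ∉ P.asIdeal →
          PrimeSpectrum.comap (Algebra.TensorProduct.map
            (IsScalarTower.toAlgHom k R (Localization.Away r)) (AlgHom.id k A)).toRingHom P ∈ U) := by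
  classical
  let b := Module.Basis.ofVectorSpace k A
  let q := p.asIdeal
  -- the closed complement of `U`
  obtain ⟨I, hI⟩ := (PrimeSpectrum.isClosed_iff_zeroLocus_ideal _).mp U.isOpen.isClosed_compl
  have hUI : ∀ P : PrimeSpectrum (R ⊗[k] A), P ∈ U ↔ ¬ (I ≤ P.asIdeal) := by
    intro P
    have : P ∈ (U : Set _)ᶜ ↔ P ∈ PrimeSpectrum.zeroLocus (I : Set (R ⊗[k] A)) := by rw [hI]
    rw [PrimeSpectrum.mem_zeroLocus, Set.mem_compl_iff] at this
    constructor
    · intro hP hle
      exact (this.mpr hle) hP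
    · intro hP
      by_contra hnP
      exact hP (this.mp hnP)
  -- the fibre over `p`
  let Cq := Localization.AtPrime q
  let κ := ResidueField Cq
  let φ : R →ₐ[k] κ := (IsScalarTower.toAlgHom k Cq κ).comp (IsScalarTower.toAlgHom k R Cq)
  have hφ : ∀ x, φ x = 0 ↔ x ∈ q := by
    intro x
    change residue Cq (algebraMap R Cq x) = 0 ↔ _
    rw [residue_eq_zero_iff]
    exact IsLocalization.AtPrime.to_map_mem_maximal_iff Cq q x
  let Ψ : (R ⊗[k] A) →ₐ[k] (κ ⊗[k] A) := Algebra.TensorProduct.map φ (AlgHom.id k A)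
  have hdom : IsDomain (κ ⊗[k] A) :=
    Groth.Agent.H13.isDomain_tensorProduct_of_isAlgClosed (k := k) κ A
  have hΨ : ∀ x : R ⊗[k] A, (∀ i, coeff b i x ∈ q) → Ψ x = 0 := by
    intro x hx
    apply eq_zero_of_coeff b
    intro i
    rw [coeff_map]
    exact (hφ _).mpr (hx i)
  -- the primes to avoid
  let F : Option (A →ₐ[k] k) → Ideal (R ⊗[k] A) := fun o =>
    match o with
    | none => RingHom.ker Ψ.toRingHom
    | some z => (PrimeSpectrum.comap (evalAt R z).toRingHom p).asIdeal
  have hFprime : ∀ o, (F o).IsPrime := by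
    intro o
    cases o with
    | none => exact RingHom.ker_isPrime Ψ.toRingHom
    | some z => exact (PrimeSpectrum.comap (evalAt R z).toRingHom p).isPrime
  have hnot : ¬ ∃ o ∈ Finset.insertNone Z, I ≤ F o := by
    rintro ⟨o, ho, hle⟩
    cases o with
    | none =>
      obtain ⟨P, hPU, hPq⟩ := hsurj p
      apply (hUI P).mp hPU
      intro x hx
      have hx0 : Ψ x = 0 := hle hx
      have hPle : (q.map (Algebra.TensorProduct.includeLeftRingHom : R →+* R ⊗[k] A)) ≤
          P.asIdeal := by
        rw [Ideal.map_le_iff_le_comap]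
        have := congrArg PrimeSpectrum.asIdeal hPq
        simp only [PrimeSpectrum.comap_asIdeal] at this
        rw [this]
      apply hPle
      apply mem_map_of_coeff_mem b
      intro i
      have := coeff_map b φ i x
      rw [show Algebra.TensorProduct.map φ (AlgHom.id k A) x = 0 from hx0, map_zero] at this
      exact (hφ _).mp this.symm
    | some z =>
      have hz : z ∈ Z := by simpa using ho
      exact (hUI _).mp (hZ z hz p) hle
  rw [← Ideal.subset_union_prime (s := Finset.insertNone Z) (f := F) none none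
    (fun o _ _ _ => hFprime o)] at hnot
  rw [Set.not_subset] at hnot
  obtain ⟨g, hgI, hgF⟩ := hnot
  simp only [Set.mem_iUnion, not_exists] at hgF
  have hg0 : Ψ g ≠ 0 := by
    intro h0
    exact hgF none (by simp) h0
  have hgz : ∀ z ∈ Z, evalAt R z g ∉ q := by
    intro z hz hmem
    exact hgF (some z) (by simpa using hz) hmem
  obtain ⟨i₀, hi₀⟩ : ∃ i₀, coeff b i₀ g ∉ q := by
    by_contra hall
    push Not at hall
    exact hg0 (hΨ g hall)
  -- the element `r`
  let r : R := coeff b i₀ g * ∏ z ∈ Z, evalAt R z g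
  have hrq : r ∉ q := by
    intro hr
    have hqp : q.IsPrime := p.isPrime
    rcases hqp.mul_mem_iff_mem_or_mem.mp hr with h | h
    · exact hi₀ h
    · obtain ⟨z, hz, hmem⟩ := hqp.prod_mem_iff.mp h
      exact hgz z hz hmem
  refine ⟨r, hrq, ?_⟩
  let C := Localization.Away r
  let φ' : R →ₐ[k] C := IsScalarTower.toAlgHom k R C
  let Φ : (R ⊗[k] A) →ₐ[k] (C ⊗[k] A) := Algebra.TensorProduct.map φ' (AlgHom.id k A)
  have hru : IsUnit (algebraMap R C r) := IsLocalization.Away.algebraMap_isUnit r
  have hcu : IsUnit (coeff b i₀ (Φ g)) := by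
    rw [coeff_map]
    change IsUnit (algebraMap R C (coeff b i₀ g))
    have : algebraMap R C r = algebraMap R C (coeff b i₀ g) *
        algebraMap R C (∏ z ∈ Z, evalAt R z g) := by
      rw [← map_mul]
    rw [this] at hru
    exact isUnit_of_mul_isUnit_left hru
  refine ⟨Φ g, ?_, ?_, ?_, ?_⟩
  · rw [mem_nonZeroDivisors_iff_left]
    intro x hx
    exact eq_zero_of_mul_eq_zero_of_isUnit_coeff b (Φ g) x i₀ hcu hx
  · exact flat_quotient_span_of_isUnit_coeff b (Φ g) i₀ hcu
  · intro z hz
    rw [evalAt_map]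
    change IsUnit (algebraMap R C (evalAt R z g))
    have hdvd : evalAt R z g ∣ r :=
      Dvd.dvd.mul_left (Finset.dvd_prod_of_mem _ hz) _
    exact isUnit_of_dvd_unit (map_dvd (algebraMap R C) hdvd) hru
  · intro P hP
    rw [hUI]
    intro hle
    apply hP
    have := hle hgI
    rw [PrimeSpectrum.comap_asIdeal, Ideal.mem_comap] at this
    exact this

end Exists

end Groth.Agent.H15.VDense
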