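import Groth.Agent.S2952

set_option autoImplicit false

open RootPairing

namespace Groth.Agent.H15

variable {ι R M N : Type*} [CommRing R] [AddCommGroup M] [Module R M]
    [AddCommGroup N] [Module R N] (P : RootPairing ι R M N)

/-- Product of the reflections indexed by a list. -/
noncomputable def sprod (l : List ι) : P.Aut := (l.map (Equiv.reflection P)).prod

@[simp] theorem sprod_nil : sprod P [] = 1 := rfl

@[simp] theorem sprod_cons (j : ι) (l : List ι) :
    sprod P (j :: l) = Equiv.reflection P j * sprod P l := by
  simp [sprod]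

@[simp] theorem sprod_append (l₁ l₂ : List ι) : sprod P (l₁ ++ l₂) = sprod P l₁ * sprod P l₂ := by
  simp [sprod]

theorem refl_mul_self (j : ι) : Equiv.reflection P j * Equiv.reflection P j = 1 := by
  rw [mul_eq_one_iff_inv_eq, Equiv.reflection_inv P j]

theorem sprod_reverse (l : List ι) : sprod P l.reverse = (sprod P l)⁻¹ := by
  induction l with
  | nil => simp
  | cons j l ih =>
    rw [List.reverse_cons, sprod_append, ih, sprod_cons, sprod_cons, sprod_nil, mul_one, mul_inv_rev,
      Equiv.reflection_inv]

theorem refl_smul (j i : ι) : Equiv.reflection P j • i = P.reflectionPerm j i := rfl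

theorem reflection_conj' (i j : ι) :
    Equiv.reflection P (P.reflectionPerm j i) =
      Equiv.reflection P j * Equiv.reflection P i * Equiv.reflection P j := by
  apply Equiv.weightHom_injective P
  rw [map_mul, map_mul]
  simp only [Equiv.weightHom_apply, Equiv.reflection_weightEquiv]
  exact P.reflection_reflectionPerm

theorem reflection_sprod_smul (l : List ι) (i : ι) :
    Equiv.reflection P (sprod P l • i) * sprod P l = sprod P l * Equiv.reflection P i := by
  induction l with
  | nil => simp
  | cons j l ih =>
    rw [sprod_cons, mul_smul, refl_smul, reflection_conj', mul_assoc, mul_assoc,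
      ← mul_assoc (Equiv.reflection P j) (Equiv.reflection P j), refl_mul_self, one_mul, ih, mul_assoc]

theorem smul_neg_index (g : P.Aut) (i : ι) :
    g • (P.reflectionPerm i i) = P.reflectionPerm (g • i) (g • i) := by
  apply P.root.injective
  have h1 : ∀ k : ι, P.root (g • k) = g • P.root k := fun k => Equiv.root_indexEquiv_eq_smul P k g
  rw [h1, root_reflectionPerm, reflection_apply_self, root_reflectionPerm, reflection_apply_self,
    h1, smul_neg]

section Base

variable {P}
variable [CharZero R] [IsDomain R] [Finite ι] [P.IsCrystallographic] [P.IsReduced] (b : P.Base)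

theorem exists_sprod_of_mem_weylGroup (g : P.Aut) (hg : g ∈ P.weylGroup) :
    ∃ l : List ι, (∀ j ∈ l, j ∈ b.support) ∧ g = sprod P l := by
  rw [← (Groth.Agent.S2952.result P b).1] at hg
  induction hg using Subgroup.closure_induction with
  | mem x hx =>
    obtain ⟨j, hj, rfl⟩ := hx
    exact ⟨[j], by simpa using hj, by simp⟩
  | one => exact ⟨[], by simp, rfl⟩
  | mul x y _ _ hx hy =>
    obtain ⟨l₁, h₁, rfl⟩ := hx
    obtain ⟨l₂, h₂, rfl⟩ := hy
    refine ⟨l₁ ++ l₂, ?_, (sprod_append P l₁ l₂).symm⟩
    intro j hj
    rcases List.mem_append.mp hj with hj | hj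
    · exact h₁ j hj
    · exact h₂ j hj
  | inv x _ hx =>
    obtain ⟨l, h, rfl⟩ := hx
    exact ⟨l.reverse, fun j hj => h j (List.mem_reverse.mp hj), (sprod_reverse P l).symm⟩

omit [IsDomain R] [Finite ι] [P.IsCrystallographic] [P.IsReduced] in
theorem not_isPos_neg_of_isPos {i : ι} (h : b.IsPos i) : ¬ b.IsPos (P.reflectionPerm i i) := by
  have := RootPairing.Base.IsPos.neg_iff_not b i
  simp only [RootPairing.indexNeg_neg] at this
  intro h'
  exact (this.mp h') h

omit [IsDomain R] [Finite ι] [P.IsCrystallographic] [P.IsReduced] in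
theorem isPos_neg_of_not_isPos {i : ι} (h : ¬ b.IsPos i) : b.IsPos (P.reflectionPerm i i) := by
  have := RootPairing.Base.IsPos.neg_iff_not b i
  simp only [RootPairing.indexNeg_neg] at this
  exact this.mpr h

/-- Deletion: if a product of simple reflections sends a simple root to a negative root, then the
product times that simple reflection has a shorter expression. -/
theorem exists_shorter (l : List ι) (hl : ∀ j ∈ l, j ∈ b.support) (a : ι) (ha : a ∈ b.support)
    (hneg : ¬ b.IsPos (sprod P l • a)) :
    ∃ l' : List ι, (∀ j ∈ l', j ∈ b.support) ∧ l'.length + 1 = l.length ∧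
      sprod P l * Equiv.reflection P a = sprod P l' := by
  induction l with
  | nil =>
    exfalso
    apply hneg
    simpa using RootPairing.Base.isPos_of_mem_support ha
  | cons j l ih =>
    have hj : j ∈ b.support := hl j List.mem_cons_self
    have hl' : ∀ k ∈ l, k ∈ b.support := fun k hk => hl k (List.mem_cons_of_mem _ hk)
    by_cases hβ : b.IsPos (sprod P l • a)
    · -- then the root is the simple root `j`
      have heq : sprod P l • a = j := by
        by_contra hne
        apply hneg
        rw [sprod_cons, mul_smul, refl_smul]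
        exact RootPairing.Base.IsPos.reflectionPerm hβ hj hne
      refine ⟨l, hl', rfl, ?_⟩
      have h1 := reflection_sprod_smul P l a
      rw [heq] at h1
      rw [sprod_cons, mul_assoc, ← h1, ← mul_assoc, refl_mul_self, one_mul]
    · obtain ⟨l'', h1, h2, h3⟩ := ih hl' hβ
      refine ⟨j :: l'', ?_, by simp [h2], ?_⟩
      · intro k hk
        rcases List.mem_cons.mp hk with rfl | hk
        · exact hj
        · exact h1 k hk
      · rw [sprod_cons, sprod_cons, mul_assoc, h3]

/-- An element of the Weyl group preserving positivity is trivial. -/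
theorem eq_one_of_preserves_pos (g : P.Aut) (hg : g ∈ P.weylGroup)
    (hpos : ∀ i, b.IsPos i → b.IsPos (g • i)) : g = 1 := by
  classical
  have hex : ∃ n : ℕ, ∃ l : List ι, l.length = n ∧ (∀ j ∈ l, j ∈ b.support) ∧ g = sprod P l := by
    obtain ⟨l, h1, h2⟩ := exists_sprod_of_mem_weylGroup b g hg
    exact ⟨l.length, l, rfl, h1, h2⟩
  obtain ⟨l, hlen, hl, hgl⟩ := Nat.find_spec hex
  rcases List.eq_nil_or_concat l with hnil | ⟨l₀, a, hcons⟩
  · rw [hgl, hnil, sprod_nil]
  · exfalso
    rw [List.concat_eq_append] at hcons
    have ha : a ∈ b.support := hl a (by rw [hcons]; simp)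
    have hl₀ : ∀ j ∈ l₀, j ∈ b.support := fun j hj => hl j (by rw [hcons]; simp [hj])
    have hg' : g = sprod P l₀ * Equiv.reflection P a := by
      rw [hgl, hcons, sprod_append, sprod_cons, sprod_nil, mul_one]
    have hneg : ¬ b.IsPos (sprod P l₀ • a) := by
      have h1 : sprod P l₀ = g * Equiv.reflection P a := by
        rw [hg', mul_assoc, refl_mul_self, mul_one]
      rw [h1, mul_smul, refl_smul, smul_neg_index]
      exact not_isPos_neg_of_isPos b (hpos a (RootPairing.Base.isPos_of_mem_support ha))
    obtain ⟨l', h1, h2, h3⟩ := exists_shorter b l₀ hl₀ a ha hneg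
    have hmin := Nat.find_min' hex ⟨l', rfl, h1, hg'.trans h3⟩
    have : l.length = l₀.length + 1 := by rw [hcons]; simp
    omega

end Base

end Groth.Agent.H15
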