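import Groth.Agent.H15.Weyl

set_option autoImplicit false

open RootPairing

namespace Groth.Agent.H15

variable {ι R M N : Type*} [CommRing R] [AddCommGroup M] [Module R M]
    [AddCommGroup N] [Module R N] {P : RootPairing ι R M N}
variable [CharZero R] [IsDomain R] [Finite ι] [P.IsCrystallographic] [P.IsReduced]

omit [CharZero R] [IsDomain R] [Finite ι] [P.IsCrystallographic] [P.IsReduced] in
theorem root_smul_index (g : P.Aut) (k : ι) : P.root (g • k) = g • P.root k :=
  Equiv.root_indexEquiv_eq_smul P k g

omit [P.IsReduced] in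
/-- If `g` sends the simple roots of `b` to `b'`-positive roots, it sends all `b`-positive roots to
`b'`-positive roots. -/
theorem isPos_smul_of_simple (b b' : P.Base) (g : P.Aut)
    (h : ∀ j ∈ b.support, b'.IsPos (g • j)) : ∀ i, b.IsPos i → b'.IsPos (g • i) := by
  intro i hi
  refine hi.induction_on_add (p := fun i => b'.IsPos (g • i)) h ?_
  intro i j k hk hi hj
  refine RootPairing.Base.IsPos.add hi (h j hj) ?_
  rw [root_smul_index, root_smul_index, root_smul_index, hk, smul_add]

omit [IsDomain R] [Finite ι] [P.IsCrystallographic] [P.IsReduced] in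
theorem isPos_inv_smul (b b' : P.Base) (g : P.Aut)
    (h : ∀ i, b.IsPos i → b'.IsPos (g • i)) : ∀ i', b'.IsPos i' → b.IsPos (g⁻¹ • i') := by
  intro i' hi'
  by_contra hneg
  have h1 := isPos_neg_of_not_isPos b hneg
  have h2 := h _ h1
  rw [smul_neg_index, smul_inv_smul] at h2
  exact not_isPos_neg_of_isPos b' hi' h2

omit [P.IsReduced] in
/-- Simple roots are the positive roots which are not a sum of two positive roots. -/
theorem mem_support_iff (b : P.Base) (i : ι) :
    i ∈ b.support ↔ b.IsPos i ∧ ∀ j k, b.IsPos j → b.IsPos k → P.root i ≠ P.root j + P.root k := by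
  constructor
  · intro hi
    refine ⟨RootPairing.Base.isPos_of_mem_support hi, fun j k hj hk heq => ?_⟩
    have h1 := b.height_add heq
    rw [RootPairing.Base.height_one_of_mem_support hi] at h1
    rw [RootPairing.Base.isPos_iff] at hj hk
    omega
  · rintro ⟨hpos, hind⟩
    by_contra hi
    obtain ⟨j, hj, hj'⟩ := hpos.exists_mem_support_pos_pairingIn
    rw [P.zero_lt_pairingIn_iff'] at hj'
    have hij : i ≠ j := fun h => hi (h ▸ hj)
    obtain ⟨k, hk⟩ := P.root_sub_root_mem_of_pairingIn_pos hj' hij
    have hkh : b.height k = b.height i - 1 := by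
      rw [b.height_sub hk, RootPairing.Base.height_one_of_mem_support hj]
    have hkpos : b.IsPos k := by
      rw [RootPairing.Base.isPos_iff']
      rw [RootPairing.Base.isPos_iff] at hpos
      omega
    exact hind k j hkpos (RootPairing.Base.isPos_of_mem_support hj) (by rw [hk]; abel)

omit [P.IsReduced] in
theorem smul_mem_support (b b' : P.Base) (g : P.Aut)
    (h : ∀ i, b.IsPos i → b'.IsPos (g • i)) : ∀ i ∈ b.support, g • i ∈ b'.support := by
  intro i hi
  have hinv := isPos_inv_smul b b' g h
  rw [mem_support_iff] at hi ⊢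
  refine ⟨h i hi.1, fun j' k' hj' hk' heq => ?_⟩
  apply hi.2 (g⁻¹ • j') (g⁻¹ • k') (hinv j' hj') (hinv k' hk')
  rw [root_smul_index, root_smul_index, ← smul_add, ← heq, root_smul_index, inv_smul_smul]

/-- Existence: some element of the Weyl group carries `b`-positive roots to `b'`-positive roots. -/
theorem exists_weyl_pos (b b' : P.Base) :
    ∃ g : P.Aut, g ∈ P.weylGroup ∧ ∀ i, b.IsPos i → b'.IsPos (g • i) := by
  classical
  let S : P.Aut → Set ι := fun g => {i | b.IsPos i ∧ ¬ b'.IsPos (g • i)}
  have hex : ∃ n : ℕ, ∃ g : P.Aut, g ∈ P.weylGroup ∧ (S g).ncard = n :=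
    ⟨_, 1, P.weylGroup.one_mem, rfl⟩
  obtain ⟨g, hg, hgn⟩ := Nat.find_spec hex
  refine ⟨g, hg, ?_⟩
  by_contra hcon
  -- some simple root is sent to a negative root
  have hsimple : ∃ j ∈ b.support, ¬ b'.IsPos (g • j) := by
    by_contra h
    push Not at h
    exact hcon (isPos_smul_of_simple b b' g h)
  obtain ⟨j, hj, hjneg⟩ := hsimple
  have hjS : j ∈ S g := ⟨RootPairing.Base.isPos_of_mem_support hj, hjneg⟩
  let g' := g * Equiv.reflection P j
  have hg' : g' ∈ P.weylGroup := P.weylGroup.mul_mem hg (P.reflection_mem_weylGroup j)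
  have hsub : (fun i => P.reflectionPerm j i) '' (S g') ⊆ S g \ {j} := by
    rintro _ ⟨i, ⟨hipos, hineg⟩, rfl⟩
    have hij : i ≠ j := by
      rintro rfl
      apply hineg
      show b'.IsPos ((g * Equiv.reflection P i) • i)
      rw [mul_smul, refl_smul, smul_neg_index]
      exact isPos_neg_of_not_isPos b' hjneg
    refine ⟨⟨RootPairing.Base.IsPos.reflectionPerm hipos hj hij, ?_⟩, ?_⟩
    · have : g • P.reflectionPerm j i = g' • i := by
        show _ = (g * Equiv.reflection P j) • i
        rw [mul_smul, refl_smul]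
      rw [this]
      exact hineg
    · intro hmem
      have h1 : P.reflectionPerm j i = j := hmem
      have h2 : i = P.reflectionPerm j j := by
        have h3 := P.reflectionPerm_self j i
        rw [h1] at h3
        exact h3.symm
      rw [h2] at hipos
      exact not_isPos_neg_of_isPos b (RootPairing.Base.isPos_of_mem_support hj) hipos
  have hcard : (S g').ncard < (S g).ncard := by
    calc (S g').ncard = ((fun i => P.reflectionPerm j i) '' (S g')).ncard :=
          (Set.ncard_image_of_injective _ (P.reflectionPerm j).injective).symm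
      _ ≤ (S g \ {j}).ncard := Set.ncard_le_ncard hsub (Set.toFinite _)
      _ < (S g).ncard := Set.ncard_sdiff_singleton_lt_of_mem hjS (Set.toFinite _)
  have := Nat.find_min' hex ⟨g', hg', rfl⟩
  omega

end Groth.Agent.H15
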